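import Cfsg.Agent.Recog.A8TK
import Cfsg.Agent.Recog.U42Main
import Cfsg.Agent.Recog.X32A9

/-!
# Identification of the groups of type `A₈` from the involution centralizer
-/

set_option autoImplicit false

namespace Cfsg.Lib.Recog.A8T

open Subgroup Sy Cfsg.Lib.Trans Cfsg.Lib.Local Cfsg.Lib.Recog.U42

variable {G : Type*} [Group G]

variable (G) in
/-- Generators and relations of the model `W`. -/
structure Gen where
  ψ : Sy →* G
  Y : Fin 3 → Fin 3 → G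
  r : ∀ i j s, Y i j * ψ s = ψ (M i j s) * if s ∈ Q then Y i j else Y j i
  m : ∀ i j k l, Y i j * Y k l = Y (i + k) (j + l)

/-- The product of normal forms. -/
def star (u v : Sy × Fin 3 × Fin 3) : Sy × Fin 3 × Fin 3 := (u.1 * M u.2.1 u.2.2 v.1,
  if v.1 ∈ Q then (u.2.1 + v.2.1, u.2.2 + v.2.2) else (u.2.2 + v.2.1, u.2.1 + v.2.2))

/-- The value of a normal form. -/
def Gen.F (D : Gen G) (u : Sy × Fin 3 × Fin 3) : G := D.ψ u.1 * D.Y u.2.1 u.2.2

theorem Gen.F_star (D : Gen G) (u v : Sy × Fin 3 × Fin 3) : D.F (star u v) = D.F u * D.F v := by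
  simp only [Gen.F, star, map_mul, mul_assoc]
  rw [← mul_assoc (D.Y _ _), D.r, mul_assoc]
  split_ifs <;> rw [D.m]

/-- The generators of the model. -/
def genW : Gen W := ⟨ι, YW, YW_rel, YW_mul⟩

theorem genW_bij : Function.Bijective genW.F :=
  Function.Surjective.bijective_of_nat_card_le (fun w => by
    obtain ⟨i, j, h⟩ := YW_surj w
    refine ⟨(back _, i, j), (congrArg (· * YW i j) (io_back _ h)).trans ?_⟩
    rw [mul_assoc, YW_mul, neg_add_cancel, neg_add_cancel]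
    exact mul_one w) (by rw [W.card_eq, Nat.card_prod, card_eq]; simp)

/-- The action of a normal form on `Q`. -/
def cM (s : Sy) (i : Fin 3) (q : Sy) : Sy := s * M i (i + i) q * s⁻¹

theorem cM_fpf : ∀ s i, (cM s i)^[3] i1 = i1 → i = 0 ∨ ∀ q ∈ Q, cM s i q = q → InZ q := by
  decide +kernel

theorem out_inv : ∀ s ∉ Q, s * s = 1 → ∃ r, r * s * r⁻¹ = β ∨ r * s * r⁻¹ = β * z := by
  decide +kernel

namespace KD

theorem Ac.cast {K : KD G} {k : G} {i j i' j' : Fin 3} (h : K.Ac k i j) (h1 : i = i' := by decide)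
    (h2 : j = j' := by decide) : K.Ac k i' j' := h1 ▸ h2 ▸ h

variable [Finite G] (K : KD G)

theorem psp (h1 : ∃ k, K.Ac k 1 2) (h2 : ∃ k, K.Ac k 1 1) (hG : ∀ H : Subgroup G, H.index ≠ 2) :
    Nonempty (G ≃* PSp 2 (ZMod 3)) := by
  obtain ⟨k1, h1⟩ := h1
  obtain ⟨k2, h2⟩ := h2
  obtain ⟨y, hy, y3⟩ := (((h1.mul h2).mul (h1.mul h2)).cast (i' := 1) (j' := 0)).three
  have hb := K.sq (a := β) (by decide)
  have hb' := inv_eq_of_mul_eq_one_right hb
  set y' := K.ψ β * y * K.ψ β with hy'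
  have y3' : y' ^ 3 = 1 := by
    rw [hy']; nth_rw 2 [← hb']; rw [conj_pow, pow_three', y3]; simp
  have hc : Commute y y' := by
    have h3 : y * y' * (y * y) * (y' * y') ∈ zpowers (K.ψ z) :=
      Ac.mem_Z (((hy.mul hy.swap).mul (hy.mul hy)).mul (hy.swap.mul hy.swap)).cast
    rw [← inv_eq_of_mul_eq_one_right (show y * (y * y) = 1 from mul_assoc y y y ▸ y3),
      ← inv_eq_of_mul_eq_one_right (show y' * (y' * y') = 1 from pow_three y' ▸ y3')] at h3
    have h4 : Commute (y * y' * y⁻¹ * y'⁻¹) y' :=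
      (mul_inv_eq_iff_eq_mul.1 (K.conj_Z hy.swap.1 h3)).symm
    have h5 := h4.mul_pow 3
    rw [inv_mul_cancel_right, conj_pow, y3', pow_three, Sig2.El.zpowers (K.sq z_sq) _ h3] at h5
    simpa [mul_inv_eq_one, mul_inv_eq_iff_eq_mul, commute_iff_eq] using h5.symm
  have y4 : y ^ 3 = 1 := pow_three' y ▸ y3
  have hp : ∀ {u : G} {i j : Fin 3}, K.Ac u i j → ∀ n : ℕ, K.Ac (u ^ n) (n • i) (n • j) :=
    fun h n => by
      induction n with
      | zero => exact ⟨by simp, fun q _ => by simp [M_zero]⟩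
      | succ n ih => rw [pow_succ, succ_nsmul, succ_nsmul]; exact ih.mul h
  have hY : ∀ i j : Fin 3, K.Ac (y ^ i.1 * y' ^ j.1) i j := fun i j => by
    refine ((hp hy i.1).mul (hp hy.swap j.1)).cast ?_ ?_ <;> revert i j <;> decide
  let D : Gen G := ⟨K.ψ, fun i j => y ^ i.1 * y' ^ j.1, fun i j s => by
    split_ifs with h
    · exact mul_inv_eq_iff_eq_mul.1 ((hY i j).2 s h)
    · obtain ⟨h3, h4⟩ := M_out s h
      have e : y ^ j.1 * y' ^ i.1 = K.ψ β * (y ^ i.1 * y' ^ j.1) * (K.ψ β)⁻¹ := by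
        rw [← conj_mul, ← conj_pow, ← conj_pow, hb', ← hy', (hc.pow_pow _ _).eq,
          show K.ψ β * y' * K.ψ β = y by
            rw [hy', ← mul_assoc, ← mul_assoc, hb, mul_assoc, hb, mul_one, one_mul]]
      rw [h4, map_mul, ← (hY i j).2 _ h3, e, map_mul]
      nth_rw 3 [← hb']
      group, fun i j k l => by
    rw [Fin.val_add, Fin.val_add, ← pow_eq_pow_mod _ y4, ← pow_eq_pow_mod _ y3', pow_add, pow_add,
      mul_assoc, mul_assoc, ← mul_assoc (y' ^ _), ← (hc.pow_pow _ _).eq, mul_assoc]⟩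
  let e := Equiv.ofBijective _ genW_bij
  let φ : W →* G := MonoidHom.mk' (fun w => D.F (e.symm w)) fun a b => by
    obtain ⟨a, rfl⟩ := e.surjective a
    obtain ⟨b, rfl⟩ := e.surjective b
    rw [show e a * e b = e (star a b) from (genW.F_star a b).symm]
    simp only [Equiv.symm_apply_apply, D.F_star]
  have hφ : ∀ u, φ (e u) = K.ψ u.1 * (y ^ u.2.1.1 * y' ^ u.2.2.1) := fun u =>
    congrArg D.F (e.symm_apply_apply u)
  have ht : φ W.t = K.ψ z := by
    rw [show W.t = e (z, 0, 0) by change _ = ι z * YW 0 0; decide +kernel, hφ]; simp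
  refine CD.nonempty_equiv ⟨φ, (injective_iff_map_eq_one _).2 fun w hw => ?_, ?_⟩ hG
  · obtain ⟨⟨s, i, j⟩, rfl⟩ := e.surjective w
    rw [hφ] at hw
    have key : ∀ q ∈ Q, s * M i j q * s⁻¹ = q := fun q hq => K.inj (by
      rw [map_mul, map_mul, map_inv, ← (hY i j).2 q hq, eq_inv_of_mul_eq_one_left hw]; group)
    obtain ⟨rfl, rfl⟩ := M_inj i j s (key _ (by decide)) (key _ (by decide))
    obtain rfl : s = 1 := K.inj (by simpa using hw)
    change ι 1 * YW 0 0 = 1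
    decide +kernel
  · rw [ht]
    refine le_antisymm ?_ fun k hk => ?_
    · rintro _ ⟨w, rfl⟩
      obtain ⟨u, rfl⟩ := e.surjective w
      exact hφ u ▸ mul_mem (K.ψ_mem _) (hY _ _).1
    · obtain ⟨s, l, i, j, h, rfl⟩ := K.exists_ac hk
      have h3 := h.mul (hY (-i) (-j))
      rw [add_neg_cancel, add_neg_cancel] at h3
      obtain ⟨u, -, hu⟩ := K.mem_Z'.1 h3.mem_Z
      have h4 := D.m (-i) (-j) i j
      rw [neg_add_cancel, neg_add_cancel] at h4
      refine ⟨e (s * u, i, j), ?_⟩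
      rw [hφ, map_mul, hu, mul_assoc, mul_assoc]
      exact congrArg _ ((congrArg _ h4).trans (by simp [D]))

theorem base (h1 : ∃ k, K.Ac k 1 2) (h2 : ∀ k i j, K.Ac k i j → j = i + i) :
    X32.Base (Q.map K.ψ) (K.ψ z) := by
  obtain ⟨k1, h1⟩ := h1
  obtain ⟨y, hy, y3⟩ := h1.three
  have y4 : y ^ 3 = 1 := pow_three' y ▸ y3
  have hY : ∀ i : Fin 3, K.Ac (y ^ i.1) i (i + i) := fun i => by
    fin_cases i
    · exact ⟨by simp, fun q _ => by simp [M_zero]⟩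
    · exact (pow_one y).symm ▸ hy.cast
    · exact (pow_two y).symm ▸ (hy.mul hy).cast
  have nf : ∀ k ∈ K.H, ∃ s, ∃ i : Fin 3, k = K.ψ s * y ^ i.1 := fun k hk => by
    obtain ⟨s, l, i, j, h, rfl⟩ := K.exists_ac hk
    obtain rfl := h2 _ _ _ h
    have h3 := h.mul (hY (-i))
    rw [add_neg_cancel, show i + i + (-i + -i) = 0 by abel] at h3
    obtain ⟨u, -, hu⟩ := K.mem_Z'.1 h3.mem_Z
    refine ⟨s * u, i, ?_⟩
    rw [map_mul, hu, mul_assoc, mul_assoc, ← pow_add, pow_eq_pow_mod _ y4, ← Fin.val_add,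
      neg_add_cancel]
    simp
  have y1 : y ≠ 1 := fun e => by
    have := fun q hq => K.inj ((by simp [e] : K.ψ q = _).trans (hy.2 q hq))
    exact absurd (this i1 (by decide)) (by decide)
  have hb := K.sq (a := β) (by decide)
  have hyb : K.ψ β * y * K.ψ β * y = 1 := by
    have h3 : K.ψ β * y * K.ψ β * y ∈ zpowers (K.ψ z) := Ac.mem_Z (hy.swap.mul hy).cast
    have h4 : Commute (K.ψ β * y * K.ψ β * y) y⁻¹ :=
      (mul_inv_eq_iff_eq_mul.1 (K.conj_Z (inv_mem hy.1) h3)).symm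
    have h5 := h4.mul_pow 3
    rw [mul_inv_cancel_right, pow_three (_ * y), Sig2.El.zpowers (K.sq z_sq) _ h3, inv_pow, y4] at h5
    nth_rw 2 [← inv_eq_of_mul_eq_one_right hb] at h5
    rw [conj_pow, y4] at h5
    simpa using h5.symm
  have two : ∀ w ∈ K.H, ∀ n : ℕ, w ^ 2 ^ n = 1 → ∃ g ∈ K.H, ∃ s, K.ψ s = g * w * g⁻¹ :=
    fun w hw n h => by
      obtain ⟨g, hg, h5⟩ := K.syl.exists_cj_le (isPGroup_zpowers_of_pow h) (zpowers_le.2 hw)
      exact ⟨g, hg, cj_le_iff.1 h5 _ (mem_zpowers _)⟩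
  refine ⟨⟨⟨mem_map_of_mem _ (by decide), K.ord z_sq (by decide), ?_, ?_, ?_⟩, fun k hk => ?_,
    K.norm_Q, fun h => ?_⟩, by rw [card_map_of_injective K.inj, card_Q], ?_, ?_, ?_⟩
  · rintro _ ⟨q, -, rfl⟩; exact K.mem_H.1 (K.ψ_mem q)
  · rintro _ ⟨q, hq, rfl⟩; exact map_mul K.ψ q q ▸ K.mem_Z.2 (Q_char q hq).1
  · rintro _ ⟨q, hq, rfl⟩ h -
    have := fun r (hr : r ∈ Q) => (K.comm_iff.1 (h _ (mem_map_of_mem _ hr))).symm
    exact K.mem_Z.2 (cent_Q q (this _ (by decide)) (this _ (by decide)) (this _ (by decide))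
      (this _ (by decide)))
  · have := fun q (hq : q ∈ Q) => mem_centralizer_iff.1 hk _ (mem_map_of_mem K.ψ hq)
    exact K.cent (K.mem_H.2 (this z (by decide)).symm) fun q hq => by
      rw [← this q hq, mul_inv_cancel_right]
  · exact absurd (K.mem_Z.1 (h (mem_map_of_mem _ (by decide : i1 ∈ Q)))) (by decide)
  · rw [← Nat.card_congr (Equiv.ofBijective (fun u : Sy × Fin 3 =>
      (⟨K.ψ u.1 * y ^ u.2.1, mul_mem (K.ψ_mem _) (hY _).1⟩ : K.H)) ⟨?_, fun k => ?_⟩)]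
    · rw [Nat.card_prod, card_eq]; simp
    · rintro ⟨s, i⟩ ⟨s', i'⟩ e
      have e1 : K.ψ s * y ^ i.1 = K.ψ s' * y ^ i'.1 := congrArg Subtype.val e
      have h3 := (hY i).mul (hY (-i'))
      have e2 : y ^ i'.1 * y ^ (-i').1 = 1 := by
        rw [← pow_add, pow_eq_pow_mod _ y4, ← Fin.val_add, add_neg_cancel]; simp
      have key : ∀ q ∈ Q, (s'⁻¹ * s) * M _ _ q * (s'⁻¹ * s)⁻¹ = q := fun q hq => K.inj (by
        rw [map_mul, map_mul, map_inv, ← h3.2 q hq, map_mul, map_inv, eq_inv_of_mul_eq_one_right e2,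
          eq_mul_inv_of_mul_eq e1]
        group)
      obtain rfl := add_neg_eq_zero.1 (M_inj _ _ _ (key _ (by decide)) (key _ (by decide))).1
      rw [K.inj (mul_right_cancel e1)]
    · obtain ⟨s, i, e⟩ := nf k k.2
      exact ⟨(s, i), Subtype.ext e.symm⟩
  · rintro w hw w3 w1 _ ⟨q, hq, rfl⟩ hc
    obtain ⟨s, i, rfl⟩ := nf w (K.mem_H.2 hw)
    have h3 : ∀ q ∈ Q, K.ψ s * y ^ i.1 * K.ψ q * (K.ψ s * y ^ i.1)⁻¹ = K.ψ (cM s i q) :=
      fun q hq => by rw [cM, map_mul, map_mul, map_inv, ← (hY i).2 q hq]; group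
    have h4 := K.conj_iter (U := (· ∈ Q)) (f := cM s i)
      (fun q hq => Q_conj _ (M_mem _ _ q hq) s) h3 3 i1 (by decide)
    rcases cM_fpf s i (K.inj (by rw [← h4, w3]; simp)) with rfl | h
    · refine (w1 ?_).elim
      have := congrArg K.ψ (four s)
      simp only [Fin.val_zero, pow_zero, mul_one, pow_three', map_mul, map_one] at w3 this ⊢
      rwa [w3, one_mul] at this
    · exact K.mem_Z.2 (h q hq (K.inj (by rw [← h3 q hq, hc, mul_inv_cancel_right])))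
  · intro w hw w2 wQ
    obtain ⟨g, hg, s, hs⟩ := two w (K.mem_H.2 hw) 1 (by simpa [pow_two] using w2)
    obtain ⟨r, hr⟩ := out_inv s (fun h => wQ (by
      simpa [hs, mul_assoc] using cn' (K.norm_Q hg) (mem_map_of_mem _ h)))
      (K.inj (by rw [map_mul, hs, conj_mul, w2]; simp))
    have hu := mul_mem (K.ψ_mem r) hg
    have e : w = (K.ψ r * g)⁻¹ * K.ψ (r * s * r⁻¹) * (K.ψ r * g)⁻¹⁻¹ := by
      rw [map_mul, map_mul, map_inv, hs]; group
    refine ⟨(K.ψ r * g)⁻¹ * y * (K.ψ r * g)⁻¹⁻¹,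
      K.mem_H.1 (mul_mem (mul_mem (inv_mem hu) hy.1) (inv_mem (inv_mem hu))),
      by rw [conj_pow, y4]; simp, Sig2.conj_ne_one' y1, ?_⟩
    rw [e, conj_mul, conj_mul, conj_mul]
    rcases hr with hr | hr
    · rw [hr, hyb]; simp
    · have h5 : ∀ g ∈ K.H, K.ψ (β * z) * g = K.ψ β * g * K.ψ z := fun g hg => by
        rw [map_mul, mul_assoc, ← K.mem_H.1 hg, mul_assoc]
      rw [hr, mul_assoc (_ * y), h5 y hy.1, mul_assoc _ (K.ψ z), ← mul_assoc (K.ψ z),
        ← K.mem_H.1 (mul_mem (K.ψ_mem β) hy.1), mul_assoc _ (K.ψ z), K.sq z_sq, mul_one,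
        ← mul_assoc (K.ψ β * y), hyb]
      simp

theorem alt (h1 : ∃ k, K.Ac k 1 2) (h2 : ∀ k i j, K.Ac k i j → j = i + i)
    (h3 : IsConj (K.ψ z) (K.ψ (t 1))) (h4 : pCore 2 G = ⊥) :
    Nonempty (G ≃* alternatingGroup (Fin 8)) ∨ Nonempty (G ≃* alternatingGroup (Fin 9)) := by
  obtain ⟨T, hz, c, h0 | h0⟩ := (K.base h1 h2).exists_H h3 (mem_map_of_mem _ (by decide))
    (K.inj.ne (by decide))
  · rcases h0.main1 (hz ▸ c) with ⟨N, _, -, n2, n3, -⟩ | ⟨T, n, m, e, nc⟩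
    · have := Solv.le_pCore (p := 2) (N := N) ‹_› fun g => ⟨1, Subtype.ext (n2 g g.2)⟩
      rw [h4, le_bot_iff] at this
      simp [this] at n3
    · exact e.main nc
  · obtain ⟨e1, e2, -⟩ := h0.eqs1
    have hg : T.t * T.b1 ∈ K.H := mul_mem (K.mem_H.2 (hz ▸ e1)) (by
      obtain ⟨q, -, e⟩ := h0.m3; exact e ▸ K.ψ_mem q)
    have e3 : (T.t * T.b1) ^ 4 = K.ψ z := by rw [← hz, ← e2]; simp [pow_succ, mul_assoc]
    obtain ⟨g, -, h5⟩ := K.syl.exists_cj_le (isPGroup_zpowers_of_pow (g := T.t * T.b1) (k := 3) (by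
      rw [show 2 ^ 3 = 4 + 4 from rfl, pow_add, e3, K.sq z_sq])) (zpowers_le.2 hg)
    obtain ⟨s, hs⟩ := cj_le_iff.1 h5 _ (mem_zpowers _)
    have := congrArg K.ψ (four s)
    simp only [map_mul, hs, conj_mul, map_one] at this
    refine absurd ?_ (Sig2.conj_ne_one' (g := g) (K.ne_one (a := z) (by decide)))
    rw [← this, ← e3]; simp [pow_succ]

end KD

end Cfsg.Lib.Recog.A8T
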