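import Cfsg.Agent.Recog.A8TFus
import Cfsg.Agent.Recog.A8TId
import Cfsg.Agent.Sig2.Final
import Cfsg.Agent.Known.PronCop
import Cfsg.Agent.Solv.FrobeniusComplement
import Cfsg.Agent.Inst.BenderCore
import Cfsg.Agent.Inst.S0205
import Cfsg.Agent.Inst.S0217
import Cfsg.Agent.Inst.S1136

/-!
# Groups with Sylow 2-subgroups of type `A₈`: the symplectic case
-/

set_option autoImplicit false

namespace Cfsg.Lib.Recog.A8T

open Subgroup Sy Cfsg.Lib.Trans Cfsg.Lib.Local Cfsg.Lib.Sig2 Cfsg.Lib.Bender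

variable {G : Type*} [Group G] [Finite G]

theorem exists_mul_mem_oddCore (N : Subgroup G) [N.Normal] (hN : IsPGroup 2 N)
    (hZ : N ≤ center G) {g : G} (h : (g : G ⧸ N) ∈ oddCore (G ⧸ N)) :
    ∃ o ∈ oddCore G, ∃ n ∈ N, g = o * n := by
  obtain ⟨O, h1, h2, h3, h4⟩ := Known.Pron.exists_odd_compl
    (K := (oddCore (G ⧸ N)).comap (QuotientGroup.mk' N)) (P := N)
    (fun n hn => by rw [mem_comap, QuotientGroup.mk'_apply, (QuotientGroup.eq_one_iff n).2 hn]; simp)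
    hN (by
      nth_rw 1 [← QuotientGroup.ker_mk' N]
      rw [← MonoidHom.comap_bot, relIndex_comap, relIndex_bot_left,
        map_comap_eq_self_of_surjective (QuotientGroup.mk'_surjective N)]
      exact (Nat.Prime.coprime_iff_not_dvd Nat.prime_two).1 (Solv.coprime_card_pPrimeCore 2 _).symm)
    fun x _ _ s hs => mem_center_iff.1 (hZ hs) x
  obtain ⟨o, ho, n, hn, e⟩ := h4 g h
  exact ⟨o, Solv.le_pPrimeCore ⟨fun u hu k => (h3 _ (Normal.conj_mem inferInstance u (h1 hu) k)).2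
    (by rw [orderOf_conj]; exact (h3 u (h1 hu)).1 hu)⟩ (Nat.coprime_two_right.2 h2) ho, n, hn, e⟩

theorem zl {K T : Subgroup G} (hT : IsSylowIn 2 T K) {b u : G} (hb : b ∈ T) (hu : u ∈ T)
    (h2 : u * u = 1) (hK : K ≤ centralizer {u})
    (h : ∀ c ∈ K, c * b * c⁻¹ ∈ T → c * b * c⁻¹ = b ∨ c * b * c⁻¹ = b * u) {c : G} (hc : c ∈ K) :
    c * b * c⁻¹ * b⁻¹ ∈ ppCoreOf 2 K ∨ c * b * c⁻¹ * b⁻¹ * u ∈ ppCoreOf 2 K := by
  let u' : K := ⟨u, hT.le hu⟩
  have hu' : u' * u' = 1 := Subtype.ext h2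
  have hZ : zpowers u' ≤ center K := zpowers_le.2
    (mem_center_iff.2 fun g => Subtype.ext (mem_centralizer_singleton_iff.1 (hK g.2)))
  have : (zpowers u').Normal := ⟨fun n hn g => by
    rwa [mem_center_iff.1 (hZ hn) g, mul_inv_cancel_right]⟩
  have h1 := hT.subgroupOf_top.map (QuotientGroup.mk' (zpowers u'))
  rw [map_top_of_surjective _ (QuotientGroup.mk'_surjective _)] at h1
  obtain ⟨P, hP⟩ := h1.exists_sylow_eq
  obtain ⟨o, ho, n, hn, e⟩ := exists_mul_mem_oddCore _ (El.zpowers hu').isPGroup hZ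
    (g := ⟨c, hc⟩ * ⟨b, hT.le hb⟩ * ⟨c, hc⟩⁻¹ * ⟨b, hT.le hb⟩⁻¹)
    (Block.Princ.zstar_elt P (x := ((⟨b, hT.le hb⟩ : K) : K ⧸ zpowers u')) (hP ▸ ⟨_, hb, rfl⟩)
      (fun g hg => by
        obtain ⟨g, rfl⟩ := QuotientGroup.mk_surjective g
        obtain ⟨v, hv, e⟩ := hP ▸ hg
        have h3 : (v⁻¹ * (g * ⟨b, hT.le hb⟩ * g⁻¹) : K) ∈ T.subgroupOf K :=
          zpowers_le.2 (show u' ∈ T.subgroupOf K from hu) (QuotientGroup.eq.1 e)
        rcases h g g.2 ((mul_mem_cancel_left (inv_mem hv)).1 h3) with e | e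
        · exact congrArg _ (Subtype.ext e : g * ⟨b, hT.le hb⟩ * g⁻¹ = ⟨b, hT.le hb⟩)
        · refine (congrArg QuotientGroup.mk
            (Subtype.ext e : g * ⟨b, hT.le hb⟩ * g⁻¹ = ⟨b, hT.le hb⟩ * u')).trans ?_
          rw [QuotientGroup.mk_mul, (QuotientGroup.eq_one_iff u').2 (mem_zpowers u'), mul_one])
      ((⟨c, hc⟩ : K) : K ⧸ zpowers u'))
  have e' : c * b * c⁻¹ * b⁻¹ = o * n := congrArg Subtype.val e
  rw [e']
  rcases mem_zpowers_of_mul_self hu' hn with rfl | rfl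
  · exact Or.inl (by simpa using mem_ppCoreOf.2 ho)
  · exact Or.inr (by simpa [mul_assoc, u', h2] using mem_ppCoreOf.2 ho)

omit [Finite G] in
theorem exists_odd_conj {O : Subgroup G} (hO : Odd (Nat.card O)) {b c : G} (hb : orderOf b = 2)
    (h : c * b * c⁻¹ * b⁻¹ ∈ O) : ∃ o ∈ O, o⁻¹ * c ∈ centralizer {b} := by
  have h1 : b * (c * b * c⁻¹) ∈ O := by
    simpa [SE.inv_eq_of_orderOf_two hb, mul_assoc] using inv_mem h
  obtain ⟨k, -, e⟩ := SE.exists_involution_conj_of_odd hb (by rw [orderOf_conj, hb])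
    (hO.of_dvd_nat (orderOf_dvd_natCard _ h1))
  refine ⟨_, pow_mem h1 k, mem_centralizer_singleton_iff.2 ?_⟩
  generalize (b * (c * b * c⁻¹)) ^ k = o at e
  rw [mul_assoc, eq_mul_of_mul_inv_eq e.symm]
  group

omit [Finite G] in
theorem cent_le {M : Subgroup G} {g a : G} (hg : g ∈ M) (h : centralizer {a} ≤ M) :
    centralizer {g * a * g⁻¹} ≤ M := cj_centralizer_sing g a ▸ cj_le_of_mem_of_le hg h

omit [Finite G] in
theorem solv_conj {a b : G} (h : IsConj a b) (ha : Group.IsSolvable (centralizer ({a} : Set G))) :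
    Group.IsSolvable (centralizer ({b} : Set G)) := by
  obtain ⟨g, rfl⟩ := isConj_iff.1 h
  rw [← cj_centralizer_sing]
  exact Group.isSolvable_of_surjective ((MulAut.conj g).toMonoidHom.subgroupMap_surjective _)

omit [Finite G] in
theorem solv_le {H K : Subgroup G} (h : H ≤ K) (hK : Group.IsSolvable K) : Group.IsSolvable H :=
  Group.isSolvable_of_isSolvable_injective (inclusion_injective h)

theorem KD.conj_mem_range (K : KD G) (h : ∀ k i j, K.Ac k i j → j = i) {k : G} (hk : k ∈ K.H)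
    {a : Sy} (ha : a ∈ A) : k * K.ψ a * k⁻¹ ∈ K.ψ.range := by
  obtain ⟨s, l, i, j, hl, e⟩ := K.exists_ac (inv_mem hk)
  obtain rfl := h _ _ _ hl
  obtain ⟨s', l', i, j', hl', e'⟩ := K.exists_ac (mul_mem (mul_mem hk (K.ψ_mem a)) (inv_mem hk))
  obtain rfl := h _ _ _ hl'
  have e1 : k⁻¹ * K.ψ (t 0) * k⁻¹⁻¹ = K.ψ (s * M j j (t 0) * s⁻¹) := by
    rw [e, map_mul, map_mul, map_inv, ← hl.2 _ (by decide)]; group
  have e2 := K.comm_iff.2 (A_comm a ha _ (A_conj (M j j (t 0)) (by clear * -; revert j; decide) s))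
  have e3 : K.ψ (s' * M j' j' (t 0) * s'⁻¹) = K.ψ (t 0) := by
    rw [map_mul, map_mul, map_inv, ← hl'.2 _ (by decide)]
    calc _ = K.ψ s' * l' * K.ψ (t 0) * (K.ψ s' * l')⁻¹ := by group
      _ = k * (K.ψ a * (k⁻¹ * K.ψ (t 0) * k⁻¹⁻¹)) * (K.ψ a)⁻¹ * k⁻¹ := by rw [← e']; group
      _ = _ := by rw [e1, e2, ← e1]; group
  obtain rfl := (by decide +kernel : ∀ j s, s * M j j (t 0) * s⁻¹ = t 0 → j = 0) j' s' (K.inj e3)
  obtain ⟨u, -, hu⟩ := K.mem_Z'.1 hl'.mem_Z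
  exact ⟨s' * u, by rw [e', map_mul, ← hu]⟩

namespace SD

variable (D : SD G)

/-- The centralizer of a four-group of the base group. -/
abbrev L : Subgroup G := centralizer {D.ψ (t 0)} ⊓ centralizer {D.ψ β}

theorem zl_t (h0 : ¬ D.Cj z (t 0)) (h : ∀ c ∈ centralizer {D.ψ (t 0)}, ∀ d, d * t 0 = t 0 * d →
    c * D.ψ β * c⁻¹ = D.ψ d → d = β ∨ d = β * t 0) {c : G} (hc : c ∈ centralizer {D.ψ (t 0)}) :
    c * D.ψ β * c⁻¹ * (D.ψ β)⁻¹ ∈ th (D.ψ (t 0)) ∨
      c * D.ψ β * c⁻¹ * (D.ψ β)⁻¹ * D.ψ (t 0) ∈ th (D.ψ (t 0)) :=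
  zl (D.syl_t h0) (mem_map_of_mem _ (mem_centralizer_singleton_iff.2 (by decide)))
    (mem_map_of_mem _ (mem_centralizer_singleton_iff.2 rfl)) (D.sq (by decide)) le_rfl
    (fun c hc ⟨d, hd, e⟩ => (h c hc d (mem_centralizer_singleton_iff.1 hd) e.symm).imp
      (fun e' => by rw [← e, e']) fun e' => by rw [← e, e', map_mul]) hc

theorem dec {c : G} (hc : c ∈ centralizer {D.ψ (t 0)})
    (h : c * D.ψ β * c⁻¹ * (D.ψ β)⁻¹ ∈ th (D.ψ (t 0))) : ∃ o ∈ th (D.ψ (t 0)), o⁻¹ * c ∈ D.L := by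
  obtain ⟨o, ho, h1⟩ := exists_odd_conj (odd_th _) (D.ord (by decide) (by decide)) h
  exact ⟨o, ho, mem_inf.2 ⟨mul_mem (inv_mem (th_le _ ho)) hc, h1⟩⟩

theorem le_sup_t (h0 : ¬ D.Cj z (t 0)) (h : ∀ c ∈ centralizer {D.ψ (t 0)}, ∀ d, d * t 0 = t 0 * d →
    c * D.ψ β * c⁻¹ = D.ψ d → d = β ∨ d = β * t 0) :
    centralizer {D.ψ (t 0)} ≤ th (D.ψ (t 0)) ⊔ (D.L ⊔ zpowers (D.ψ (x 0))) := fun c hc => by
  have key : ∀ c ∈ centralizer {D.ψ (t 0)}, c * D.ψ β * c⁻¹ * (D.ψ β)⁻¹ ∈ th (D.ψ (t 0)) →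
      c ∈ th (D.ψ (t 0)) ⊔ (D.L ⊔ zpowers (D.ψ (x 0))) := fun c hc h1 => by
    obtain ⟨o, ho, h2⟩ := D.dec hc h1
    simpa using mul_mem_sup ho (mem_sup_left h2)
  rcases D.zl_t h0 h hc with h1 | h1
  · exact key c hc h1
  · refine (mul_mem_cancel_right (mem_sup_right (mem_sup_right (mem_zpowers (D.ψ (x 0)))))).1
      (key _ (mul_mem hc (mem_centralizer_singleton_iff.2 (D.comm_iff.2 (by decide)))) ?_)
    convert h1 using 1
    rw [mul_assoc _ _ (D.ψ (t 0)), ← map_inv, ← map_mul, show β⁻¹ * t 0 = t 0 * β⁻¹ by decide, map_mul,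
      ← mul_assoc, ← mul_inv_cancel_right (D.ψ (t 0)) c, ← mem_centralizer_singleton_iff.1 hc,
      conj_mul, ← map_mul, show β * t 0 = x 0 * β * (x 0)⁻¹ by decide, map_mul, map_mul, map_inv,
      map_inv]
    group

omit [Finite G] in
theorem L_le {s : Sy} (hs : s = β ∨ s = t 0 ∨ s = β * t 0) : D.L ≤ centralizer {D.ψ s} :=
  fun g hg => by
    rcases hs with rfl | rfl | rfl
    exacts [hg.2, hg.1, mem_centralizer_singleton_iff.2 (map_mul D.ψ β _ ▸ (Commute.mul_right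
      (mem_centralizer_singleton_iff.1 hg.2) (mem_centralizer_singleton_iff.1 hg.1)).eq)]

theorem x_norm_L : zpowers (D.ψ (x 0)) ≤ normalizer (D.L : Set G) := by
  refine zpowers_le.2 (mem_normalizer_of_cj_le ?_)
  have key : ∀ s, cj (D.ψ (x 0)) (centralizer {D.ψ s}) = centralizer {D.ψ (x 0 * s * (x 0)⁻¹)} :=
    fun s => by rw [cj_centralizer_sing, map_mul, map_mul, map_inv]
  exact le_inf ((cj_mono _ inf_le_left).trans ((key _).trans (congrArg (fun s => centralizer {D.ψ s})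
    (by decide))).le) ((cj_mono _ (D.L_le (Or.inr (Or.inr rfl)))).trans ((key _).trans
      (congrArg (fun s => centralizer {D.ψ s}) (by decide))).le)

theorem le_sup_x (h : D.Nσ) (h0 : ∀ m, ¬ D.Cj z (t m)) (m : Fin 3) :
    centralizer {D.ψ (x m)} ≤ th (D.ψ (x m)) ⊔ (centralizer {D.ψ (x m)} ⊓ D.H) := fun c hc => by
  obtain ⟨o, ho, h1⟩ := exists_odd_conj (odd_th _) (D.ord z_sq (by decide)) (b := D.ψ z) (c := c)
    ((zl (u := 1) (D.syl_x h m) (mem_map_of_mem _ (mem_centralizer_singleton_iff.2 (z_comm _).symm))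
      (one_mem _) (one_mul 1) (fun _ _ => by simp [mem_centralizer_singleton_iff]) (by
      rintro c - ⟨d, hd, e⟩
      have h1 : D.Cj z d := isConj_iff.2 ⟨c, e.symm⟩
      have h2 : d ∈ A := by_contra fun h3 => h d h3 (h1.sq z_sq) z (by decide) h1.symm
      rcases (by decide +kernel : ∀ m, ∀ d ∈ A, d * x m = x m * d → InZ d ∨ d = t m ∨ d = t m * z)
        m d h2 (mem_centralizer_singleton_iff.1 hd) with (rfl | rfl) | rfl | rfl
      exacts [absurd rfl (h1.ne_one (by decide)), Or.inl e.symm, absurd h1 (h0 m),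
        absurd (h1.trans (D.cj_tz m).symm) (h0 m)]) hc).elim id fun e => by rwa [mul_one] at e)
  simpa using mul_mem_sup ho (mem_inf.2 ⟨mul_mem (inv_mem (th_le _ ho)) hc, h1⟩)

theorem exists_rep {g : G} (hg : orderOf g = 2) : ∃ s, s * s = 1 ∧ s ≠ 1 ∧ IsConj (D.ψ s) g := by
  obtain ⟨k, -, h⟩ := D.syl.exists_cj_le (isPGroup_zpowers_of_orderOf_two hg) le_top
  obtain ⟨s, hs⟩ := cj_le_iff.1 h _ (mem_zpowers _)
  have h1 : orderOf (D.ψ s) = 2 := by rw [hs, orderOf_conj, hg]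
  exact ⟨s, D.inj (by simpa using SE.mul_self_of_orderOf_two h1), fun e => by simp [e] at h1,
    (isConj_iff.2 ⟨k, hs.symm⟩).symm⟩

theorem eq_top {M : Subgroup G} (hN : D.N ≤ M) (h0 : ¬ D.Cj z (t 0))
    (h : ∀ s, s * s = 1 → s ≠ 1 → centralizer {D.ψ s} ≤ M) : M = ⊤ := by
  by_contra hM
  obtain ⟨P, hP⟩ := D.syl.exists_sylow_eq
  refine h0 ((SE.of_centralizer_normalizer hM P (fun g hg => hN (D.wc ?_)) fun g hg h2 => ?_).isConj_involutions
    (D.ord z_sq (by decide)) (D.ord (by decide) (by decide)))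
  · rw [← hP, ← cj_eq_of_mem_normalizer hg]
    exact cj_mono g (hP ▸ map_le_range _ _)
  · obtain ⟨s, rfl⟩ := hP ▸ hg
    exact h s (D.inj (by simpa using SE.mul_self_of_orderOf_two h2)) fun e => by simp [e] at h2

theorem cent_le_of_cj {M : Subgroup G} (hN : D.N ≤ M) {a b : Sy} (ha : a ∈ A) (hb : b ∈ A)
    (h : D.Cj a b) (h1 : centralizer {D.ψ a} ≤ M) : centralizer {D.ψ b} ≤ M := by
  obtain ⟨n, hn, e⟩ := D.fus ha hb h
  exact e ▸ cent_le (hN hn) h1

theorem caseN (hs : Group.IsSolvable D.H) (hG : ∀ H : Subgroup G, H.index ≠ 2)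
    (h1 : pCore 2 G = ⊥) (h2 : oddCore G = ⊥) (h0 : ∀ m, ¬ D.Cj z (t m)) (hb : D.Cj z β) :
    Nonempty (G ≃* PSp 2 (ZMod 3)) := by
  have hc := Solv.isPConstrained_of_isSolvable 2 D.H
  have hσ := D.dσ hc
  have n1 : ¬ D.Cj z 1 := fun e => e.ne_one (by decide) rfl
  obtain ⟨n, hn, en⟩ := D.fus (by decide) (by decide) hb
  have n2 : ¬ D.Cj z (β * z) := fun e => by
    obtain ⟨a, ha, b, hb, c, hc, k1, k2, -⟩ := D.kap (P := 98) (u := z) (fun i => by
      fin_cases i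
      exacts [iff_of_false (by decide) n1, iff_of_true (by decide) (IsConj.refl _),
        iff_of_false (by decide) (h0 0), iff_of_false (by decide) (h0 1),
        iff_of_false (by decide) (h0 2), iff_of_true (by decide) hb, iff_of_true (by decide) e]) hn en
    obtain ⟨k3, k4, k5⟩ := k2 (by decide)
    exact kap1 a ha k3 b hb k4 c hc k5 k1
  have hP : ∀ i : Fin 7, (34 : ℕ).testBit i.1 = true ↔ D.Cj z (rep i) := fun i => by
    fin_cases i
    exacts [iff_of_false (by decide) n1, iff_of_true (by decide) (IsConj.refl _),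
      iff_of_false (by decide) (h0 0), iff_of_false (by decide) (h0 1),
      iff_of_false (by decide) (h0 2), iff_of_true (by decide) hb, iff_of_false (by decide) n2]
  have n3 : ∀ m, D.Cj (β * z) (t m) := fun m => by
    obtain ⟨a, ha, b, hb, c, hc, k1, k2, k⟩ := D.kap hP hn en
    obtain ⟨k3, k4, k5⟩ := k2 (by decide)
    obtain ⟨s, hs, e1, e2⟩ := kap2 a ha k3 b hb k4 c hc k5 k1 m
    obtain ⟨r, hr, er⟩ := D.exA hn hs
    have e3 := D.cj_rep hs
    have e4 := D.cj_rep hr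
    rw [e1] at e3
    rw [D.inj (er.symm.trans (k s hs)), e2] at e4
    exact e3.symm.trans ((isConj_iff.2 ⟨n, k s hs⟩).trans (e4.trans (D.cj_rep (t_facts m).1).symm))
  have kt := D.le_sup_t (h0 0) fun c hc d _ e => by
    have e1 : D.Cj z d := hb.trans (isConj_iff.2 ⟨c, e⟩)
    have hd : d ∈ A := by_contra fun h => (D.into_I hσ (by decide) e1 h).elim h0
    refine iso1 d hd ((D.ty_iff hP hd).2 e1) ((D.ty_iff hP (mul_mem hd (by decide))).2
      (hb.trans ((D.cjS (r := x 0) (b := β * t 0) (by decide)).trans (isConj_iff.2 ⟨c, ?_⟩))))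
    rw [map_mul, ← conj_mul, e, mem_centralizer_singleton_iff.1 hc, mul_inv_cancel_right, map_mul]
  have sth : ∀ g : G, Group.IsSolvable (th g) := fun g => Agent.Gate.S0205.out (odd_th g)
  have st : Group.IsSolvable (centralizer ({D.ψ (t 0)} : Set G)) :=
    solv_le kt (Solv.Fpf.isSolvable_sup_of_le_normalizer ((sup_le inf_le_left (zpowers_le.2
      (mem_centralizer_singleton_iff.2 (D.comm_iff.2 (by decide))))).trans
        (centralizer_le_normalizer_th _)) (sth _)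
      (Solv.Fpf.isSolvable_sup_of_le_normalizer D.x_norm_L
        (solv_le inf_le_right (solv_conj hb hs)) inferInstance))
  have sA : ∀ a ∈ A, a ≠ 1 → D.Cj z a ∨ D.Cj (t 0) a := fun a ha h =>
    (D.wI hG hσ ha h).imp IsConj.symm fun ⟨m, e⟩ => (n3 0).symm.trans ((n3 m).trans e.symm)
  have hC : Constr G := fun g hg => by
    obtain ⟨s, s1, s2, e⟩ := D.exists_rep hg
    have : Group.IsSolvable (centralizer ({g} : Set G)) := by
      refine solv_conj e ?_
      by_cases hA : s ∈ A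
      · exact (sA s hA s2).elim (solv_conj · hs) (solv_conj · st)
      obtain ⟨-, m, r, e1, -⟩ := root s hA s1
      refine solv_conj (D.cjS e1).symm ?_
      rcases hσ with h | h
      · exact solv_le (D.le_sup_x h h0 m) (Solv.Fpf.isSolvable_sup_of_le_normalizer
          (inf_le_left.trans (centralizer_le_normalizer_th _)) (sth _) (solv_le inf_le_right hs))
      · exact solv_conj (((n3 0).symm.trans (n3 m)).trans (h m)) st
    exact Solv.isPConstrained_of_isSolvable 2 _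
  have hth : ∀ s, s * s = 1 → s ≠ 1 → th (D.ψ s) = ⊥ := fun s s1 s2 => le_bot_iff.1 (h2 ▸
    th_le_oddCore_of_no_index_two hC (fun h => by
      have hE : El (A.map D.ψ) := by rintro _ ⟨a, ha, rfl⟩; exact D.sq (A_sq a ha)
      have := h _ hE.isMulCommutative fun a ha => by rw [pow_two, hE a ha]
      rw [card_map_of_injective D.inj, card_A] at this
      omega) hG (D.ord s1 s2))
  let K := D.toKD hc (hth z z_sq (by decide))
  rcases K.dich_ρ with hρ | hρ
  · exact absurd (D.not_cj_t (fun k hk m u hu => by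
      obtain ⟨v, hv, e⟩ := K.nρ hρ hk hu
      exact ⟨v, hv, (inv_mul_eq_one.2 e).symm ▸ one_mem _⟩) (h0 0) ((n3 0).symm.trans (n3 1)))
      (by decide)
  refine K.psp (K.dich_σ.resolve_left fun h => ?_) hρ hG
  have nσ : D.Nσ := fun u hu h2 a ha e => by
    obtain ⟨k, hk, b, hb, e⟩ := D.exists_H hu h2 ha e
    exact K.nσ h hk hu h2 hb e
  have hH : D.H ≤ D.N := fun k hk => D.wc (cj_le_iff.2 (by
    rintro _ ⟨a, ha, rfl⟩
    exact K.conj_mem_range h hk ha))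
  have hz := fun a ha e => D.cent_le_of_cj le_rfl (by decide) (b := a) ha e hH
  have := D.eq_top le_rfl (h0 0) fun s s1 s2 => by
    by_cases hA : s ∈ A
    · refine (sA s hA s2).elim (hz s hA) fun e => D.cent_le_of_cj le_rfl (by decide) hA e ?_
      refine kt.trans ?_
      rw [hth _ (by decide) (by decide), bot_sup_eq]
      exact sup_le (inf_le_right.trans (hz _ (by decide) hb)) (zpowers_le.2 (D.ψ_mem_N _))
    obtain ⟨-, m, r, e1, -⟩ := root s hA s1
    have := cent_le (D.ψ_mem_N r⁻¹) ((D.le_sup_x nσ h0 m).trans (by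
      rw [hth _ (t_facts m).2.2.2.2.2.2.1 (t_facts m).2.2.2.2.2.2.2, bot_sup_eq]
      exact inf_le_right.trans hH))
    rwa [← map_inv, ← map_mul, ← map_mul, ← e1, show r⁻¹ * (r * s * r⁻¹) * r⁻¹⁻¹ = s by group] at this
  exact D.ne_one (a := z) (by decide) (mem_bot.1 (h1 ▸ Solv.le_pCore (normalizer_eq_top_iff.1 this)
    (D.isPGroup A) (mem_map_of_mem _ (by decide))))

end SD

end Cfsg.Lib.Recog.A8T
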