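import Cfsg.Agent.Recog.A8TN
import Cfsg.Agent.S1221

/-!
# Groups with Sylow 2-subgroups of type `A₈`: the alternating case
-/

set_option autoImplicit false
set_option synthInstance.maxSize 2000

namespace Cfsg.Lib.Recog.A8T

open Subgroup Sy Cfsg.Lib.Trans Cfsg.Lib.Local Cfsg.Lib.Sig2 Cfsg.Lib.Bender

variable {G : Type*} [Group G] [Finite G]

theorem E_cases : ∀ u ∈ E 1, u = 1 ∨ u = z ∨ ∃ r, r * t 1 * r⁻¹ = u ∨ r * x 1 * r⁻¹ = u := by
  decide +kernel

theorem mem_A_of : ∀ w ∉ A, ∀ a ∈ A, Ty 36 a → w * a = a * w → ∀ b ∈ A, Ty 36 b → w * b = b * w →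
    ¬ Ty 36 (a * b) := by decide +kernel

/-- The four-group generated by `β` and `t 0`. -/
def InV (s : Sy) : Prop := s = 1 ∨ s = β ∨ s = t 0 ∨ s = β * t 0

instance : DecidablePred InV := fun _ => by unfold InV; infer_instance

theorem coset_V : ∀ v ∈ A, InV v ∨ ∃ w, InV w ∧ Ty 36 (v * w) ∧
    (∀ u, InV u → Ty 36 (v * w * u) → u = 1) ∧
    ∃ w', InV w' ∧ (v * w' = z ∨ v * w' = t 1 ∨ v * w' = t 1 * z) := by decide +kernel

namespace SD

variable (D : SD G)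

/-- The hypotheses of the alternating case. -/
structure PH : Prop where
  hs : Group.IsSolvable D.H
  hG : ∀ H : Subgroup G, H.index ≠ 2
  c1 : D.Cj z (t 1)
  c0 : ¬ D.Cj z (t 0)

/-- The four-group generated by `z` and `t 1`. -/
abbrev U : Subgroup G := V2 (D.ψ z) (D.ψ (t 1))

/-- The normalizer of the signalizer subgroup. -/
abbrev MW : Subgroup G := normalizer (WW D.U : Set G)

omit [Finite G] in
theorem mem_V2 {a b : Sy} (ha : a ∈ A) (hb : b ∈ A) {g : G} (h : g ∈ V2 (D.ψ a) (D.ψ b)) :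
    ∃ s ∈ A, (s = 1 ∨ s = a ∨ s = b ∨ s = a * b) ∧ D.ψ s = g := by
  rcases mem_closure_pair_of_commute (D.sq (A_sq a ha)) (D.sq (A_sq b hb))
    (D.comm_iff.2 (A_comm a ha b hb)) h with e | e | e | e
  exacts [⟨1, one_mem _, by simp, by simp [e]⟩, ⟨a, ha, by simp, e.symm⟩, ⟨b, hb, by simp, e.symm⟩,
    ⟨a * b, mul_mem ha hb, by simp, by simp [e]⟩]

theorem e4 {a b : Sy} (ha : a ∈ A) (hb : b ∈ A) (h1 : a ≠ 1) (h2 : b ≠ 1) (h3 : a ≠ b) :
    E4 (V2 (D.ψ a) (D.ψ b)) :=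
  e4_V2 (D.sq (A_sq a ha)) (D.sq (A_sq b hb)) (D.comm_iff.2 (A_comm a ha b hb)) (D.ne_one h1)
    (D.ne_one h2) (D.inj.ne h3)

namespace PH

variable {D} (h : D.PH)
include h

theorem hc : IsPConstrained 2 D.H :=
  have := h.hs
  Solv.isPConstrained_of_isSolvable 2 D.H

theorem con {g : G} (e : IsConj (D.ψ z) g) : IsPConstrained 2 (centralizer ({g} : Set G)) :=
  have := solv_conj e h.hs
  Solv.isPConstrained_of_isSolvable 2 _

theorem nρ : D.Nρ := (D.dρ h.hc).resolve_right fun e => h.c0 (h.c1.trans e.1.symm)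

theorem hσ (m : Fin 3) : D.Cj (t m) (x m) :=
  (D.dσ h.hc).resolve_left (fun e => D.not_Nρ h.hG e h.nρ) m

omit [Finite G] in
theorem cjU {g : G} (hg : g ∈ D.U) (h1 : g ≠ 1) : IsConj (D.ψ z) g := by
  obtain ⟨s, -, rfl | rfl | rfl | rfl, rfl⟩ := D.mem_V2 (by decide) (by decide) hg
  exacts [absurd (map_one _) h1, IsConj.refl _, h.c1, z_comm (t 1) ▸ h.c1.trans (D.cj_tz 1)]

theorem hP (e1 e2 : Prop) [Decidable e1] [Decidable e2] (h1 : e1 ↔ D.Cj (t 0) β)
    (h2 : e2 ↔ D.Cj (t 0) (β * z)) (i : Fin 7) :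
    (4 + (if e1 then 32 else 0) + if e2 then 64 else 0 : ℕ).testBit i.1 = true ↔
      D.Cj (t 0) (rep i) := by
  have n : ∀ m ≠ 0, ¬ D.Cj (t 0) (t m) := fun m hm e => hm (D.not_cj_t h.nρ h.c0 e).symm
  fin_cases i
  exacts [iff_of_false (by split_ifs <;> decide) fun e => e.ne_one (by decide) rfl,
    iff_of_false (by split_ifs <;> decide) fun e => h.c0 e.symm,
    iff_of_true (by split_ifs <;> decide) (IsConj.refl _),
    iff_of_false (by split_ifs <;> decide) (n 1 (by decide)),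
    iff_of_false (by split_ifs <;> decide) (n 2 (by decide)),
    Iff.trans (by clear h1 h2; split_ifs <;> simp [*] <;> decide) h1,
    Iff.trans (by clear h1 h2; split_ifs <;> simp [*] <;> decide) h2]

theorem cj_or : D.Cj (t 0) β ∨ D.Cj (t 0) (β * z) := by
  by_contra hn
  push Not at hn
  have hP := h.hP False False (iff_of_false id hn.1) (iff_of_false id hn.2)
  obtain ⟨n, h1, e⟩ := D.fus (by decide) (by decide) h.c1
  obtain ⟨a, ha, ea⟩ := D.exA h1 (a := t 0) (by decide)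
  refine kap3 a ha ((D.ty_iff hP ha).2 (isConj_iff.2 ⟨n, ea⟩)) ((D.ty_iff hP
    (mul_mem ha (by decide))).2 ((D.cj_tz 0).trans (isConj_iff.2 ⟨n, ?_⟩)))
  rw [map_mul, map_mul, ← conj_mul, ea, e]

theorem hP' (hb : D.Cj (t 0) β) (i : Fin 7) : (36 : ℕ).testBit i.1 = true ↔ D.Cj (t 0) (rep i) :=
  h.hP True False (iff_of_true trivial hb) (iff_of_false id fun e => by
    obtain ⟨n, h1, en⟩ := D.fus (by decide) (by decide) h.c1
    obtain ⟨a, ha, b, hb, c, hc, k1, k2, -⟩ := D.kap (P := 100)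
      (h.hP True True (iff_of_true trivial hb) (iff_of_true trivial e)) h1 en
    obtain ⟨k3, k4, k5⟩ := k2 (by decide)
    exact kap4 a ha k3 b hb k4 c hc k5 k1) i

theorem bal : E8 ((E 1).map D.ψ) ∧ BalOn ((E 1).map D.ψ) ∧ D.U ≤ (E 1).map D.ψ := by
  have hE : El ((E 1).map D.ψ) := by rintro _ ⟨a, ha, rfl⟩; exact D.sq (E_sq 1 a ha)
  refine ⟨⟨hE, by rw [card_map_of_injective D.inj, card_E]⟩, fun a ha _ b hb b1 => th_inf_le (h.con ?_)
    (hE.le_centralizer hb ha) (El.zpowers (hE a ha)).isPGroup,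
    V2_le (mem_map_of_mem _ (by decide)) (mem_map_of_mem _ (by decide))⟩
  obtain ⟨b, hb, rfl⟩ := hb
  rcases E_cases b hb with rfl | rfl | ⟨r, e | e⟩
  exacts [absurd (map_one _) b1, IsConj.refl _, h.c1.trans (D.cjS e),
    h.c1.trans ((h.hσ 1).trans (D.cjS e))]

theorem eqW : WW D.U = WW ((E 1).map D.ψ) :=
  WW_eq_of_le h.bal.1 h.bal.2.1 h.bal.2.2
    (D.e4 (by decide) (by decide) (by decide) (by decide) (by decide)).2

theorem odd : Odd (Nat.card (WW D.U)) := h.eqW ▸ (complete h.bal.1 h.bal.2.1).1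

theorem H_le : D.H ≤ D.MW := fun k hk => by
  have hE : (E 1).map D.ψ ≤ D.ψ.range := map_le_range _ _
  have hO : D.H ≤ normalizer (th (D.ψ z) : Set G) := centralizer_le_normalizer_th _
  have h1 : D.H ≤ normalizer (((E 1).map D.ψ ⊔ th (D.ψ z) : Subgroup G) : Set G) := fun k hk =>
    mem_normalizer_of_cj_le (by
      rw [cj_sup, cj_eq_of_mem_normalizer (hO hk)]
      refine sup_le (cj_le_iff.2 ?_) le_sup_right
      rintro _ ⟨u, hu, rfl⟩
      obtain ⟨v, hv, e⟩ := h.nρ k hk 1 u hu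
      simpa using mul_mem_sup (mem_map_of_mem D.ψ hv) (inv_mem e))
  have h2 := D.sylH.inf_normal_of_le h1 (sup_le (hE.trans D.sylH.le) (th_le _))
  have h3 : D.ψ.range ⊓ ((E 1).map D.ψ ⊔ th (D.ψ z)) = (E 1).map D.ψ := by
    refine le_antisymm ?_ (le_inf hE le_sup_left)
    rintro _ ⟨⟨s, rfl⟩, hs⟩
    obtain ⟨_, ⟨u, hu, rfl⟩, o, ho, e⟩ := (coe_mul_of_left_le_normalizer_right _ _
      ((hE.trans D.sylH.le).trans hO)).le hs
    obtain rfl : o = D.ψ (u⁻¹ * s) := by rw [map_mul, map_inv, ← e]; simp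
    have := eq_one_of_mem_of_odd (odd_th _) ho (eq_one_of_mem_of_odd (odd_th _)
      (mul_mem ho ho) (by rw [← map_mul, ← map_mul, ← mul_assoc, four, map_one]))
    exact mem_map_of_mem _ (inv_mul_eq_one.1 (D.inj (this.trans (map_one _).symm)) ▸ hu)
  obtain ⟨y, hy, n, hn, rfl⟩ := (h3 ▸ h2).frattini (h1 hk)
  have h4 : normalizer ((E 1).map D.ψ : Set G) ≤ D.MW := by
    rw [MW, h.eqW]; exact normalizer_le_normalizer_WW _
  exact mul_mem (sup_le (le_normalizer.trans h4) ((th_le_WW (left_mem_V2 _ _)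
    (D.ne_one (by decide))).trans le_normalizer) hy) (h4 hn)

theorem ψ_mem (s : Sy) : D.ψ s ∈ D.MW := h.H_le (D.ψ_mem s)

theorem W_inf {a : Sy} (ha : a ∈ A) (hz : D.Cj z a) : WW D.U ⊓ centralizer {D.ψ a} ≤ th (D.ψ a) := by
  have hU : D.U ≤ centralizer {D.ψ a} := V2_le (mem_centralizer_singleton_iff.2 (D.comm_iff.2
    (z_comm a).symm)) (mem_centralizer_singleton_iff.2 (D.comm_iff.2 (A_comm _ (by decide) a ha)))
  have h4 := D.e4 (a := z) (b := t 1) (by decide) (by decide) (by decide) (by decide) (by decide)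
  refine h4.le_of_forall (h.odd.of_dvd_nat (card_dvd_of_le inf_le_left)) (Solv.le_normalizer_inf
    (le_normalizer.trans (normalizer_le_normalizer_WW _)) (hU.trans le_normalizer)) fun u hu u1 => ?_
  rw [inf_right_comm, h.eqW, (complete h.bal.1 h.bal.2.1).2 u (h.bal.2.2 hu) u1]
  exact th_inf_le (h.con hz) (hU hu) (El.zpowers (h4.1 u hu)).isPGroup

theorem N_le : D.N ≤ D.MW := fun n hn => by
  have h4 := (D.e4 (a := z) (b := t 1) (by decide) (by decide) (by decide) (by decide)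
    (by decide)).cj n⁻¹
  have key : ∀ u ∈ cj n⁻¹ D.U, ∃ a ∈ A, D.ψ a = u := fun u hu => by
    obtain ⟨s, hs, -, e⟩ := D.mem_V2 (by decide) (by decide) (mem_cj_inv.1 hu)
    obtain ⟨a, ha, ea⟩ := D.exA (inv_mem hn) hs
    exact ⟨a, ha, by rw [← ea, e]; group⟩
  refine mem_normalizer_of_cj_le (cj_le_iff_le_cj_inv.2 ?_)
  rw [cj_WW]
  refine h4.le_of_forall h.odd (fun u hu => ?_) fun u hu u1 => ?_
  · obtain ⟨a, -, rfl⟩ := key u hu
    exact h.ψ_mem a
  · obtain ⟨a, ha, rfl⟩ := key u hu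
    exact (h.W_inf ha ((h.cjU (mem_cj_inv.1 hu) (conj_ne_one' u1)).trans
      (isConj_iff.2 ⟨n, rfl⟩).symm)).trans (th_le_WW hu u1)

theorem cz {a : Sy} (ha : a ∈ A) (hz : D.Cj z a) : centralizer {D.ψ a} ≤ D.MW :=
  D.cent_le_of_cj h.N_le (by decide) ha hz h.H_le

theorem sylL (hb : D.Cj (t 0) β) : IsSylowIn 2 (A.map D.ψ) D.L := by
  refine isSylowIn_of_maximal (by
    rintro _ ⟨a, ha, rfl⟩
    exact ⟨mem_centralizer_singleton_iff.2 (D.comm_iff.2 (A_comm a ha _ (by decide))),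
      mem_centralizer_singleton_iff.2 (D.comm_iff.2 (A_comm a ha _ (by decide)))⟩) (D.isPGroup A)
    fun T hT h1 h2 => (eq_of_le_of_card_ge h1 ?_).ge
  obtain ⟨c, hc, k, hk, h3⟩ := D.toS (Y := {D.ψ β, D.ψ (t 0)}) (by
    rintro _ (rfl | rfl) <;> exact mem_map_of_mem _ (by decide)) hT fun g hg =>
      mem_centralizer_iff.2 (by
        rintro _ (rfl | rfl)
        exacts [(mem_centralizer_singleton_iff.1 (h2 hg).2).symm,
          (mem_centralizer_singleton_iff.1 (h2 hg).1).symm])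
  rw [← card_cj (k * c)]
  refine Trans.card_le_of_le (cj_le_iff.2 fun g hg => ?_)
  obtain ⟨w, hw⟩ := cj_le_iff.1 h3 g hg
  obtain ⟨a, ha, ea⟩ := D.exA hk (a := β) (by decide)
  obtain ⟨b, hb', eb⟩ := D.exA hk (a := t 0) (by decide)
  have key : ∀ {u v : Sy}, D.ψ u ∈ ({D.ψ β, D.ψ (t 0)} : Set G) → g * D.ψ u = D.ψ u * g →
      k * D.ψ u * k⁻¹ = D.ψ v → w * v = v * w := fun hu e1 e2 => D.comm_iff.1 (by
    rw [hw, ← e2, ← conj_eq_of_mem_centralizer hc hu,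
      show ∀ y, k * (c * y * c⁻¹) * k⁻¹ = k * c * y * (k * c)⁻¹ from fun y => by group,
      conj_mul, conj_mul, e1])
  refine hw ▸ mem_map_of_mem _ (by_contra fun hn => mem_A_of w hn a ha
    ((D.ty_iff (h.hP' hb) ha).2 (hb.trans (isConj_iff.2 ⟨k, ea⟩)))
    (key (by simp) (mem_centralizer_singleton_iff.1 (h2 hg).2) ea) b hb'
    ((D.ty_iff (h.hP' hb) hb').2 (isConj_iff.2 ⟨k, eb⟩))
    (key (by simp) (mem_centralizer_singleton_iff.1 (h2 hg).1) eb)
    ((D.ty_iff (h.hP' hb) (mul_mem ha hb')).2 (hb.trans ((D.cjS (r := x 0) (b := β * t 0)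
      (by decide)).trans (isConj_iff.2 ⟨k, by rw [map_mul, map_mul, ← conj_mul, ea, eb]⟩)))))

theorem iso (hb : D.Cj (t 0) β) (c : G) (hc : c ∈ centralizer {D.ψ (t 0)}) (d : Sy)
    (hd : d * t 0 = t 0 * d) (e : c * D.ψ β * c⁻¹ = D.ψ d) : d = β ∨ d = β * t 0 := by
  have e0 : c * D.ψ (t 0) * c⁻¹ = D.ψ (t 0) := by
    rw [mem_centralizer_singleton_iff.1 hc, mul_inv_cancel_right]
  have e1 : D.Cj (t 0) d := hb.trans (isConj_iff.2 ⟨c, e⟩)
  by_cases hA : d ∈ A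
  · exact iso2 d hA ((D.ty_iff (h.hP' hb) hA).2 e1) ((D.ty_iff (h.hP' hb)
      (mul_mem hA (by decide))).2 (hb.trans ((D.cjS (r := x 0) (b := β * t 0) (by decide)).trans
      (isConj_iff.2 ⟨c, by rw [map_mul, map_mul, ← conj_mul, e, e0]⟩))))
  have hz : D.ψ z * D.ψ z = 1 := D.sq z_sq
  obtain ⟨f, hf, h1⟩ := (h.sylL hb).exists_cj_le (Q := zpowers (c⁻¹ * D.ψ z * c⁻¹⁻¹))
    (El.zpowers (by rw [conj_mul, hz]; simp)).isPGroup (zpowers_le.2 <| mem_inf.2 ⟨
      mul_mem (mul_mem (inv_mem hc) (mem_centralizer_singleton_iff.2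
        (D.comm_iff.2 (by decide)))) (inv_mem (inv_mem hc)), mem_centralizer_singleton_iff.2 (by
      rw [show D.ψ β = c⁻¹ * D.ψ d * c⁻¹⁻¹ by rw [← e]; group, conj_mul, conj_mul,
        D.comm_iff.2 (z_comm d)])⟩)
  obtain ⟨a, ha, ea⟩ := cj_le_iff.1 h1 _ (mem_zpowers _)
  have k1 : f * c⁻¹ * D.ψ z * (f * c⁻¹)⁻¹ = D.ψ a := by rw [ea]; group
  have k2 : f * c⁻¹ * D.ψ d * (f * c⁻¹)⁻¹ = D.ψ β := by
    rw [← e, ← mul_inv_cancel_right (D.ψ β) f, ← mem_centralizer_singleton_iff.1 hf.2]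
    nth_rw 1 [mem_centralizer_singleton_iff.1 hf.2]
    group
  have k3 : f * c⁻¹ * D.ψ (t 0) * (f * c⁻¹)⁻¹ = D.ψ (t 0) := by
    rw [mem_centralizer_singleton_iff.1 (mul_mem hf.1 (inv_mem hc)), mul_inv_cancel_right]
  have k4 : ∀ u ∉ A, u * u = 1 → u * t 0 = t 0 * u → D.Cj (t 0) u := fun u hu u2 u3 => by
    obtain ⟨-, m, r, e1, e2⟩ := root u hu u2
    exact (h.hσ 0).trans (e2 0 u3 ▸ D.cjS e1).symm
  obtain ⟨p1, p2, p3, p4, p5, p6⟩ := (by decide +kernel : ∀ d ∉ A, d * d = 1 → d * t 0 = t 0 * d →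
    d * z ∉ A ∧ d * z * (d * z) = 1 ∧ d * z * t 0 = t 0 * (d * z) ∧ d * t 0 * z ∉ A ∧
    d * t 0 * z * (d * t 0 * z) = 1 ∧ d * t 0 * z * t 0 = t 0 * (d * t 0 * z)) d hA
    (e1.sq (by decide)) hd
  refine absurd (kap5 a ha ?_ ?_ ?_) (PD.Cj.ne_one (isConj_iff.2 ⟨_, k1⟩) (by decide)) <;>
    refine (D.ty_iff (h.hP' hb) (mul_mem (by decide) ha)).2 ?_
  · exact (k4 _ p1 p2 p3).trans (isConj_iff.2 ⟨f * c⁻¹, by rw [map_mul, map_mul, ← conj_mul, k1, k2]⟩)
  · exact (D.cj_tz 0).trans (isConj_iff.2 ⟨f * c⁻¹, by rw [map_mul, map_mul, ← conj_mul, k1, k3]⟩)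
  · exact (k4 _ p4 p5 p6).trans (isConj_iff.2 ⟨f * c⁻¹, by
      simp only [map_mul, ← conj_mul, k1, k2, k3]⟩)

theorem th_le_W : th (D.ψ (t 0)) ≤ WW D.U := by
  have h4 := D.e4 (a := z) (b := t 1) (by decide) (by decide) (by decide) (by decide) (by decide)
  have hU : D.U ≤ centralizer {D.ψ (t 0)} := V2_le (mem_centralizer_singleton_iff.2 (D.comm_iff.2
    (by decide))) (mem_centralizer_singleton_iff.2 (D.comm_iff.2 (by decide)))
  exact h4.le_of_forall (odd_th _) (hU.trans (centralizer_le_normalizer_th _)) fun u hu u1 =>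
    (th_inf_le (h.con (h.cjU hu u1)) (mem_centralizer_singleton_iff.2
      (mem_centralizer_singleton_iff.1 (hU hu)).symm)
      (El.zpowers (D.sq (by decide))).isPGroup).trans (th_le_WW hu u1)

theorem W_inf_L (hb : D.Cj (t 0) β) (hL : ¬ D.L ≤ D.MW) : WW D.U ⊓ D.L ≤ ppCoreOf 2 D.L := by
  have eV := fun g => D.mem_V2 (a := β) (b := t 0) (by decide) (by decide) (g := g)
  set V := (V2 (D.ψ β) (D.ψ (t 0))).subgroupOf D.L with hV
  have hZ : V ≤ center D.L := fun v hv => mem_center_iff.2 fun g => Subtype.ext (by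
    obtain ⟨s, -, hs, e⟩ := eV v.1 hv
    change g.1 * v.1 = v.1 * g.1
    rw [← e]
    rcases hs with rfl | hs
    exacts [by simp, mem_centralizer_singleton_iff.1 (D.L_le hs g.2)])
  have : V.Normal := ⟨fun n hn g => by
    rwa [mem_center_iff.1 (hZ hn) g, mul_inv_cancel_right]⟩
  have VA : V ≤ (A.map D.ψ).subgroupOf D.L := fun v hv => by
    obtain ⟨s, hs, -, e⟩ := eV _ hv
    exact ⟨s, hs, e⟩
  have back : ∀ K : Subgroup D.L, V ≤ K → ∀ g : D.L, (g : D.L ⧸ V) ∈ K.map (QuotientGroup.mk' V) →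
      g ∈ K := fun K hK g ⟨k, hk, e⟩ => by
    simpa using mul_mem hk (hK (QuotientGroup.eq.1 e))
  have AM : (A.map D.ψ).subgroupOf D.L ≤ D.MW.subgroupOf D.L :=
    comap_mono (le_normalizer.trans h.N_le)
  have h1 := (h.sylL hb).subgroupOf_top.map (QuotientGroup.mk' V)
  rw [map_top_of_surjective _ (QuotientGroup.mk'_surjective _)] at h1
  obtain ⟨P, hP⟩ := h1.exists_sylow_eq
  have se := Agent.S1221.result _ (isStronglyEmbedded_iff_se.2 (SE.of_centralizer_normalizer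
    (H := (D.MW.subgroupOf D.L).map (QuotientGroup.mk' V))
    (fun e => hL fun g hg => back _ (VA.trans AM) ⟨g, hg⟩ (e ▸ mem_top _)) P (fun g hg => by
      obtain ⟨g, rfl⟩ := QuotientGroup.mk_surjective g
      refine mem_map_of_mem _ (h.N_le (mem_normalizer_fintype fun a ha => ?_))
      exact back _ VA (g * ⟨a, (h.sylL hb).le ha⟩ * g⁻¹)
        (hP.le (cn hg (hP.ge ⟨⟨a, (h.sylL hb).le ha⟩, ha, rfl⟩))))
    fun v hv v2 g hg => by
      obtain ⟨g, rfl⟩ := QuotientGroup.mk_surjective g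
      obtain ⟨v, ⟨a, ha, ea⟩, rfl⟩ := hP ▸ hv
      refine mem_map_of_mem _ ?_
      obtain ⟨u, -, hu, eu⟩ := eV (v⁻¹ * (g * v * g⁻¹) : D.L).1 (QuotientGroup.eq (s := V).1 (show ((v : D.L) : D.L ⧸ V) =
        ((g * v * g⁻¹ : D.L) : D.L ⧸ V) from
        eq_mul_inv_of_mul_eq (mem_centralizer_singleton_iff.1 hg).symm))
      have e1 : g.1 * D.ψ a * g.1⁻¹ = D.ψ (a * u) := by
        rw [map_mul, eu, ea]; simp
      have e2 : ∀ w, InV w → g.1 * D.ψ (a * w) * g.1⁻¹ = D.ψ (a * w * u) := fun w hw => by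
        have : g.1 * D.ψ w * g.1⁻¹ = D.ψ w := by
          rcases hw with rfl | hw
          exacts [by simp, by rw [mem_centralizer_singleton_iff.1 (D.L_le hw g.2), mul_inv_cancel_right]]
        rw [map_mul, ← conj_mul, e1, this, ← map_mul, mul_assoc, mul_assoc,
          (by decide +kernel : ∀ u w, InV u → InV w → u * w = w * u) u w hu hw]
      have iA : ∀ w, InV w → w ∈ A := by decide +kernel
      rcases coset_V a ha with h2 | ⟨w, w1, w2, w3, w', w4, w5⟩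
      · refine absurd (QuotientGroup.eq_one_iff v |>.2 ?_) (SE.ne_one_of_orderOf_two v2)
        change v.1 ∈ V2 _ _
        rw [← show D.ψ a = v.1 from ea]
        rcases h2 with rfl | rfl | rfl | rfl
        exacts [by simp, left_mem_V2 _ _, right_mem_V2 _ _,
          map_mul D.ψ β _ ▸ mul_mem (left_mem_V2 _ _) (right_mem_V2 _ _)]
      have m1 := mul_mem ha (iA w w1)
      obtain rfl := w3 u hu ((D.ty_iff (h.hP' hb) (mul_mem m1 (iA u hu))).2
        (((D.ty_iff (h.hP' hb) m1).1 w2).trans (isConj_iff.2 ⟨_, e2 w w1⟩)))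
      refine h.cz (mul_mem ha (iA w' w4)) ?_ (mem_centralizer_singleton_iff.2
        (mul_inv_eq_iff_eq_mul.1 ((e2 w' w4).trans (by rw [mul_one]))))
      rcases w5 with e | e | e
      exacts [e.symm ▸ IsConj.refl _, e.symm ▸ h.c1, e.symm ▸ h.c1.trans (D.cj_tz 1)]))
  intro c hc
  have co : Odd (orderOf c) := h.odd.of_dvd_nat (orderOf_dvd_natCard _ hc.1)
  obtain ⟨o, ho, n, hn, e⟩ := exists_mul_mem_oddCore V
    ((D.isPGroup A).comap_subtype.to_le VA) hZ (g := ⟨c, hc.2⟩) (se (Solv.le_map_pPrimeCore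
      (N := ((WW D.U).subgroupOf D.L).map (QuotientGroup.mk' V))
      (map_mono (comap_mono le_normalizer)) (by
        rintro _ ⟨g, hg, rfl⟩
        refine mem_normalizer_fintype ?_
        rintro _ ⟨w, hw, rfl⟩
        exact ⟨g * w * g⁻¹, cn (A := WW D.U) hg hw, rfl⟩)
      (Nat.coprime_two_right.2 (h.odd.of_dvd_nat ((card_map_dvd _ _).trans
        (card_comap_dvd_of_injective _ _ (subtype_injective _))))) ⟨_, hc.1, rfl⟩))
  obtain ⟨s, hs, es⟩ := VA hn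
  have e1 : (⟨c, hc.2⟩ : D.L) ^ 2 ^ 1 = o * o := by
    rw [e, pow_one, pow_two, mul_assoc, ← mul_assoc n, ← mem_center_iff.1 (hZ hn) o, mul_assoc,
      show n * n = 1 from Subtype.ext
        ((show D.ψ s = n.1 from es) ▸ D.sq (A_sq s hs) : n.1 * n.1 = 1), mul_one]
  exact mem_ppCoreOf.2 (Local.mem_of_pow_mem_of_coprime (p := 2) (by
    rw [orderOf_mk]; exact Nat.coprime_two_right.2 co) (e1 ▸ mul_mem ho ho))

theorem cent_t (hb : D.Cj (t 0) β) : centralizer {D.ψ (t 0)} ≤ D.MW := by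
  have kt := D.le_sup_t h.c0 (h.iso hb)
  refine kt.trans (sup_le (h.th_le_W.trans le_normalizer) (sup_le ?_ (zpowers_le.2 (h.ψ_mem _))))
  by_contra hL
  have hO : centralizer {D.ψ (t 0)} ≤ normalizer (th (D.ψ (t 0)) : Set G) :=
    centralizer_le_normalizer_th _
  have h1 : ppCoreOf 2 D.L ≤ th (D.ψ (t 0)) := by
    have h2 : ppCoreOf 2 D.L ≤ centralizer {D.ψ (t 0)} := (ppCoreOf_le 2 _).trans inf_le_left
    refine le_sup_right.trans (le_th (K := th (D.ψ (t 0)) ⊔ ppCoreOf 2 D.L) ?_ (sup_le (th_le _) h2)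
      (kt.trans (sup_le (le_sup_left.trans le_normalizer) (Solv.le_normalizer_sup
        ((sup_le inf_le_left (zpowers_le.2 (mem_centralizer_singleton_iff.2
          (D.comm_iff.2 (by decide))))).trans hO) ((sup_le le_normalizer D.x_norm_L).trans
          (Solv.normalizer_le_normalizer_map_pPrimeCore 2 _))))))
    rw [← Nat.coprime_two_right, ← Solv.isPiNum_compl_setOf_dvd_iff]
    exact Solv.IsPiNum.card_sup (Solv.isPiNum_compl_setOf_dvd_iff.2 (Nat.coprime_two_right.2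
      (odd_th _))) (Solv.isPiNum_compl_setOf_dvd_iff.2 (Solv.coprime_card_map_pPrimeCore 2 _))
      (h2.trans hO)
  have h2 : WW D.U ⊓ centralizer {D.ψ (t 0)} ≤ th (D.ψ (t 0)) := fun c hc => by
    rcases D.zl_t h.c0 (h.iso hb) hc.2 with e | e
    · obtain ⟨o, ho, e'⟩ := D.dec hc.2 e
      simpa using mul_mem ho (h1 (h.W_inf_L hb hL
        (mem_inf.2 ⟨mul_mem (inv_mem (h.th_le_W ho)) hc.1, e'⟩)))
    · have h3 : c * D.ψ β * c⁻¹ * (D.ψ β)⁻¹ ∈ WW D.U := by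
        simpa [mul_assoc] using mul_mem hc.1 (cn (h.ψ_mem β) (inv_mem hc.1))
      exact absurd (eq_one_of_mem_of_odd h.odd ((mul_mem_cancel_left h3).1 (h.th_le_W e))
        (D.sq (by decide))) (D.ne_one (by decide))
  have h3 : ∀ v ∈ V2 (D.ψ β) (D.ψ (t 0)), v ≠ 1 → ∃ n ∈ D.MW, n * D.ψ (t 0) * n⁻¹ = v :=
    fun v hv v1 => by
      obtain ⟨s, hs, h4, rfl⟩ := D.mem_V2 (by decide) (by decide) hv
      refine (D.fus (by decide) hs ?_).imp fun n hn => ⟨h.N_le hn.1, hn.2⟩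
      rcases h4 with rfl | rfl | rfl | rfl
      exacts [absurd (map_one _) v1, hb, IsConj.refl _, hb.trans (D.cjS (r := x 0) (by decide))]
  have h4 : WW D.U = WW (V2 (D.ψ β) (D.ψ (t 0))) := le_antisymm
    ((D.e4 (by decide) (by decide) (by decide) (by decide) (by decide)).le_of_forall h.odd
      (V2_le (h.ψ_mem _) (h.ψ_mem _)) fun v hv v1 => le_trans (by
        obtain ⟨n, hn, rfl⟩ := h3 v hv v1
        rw [← cj_th, ← cj_centralizer_sing, ← cj_eq_of_mem_normalizer hn, ← cj_inf]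
        exact cj_mono n h2) (th_le_WW hv v1))
    (WW_le fun v hv v1 => by
      obtain ⟨n, hn, rfl⟩ := h3 v hv v1
      rw [← cj_th, ← cj_eq_of_mem_normalizer hn]
      exact cj_mono n h.th_le_W)
  refine hL (le_trans (fun g hg => centralizer_le_normalizer _ (mem_centralizer_iff.2 fun v hv => ?_))
    (h4 ▸ normalizer_le_normalizer_WW (V2 (D.ψ β) (D.ψ (t 0)))))
  obtain ⟨s, -, rfl | hs, rfl⟩ := D.mem_V2 (by decide) (by decide) hv
  exacts [by simp, (mem_centralizer_singleton_iff.1 (D.L_le hs hg)).symm]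

theorem cent_t' : centralizer {D.ψ (t 0)} ≤ D.MW := by
  rcases h.cj_or with e | e
  · exact h.cent_t e
  · exact PH.cent_t (D := D.comp flip flip_inj) ⟨h.hs, h.hG, h.c1, h.c0⟩ e

theorem main (h1 : pCore 2 G = ⊥) (h2 : oddCore G = ⊥) :
    Nonempty (G ≃* alternatingGroup (Fin 8)) ∨ Nonempty (G ≃* alternatingGroup (Fin 9)) := by
  have k1 : ∀ a ∈ A, a ≠ 1 → centralizer {D.ψ a} ≤ D.MW := fun a ha a1 => by
    by_cases hz : D.Cj z a
    · exact h.cz ha hz
    obtain ⟨m, e⟩ := (D.wI h.hG (Or.inr h.hσ) ha a1).resolve_left fun e => hz e.symm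
    refine D.cent_le_of_cj h.N_le (t_facts m).1 ha e.symm ?_
    have hm : ¬ D.Cj z (t m) := fun e' => hz (e'.trans e.symm)
    fin_cases m
    · exact h.cent_t'
    · exact absurd h.c1 hm
    · exact PH.cent_t' (D := D.comp (au (m := 1) (n := 2) (by decide)) (au_inj _))
        ⟨h.hs, h.hG, h.c1, hm⟩
  have k2 := D.eq_top h.N_le h.c0 fun s s1 s2 => by
    by_cases hA : s ∈ A
    · exact k1 s hA s2
    obtain ⟨-, m, r, e, -⟩ := root s hA s1
    obtain ⟨k, hk, b, hb, e⟩ := D.exists_H hA s1 (t_facts m).1 ((D.cjS e).trans (h.hσ m).symm)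
    have := cent_le (inv_mem (h.H_le hk)) (k1 b hb (PD.Cj.ne_one (isConj_iff.2 ⟨k, e⟩) s2))
    rwa [← e, show k⁻¹ * (k * D.ψ s * k⁻¹) * k⁻¹⁻¹ = D.ψ s by group] at this
  have k3 : th (D.ψ z) = ⊥ := le_bot_iff.1 (h2 ▸ (th_le_WW (left_mem_V2 _ _)
    (D.ne_one (by decide))).trans (Solv.le_pPrimeCore (normalizer_eq_top_iff.1 k2)
      (Nat.coprime_two_right.2 h.odd)))
  let K := D.toKD h.hc k3
  exact K.alt (K.dich_σ.resolve_left fun e => D.not_Nρ h.hG (fun u hu h2 a ha e' => by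
      obtain ⟨k, hk, b, hb, e'⟩ := D.exists_H hu h2 ha e'
      exact K.nσ e hk hu h2 hb e') h.nρ)
    (K.dich_ρ.resolve_right fun e => h.c0 (h.c1.trans (K.hρ e).1.symm)) h.c1 h1

end PH

theorem main (hs : Group.IsSolvable D.H) (hG : ∀ H : Subgroup G, H.index ≠ 2)
    (h1 : pCore 2 G = ⊥) (h2 : oddCore G = ⊥) :
    Nonempty (G ≃* alternatingGroup (Fin 8)) ∨ Nonempty (G ≃* alternatingGroup (Fin 9)) ∨
      Nonempty (G ≃* PSp 2 (ZMod 3)) := by
  by_cases h0 : ∀ m, ¬ D.Cj z (t m)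
  · obtain ⟨s, s1, e⟩ := D.exists_cj_z h1 h2
    have hA : s ∈ A := by_contra fun hn => (D.into_I (D.dσ
      (Solv.isPConstrained_of_isSolvable 2 D.H)) (by decide) e hn).elim h0
    have e' := e.trans (D.cj_rep hA)
    rcases (by decide +kernel : ∀ s ∈ A, s = 1 ∨ s = z ∨ (∃ m, rep (ty s) = t m) ∨ rep (ty s) = β ∨
      rep (ty s) = β * z) s hA with rfl | rfl | ⟨m, k⟩ | k | k
    exacts [absurd rfl (e.ne_one (by decide)), absurd rfl s1, absurd (k ▸ e') (h0 m),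
      Or.inr (Or.inr (D.caseN hs hG h1 h2 h0 (k ▸ e'))),
      Or.inr (Or.inr ((D.comp flip flip_inj).caseN hs hG h1 h2 (fun m => by
        fin_cases m; exacts [h0 0, h0 1, h0 2]) (k ▸ e' : D.Cj z (β * z))))]
  push Not at h0
  obtain ⟨m, hm⟩ := h0
  obtain ⟨n, hn⟩ := not_forall.1 D.not_all
  have hmn : m ≠ n := fun e => hn (e ▸ hm)
  obtain ⟨f1, -, f2, f3, -⟩ := auF_facts m n hmn
  have e : ∀ s, (D.comp (au hmn) (au_inj hmn)).ψ s = D.ψ (auF m n s) := fun _ => rfl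
  exact (PH.main (D := D.comp (au hmn) (au_inj hmn)) ⟨by rwa [PD.H, e, f1], hG,
    by rwa [PD.Cj, e, e, f1, f2], by rwa [PD.Cj, e, e, f1, f3]⟩ h1 h2).imp_right Or.inl

end SD

theorem exists_sd (S : Sylow 2 G) (hS : ∀ P : Sylow 2 (alternatingGroup (Fin 8)),
    Nonempty ((S : Subgroup G) ≃* (P : Subgroup (alternatingGroup (Fin 8))))) :
    ∃ D : SD G, D.ψ.range = S := by
  have h1 : Nat.card toA8.range = 64 := by
    rw [← Nat.card_congr (MonoidHom.ofInjective toA8_inj).toEquiv, card_eq]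
  have h2 : IsSylowIn 2 toA8.range ⊤ := ⟨le_top, IsPGroup.of_card (n := 6) h1, by
    have := toA8.range.card_mul_index
    rw [h1, Nat.card_eq_fintype_card, card_alternatingGroup, Fintype.card_fin] at this
    rw [relIndex_top_right, show toA8.range.index = 315 by
      have e : Nat.factorial 8 / 2 = 20160 := by decide
      omega]
    decide⟩
  obtain ⟨P, hP⟩ := h2.exists_sylow_eq
  obtain ⟨e⟩ := hS P
  let f := (MonoidHom.ofInjective toA8_inj).trans ((MulEquiv.subgroupCongr hP.symm).trans e.symm)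
  have h3 : ((S : Subgroup G).subtype.comp f.toMonoidHom).range = S := by
    rw [MonoidHom.range_comp, MonoidHom.range_eq_top.2 f.surjective, ← MonoidHom.range_eq_map,
      range_subtype]
  exact ⟨⟨⟨_, (subtype_injective _).comp f.injective⟩, h3.symm ▸ isSylowIn_top S⟩, h3⟩

end Cfsg.Lib.Recog.A8T
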