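import Cfsg.Agent.Recog.YamPresS
import Cfsg.Agent.SporChar.WFormAct
import Cfsg.Agent.SporChar.WFormKer

/-! A presentation of `Sp₆(2)` over the symmetric group of degree six. -/

set_option autoImplicit false
set_option maxRecDepth 100000

namespace Cfsg.Lib.Recog.P43

open Subgroup Equiv Cfsg.Lib.Yam Cfsg.Lib.Spor Cfsg.Lib.Spor.WF Cfsg.Lib.Spor.Bulk Cfsg.Lib.Spor.PK

noncomputable def tD0_C : SeqCert := ⟨nat_lit 1, nat_lit 9, nat_lit 8, nat_lit 0x7070606050504040303020201010000, (NT.leaf (nat_lit 0) (nat_lit 0x2800)), (NT.leaf (nat_lit 2) (nat_lit 0))⟩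
noncomputable def tD0_U : List (List ℕ) := []
noncomputable def tD0_HL : List ℕ := []
theorem tD0_head : tD0_C.head 8 ioS rS0 tD0_U tD0_HL 2 1 0 = true := by decide +kernel
theorem tD0_ok : tD0_C.StepsOK (2 + 0) 2 := SeqCert.StepsOK.refl _ _
noncomputable def tD0_r0 : List ℕ := [nat_lit 0xa, nat_lit 0xd]
theorem tD0_final : tD0_C.final 8 2 (nat_lit 0x3) 2 [2] (tD0_r0) = true := by decide +kernel
theorem tD0 {G : Type*} [Group G] {g : ℕ → G} {H : Subgroup G} (hg : Sat g 8 ioS rS0)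
    (hU : ∀ u ∈ tD0_U, wv g u ∈ H) (hL : ∀ l ∈ tD0_HL, g l ∈ H) :
    IdxLe H (Subgroup.closure {x | ∃ l ∈ ([2] : List ℕ), g l = x}) 2 :=
  SeqCert.idxLe_of_final hg hU hL tD0_head tD0_ok tD0_final

theorem tD0_le {G : Type*} [Group G] {g : ℕ → G} (hg : Sat g 8 ioS rS0) :
    Finite (closure {x | ∃ l ∈ ([2] : List ℕ), g l = x}) ∧
      Nat.card (closure {x | ∃ l ∈ ([2] : List ℕ), g l = x}) ≤ 2 :=
  ((tD0 (H := ⊥) hg (fun _ h => nomatch h) (fun _ h => nomatch h)).card_le card_bot_le).imp id fun h => h.trans (by norm_num)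

noncomputable def tD1_C : SeqCert := ⟨nat_lit 1, nat_lit 9, nat_lit 8, nat_lit 0x7070606050504040303020201010000, (NT.leaf (nat_lit 0) (nat_lit 0x2c0803800)), (NT.leaf (nat_lit 16384) (nat_lit 0x2030203))⟩
noncomputable def tD1_U : List (List ℕ) := []
noncomputable def tD1_HL : List ℕ := [2]
theorem tD1_head : tD1_C.head 8 ioS rS0 tD1_U tD1_HL 2 1 1 = true := by decide +kernel
noncomputable def tD1_s0 : List ℕ := [nat_lit 0x4040180c0001]
theorem tD1_ok0 : tD1_C.StepsOK 3 4 := (SeqCert.StepsOK.refl _ 3).step (L := tD1_s0) (by decide +kernel)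
theorem tD1_ok : tD1_C.StepsOK (2 + 1) 4 := tD1_ok0
noncomputable def tD1_r0 : List ℕ := [nat_lit 0x2810, nat_lit 0x301b]
theorem tD1_final : tD1_C.final 8 4 (nat_lit 0x3) 2 [2,3] (tD1_r0) = true := by decide +kernel
theorem tD1 {G : Type*} [Group G] {g : ℕ → G} {H : Subgroup G} (hg : Sat g 8 ioS rS0)
    (hU : ∀ u ∈ tD1_U, wv g u ∈ H) (hL : ∀ l ∈ tD1_HL, g l ∈ H) :
    IdxLe H (Subgroup.closure {x | ∃ l ∈ ([2,3] : List ℕ), g l = x}) 2 :=
  SeqCert.idxLe_of_final hg hU hL tD1_head tD1_ok tD1_final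

theorem tD1_le {G : Type*} [Group G] {g : ℕ → G} (hg : Sat g 8 ioS rS0) :
    Finite (closure {x | ∃ l ∈ ([2,3] : List ℕ), g l = x}) ∧
      Nat.card (closure {x | ∃ l ∈ ([2,3] : List ℕ), g l = x}) ≤ 4 :=
  ((tD1 hg (fun _ h => nomatch h) (fun _ h => letter_mem g h)).card_le (tD0_le hg)).imp id fun h => h.trans (by norm_num)

noncomputable def tD2_C : SeqCert := ⟨nat_lit 3, nat_lit 9, nat_lit 8, nat_lit 0x7070606050504040303020201010000, (NT.leaf (nat_lit 0) (nat_lit 0xed02b409c046c112030008004b00e203640910420000)), (NT.node (nat_lit 2) (NT.node (nat_lit 1) (NT.leaf (nat_lit 4) (nat_lit 0x40204020402)) (NT.leaf (nat_lit 20) (nat_lit 0x40304030403))) (NT.node (nat_lit 3) (NT.leaf (nat_lit 16384) (nat_lit 0x2030203)) (NT.node (nat_lit 4) (NT.leaf (nat_lit 16388) (nat_lit 0x20402040204)) (NT.leaf (nat_lit 16404) (nat_lit 0x30403040304)))))⟩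
noncomputable def tD2_U : List (List ℕ) := []
noncomputable def tD2_HL : List ℕ := [2,3]
theorem tD2_head : tD2_C.head 8 ioS rS0 tD2_U tD2_HL 6 3 2 = true := by decide +kernel
noncomputable def tD2_s0 : List ℕ := [nat_lit 0x1408080241605020282a120a02c0a03040100e0301018040e0181c0a01020081803028140005]
theorem tD2_ok0 : tD2_C.StepsOK 8 13 := (SeqCert.StepsOK.refl _ 8).step (L := tD2_s0) (by decide +kernel)
theorem tD2_ok : tD2_C.StepsOK (6 + 2) 13 := tD2_ok0
noncomputable def tD2_r0 : List ℕ := [nat_lit 0x88380300, nat_lit 0xc0198111, nat_lit 0x41022014a, nat_lit 0x4981c8563, nat_lit 0x2a825051c, nat_lit 0x2e06285ad]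
theorem tD2_final : tD2_C.final 8 13 (nat_lit 0x3f) 6 [2,3,4] (tD2_r0) = true := by decide +kernel
theorem tD2 {G : Type*} [Group G] {g : ℕ → G} {H : Subgroup G} (hg : Sat g 8 ioS rS0)
    (hU : ∀ u ∈ tD2_U, wv g u ∈ H) (hL : ∀ l ∈ tD2_HL, g l ∈ H) :
    IdxLe H (Subgroup.closure {x | ∃ l ∈ ([2,3,4] : List ℕ), g l = x}) 6 :=
  SeqCert.idxLe_of_final hg hU hL tD2_head tD2_ok tD2_final

theorem tD2_le {G : Type*} [Group G] {g : ℕ → G} (hg : Sat g 8 ioS rS0) :
    Finite (closure {x | ∃ l ∈ ([2,3,4] : List ℕ), g l = x}) ∧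
      Nat.card (closure {x | ∃ l ∈ ([2,3,4] : List ℕ), g l = x}) ≤ 24 :=
  ((tD2 hg (fun _ h => nomatch h) (fun _ h => letter_mem g h)).card_le (tD1_le hg)).imp id fun h => h.trans (by norm_num)

noncomputable def tD3_C : SeqCert := ⟨nat_lit 3, nat_lit 9, nat_lit 8, nat_lit 0x7070606050504040303020201010000, (NT.leaf (nat_lit 0) (nat_lit 0x13f03fc0bf03d80b605b40a50490164046c15b05480c90224100030008005f813503ac0e202681110520000)), (NT.node (nat_lit 5) (NT.node (nat_lit 2) (NT.node (nat_lit 1) (NT.leaf (nat_lit 16392) (nat_lit 0x2050205)) (NT.leaf (nat_lit 16408) (nat_lit 0x3050305))) (NT.node (nat_lit 3) (NT.leaf (nat_lit 36) (nat_lit 0x50405040504)) (NT.node (nat_lit 4) (NT.leaf (nat_lit 8) (nat_lit 0x5020502)) (NT.leaf (nat_lit 4) (nat_lit 0x40204020402))))) (NT.node (nat_lit 8) (NT.node (nat_lit 6) (NT.leaf (nat_lit 24) (nat_lit 0x5030503)) (NT.node (nat_lit 7) (NT.leaf (nat_lit 20) (nat_lit 0x40304030403)) (NT.leaf (nat_lit 16384)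 (nat_lit 0x2030203)))) (NT.node (nat_lit 9) (NT.leaf (nat_lit 16388) (nat_lit 0x20402040204)) (NT.node (nat_lit 10) (NT.leaf (nat_lit 16404) (nat_lit 0x30403040304)) (NT.leaf (nat_lit 16420) (nat_lit 0x40504050405))))))⟩
noncomputable def tD3_U : List (List ℕ) := []
noncomputable def tD3_HL : List ℕ := [2,3,4]
theorem tD3_head : tD3_C.head 8 ioS rS0 tD3_U tD3_HL 8 3 3 = true := by decide +kernel
noncomputable def tD3_s0 : List ℕ := [nat_lit 0x3818260683c0a0a070a81e0300838500f01800180a0f02c1a05048304a22120340a08050701603028280c090181c10040c0141205030203409018140c040b0140e050201834070180c08020a00c0a050100824030180404100180c000e]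
theorem tD3_ok0 : tD3_C.StepsOK 11 25 := (SeqCert.StepsOK.refl _ 11).step (L := tD3_s0) (by decide +kernel)
theorem tD3_ok : tD3_C.StepsOK (8 + 3) 25 := tD3_ok0
noncomputable def tD3_r0 : List ℕ := [nat_lit 0x88500480400, nat_lit 0xc0110608589, nat_lit 0x69014822019a, nat_lit 0x7187982a81d3, nat_lit 0x8208a025096c, nat_lit 0x9a83302d8925, nat_lit 0x3b8368ab0a36, nat_lit 0x3f0c38bb8b3f]
theorem tD3_final : tD3_C.final 8 25 (nat_lit 0xff) 8 [2,3,4,5] (tD3_r0) = true := by decide +kernel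
theorem tD3 {G : Type*} [Group G] {g : ℕ → G} {H : Subgroup G} (hg : Sat g 8 ioS rS0)
    (hU : ∀ u ∈ tD3_U, wv g u ∈ H) (hL : ∀ l ∈ tD3_HL, g l ∈ H) :
    IdxLe H (Subgroup.closure {x | ∃ l ∈ ([2,3,4,5] : List ℕ), g l = x}) 8 :=
  SeqCert.idxLe_of_final hg hU hL tD3_head tD3_ok tD3_final

theorem tD3_le {G : Type*} [Group G] {g : ℕ → G} (hg : Sat g 8 ioS rS0) :
    Finite (closure {x | ∃ l ∈ ([2,3,4,5] : List ℕ), g l = x}) ∧
      Nat.card (closure {x | ∃ l ∈ ([2,3,4,5] : List ℕ), g l = x}) ≤ 192 :=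
  ((tD3 hg (fun _ h => nomatch h) (fun _ h => letter_mem g h)).card_le (tD2_le hg)).imp id fun h => h.trans (by norm_num)

noncomputable def tD4_C : SeqCert := ⟨nat_lit 4, nat_lit 9, nat_lit 8, nat_lit 0x7070606050504040303020201010000, (NT.leaf (nat_lit 0) (nat_lit 0x5990499039902990488038802880377027706770666056602560455065505550444064405440533063306220322022204110311021105000400030002000698058704760364035302430432052106100000)), (NT.node (nat_lit 9) (NT.node (nat_lit 4) (NT.node (nat_lit 2) (NT.node (nat_lit 1) (NT.leaf (nat_lit 16396) (nat_lit 0x2060206)) (NT.leaf (nat_lit 16412) (nat_lit 0x3060306))) (NT.node (nat_lit 3) (NT.leaf (nat_lit 16424) (nat_lit 0x4060406)) (NT.leaf (nat_lit 16392) (nat_lit 0x2050205)))) (NT.node (nat_lit 6) (NT.node (nat_lit 5) (NT.leaf (nat_lit 16408) (nat_lit 0x3050305)) (NT.leaf (nat_lit 48) (nat_lit 0x60506050605))) (NT.node (nat_lit 7) (NT.leaf (nat_lit 40) (nat_lit 0x6040604)) (NT.node (nat_lit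 8) (NT.leaf (nat_lit 36) (nat_lit 0x50405040504)) (NT.leaf (nat_lit 8) (nat_lit 0x5020502)))))) (NT.node (nat_lit 14) (NT.node (nat_lit 11) (NT.node (nat_lit 10) (NT.leaf (nat_lit 12) (nat_lit 0x6020602)) (NT.leaf (nat_lit 4) (nat_lit 0x40204020402))) (NT.node (nat_lit 12) (NT.leaf (nat_lit 24) (nat_lit 0x5030503)) (NT.node (nat_lit 13) (NT.leaf (nat_lit 28) (nat_lit 0x6030603)) (NT.leaf (nat_lit 20) (nat_lit 0x40304030403))))) (NT.node (nat_lit 16) (NT.node (nat_lit 15) (NT.leaf (nat_lit 16384) (nat_lit 0x2030203)) (NT.leaf (nat_lit 16388) (nat_lit 0x20402040204))) (NT.node (nat_lit 17) (NT.leaf (nat_lit 16404) (nat_lit 0x30403040304)) (NT.node (nat_lit 18) (NT.leaf (nat_lit 16420) (nat_lit 0x40504050405)) (NT.leaf (nat_lit 16432) (nat_lit 0x50605060506)))))))⟩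
noncomputable def tD4_U : List (List ℕ) := []
noncomputable def tD4_HL : List ℕ := [2,3,4,5]
theorem tD4_head : tD4_C.head 8 ioS rS0 tD4_U tD4_HL 10 4 4 = true := by decide +kernel
noncomputable def tD4_s0 : List ℕ := [nat_lit 0x90407c110981424122404c060209118260300848881301800200e1d03c22050884084110181020400880c060e060c01a0f028401c391b0e01e0507838780f01818182e0680c180c16034060b060201603070280c240382c0a0d050a0160306028540b0182c10061101c120505020500901824102a0480c1006020800a070281c0c260380c0c0401068060502814081e0280c08040e0140603010600603010082c030180404140180c001b]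
theorem tD4_ok0 : tD4_C.StepsOK 14 41 := (SeqCert.StepsOK.refl _ 14).step (L := tD4_s0) (by decide +kernel)
theorem tD4_ok : tD4_C.StepsOK (10 + 4) 41 := tD4_ok0
noncomputable def tD4_r0 : List ℕ := [nat_lit 0x210d006002c01400, nat_lit 0x3002108043c21c11, nat_lit 0x262028818c4842222, nat_lit 0x28315181c814a0843, nat_lit 0x2e41620c1018c0934, nat_lit 0x3451928d941663965, nat_lit 0x3c61d3039c1a83856, nat_lit 0x3e708403d884e4077, nat_lit 0x12908b92208d04488, nat_lit 0x13828493a49924a99]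
theorem tD4_final : tD4_C.final 8 41 (nat_lit 0x3ff) 10 [2,3,4,5,6] (tD4_r0) = true := by decide +kernel
theorem tD4 {G : Type*} [Group G] {g : ℕ → G} {H : Subgroup G} (hg : Sat g 8 ioS rS0)
    (hU : ∀ u ∈ tD4_U, wv g u ∈ H) (hL : ∀ l ∈ tD4_HL, g l ∈ H) :
    IdxLe H (Subgroup.closure {x | ∃ l ∈ ([2,3,4,5,6] : List ℕ), g l = x}) 10 :=
  SeqCert.idxLe_of_final hg hU hL tD4_head tD4_ok tD4_final

theorem tD4_le {G : Type*} [Group G] {g : ℕ → G} (hg : Sat g 8 ioS rS0) :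
    Finite (closure {x | ∃ l ∈ ([2,3,4,5,6] : List ℕ), g l = x}) ∧
      Nat.card (closure {x | ∃ l ∈ ([2,3,4,5,6] : List ℕ), g l = x}) ≤ 1920 :=
  ((tD4 hg (fun _ h => nomatch h) (fun _ h => letter_mem g h)).card_le (tD3_le hg)).imp id fun h => h.trans (by norm_num)

noncomputable def tD5_C : SeqCert := ⟨nat_lit 4, nat_lit 9, nat_lit 8, nat_lit 0x7070606050504040303020201010000, (NT.leaf (nat_lit 0) (nat_lit 0x6bb05bb04bb03bb02bb05aa04aa03aa02aa049907990399029903880288078806880777067705770267046607660666056604550755065505550544074406440633073303330233072204220322022205110411031102110600050004000300020007ba06a90598048703750364025404430532062107100000)), (NT.node (nat_lit 14) (NT.node (nat_lit 7) (NT.node (nat_lit 3) (NT.node (nat_lit 1) (NT.leaf (nat_lit 16400) (nat_lit 0x2070207)) (NT.node (nat_lit 2) (NT.leaf (nat_lit 16416) (nat_lit 0x3070307)) (NT.leaf (nat_lit 16428) (nat_lit 0x4070407)))) (NT.node (nat_lit 5) (NT.node (nat_lit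 4) (NT.leaf (nat_lit 16436) (nat_lit 0x5070507)) (NT.leaf (nat_lit 16396) (nat_lit 0x2060206))) (NT.node (nat_lit 6) (NT.leaf (nat_lit 16412) (nat_lit 0x3060306)) (NT.leaf (nat_lit 16424) (nat_lit 0x4060406))))) (NT.node (nat_lit 10) (NT.node (nat_lit 8) (NT.leaf (nat_lit 56) (nat_lit 0x70607060706)) (NT.node (nat_lit 9) (NT.leaf (nat_lit 16392) (nat_lit 0x2050205)) (NT.leaf (nat_lit 16408) (nat_lit 0x3050305)))) (NT.node (nat_lit 12) (NT.node (nat_lit 11) (NT.leaf (nat_lit 52) (nat_lit 0x7050705)) (NT.leaf (nat_lit 48) (nat_lit 0x60506050605))) (NT.node (nat_lit 13) (NT.leaf (nat_lit 40) (nat_lit 0x6040604)) (NT.leaf (nat_lit 44) (nat_lit 0x7040704)))))) (NT.node (nat_lit 21) (NT.node (nat_lit 17) (NT.node (nat_lit 15) (NT.leaf (nat_lit 36) (nat_lit 0x50405040504)) (NT.node (nat_lit 16) (NT.leaf (nat_lit 8) (nat_lit 0x5020502)) (NT.leaf (nat_lit 12) (nat_lit 0x6020602)))) (NT.node (nat_lit 19) (NT.node (nat_lit 18) (NT.leaf (nat_lit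 16) (nat_lit 0x7020702)) (NT.leaf (nat_lit 4) (nat_lit 0x40204020402))) (NT.node (nat_lit 20) (NT.leaf (nat_lit 24) (nat_lit 0x5030503)) (NT.leaf (nat_lit 28) (nat_lit 0x6030603))))) (NT.node (nat_lit 25) (NT.node (nat_lit 23) (NT.node (nat_lit 22) (NT.leaf (nat_lit 32) (nat_lit 0x7030703)) (NT.leaf (nat_lit 20) (nat_lit 0x40304030403))) (NT.node (nat_lit 24) (NT.leaf (nat_lit 16384) (nat_lit 0x2030203)) (NT.leaf (nat_lit 16388) (nat_lit 0x20402040204)))) (NT.node (nat_lit 27) (NT.node (nat_lit 26) (NT.leaf (nat_lit 16404) (nat_lit 0x30403040304)) (NT.leaf (nat_lit 16420) (nat_lit 0x40504050405))) (NT.node (nat_lit 28) (NT.leaf (nat_lit 16432) (nat_lit 0x50605060506)) (NT.leaf (nat_lit 16440) (nat_lit 0x60706070607)))))))⟩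
noncomputable def tD5_U : List (List ℕ) := []
noncomputable def tD5_HL : List ℕ := [2,3,4,5,6]
theorem tD5_head : tD5_C.head 8 ioS rS0 tD5_U tD5_HL 12 4 5 = true := by decide +kernel
noncomputable def tD5_s0 : List ℕ := [nat_lit 0x160a1902a17028702c6e0b80c06163605c06020b1a82e0300858d0170180028122c04c2a050d850cc150181828620a80c0a1430054060409040a4110981434122d04c060a09178260304848b81301820200e2303c22050c840a24e280440a1808158220306840a811018301c440780c2a0e2103c0614071001e0309838140d0185c18081a0241a050b030780d01854183a0680c280c1f034061305020640905814240a1e02c0611050e81603080287c0b0183c10061701c1205070206c090183410380480c1806020a00a070282c0c300380c14061601c0609030a80e03040100420018140a07020980a030301048050181408220280c08020f00c06030107006030100834030180404180180c002c]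
theorem tD5_ok0 : tD5_C.StepsOK 17 61 := (SeqCert.StepsOK.refl _ 17).step (L := tD5_s0) (by decide +kernel)
theorem tD5_ok : tD5_C.StepsOK (12 + 5) 61 := tD5_ok0
noncomputable def tD5_r0 : List ℕ := [nat_lit 0x422000f007003401800, nat_lit 0x6004214089844822211, nat_lit 0x6040510318b885842a22, nat_lit 0x6c638303902106863233, nat_lit 0x7883a41f2024c18c0a54, nat_lit 0x88a42520291941ce0b45, nat_lit 0x98c4a624313981a85176, nat_lit 0xace54729384201ea5067, nat_lit 0xb50588094845cbd05c88, nat_lit 0xc9214a09c19a4c526099, nat_lit 0x2d61593751b28d5468aa, nat_lit 0x2f478b3b59d2ce5670bb]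
theorem tD5_final : tD5_C.final 8 61 (nat_lit 0xfff) 12 [2,3,4,5,6,7] (tD5_r0) = true := by decide +kernel
theorem tD5 {G : Type*} [Group G] {g : ℕ → G} {H : Subgroup G} (hg : Sat g 8 ioS rS0)
    (hU : ∀ u ∈ tD5_U, wv g u ∈ H) (hL : ∀ l ∈ tD5_HL, g l ∈ H) :
    IdxLe H (Subgroup.closure {x | ∃ l ∈ ([2,3,4,5,6,7] : List ℕ), g l = x}) 12 :=
  SeqCert.idxLe_of_final hg hU hL tD5_head tD5_ok tD5_final

theorem tD5_le {G : Type*} [Group G] {g : ℕ → G} (hg : Sat g 8 ioS rS0) :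
    Finite (closure {x | ∃ l ∈ ([2,3,4,5,6,7] : List ℕ), g l = x}) ∧
      Nat.card (closure {x | ∃ l ∈ ([2,3,4,5,6,7] : List ℕ), g l = x}) ≤ 23040 :=
  ((tD5 hg (fun _ h => nomatch h) (fun _ h => letter_mem g h)).card_le (tD4_le hg)).imp id fun h => h.trans (by norm_num)

/-- permutation model -/
@[reducible] def MD6 : PM where
  w := 8
  n := 12
  cs := [27331736124874703896937760768,
    27331736124874703896937760768,
    12418427214108691380478937088,
    9952218542094839102345054208,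
    27331584418851477031396313088,
    27331660273020497907495733248,
    27331736121402428584235120688,
    27331736124874703896668280848]
  SW := [([[2],[3],[4],[5],[6],[7]],
    [⟨4, [640, 705, 514, 321, 387, 578, 4, 451, 133, 68, 197], [[3, 4, 1, 2, 1], [5, 3, 0, 2, 0], [0, 2, 0, 3, 5]]⟩,
     ⟨6, [704, 641, 514, 577, 450, 0, 64, 129, 193], [[0, 1, 0, 1, 0, 1, 0, 0, 2], [0, 0, 1]]⟩,
     ⟨0, [512, 577, 192, 641, 128, 705, 65], [[0, 0, 1, 1, 1, 0], [1, 0, 0, 1, 1]]⟩,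
     ⟨8, [192, 704, 577, 641, 128], [[1, 0, 0], [0, 1, 0, 1]]⟩,
     ⟨2, [704, 193, 641], []⟩])]

instance : NeZero MD6.n := ⟨by decide⟩

theorem MD6_ok : MD6.ok = true := by decide +kernel

theorem MD6_subs : MD6.subsOK = true := by decide +kernel

theorem d6_eq {G : Type*} [Group G] {g : ℕ → G} (hg : Sat g 8 ioS rS0)
    (h1 : ∀ l, l ∈ [2, 3, 4, 5, 6, 7] ∨ g l = 1) :
    wv g [7,6,5,4,3,2,7,6,5,4,3,2,7,6,5,4,3,2,7,6,5,4,3,2,7,6,5,4,3,2] = wv g ([4,2,5,4,7,6,5,4] ++ [3] ++ [4,5,4,2,6,5,4,7] ++ [4,5,4,2,6,5,4,7] ++ [3] ++ [4,2,5,4,7,6,5,4] ++ [3] ++ [2,5,6,5,7,6,5]) :=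
  PM.holds_pos MD6_ok MD6_subs (PM.exists_hom' MD6_ok MD6_subs (Ls := [2, 3, 4, 5, 6, 7]) (N := 23040)
    (by decide +kernel) hg h1 tD5_le (by decide +kernel)) (p := .eq _ _) (by decide +kernel)

/-- the fixed-point-free involution -/
def t6 : Perm (Fin 6) := swap 0 3 * swap 1 4 * swap 2 5

/-- the fixed-point-free element of order three -/
def b6 : Perm (Fin 6) := swap 0 1 * swap 1 2 * (swap 3 4 * swap 4 5)

theorem presB {G : Type*} [Group G] (κ : Perm (Fin 6) →* G) {s w : G} (s2 : s * s = 1)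
    (w2 : w * w = 1) (w1 : w ≠ 1) (cw : ∀ π, κ π * w = w * κ π) (ws : (w * s) ^ 3 = 1)
    (c1 : s * κ (swap 2 5) = κ (swap 2 5) * s) (c2 : s * κ (swap 3 4) = κ (swap 3 4) * s)
    (c3 : s * κ (swap 0 3) = κ (swap 0 3) * s) (c4 : s * κ (swap 0 1) = κ (swap 0 1) * s)
    (c5 : (s * κ (swap 4 5)) ^ 3 = 1)
    (c6 : (w * (κ t6 * s * (κ b6 * s * (κ b6)⁻¹) * ((κ b6)⁻¹ * s * κ b6))) ^ 3 = 1) :
    ∃ M : Subgroup G, (∀ π, κ π ∈ M) ∧ s ∈ M ∧ w ∈ M ∧ Nonempty (M ≃* Fis.S6) := by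
  let p : ℕ → Perm (Fin 6) := lf [1, 1, swap 2 5, 1, swap 2 4, swap 3 4, swap 0 3, swap 0 1]
  have hk : ∀ (x : G) (L : List ℕ), (∀ l ∈ L, l ≠ 1 ∧ l ≠ 3) →
      wv (lf [1, x, κ (swap 2 5), s, κ (swap 2 4), κ (swap 3 4), κ (swap 0 3), κ (swap 0 1)]) L =
        κ (wv p L) := fun x L h => by
    rw [← wv_map]
    refine wv_congr fun l hl => ?_
    obtain ⟨a, b⟩ := h l hl
    rcases l with _ | _ | _ | _ | _ | _ | _ | _ | l <;> simp [lf, p] at a b ⊢
  have k2 : ∀ a b, κ (swap a b) * κ (swap a b) = 1 := fun a b => by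
    rw [← map_mul, swap_mul_self, map_one]
  have cm : ∀ x y : G, x * x = 1 → y * y = 1 → x * y = y * x → x * y * x * y = 1 := fun x y a b c => by
    rw [mul_assoc x, ← c, ← mul_assoc, a, one_mul, b]
  have c7 : s * κ (swap 2 4) * s * κ (swap 2 4) * s * κ (swap 2 4) = 1 := by
    have e : κ (swap 2 4) = κ (swap 2 5) * κ (swap 4 5) * (κ (swap 2 5))⁻¹ := by
      rw [← map_inv, ← map_mul, ← map_mul]; exact congrArg κ (by decide)
    have e2 : s = κ (swap 2 5) * s * (κ (swap 2 5))⁻¹ := by rw [← c1, mul_inv_cancel_right]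
    have e3 : s * κ (swap 2 4) = κ (swap 2 5) * (s * κ (swap 4 5)) * (κ (swap 2 5))⁻¹ := by
      rw [← conj_mul, ← e, ← e2]
    have : (s * κ (swap 2 4)) ^ 3 = 1 := by rw [e3, conj_pow, c5, mul_one, mul_inv_cancel]
    simpa only [pow_three', mul_assoc] using this
  have hs : ∀ x : G, x * x = 1 → Sat
      (lf [1, x, κ (swap 2 5), s, κ (swap 2 4), κ (swap 3 4), κ (swap 0 3), κ (swap 0 1)]) 8 ioS rS0 :=
    fun x hx => ⟨rfl, fun l hl => by
      rw [eq_comm, inv_eq_iff_mul_eq_one]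
      interval_cases l
      exacts [one_mul 1, hx, k2 _ _, s2, k2 _ _, k2 _ _, k2 _ _, k2 _ _], fun r hr => by
      by_cases h : ∀ l ∈ r, l ≠ 1 ∧ l ≠ 3
      · rw [hk x r h, (by decide +kernel : ∀ r ∈ rS0, (∀ l ∈ r, l ≠ 1 ∧ l ≠ 3) → wv p r = 1) r hr h,
          map_one]
      · have : ∀ r ∈ rS0, ¬ (∀ l ∈ r, l ≠ 1 ∧ l ≠ 3) → r = [3, 2, 3, 2] ∨ r = [4, 3, 4, 3, 4, 3] ∨
          r = [5, 3, 5, 3] ∨ r = [6, 3, 6, 3] ∨ r = [7, 3, 7, 3] := by decide
        rcases this r hr h with rfl | rfl | rfl | rfl | rfl <;>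
          simp only [wv_cons, wv_nil, one_mul, lf, List.getD_cons_succ, List.getD_cons_zero]
        exacts [cm _ _ (k2 _ _) s2 c1.symm, c7, cm _ _ s2 (k2 _ _) c2, cm _ _ s2 (k2 _ _) c3,
          cm _ _ s2 (k2 _ _) c4]⟩
  have e := d6_eq (hs 1 (one_mul 1)) fun l => by
    rcases l with _ | _ | _ | _ | _ | _ | _ | _ | l <;> simp [lf]
  simp only [wv_append] at e
  rw [hk 1 [4,2,5,4,7,6,5,4] (by decide), hk 1 [4,5,4,2,6,5,4,7] (by decide), hk 1 [2,5,6,5,7,6,5] (by decide),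
    show wv p [4,2,5,4,7,6,5,4] = b6 by decide +kernel, show wv p [4,5,4,2,6,5,4,7] = b6⁻¹ by decide +kernel,
    show wv p [2,5,6,5,7,6,5] = t6 by decide +kernel, map_inv] at e
  replace e := (wv_congr (g := lf [1, w, κ (swap 2 5), s, κ (swap 2 4), κ (swap 3 4), κ (swap 0 3),
    κ (swap 0 1)]) fun l hl => by
      simp only [List.mem_cons, List.not_mem_nil, or_false] at hl
      rcases l with _ | _ | _ | _ | _ | _ | _ | _ | l <;> first | rfl | omega).trans e
  obtain ⟨f⟩ := presS (g := lf [1, w, κ (swap 2 5), s, κ (swap 2 4), κ (swap 3 4), κ (swap 0 3),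
    κ (swap 0 1)]) ⟨rfl, (hs w w2).inv, fun r hr => by
      rcases List.mem_append.1 hr with h | h
      · exact (hs w w2).rel r h
      · simp only [rS1, List.mem_cons, List.not_mem_nil, or_false] at h
        rcases h with rfl | rfl | rfl | rfl | rfl | rfl | rfl
        rotate_right
        · refine (congrArg _ (show _ = [7,6,5,4,3,2,7,6,5,4,3,2,7,6,5,4,3,2,7,6,5,4,3,2,7,6,5,4,3,2] ++ [1] ++ ([7,6,5,4,3,2,7,6,5,4,3,2,7,6,5,4,3,2,7,6,5,4,3,2,7,6,5,4,3,2] ++ [1]) ++ ([7,6,5,4,3,2,7,6,5,4,3,2,7,6,5,4,3,2,7,6,5,4,3,2,7,6,5,4,3,2] ++ [1]) from rfl)).trans ?_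
          simp only [wv_append, e]
          simpa only [pow_three', mul_assoc, wv_cons, wv_nil, one_mul, lf, List.getD_cons_succ,
            List.getD_cons_zero] using c6
        all_goals simp only [wv_cons, wv_nil, one_mul, lf, List.getD_cons_succ, List.getD_cons_zero]
        rotate_left
        · simpa only [pow_three', mul_assoc] using ws
        all_goals exact cm _ _ w2 (k2 _ _) (cw _).symm⟩ w1
  generalize hg : lf [1, w, κ (swap 2 5), s, κ (swap 2 4), κ (swap 3 4), κ (swap 0 3),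
    κ (swap 0 1)] = g at f
  have hm : ∀ l ∈ [1, 2, 3, 4, 5, 6, 7], g l ∈ sub g [[1], [2], [3], [4], [5], [6], [7]] :=
    fun l hl => by simpa using wv_mem_sub g (List.mem_map_of_mem (f := fun l => [l]) hl)
  generalize sub g _ = M at hm f
  subst hg
  refine ⟨M, fun π => ?_, hm 3 (by decide), hm 1 (by decide), ⟨f⟩⟩
  have a : ∀ x y z : Fin 6, x ≠ y → x ≠ z → κ (swap y z) ∈ M → κ (swap x y) ∈ M → κ (swap x z) ∈ M :=
    fun x y z a b c d => by
      rw [swap_comm, ← swap_mul_swap_mul_swap a b, map_mul, map_mul]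
      exact mul_mem (mul_mem c d) c
  have s01 : κ (swap 0 1) ∈ M := hm 7 (by decide)
  have s03 : κ (swap 0 3) ∈ M := hm 6 (by decide)
  have s04 := a 0 3 4 (by decide) (by decide) (hm 5 (by decide)) s03
  have s02 := a 0 4 2 (by decide) (by decide) (swap_comm (2 : Fin 6) 4 ▸ hm 4 (by decide)) s04
  have s05 := a 0 2 5 (by decide) (by decide) (hm 2 (by decide)) s02
  have s0 : ∀ x, κ (swap 0 x) ∈ M := fun x => by
    fin_cases x
    · exact (show κ (swap 0 0) = 1 by rw [swap_self]; exact map_one κ) ▸ M.one_mem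
    exacts [s01, s02, s03, s04, s05]
  induction π using Perm.swap_induction_on with
  | one => rw [map_one]; exact M.one_mem
  | swap_mul f x y hxy ih =>
    rw [map_mul]
    refine mul_mem ?_ ih
    by_cases hx : x = 0
    · exact hx ▸ s0 y
    · exact a x 0 y hx hxy (s0 y) (swap_comm 0 x ▸ s0 x)

end Cfsg.Lib.Recog.P43
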