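import Cfsg.Agent.SporChar.WFormTop
import Cfsg.Agent.Spor.FisOrth
import Cfsg.Agent.S0270

/-! A presentation of `Sp₆(2)` as a quotient of the Weyl group `W(E₇)`. -/

set_option autoImplicit false
set_option maxRecDepth 100000

namespace Cfsg.Lib.Yam

open Subgroup Cfsg.Lib.Spor Cfsg.Lib.Spor.WF Cfsg.Lib.Spor.Bulk Cfsg.Lib.Spor.PK

/-- inverses of letters -/
def ioS (l : ℕ) : ℕ := l

/-- relators in `W(D₆)` -/
def rS0 : List (List ℕ) := [[3, 2, 3, 2], [4, 2, 4, 2, 4, 2], [5, 2, 5, 2], [6, 2, 6, 2], [7, 2, 7, 2], [4, 3, 4, 3, 4, 3],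
    [5, 3, 5, 3], [6, 3, 6, 3], [7, 3, 7, 3], [5, 4, 5, 4, 5, 4], [6, 4, 6, 4], [7, 4, 7, 4], [6, 5,
    6, 5, 6, 5], [7, 5, 7, 5], [7, 6, 7, 6, 7, 6]]

/-- relators with the new letter -/
def rS1 : List (List ℕ) := [[2, 1, 2, 1], [3, 1, 3, 1, 3, 1], [4, 1, 4, 1], [5, 1, 5, 1], [6, 1, 6, 1], [7, 1, 7, 1], [7,
    6, 5, 4, 3, 2, 7, 6, 5, 4, 3, 2, 7, 6, 5, 4, 3, 2, 7, 6, 5, 4, 3, 2, 7, 6, 5, 4, 3, 2, 1, 7, 6,
    5, 4, 3, 2, 7, 6, 5, 4, 3, 2, 7, 6, 5, 4, 3, 2, 7, 6, 5, 4, 3, 2, 7, 6, 5, 4, 3, 2, 1, 7, 6, 5,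
    4, 3, 2, 7, 6, 5, 4, 3, 2, 7, 6, 5, 4, 3, 2, 7, 6, 5, 4, 3, 2, 7, 6, 5, 4, 3, 2, 1]]

/-- all relators -/
def rS : List (List ℕ) := rS0 ++ rS1

noncomputable def tS0_C : SeqCert := ⟨nat_lit 1, nat_lit 9, nat_lit 8, nat_lit 0x7070606050504040303020201010000, (NT.leaf (nat_lit 0) (nat_lit 0x2800)), (NT.leaf (nat_lit 2) (nat_lit 0))⟩
noncomputable def tS0_U : List (List ℕ) := []
noncomputable def tS0_HL : List ℕ := []
theorem tS0_head : tS0_C.head 8 ioS rS tS0_U tS0_HL 2 1 0 = true := by decide +kernel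
theorem tS0_ok : tS0_C.StepsOK (2 + 0) 2 := SeqCert.StepsOK.refl _ _
noncomputable def tS0_r0 : List ℕ := [nat_lit 0xa, nat_lit 0xd]
theorem tS0_final : tS0_C.final 8 2 (nat_lit 0x3) 2 [2] (tS0_r0) = true := by decide +kernel
theorem tS0 {G : Type*} [Group G] {g : ℕ → G} {H : Subgroup G} (hg : Sat g 8 ioS rS)
    (hU : ∀ u ∈ tS0_U, wv g u ∈ H) (hL : ∀ l ∈ tS0_HL, g l ∈ H) :
    IdxLe H (Subgroup.closure {x | ∃ l ∈ ([2] : List ℕ), g l = x}) 2 :=
  SeqCert.idxLe_of_final hg hU hL tS0_head tS0_ok tS0_final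

theorem tS0_le {G : Type*} [Group G] {g : ℕ → G} (hg : Sat g 8 ioS rS) :
    Finite (closure {x | ∃ l ∈ ([2] : List ℕ), g l = x}) ∧
      Nat.card (closure {x | ∃ l ∈ ([2] : List ℕ), g l = x}) ≤ 2 :=
  ((tS0 (H := ⊥) hg (fun _ h => nomatch h) (fun _ h => nomatch h)).card_le card_bot_le).imp id fun h => h.trans (by norm_num)

noncomputable def tS1_C : SeqCert := ⟨nat_lit 1, nat_lit 9, nat_lit 8, nat_lit 0x7070606050504040303020201010000, (NT.leaf (nat_lit 0) (nat_lit 0x2c0803800)), (NT.leaf (nat_lit 16384) (nat_lit 0x2030203))⟩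
noncomputable def tS1_U : List (List ℕ) := []
noncomputable def tS1_HL : List ℕ := [2]
theorem tS1_head : tS1_C.head 8 ioS rS tS1_U tS1_HL 2 1 1 = true := by decide +kernel
noncomputable def tS1_s0 : List ℕ := [nat_lit 0x4040180c0001]
theorem tS1_ok0 : tS1_C.StepsOK 3 4 := (SeqCert.StepsOK.refl _ 3).step (L := tS1_s0) (by decide +kernel)
theorem tS1_ok : tS1_C.StepsOK (2 + 1) 4 := tS1_ok0
noncomputable def tS1_r0 : List ℕ := [nat_lit 0x2810, nat_lit 0x301b]
theorem tS1_final : tS1_C.final 8 4 (nat_lit 0x3) 2 [2,3] (tS1_r0) = true := by decide +kernel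
theorem tS1 {G : Type*} [Group G] {g : ℕ → G} {H : Subgroup G} (hg : Sat g 8 ioS rS)
    (hU : ∀ u ∈ tS1_U, wv g u ∈ H) (hL : ∀ l ∈ tS1_HL, g l ∈ H) :
    IdxLe H (Subgroup.closure {x | ∃ l ∈ ([2,3] : List ℕ), g l = x}) 2 :=
  SeqCert.idxLe_of_final hg hU hL tS1_head tS1_ok tS1_final

theorem tS1_le {G : Type*} [Group G] {g : ℕ → G} (hg : Sat g 8 ioS rS) :
    Finite (closure {x | ∃ l ∈ ([2,3] : List ℕ), g l = x}) ∧
      Nat.card (closure {x | ∃ l ∈ ([2,3] : List ℕ), g l = x}) ≤ 4 :=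
  ((tS1 hg (fun _ h => nomatch h) (fun _ h => letter_mem g h)).card_le (tS0_le hg)).imp id fun h => h.trans (by norm_num)

noncomputable def tS2_C : SeqCert := ⟨nat_lit 3, nat_lit 9, nat_lit 8, nat_lit 0x7070606050504040303020201010000, (NT.leaf (nat_lit 0) (nat_lit 0xed02b409c046c112030008004b00e203640910420000)), (NT.node (nat_lit 2) (NT.node (nat_lit 1) (NT.leaf (nat_lit 4) (nat_lit 0x40204020402)) (NT.leaf (nat_lit 20) (nat_lit 0x40304030403))) (NT.node (nat_lit 3) (NT.leaf (nat_lit 16384) (nat_lit 0x2030203)) (NT.node (nat_lit 4) (NT.leaf (nat_lit 16388) (nat_lit 0x20402040204)) (NT.leaf (nat_lit 16404) (nat_lit 0x30403040304)))))⟩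
noncomputable def tS2_U : List (List ℕ) := []
noncomputable def tS2_HL : List ℕ := [2,3]
theorem tS2_head : tS2_C.head 8 ioS rS tS2_U tS2_HL 6 3 2 = true := by decide +kernel
noncomputable def tS2_s0 : List ℕ := [nat_lit 0x1408080241605020282a120a02c0a03040100e0301018040e0181c0a01020081803028140005]
theorem tS2_ok0 : tS2_C.StepsOK 8 13 := (SeqCert.StepsOK.refl _ 8).step (L := tS2_s0) (by decide +kernel)
theorem tS2_ok : tS2_C.StepsOK (6 + 2) 13 := tS2_ok0
noncomputable def tS2_r0 : List ℕ := [nat_lit 0x88380300, nat_lit 0xc0198111, nat_lit 0x41022014a, nat_lit 0x4981c8563, nat_lit 0x2a825051c, nat_lit 0x2e06285ad]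
theorem tS2_final : tS2_C.final 8 13 (nat_lit 0x3f) 6 [2,3,4] (tS2_r0) = true := by decide +kernel
theorem tS2 {G : Type*} [Group G] {g : ℕ → G} {H : Subgroup G} (hg : Sat g 8 ioS rS)
    (hU : ∀ u ∈ tS2_U, wv g u ∈ H) (hL : ∀ l ∈ tS2_HL, g l ∈ H) :
    IdxLe H (Subgroup.closure {x | ∃ l ∈ ([2,3,4] : List ℕ), g l = x}) 6 :=
  SeqCert.idxLe_of_final hg hU hL tS2_head tS2_ok tS2_final

theorem tS2_le {G : Type*} [Group G] {g : ℕ → G} (hg : Sat g 8 ioS rS) :
    Finite (closure {x | ∃ l ∈ ([2,3,4] : List ℕ), g l = x}) ∧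
      Nat.card (closure {x | ∃ l ∈ ([2,3,4] : List ℕ), g l = x}) ≤ 24 :=
  ((tS2 hg (fun _ h => nomatch h) (fun _ h => letter_mem g h)).card_le (tS1_le hg)).imp id fun h => h.trans (by norm_num)

noncomputable def tS3_C : SeqCert := ⟨nat_lit 3, nat_lit 9, nat_lit 8, nat_lit 0x7070606050504040303020201010000, (NT.leaf (nat_lit 0) (nat_lit 0x13f03fc0bf03d80b605b40a50490164046c15b05480c90224100030008005f813503ac0e202681110520000)), (NT.node (nat_lit 5) (NT.node (nat_lit 2) (NT.node (nat_lit 1) (NT.leaf (nat_lit 16392) (nat_lit 0x2050205)) (NT.leaf (nat_lit 16408) (nat_lit 0x3050305))) (NT.node (nat_lit 3) (NT.leaf (nat_lit 36) (nat_lit 0x50405040504)) (NT.node (nat_lit 4) (NT.leaf (nat_lit 8) (nat_lit 0x5020502)) (NT.leaf (nat_lit 4) (nat_lit 0x40204020402))))) (NT.node (nat_lit 8) (NT.node (nat_lit 6) (NT.leaf (nat_lit 24) (nat_lit 0x5030503)) (NT.node (nat_lit 7) (NT.leaf (nat_lit 20) (nat_lit 0x40304030403)) (NT.leaf (nat_lit 16384) (nat_lit 0x2030203))))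 (NT.node (nat_lit 9) (NT.leaf (nat_lit 16388) (nat_lit 0x20402040204)) (NT.node (nat_lit 10) (NT.leaf (nat_lit 16404) (nat_lit 0x30403040304)) (NT.leaf (nat_lit 16420) (nat_lit 0x40504050405))))))⟩
noncomputable def tS3_U : List (List ℕ) := []
noncomputable def tS3_HL : List ℕ := [2,3,4]
theorem tS3_head : tS3_C.head 8 ioS rS tS3_U tS3_HL 8 3 3 = true := by decide +kernel
noncomputable def tS3_s0 : List ℕ := [nat_lit 0x3818260683c0a0a070a81e0300838500f01800180a0f02c1a05048304a22120340a08050701603028280c090181c10040c0141205030203409018140c040b0140e050201834070180c08020a00c0a050100824030180404100180c000e]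
theorem tS3_ok0 : tS3_C.StepsOK 11 25 := (SeqCert.StepsOK.refl _ 11).step (L := tS3_s0) (by decide +kernel)
theorem tS3_ok : tS3_C.StepsOK (8 + 3) 25 := tS3_ok0
noncomputable def tS3_r0 : List ℕ := [nat_lit 0x88500480400, nat_lit 0xc0110608589, nat_lit 0x69014822019a, nat_lit 0x7187982a81d3, nat_lit 0x8208a025096c, nat_lit 0x9a83302d8925, nat_lit 0x3b8368ab0a36, nat_lit 0x3f0c38bb8b3f]
theorem tS3_final : tS3_C.final 8 25 (nat_lit 0xff) 8 [2,3,4,5] (tS3_r0) = true := by decide +kernel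
theorem tS3 {G : Type*} [Group G] {g : ℕ → G} {H : Subgroup G} (hg : Sat g 8 ioS rS)
    (hU : ∀ u ∈ tS3_U, wv g u ∈ H) (hL : ∀ l ∈ tS3_HL, g l ∈ H) :
    IdxLe H (Subgroup.closure {x | ∃ l ∈ ([2,3,4,5] : List ℕ), g l = x}) 8 :=
  SeqCert.idxLe_of_final hg hU hL tS3_head tS3_ok tS3_final

theorem tS3_le {G : Type*} [Group G] {g : ℕ → G} (hg : Sat g 8 ioS rS) :
    Finite (closure {x | ∃ l ∈ ([2,3,4,5] : List ℕ), g l = x}) ∧
      Nat.card (closure {x | ∃ l ∈ ([2,3,4,5] : List ℕ), g l = x}) ≤ 192 :=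
  ((tS3 hg (fun _ h => nomatch h) (fun _ h => letter_mem g h)).card_le (tS2_le hg)).imp id fun h => h.trans (by norm_num)

noncomputable def tS4_C : SeqCert := ⟨nat_lit 4, nat_lit 9, nat_lit 8, nat_lit 0x7070606050504040303020201010000, (NT.leaf (nat_lit 0) (nat_lit 0x5990499039902990488038802880377027706770666056602560455065505550444064405440533063306220322022204110311021105000400030002000698058704760364035302430432052106100000)), (NT.node (nat_lit 9) (NT.node (nat_lit 4) (NT.node (nat_lit 2) (NT.node (nat_lit 1) (NT.leaf (nat_lit 16396) (nat_lit 0x2060206)) (NT.leaf (nat_lit 16412) (nat_lit 0x3060306))) (NT.node (nat_lit 3) (NT.leaf (nat_lit 16424) (nat_lit 0x4060406)) (NT.leaf (nat_lit 16392) (nat_lit 0x2050205)))) (NT.node (nat_lit 6) (NT.node (nat_lit 5) (NT.leaf (nat_lit 16408) (nat_lit 0x3050305)) (NT.leaf (nat_lit 48) (nat_lit 0x60506050605))) (NT.node (nat_lit 7) (NT.leaf (nat_lit 40) (nat_lit 0x6040604)) (NT.node (nat_lit 8) (NT.leaf (nat_lit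 36) (nat_lit 0x50405040504)) (NT.leaf (nat_lit 8) (nat_lit 0x5020502)))))) (NT.node (nat_lit 14) (NT.node (nat_lit 11) (NT.node (nat_lit 10) (NT.leaf (nat_lit 12) (nat_lit 0x6020602)) (NT.leaf (nat_lit 4) (nat_lit 0x40204020402))) (NT.node (nat_lit 12) (NT.leaf (nat_lit 24) (nat_lit 0x5030503)) (NT.node (nat_lit 13) (NT.leaf (nat_lit 28) (nat_lit 0x6030603)) (NT.leaf (nat_lit 20) (nat_lit 0x40304030403))))) (NT.node (nat_lit 16) (NT.node (nat_lit 15) (NT.leaf (nat_lit 16384) (nat_lit 0x2030203)) (NT.leaf (nat_lit 16388) (nat_lit 0x20402040204))) (NT.node (nat_lit 17) (NT.leaf (nat_lit 16404) (nat_lit 0x30403040304)) (NT.node (nat_lit 18) (NT.leaf (nat_lit 16420) (nat_lit 0x40504050405)) (NT.leaf (nat_lit 16432) (nat_lit 0x50605060506)))))))⟩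
noncomputable def tS4_U : List (List ℕ) := []
noncomputable def tS4_HL : List ℕ := [2,3,4,5]
theorem tS4_head : tS4_C.head 8 ioS rS tS4_U tS4_HL 10 4 4 = true := by decide +kernel
noncomputable def tS4_s0 : List ℕ := [nat_lit 0x90407c110981424122404c060209118260300848881301800200e1d03c22050884084110181020400880c060e060c01a0f028401c391b0e01e0507838780f01818182e0680c180c16034060b060201603070280c240382c0a0d050a0160306028540b0182c10061101c120505020500901824102a0480c1006020800a070281c0c260380c0c0401068060502814081e0280c08040e0140603010600603010082c030180404140180c001b]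
theorem tS4_ok0 : tS4_C.StepsOK 14 41 := (SeqCert.StepsOK.refl _ 14).step (L := tS4_s0) (by decide +kernel)
theorem tS4_ok : tS4_C.StepsOK (10 + 4) 41 := tS4_ok0
noncomputable def tS4_r0 : List ℕ := [nat_lit 0x210d006002c01400, nat_lit 0x3002108043c21c11, nat_lit 0x262028818c4842222, nat_lit 0x28315181c814a0843, nat_lit 0x2e41620c1018c0934, nat_lit 0x3451928d941663965, nat_lit 0x3c61d3039c1a83856, nat_lit 0x3e708403d884e4077, nat_lit 0x12908b92208d04488, nat_lit 0x13828493a49924a99]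
theorem tS4_final : tS4_C.final 8 41 (nat_lit 0x3ff) 10 [2,3,4,5,6] (tS4_r0) = true := by decide +kernel
theorem tS4 {G : Type*} [Group G] {g : ℕ → G} {H : Subgroup G} (hg : Sat g 8 ioS rS)
    (hU : ∀ u ∈ tS4_U, wv g u ∈ H) (hL : ∀ l ∈ tS4_HL, g l ∈ H) :
    IdxLe H (Subgroup.closure {x | ∃ l ∈ ([2,3,4,5,6] : List ℕ), g l = x}) 10 :=
  SeqCert.idxLe_of_final hg hU hL tS4_head tS4_ok tS4_final

theorem tS4_le {G : Type*} [Group G] {g : ℕ → G} (hg : Sat g 8 ioS rS) :
    Finite (closure {x | ∃ l ∈ ([2,3,4,5,6] : List ℕ), g l = x}) ∧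
      Nat.card (closure {x | ∃ l ∈ ([2,3,4,5,6] : List ℕ), g l = x}) ≤ 1920 :=
  ((tS4 hg (fun _ h => nomatch h) (fun _ h => letter_mem g h)).card_le (tS3_le hg)).imp id fun h => h.trans (by norm_num)

noncomputable def tS5_C : SeqCert := ⟨nat_lit 4, nat_lit 9, nat_lit 8, nat_lit 0x7070606050504040303020201010000, (NT.leaf (nat_lit 0) (nat_lit 0x6bb05bb04bb03bb02bb05aa04aa03aa02aa049907990399029903880288078806880777067705770267046607660666056604550755065505550544074406440633073303330233072204220322022205110411031102110600050004000300020007ba06a90598048703750364025404430532062107100000)), (NT.node (nat_lit 14) (NT.node (nat_lit 7) (NT.node (nat_lit 3) (NT.node (nat_lit 1) (NT.leaf (nat_lit 16400) (nat_lit 0x2070207)) (NT.node (nat_lit 2) (NT.leaf (nat_lit 16416) (nat_lit 0x3070307)) (NT.leaf (nat_lit 16428) (nat_lit 0x4070407)))) (NT.node (nat_lit 5) (NT.node (nat_lit 4) (NT.leaf (nat_lit 16436) (nat_lit 0x5070507)) (NT.leaf (nat_lit 16396) (nat_lit 0x2060206)))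 (NT.node (nat_lit 6) (NT.leaf (nat_lit 16412) (nat_lit 0x3060306)) (NT.leaf (nat_lit 16424) (nat_lit 0x4060406))))) (NT.node (nat_lit 10) (NT.node (nat_lit 8) (NT.leaf (nat_lit 56) (nat_lit 0x70607060706)) (NT.node (nat_lit 9) (NT.leaf (nat_lit 16392) (nat_lit 0x2050205)) (NT.leaf (nat_lit 16408) (nat_lit 0x3050305)))) (NT.node (nat_lit 12) (NT.node (nat_lit 11) (NT.leaf (nat_lit 52) (nat_lit 0x7050705)) (NT.leaf (nat_lit 48) (nat_lit 0x60506050605))) (NT.node (nat_lit 13) (NT.leaf (nat_lit 40) (nat_lit 0x6040604)) (NT.leaf (nat_lit 44) (nat_lit 0x7040704)))))) (NT.node (nat_lit 21) (NT.node (nat_lit 17) (NT.node (nat_lit 15) (NT.leaf (nat_lit 36) (nat_lit 0x50405040504)) (NT.node (nat_lit 16) (NT.leaf (nat_lit 8) (nat_lit 0x5020502)) (NT.leaf (nat_lit 12) (nat_lit 0x6020602)))) (NT.node (nat_lit 19) (NT.node (nat_lit 18) (NT.leaf (nat_lit 16) (nat_lit 0x7020702)) (NT.leaf (nat_lit 4) (nat_lit 0x40204020402))) (NT.node (nat_lit 20) (NT.leaf (nat_lit 24)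 (nat_lit 0x5030503)) (NT.leaf (nat_lit 28) (nat_lit 0x6030603))))) (NT.node (nat_lit 25) (NT.node (nat_lit 23) (NT.node (nat_lit 22) (NT.leaf (nat_lit 32) (nat_lit 0x7030703)) (NT.leaf (nat_lit 20) (nat_lit 0x40304030403))) (NT.node (nat_lit 24) (NT.leaf (nat_lit 16384) (nat_lit 0x2030203)) (NT.leaf (nat_lit 16388) (nat_lit 0x20402040204)))) (NT.node (nat_lit 27) (NT.node (nat_lit 26) (NT.leaf (nat_lit 16404) (nat_lit 0x30403040304)) (NT.leaf (nat_lit 16420) (nat_lit 0x40504050405))) (NT.node (nat_lit 28) (NT.leaf (nat_lit 16432) (nat_lit 0x50605060506)) (NT.leaf (nat_lit 16440) (nat_lit 0x60706070607)))))))⟩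
noncomputable def tS5_U : List (List ℕ) := []
noncomputable def tS5_HL : List ℕ := [2,3,4,5,6]
theorem tS5_head : tS5_C.head 8 ioS rS tS5_U tS5_HL 12 4 5 = true := by decide +kernel
noncomputable def tS5_s0 : List ℕ := [nat_lit 0x160a1902a17028702c6e0b80c06163605c06020b1a82e0300858d0170180028122c04c2a050d850cc150181828620a80c0a1430054060409040a4110981434122d04c060a09178260304848b81301820200e2303c22050c840a24e280440a1808158220306840a811018301c440780c2a0e2103c0614071001e0309838140d0185c18081a0241a050b030780d01854183a0680c280c1f034061305020640905814240a1e02c0611050e81603080287c0b0183c10061701c1205070206c090183410380480c1806020a00a070282c0c300380c14061601c0609030a80e03040100420018140a07020980a030301048050181408220280c08020f00c06030107006030100834030180404180180c002c]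
theorem tS5_ok0 : tS5_C.StepsOK 17 61 := (SeqCert.StepsOK.refl _ 17).step (L := tS5_s0) (by decide +kernel)
theorem tS5_ok : tS5_C.StepsOK (12 + 5) 61 := tS5_ok0
noncomputable def tS5_r0 : List ℕ := [nat_lit 0x422000f007003401800, nat_lit 0x6004214089844822211, nat_lit 0x6040510318b885842a22, nat_lit 0x6c638303902106863233, nat_lit 0x7883a41f2024c18c0a54, nat_lit 0x88a42520291941ce0b45, nat_lit 0x98c4a624313981a85176, nat_lit 0xace54729384201ea5067, nat_lit 0xb50588094845cbd05c88, nat_lit 0xc9214a09c19a4c526099, nat_lit 0x2d61593751b28d5468aa, nat_lit 0x2f478b3b59d2ce5670bb]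
theorem tS5_final : tS5_C.final 8 61 (nat_lit 0xfff) 12 [2,3,4,5,6,7] (tS5_r0) = true := by decide +kernel
theorem tS5 {G : Type*} [Group G] {g : ℕ → G} {H : Subgroup G} (hg : Sat g 8 ioS rS)
    (hU : ∀ u ∈ tS5_U, wv g u ∈ H) (hL : ∀ l ∈ tS5_HL, g l ∈ H) :
    IdxLe H (Subgroup.closure {x | ∃ l ∈ ([2,3,4,5,6,7] : List ℕ), g l = x}) 12 :=
  SeqCert.idxLe_of_final hg hU hL tS5_head tS5_ok tS5_final

theorem tS5_le {G : Type*} [Group G] {g : ℕ → G} (hg : Sat g 8 ioS rS) :
    Finite (closure {x | ∃ l ∈ ([2,3,4,5,6,7] : List ℕ), g l = x}) ∧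
      Nat.card (closure {x | ∃ l ∈ ([2,3,4,5,6,7] : List ℕ), g l = x}) ≤ 23040 :=
  ((tS5 hg (fun _ h => nomatch h) (fun _ h => letter_mem g h)).card_le (tS4_le hg)).imp id fun h => h.trans (by norm_num)

noncomputable def tS6_C : SeqCert := ⟨nat_lit 6, nat_lit 10, nat_lit 8, nat_lit 0x7070606050504040303020201010000, (NT.leaf (nat_lit 0) (nat_lit 0x1fbe04fbe07fbe06fbe05fbe02fbe05f7d03f7d02f7d01f7d07f7d06f7d05f3c03f3c02f3c01dfc07f3c06f3c06efb04efb01efb07efb03d7b02dbb07eba05eba01eba04d3a03eba02eba07e3806e7901e7905cf904e7903e7902e7905e3801e3804e3803e3802e3805df702df707df706df706db601db607db603c3606d7501c7507d7502c3507d3401d3403bb402bf401cf304b7303cf302cf304cb201cb203cb202cb206c7107c7103c7102af106c3004c3001af007c3007bef01bef04bef03a6f07bae01aae04bae02a6e01b6d05b6d039ed02a2d03b2c02b2c01b2c06b2c06aeb04aeb07aeb03aeb07aaa04aaa03aaa0296a07a6901969048e901a2805a2804a28038a801927059e7049e7028a7019a6069a6059a60286607965047e503965059240492403924027a4078e3058e3017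e3038e3028e3017a2058a2047220186104861068610586104820017600682005820077df057df0369f027df0579e0465e0379e0475d0675d0575d0375d0165c055dc0371c0271c056db0161b066db0769a0569a0169a0469a0269a055190355902659056180361806618065d701517045d7035d7025d706596014d603596025960155505455045550255506514045140345402514064d303413024d3013d20449203492024920645101451043510245106410044100141002410043cf0330f023cf0338e0738e0538e0438e0238e0634d0134d0534d0334d0228d0130c0424c0230c042cb072cb052cb022cb0628a0128a0528a0428a0328a052490124903249021c905208022080120807208051c7011c7041c7031c701186071860318602146041450114507145031450410401104071040610403104030c3010c3070c3060c30108207082060820508202082070410604105041040410204107000060000500004000030000200003fb704f7604f3505ef406eb307e7206e3204df105daf05d6e06d2d07cec05cac05c6a05c2906be806ba707b6604b2605ae506aa406a6207a21079e0039a00695e0791d068dc0789b0385b0281b067d9077980275807716046d6066950765304613075d205592075500750f054cf0648e0744c0540c063cb0138b0734906308032c8072870624604206061c5051840514302103040c2030810104000000)),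 (NT.node (nat_lit 21) (NT.node (nat_lit 10) (NT.node (nat_lit 5) (NT.node (nat_lit 2) (NT.node (nat_lit 1) (NT.leaf (nat_lit 60) (nat_lit 0x2010201)) (NT.leaf (nat_lit 68) (nat_lit 0x4010401))) (NT.node (nat_lit 3) (NT.leaf (nat_lit 72) (nat_lit 0x5010501)) (NT.node (nat_lit 4) (NT.leaf (nat_lit 76) (nat_lit 0x6010601)) (NT.leaf (nat_lit 80) (nat_lit 0x7010701))))) (NT.node (nat_lit 7) (NT.node (nat_lit 6) (NT.leaf (nat_lit 16384) (nat_lit 0x2030203)) (NT.leaf (nat_lit 24) (nat_lit 0x5030503))) (NT.node (nat_lit 8) (NT.leaf (nat_lit 28) (nat_lit 0x6030603)) (NT.node (nat_lit 9) (NT.leaf (nat_lit 32) (nat_lit 0x7030703)) (NT.leaf (nat_lit 16448) (nat_lit 0x10301030103)))))) (NT.node (nat_lit 15) (NT.node (nat_lit 12) (NT.node (nat_lit 11) (NT.leaf (nat_lit 40) (nat_lit 0x6040604)) (NT.leaf (nat_lit 44) (nat_lit 0x7040704))) (NT.node (nat_lit 13) (NT.leaf (nat_lit 16452) (nat_lit 0x1040104)) (NT.node (nat_lit 14) (NT.leaf (nat_lit 16404) (nat_lit 0x30403040304))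 (NT.leaf (nat_lit 0) (nat_lit 0x3020302))))) (NT.node (nat_lit 18) (NT.node (nat_lit 16) (NT.leaf (nat_lit 12) (nat_lit 0x6020602)) (NT.node (nat_lit 17) (NT.leaf (nat_lit 16) (nat_lit 0x7020702)) (NT.leaf (nat_lit 16444) (nat_lit 0x1020102)))) (NT.node (nat_lit 19) (NT.leaf (nat_lit 4) (nat_lit 0x40204020402)) (NT.node (nat_lit 20) (NT.leaf (nat_lit 16408) (nat_lit 0x3050305)) (NT.leaf (nat_lit 52) (nat_lit 0x7050705))))))) (NT.node (nat_lit 32) (NT.node (nat_lit 26) (NT.node (nat_lit 23) (NT.node (nat_lit 22) (NT.leaf (nat_lit 16456) (nat_lit 0x1050105)) (NT.leaf (nat_lit 16420) (nat_lit 0x40504050405))) (NT.node (nat_lit 24) (NT.leaf (nat_lit 16392) (nat_lit 0x2050205)) (NT.node (nat_lit 25) (NT.leaf (nat_lit 16412) (nat_lit 0x3060306)) (NT.leaf (nat_lit 16424) (nat_lit 0x4060406))))) (NT.node (nat_lit 29) (NT.node (nat_lit 27) (NT.leaf (nat_lit 16460) (nat_lit 0x1060106)) (NT.node (nat_lit 28) (NT.leaf (nat_lit 16432) (nat_lit 0x50605060506)) (NT.leaf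 (nat_lit 16388) (nat_lit 0x20402040204)))) (NT.node (nat_lit 30) (NT.leaf (nat_lit 36) (nat_lit 0x50405040504)) (NT.node (nat_lit 31) (NT.leaf (nat_lit 16396) (nat_lit 0x2060206)) (NT.leaf (nat_lit 16416) (nat_lit 0x3070307)))))) (NT.node (nat_lit 37) (NT.node (nat_lit 34) (NT.node (nat_lit 33) (NT.leaf (nat_lit 16428) (nat_lit 0x4070407)) (NT.leaf (nat_lit 16436) (nat_lit 0x5070507))) (NT.node (nat_lit 35) (NT.leaf (nat_lit 16464) (nat_lit 0x1070107)) (NT.node (nat_lit 36) (NT.leaf (nat_lit 16440) (nat_lit 0x60706070607)) (NT.leaf (nat_lit 20) (nat_lit 0x40304030403))))) (NT.node (nat_lit 40) (NT.node (nat_lit 38) (NT.leaf (nat_lit 16400) (nat_lit 0x2070207)) (NT.node (nat_lit 39) (NT.leaf (nat_lit 64) (nat_lit 0x30103010301)) (NT.leaf (nat_lit 48) (nat_lit 0x60506050605)))) (NT.node (nat_lit 41) (NT.leaf (nat_lit 56) (nat_lit 0x70607060706)) (NT.node (nat_lit 42) (NT.leaf (nat_lit 8) (nat_lit 0x5020502)) (NT.leaf (nat_lit 311380) (nat_lit 0x60504030207060504030201070605040302070605040302070605040302070605040302070605040302010706050403020706050403020706050403020706050403020706050403020107060504030207060504030207060504030207))))))))⟩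
noncomputable def tS6_U : List (List ℕ) := []
noncomputable def tS6_HL : List ℕ := [2,3,4,5,6,7]
theorem tS6_head : tS6_C.head 8 ioS rS tS6_U tS6_HL 63 6 6 = true := by decide +kernel
noncomputable def tS6_s0 : List ℕ := [nat_lit 0xe1380e403094360b11e0b4370141d0d93d0c403030364f83700c0a0d02a4402b0d4050a0344d5184d0350141b0d1360d403068344c83500c190d1300d403078320982900c210c9250ac0307c324883300c250c026420270c405074304950e490310140d0c1260c4030282e091000942f014230b9210a4030882e4782f00c200b91c0bc0307c2e4682f00c250b0243f8250b40509c2c4842700c150b11c0b40304c2c4682d00c170a90c0ac030882a0802300c210a90e0ac030802a4282b00c250a01e3981f0a40508c284202900c200a10708c0307c284102900c250981e3901f09c0509c2641c2100c130990409c0305c240701f00c1a090fc09403064244082500c18090fa0940307822060c80642301423088ee08c03088223b41b00c20088ea08c0309420060ce0642101427080ed358ec08405058203b82100c15080ea0840305c1e3a01f00c1907816064030601e3881f00c1e0701632817074050981c3981d00c04070e4074030081c3a0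1d00c01070e2074030001a048bc04c1b01423068d406c030881a3581b00c21068d206c0307c1a3441500c25060ca06403068180401300c19060cc0640307816040ba0441701424058c805c03020163381700c06058cc05c0301414038b203c1501423050c405403088143181500c21050c205403080143001500c1f0480c2a00d04c0506c122f81300c1a048ba04c03060122e40f00c1e0400c2b80d04405074102e4b62e0110141c040be04403030102f01100c0b0380a2780b03c0506c0e2d00f00c1a038b603c030640e2c00f00c18030ac034030540c2a80d00c14030a60340304c0c0200b00c17028062580702c050580a2880b00c15028a002c030500a2900b00c13020062500702405048082880900c11020a002403040082780900c0f020a402403038060108c014070140d0189c01c03030062680700c0b0189801c03028040088000c05014090109201403020042400500c070108e01403018042280500c050088800c03010022180300c030088400c03008022080300c010087e00c030006f,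
 nat_lit 0x708487100c181c2101c4030786e189d418c6f0141d1ba09772081bc050706e8306f00c0b1ba0e1bc030286c179c617c6d014271b1fc1b4030546c7f86d00c141b1f91840304c6a171be1746b014271a9f518c030546a7d86b00c141a9f11840305c68169b616c69014281a1ee1a403068687ac5d00c181a1e917c03078667886700c221985816c03080667986700c1f199e419c0309464161b41646501416191e219403054647986500c13191e41940305c62151aa1546301427189d618c03050627486300c13189d115c0305c601499614c6101427181cb681ca18405058607345700c15181ce184030505e1418e1445f01428179c817c030685e7105f00c19179c314c030605c1398613c5d01428171c1154030685c6f05d00c19171bb14c030785a6e05b00c22169b416c030845a1304f00c1f169b314403094581318a134590140d161b3641b216405070586e05900c0c161b616403028561297a12c5701427159af601ae15c05058566c05700c14159ac15c0304c54121721245501428151a815403064546985500c18151a512c03078521116011453014281499912c03068526544700c191419214403088506305100c211419014403080501084500c1f13989124030884e6104f00c211398a13c030804e1004500c25131895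b988134050244c6184d00c0713184134030184c1004300c051283c5283d12c050a04a5e43f00c191297612c03060485c04900c211217412403080485b84900c1f1203a0f403094460e13e0e447014281196b5216a11c0506c465b43f00c1a1196811c03060465984700c1e111630f403088445904500c21110360e4030804258d4c5884301409108364e83710c05090425804300c071096410c03018400d9380dc4101412101630ec03044405804100c0f10164104030a43e0c9260cc3f014280f9554b9540fc0506c3e54c3500c180f9500fc030783c5383d00c210f0300cc030803c5303d00c1f0e830488310ec050483a5283b00c0f0e94e0ec030a43a5303b00c0e0e13d0cc03088380b02f00c210e13a0e40307c6e,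
 nat_lit 0x1f2749e2751f4050247c1ba0a1bc7d014241f23a1f4030207c8e07d00c071f23e1f4030187c8f07d00c051e86c7e86d1ec050747a8c6048c07b0140d1ea649b2651ec050707a8d07b00c0c1ea321ec0302c7a8d87b00c0a1e06a7c86b1e4050747899a6c99c790140d1e229812281e405070788b46f00c0c1e22a1e40302c788b87900c0a1d8687b0691dc0509c769726097477014161da241dc03054768987700c141da231ac0304c768846d00c171d066780671d4050a07494254944750141b1d21e1d403068748746900c191d21a1d403060748607500c1e1c073950721c4050a0728421285864780678621a875ec1a626885f972da0118384f5224950e08018320cc05ce83901f0a5284ad153d0f8068d1300c23180e2c8b82e8113381908d164492a4b1540fd825f17f5615c0d02a429240c54e5283d691a66a1aa155d6745ac6bd800f8324f1384e83759160115ba7aa1c9405c0a8728507300c221c86419c03084728587300c201ca121cc0307c728407300c251c064780651c40506c708507100c1a1c2161c40306428]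
theorem tS6_ok0 : tS6_C.StepsOK 69 330 := (SeqCert.StepsOK.refl _ 69).step (L := tS6_s0) (by decide +kernel)
theorem tS6_ok : tS6_C.StepsOK (63 + 6) 330 := tS6_ok0
noncomputable def tS6_r0 : List ℕ := [nat_lit 0x880086008400820080007e0002040, nat_lit 0x920490048e048c0404088a0403001, nat_lit 0x9a0898089608060c050494089c082, nat_lit 0xa00c9e0c0a140708a40c0810a20c3, nat_lit 0xaa10a8100c18ae10a610090cac104, nat_lit 0xb2140e1c0b0cb614b014b918b4145, nat_lit 0xbc1812240d101020ba18b814be186, nat_lit 0x14280f14c61cc21cc01cd124c41c7, nat_lit 0xc8201830ce201118162ccc20ca208, nat_lit 0x1a341318d624ed30d224d01cd4249, nat_lit 0x151ce028dc28da28d828f134de28a, nat_lit 0xe62c1e3ce42ce82c1720e22c1c38b, nat_lit 0x224419202040ec25073cea30ee30c, nat_lit 0x1b24f834f4351544f234f028f634d, nat_lit 0x100382448fe38fc390238fa381d2ce, nat_lit 0x28501f2c264d083d0631043d2148f, nat_lit 0x2a55104021310e41254d0a410c410, nat_lit 0x23311845355514352b51124516451, nat_lit 0x2e5c25382c591e491c491a49203d2,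 nat_lit 0x3265264c273c30612441224d3d593, nat_lit 0x293d2e5155652c512a452851475d4, nat_lit 0x2b403469344532555365305536555, nat_lit 0x38713e582d48366d3a5938593c4d6, nat_lit 0x2f49485d6b71445d425d405d46517, nat_lit 0x3c794a614e60314d4c603a75636d8, nat_lit 0x334c3e7d54517979525550656d719, nat_lit 0x15e6835555c6958697f7d56695a69a, nat_lit 0x4489606d646c3758428440816261b, nat_lit 0x3958468d6a5d9589687166716c65c, nat_lit 0x48917275707574756e743b618981d, nat_lit 0x3d604a957a7978657679a5919989e, nat_lit 0x1827c3f65807daf957e697c7d9f8df, nat_lit 0x4e9d868184818a804c98416d88760, nat_lit 0x50a18e858c859084436db39992861, nat_lit 0x456c52a596899471c3a1bb9d987a2, nat_lit 0x1a28c4771a08dcba59c8d9a8d9e7e3, nat_lit 0x497454a9aa91a891a691a479c19e4, nat_lit 0x1b0944b7856adae7dac95d1a9cda65, nat_lit 0x5ab5b699b49858b04d81b285b89a6, nat_lit 0x4f805cb9be9dbc9debb5ba89c0927, nat_lit 0x51845ebdc6a1c4a1c289e9b5c8a28, nat_lit 0x1cea4538860c1ca8df9bdf1b9cc969, nat_lit 0x1d6a8559062c5d4a9d2a9d095f5baa,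 nat_lit 0x1daaddeac5795dcadd8ae09c603c2b, nat_lit 0x66cde0b064c85999e6b1e4b1e2b2c, nat_lit 0x5b9868d1ecb61dcdea9de8a1eeb6d, nat_lit 0x1f6b85d9c6ad5f2ba23d1f0a5f4aae, nat_lit 0x1febc5fa06cd9fabdf8a621d1fcbef, nat_lit 0x200c206c061a604c231da29d602af0, nat_lit 0x20cc60ec463a86ede0ac608ae2dd71, nat_lit 0x72e470e065b216ca12ca10ca14cb2, nat_lit 0x67b074ea51e61cb61ace18ce1ecf3, nat_lit 0x226d069b476ee5dea22ba20be24d34, nat_lit 0x22ad62ed46bb878f267ee28c22cc75, nat_lit 0x232da36d86dbc7af630c265ee34db6, nat_lit 0x23ade38de3edc6fc47cfa3cde75f37, nat_lit 0x256e071ca48e244e242e240e246e38, nat_lit 0x73ca54e650ce4ee64ce64ae652e79, nat_lit 0x262e875ce60ea5cd25aea58ea5eeba, nat_lit 0x268ee6eec77d26cee66d664da6aefb, nat_lit 0x272f270f27af079d678f276f274dfc, nat_lit 0x27ef67cf686f47bda84f682f680f7d, nat_lit 0x28efa8cfa8afa90f87dde88fa92fbe]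
theorem tS6_final : tS6_C.final 8 330 (nat_lit 0x7fffffffffffffff) 63 [1,2,3,4,5,6,7] (tS6_r0) = true := by decide +kernel
theorem tS6 {G : Type*} [Group G] {g : ℕ → G} {H : Subgroup G} (hg : Sat g 8 ioS rS)
    (hU : ∀ u ∈ tS6_U, wv g u ∈ H) (hL : ∀ l ∈ tS6_HL, g l ∈ H) :
    IdxLe H (Subgroup.closure {x | ∃ l ∈ ([1,2,3,4,5,6,7] : List ℕ), g l = x}) 63 :=
  SeqCert.idxLe_of_final hg hU hL tS6_head tS6_ok tS6_final

theorem tS6_le {G : Type*} [Group G] {g : ℕ → G} (hg : Sat g 8 ioS rS) :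
    Finite (closure {x | ∃ l ∈ ([1,2,3,4,5,6,7] : List ℕ), g l = x}) ∧
      Nat.card (closure {x | ∃ l ∈ ([1,2,3,4,5,6,7] : List ℕ), g l = x}) ≤ 1451520 :=
  ((tS6 hg (fun _ h => nomatch h) (fun _ h => letter_mem g h)).card_le (tS5_le hg)).imp id fun h => h.trans (by norm_num)

theorem sat_of_den {G Ω : Type*} [Group G] [MulAction G Ω] {M : PM} {pt : ℕ → Ω}
    (C : Ctx G M.w M.n pt) {g : ℕ → G} (hd : ∀ l, Den M.w M.n pt (nth (one M.w M.n) M.cs l) (g l))
    {k : ℕ} {ι : ℕ → ℕ} {R : List (List ℕ)} (h' : M.satB k ι R = true) : Sat g k ι R := by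
  simp only [PM.satB, withMu_eq, forceL_eq, PK.allL_iff, (mkPar_ok M.w M.n).o_eq, Bool.and_eq_true,
    allN_iff, Nat.beq_eq] at h'
  exact ⟨(hd 0).unique C (by rw [h'.1.1]; exact den_one C),
    fun l hl => (hd l).eq_inv C (isMul_pmul C) (hd _) (h'.1.2 l hl),
    fun r hr => (den_evw C (isMul_pmul C) hd r).unique C (by rw [h'.2 r hr]; exact den_one C)⟩

theorem presS {G : Type*} [Group G] {g : ℕ → G} (hg : Sat g 8 ioS rS) (h1 : g 1 ≠ 1) :
    Nonempty (sub g [[1], [2], [3], [4], [5], [6], [7]] ≃* Fis.S6) := by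
  obtain ⟨Ω, _, pt, gs, a1, a2, a3⟩ := Fis.tgt_S6
  have C : Ctx Fis.S6 11 63 pt := a1.ctx (by decide) (by decide) (by decide)
  have hd : Dens 11 63 pt (one 11 63 :: Fis.s6L.map (encL 11)) (1 :: gs) :=
    List.Forall₂.cons (den_one C) (dens_of_actL C a2)
  have hs : Sat (lf (1 :: gs)) 8 ioS rS :=
    sat_of_den (M := ⟨11, 63, one 11 63 :: Fis.s6L.map (encL 11), []⟩) C (hd.nth C) (by decide +kernel)
  have hl : gs.length = 7 := a2.length_eq.symm
  obtain ⟨φ, a, b⟩ := exists_hom_top (m := lf (1 :: gs)) (g := g) (Ls := [1, 2, 3, 4, 5, 6, 7])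
    (tS6_le (sat_prod hs hg)) (by
      match gs, hl with
      | [_, _, _, _, _, _, _], _ => simpa [sub, lf] using a3) Fis.card_S6.ge
  obtain ⟨e⟩ := Fis.psp_S6
  have : IsSimpleGroup (PSp 3 (ZMod 2)) := Agent.S0270.result 3 (by norm_num) (by norm_num)
  have : IsSimpleGroup Fis.S6 := e.isSimpleGroup
  have hi : Function.Injective φ := (MonoidHom.ker_eq_bot_iff φ).1 <|
    (φ.normal_ker.eq_bot_or_eq_top).resolve_right fun h => h1 <| by
      rw [← b 1 (by decide)]; exact MonoidHom.mem_ker.1 (h ▸ mem_top _)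
  exact ⟨(MulEquiv.subgroupCongr a.symm).trans (MonoidHom.ofInjective hi).symm⟩

end Cfsg.Lib.Yam
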