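import Cfsg.Agent.Recog.CycNormSimple
import Cfsg.Agent.Known.PSLAutCent
import Cfsg.Agent.Class.A5Recog
import Cfsg.Agent.Class.PGL2Sub

/-!
Groups between `PSL₂(q)` and its automorphism group with the cyclic normaliser property.
-/

set_option autoImplicit false

universe u

namespace Cfsg.Lib.Recog

open Subgroup Matrix Cfsg.Lib.Known Cfsg.Lib.Solv Cfsg.Lib.CITCor Cfsg.Agent
open scoped MatrixGroups

section Sub

variable {A : Type*} [Group A] [Finite A] {K : Subgroup A}

theorem CN.sub_odd (h : CN K) {s y g : A} (hsK : s ∈ K) (hyK : y ∈ K) (hgK : g ∈ K)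
    (hs : orderOf s = 2) (hy : Odd (orderOf y)) (hy1 : y ≠ 1) (hc : y * s = s * y) :
    g * y * g⁻¹ ∈ zpowers y ↔ g * s = s * g := by
  have h1 := SetLike.ext_iff.mp (h.Nz_odd (y := ⟨y, hyK⟩) (s := ⟨s, hsK⟩)
    (by rwa [← orderOf_coe]) (by rwa [← orderOf_coe]) (fun e => hy1 (congrArg Subtype.val e))
    (mem_Cz.mpr (Subtype.ext hc))) ⟨g, hgK⟩
  rw [mem_Nz, mem_Cz] at h1
  simpa [mem_zpowers_iff, Subtype.ext_iff] using h1

theorem CN.sub_even (h : CN K) {s x g : A} (hxK : x ∈ K) (hgK : g ∈ K)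
    (hs : orderOf s = 2) (hx : s ∈ zpowers x) (hc : g * s = s * g) :
    g * x * g⁻¹ ∈ zpowers x := by
  have h1 := SetLike.ext_iff.mp (h.Nz_eq_Cz (x := ⟨x, hxK⟩) (s := ⟨s, zpowers_le.mpr hxK hx⟩)
    (by rwa [← orderOf_coe]) (by simpa [mem_zpowers_iff, Subtype.ext_iff] using hx)) ⟨g, hgK⟩
  rw [mem_Nz, mem_Cz] at h1
  simpa [mem_zpowers_iff, Subtype.ext_iff] using h1.mpr (Subtype.ext hc)

end Sub

namespace Semi

variable {F : Type*} [Field F]

/-- Upper transvection. -/
def uu (c : F) : PSL(2, F) :=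
  QuotientGroup.mk (SpecialLinearGroup.transvection (zero_ne_one (α := Fin 2)) c)

/-- Lower transvection. -/
def vv (c : F) : PSL(2, F) :=
  QuotientGroup.mk (SpecialLinearGroup.transvection (one_ne_zero (α := Fin 2)) c)

/-- The Weyl element. -/
def ww (F : Type*) [Field F] : PSL(2, F) := uu 1 * vv (-1) * uu 1

/-- The semilinear map `diag(l, 1) σ`. -/
noncomputable def aa (l : Fˣ) (σ : RingAut F) : MulAut PSL(2, F) :=
  innD (Fin 2) F (diagUnitsGL ![l, 1]) * fieldAut (Fin 2) F σ

theorem aa_uu (l : Fˣ) (σ : RingAut F) (c : F) : aa l σ (uu c) = uu (l * σ c) := by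
  simp [aa, uu, fieldSL_transvection, conjSL_diagUnitsGL_transvection]

theorem aa_vv (l : Fˣ) (σ : RingAut F) (c : F) : aa l σ (vv c) = vv ((l : F)⁻¹ * σ c) := by
  simp [aa, vv, fieldSL_transvection, conjSL_diagUnitsGL_transvection, mul_comm]

theorem aut_ext {β γ : MulAut PSL(2, F)} (h1 : ∀ c, β (uu c) = γ (uu c))
    (h2 : ∀ c, β (vv c) = γ (vv c)) : β = γ :=
  PSL_aut_ext fun i j hij c => by
    fin_cases i <;> fin_cases j
    · exact absurd rfl hij
    · exact h1 c
    · exact h2 c
    · exact absurd rfl hij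

theorem uu_inj {a b : F} (h : uu a = uu b) : a = b := PSL_mk_transvection_inj _ h

theorem uu_add (a b : F) : uu (a + b) = uu a * uu b := by
  rw [uu, SpecialLinearGroup.transvection_add]; rfl

theorem uu_zero : uu (0 : F) = 1 := by
  have := uu_add (0 : F) 0
  rw [add_zero] at this
  exact left_eq_mul.mp this

theorem uu_pow (a : F) (k : ℕ) : uu a ^ k = uu (k * a) := by
  induction k with
  | zero => simp [uu_zero]
  | succ k ih => rw [pow_succ, ih, ← uu_add]; congr 1; push_cast; ring

theorem uu_ne_vv {a b : F} (h : uu a = vv b) : b = 0 := by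
  obtain ⟨c, hc⟩ := PSL_mk_eq_mk_iff.mp h
  simpa [SpecialLinearGroup.transvection, Matrix.transvection] using congrFun (congrFun hc 1) 0

theorem ww_uu (c : F) : ww F * uu c * (ww F)⁻¹ = vv (-c) := by
  have := congrArg (QuotientGroup.mk : SL(2, F) → PSL(2, F))
    (transvection_weyl_conj (a := 1) (b := -1) (by ring) c)
  simpa [ww, uu, vv] using this

theorem ww_mul_self : ww F * ww F = 1 := by
  rw [ww, uu, vv, ← QuotientGroup.mk_mul, ← QuotientGroup.mk_mul, ← QuotientGroup.mk_mul,
    ← QuotientGroup.mk_one, PSL_mk_eq_mk_iff]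
  refine ⟨-1, ?_⟩
  ext i j
  fin_cases i <;> fin_cases j <;>
    simp [SpecialLinearGroup.transvection_coe, mul_apply, Fin.sum_univ_two, one_apply]

theorem ww_vv (c : F) : ww F * vv c * (ww F)⁻¹ = uu (-c) := by
  have h := ww_uu (-c)
  rw [neg_neg] at h
  rw [← h]
  calc _ = ww F * ww F * uu (-c) * (ww F * ww F)⁻¹ := by group
    _ = _ := by rw [ww_mul_self]; group

theorem ww_not_comm : ww F * uu 1 ≠ uu 1 * ww F := fun h => by
  have h1 := ww_uu (1 : F)
  rw [h, mul_inv_cancel_right] at h1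
  simpa using uu_ne_vv h1

theorem aa_mul {l m n : Fˣ} {σ τ : RingAut F} (h : (n : F) = l * σ m) :
    aa l σ * aa m τ = aa n (σ * τ) :=
  aut_ext (fun c => by simp [aa_uu, h, mul_assoc]) fun c => by
    simp [aa_vv, h, mul_assoc, mul_left_comm]

theorem aa_inj {l m : Fˣ} {σ τ : RingAut F} (h : aa l σ = aa m τ) : l = m ∧ σ = τ := by
  have h1 : ∀ c, l * σ c = m * τ c := fun c => uu_inj (by rw [← aa_uu, ← aa_uu, h])
  have h2 : l = m := Units.ext (by simpa using h1 1)
  exact ⟨h2, RingEquiv.ext fun c => mul_left_cancel₀ l.ne_zero (by rw [h1, h2])⟩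

theorem aa_one : aa (1 : Fˣ) 1 = 1 :=
  aut_ext (fun c => by simp [aa_uu]) fun c => by simp [aa_vv]

theorem conj_ww_aa (l : Fˣ) (σ : RingAut F) :
    MulAut.conj (ww F) * aa l σ = aa l⁻¹ σ * MulAut.conj (ww F) :=
  aut_ext (fun c => by
    simp only [MulAut.mul_apply, MulAut.conj_apply, aa_uu, ww_uu, aa_vv]; simp) fun c => by
    simp only [MulAut.mul_apply, MulAut.conj_apply, aa_uu, ww_vv, aa_vv]; simp

theorem mul_conj (β : MulAut PSL(2, F)) (x : PSL(2, F)) :
    β * MulAut.conj x = MulAut.conj (β x) * β := by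
  ext y; simp

theorem aa_ww (σ : RingAut F) : aa 1 σ (ww F) = ww F := by simp [ww, aa_uu, aa_vv]

/-- The diagonal automorphisms. -/
noncomputable def dd (F : Type*) [Field F] : Fˣ →* MulAut PSL(2, F) :=
  MonoidHom.mk' (fun l => aa l 1) fun l m => by
    rw [aa_mul (l := l) (m := m) (n := l * m) (by simp), mul_one]

/-- The field automorphisms. -/
noncomputable def ff (F : Type*) [Field F] : RingAut F →* MulAut PSL(2, F) :=
  MonoidHom.mk' (fun σ => aa 1 σ) fun _ _ => (aa_mul (by simp)).symm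

theorem dd_apply (l : Fˣ) : dd F l = aa l 1 := rfl

theorem ff_apply (σ : RingAut F) : ff F σ = aa 1 σ := rfl

theorem dd_injective : Function.Injective (dd F) := fun _ _ h => (aa_inj h).1

theorem ff_injective : Function.Injective (ff F) := fun _ _ h => (aa_inj h).2

theorem det_dg (l : Fˣ) : GeneralLinearGroup.det (diagUnitsGL ![l, 1] : GL (Fin 2) F) = l :=
  Units.ext (by simp [GeneralLinearGroup.val_det_apply, coe_diagUnitsGL])

theorem innD_mem_inn {g : GL (Fin 2) F} :
    innD (Fin 2) F g ∈ Cfsg.Inn PSL(2, F) ↔ IsSquare (GeneralLinearGroup.det g) := by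
  rw [← mem_comap, comap_innD_inn, mem_comap, isSquare_iff_exists_sq]
  simp [eq_comm]

theorem dd_mem_inn {l : Fˣ} (h : IsSquare (l : F)) : aa l 1 ∈ Cfsg.Inn PSL(2, F) := by
  rw [aa, map_one, mul_one, innD_mem_inn, det_dg]
  obtain ⟨r, hr⟩ := h
  have : r ≠ 0 := fun e => l.ne_zero (by rw [hr, e, zero_mul])
  exact ⟨Units.mk0 r this, Units.ext hr⟩

theorem isSquare_mul [Finite F] {a b : F} (ha : ¬ IsSquare a) (hb : ¬ IsSquare b) :
    IsSquare (a * b) := by
  have := Fintype.ofFinite F
  have h2 : ringChar F ≠ 2 := fun h => ha (FiniteField.isSquare_of_char_two h a)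
  have ha0 : a ≠ 0 := fun e => ha (e ▸ IsSquare.zero)
  have hb0 : b ≠ 0 := fun e => hb (e ▸ IsSquare.zero)
  rw [FiniteField.isSquare_iff h2 ha0] at ha
  rw [FiniteField.isSquare_iff h2 hb0] at hb
  rw [FiniteField.isSquare_iff h2 (mul_ne_zero ha0 hb0), mul_pow,
    (FiniteField.pow_dichotomy h2 ha0).resolve_left ha,
    (FiniteField.pow_dichotomy h2 hb0).resolve_left hb]
  ring

theorem isSquare_mul_map [Finite F] (σ : RingAut F) (a : F) : IsSquare (a * σ a) := by
  by_cases h : IsSquare a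
  · exact h.mul (h.map σ)
  · exact isSquare_mul h fun h1 => h (by simpa using h1.map σ.symm)

theorem conj_injective (hF : 3 < Nat.card F) :
    Function.Injective (MulAut.conj : PSL(2, F) →* MulAut PSL(2, F)) := by
  have := ProjectiveSpecialLinearGroup.rank_two_simple (F := F) hF
  refine (MonoidHom.normal_ker _).eq_bot_or_eq_top.resolve_right (fun h => ?_) |>
    (MonoidHom.ker_eq_bot_iff _).mp
  have h1 : MulAut.conj (ww F) = 1 := (h ▸ mem_top _ : ww F ∈ (MulAut.conj).ker)
  refine ww_not_comm (F := F) ?_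
  have := congrArg (fun β : MulAut PSL(2, F) => β (uu 1)) h1
  simpa [mul_inv_eq_iff_eq_mul] using this

theorem orderOf_ww : orderOf (ww F) = 2 :=
  orderOf_eq_two (fun h => ww_not_comm (F := F) (by rw [h, one_mul, mul_one])) ww_mul_self

variable [Finite F] {K : Subgroup (MulAut PSL(2, F))}

/-- No field automorphism of prime order. -/
theorem not_field_prime (h : CN K) (hK : Cfsg.Inn PSL(2, F) ≤ K) (h4 : 4 < Nat.card F)
    {σ : RingAut F} (hσ : (orderOf σ).Prime) (hm : aa 1 σ ∈ K) : False := by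
  have : Finite (MulAut PSL(2, F)) := inferInstance
  have hi := conj_injective (F := F) (by omega)
  have hc : ∀ x, (MulAut.conj x : MulAut PSL(2, F)) ∈ K := fun x => hK ⟨x, rfl⟩
  have ho : orderOf (aa 1 σ) = orderOf σ := orderOf_injective (ff F) ff_injective σ
  have hu : aa 1 σ * MulAut.conj (uu 1) = MulAut.conj (uu 1) * aa 1 σ := by
    rw [mul_conj, aa_uu]; simp
  have hw : aa 1 σ * MulAut.conj (ww F) = MulAut.conj (ww F) * aa 1 σ := by rw [mul_conj, aa_ww]
  rcases hσ.eq_two_or_odd' with h2 | h2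
  · by_cases hp : ringChar F = 2
    · obtain ⟨a, ha, ha0, ha1⟩ : ∃ a, σ a = a ∧ a ≠ 0 ∧ a ≠ 1 := by
        by_contra h5
        push Not at h5
        have h6 := card_fixedSubfield_pow σ
        have h7 : Nat.card (fixedSubfield σ) ≤ Nat.card ({0, 1} : Set F) :=
          Nat.card_mono (Set.toFinite _) fun x hx => by
            by_cases h0 : x = 0
            · exact Or.inl h0
            · exact Or.inr (h5 x (mem_fixedSubfield.mp hx) h0)
        have h8 : Nat.card ({0, 1} : Set F) ≤ 2 := by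
          rw [Nat.card_coe_set_eq, Set.ncard_pair zero_ne_one]
        rw [h2] at h6
        have := Nat.pow_le_pow_left (h7.trans h8) 2
        omega
      set b := Units.mk0 a ha0 with hb
      have := Fintype.ofFinite F
      have hodd : Odd (orderOf (aa b 1)) := by
        rw [← dd_apply, orderOf_injective _ dd_injective]
        refine Odd.of_dvd_nat ?_ (orderOf_dvd_natCard b)
        rw [Nat.card_units, Nat.card_eq_fintype_card]
        have := FiniteField.even_card_of_char_two hp
        rw [Nat.card_eq_fintype_card] at h4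
        exact Nat.odd_iff.mpr (by omega)
      have hb1 : aa b 1 ≠ 1 := fun e => ha1 (congrArg Units.val (aa_inj (e.trans aa_one.symm)).1)
      obtain ⟨k, hk⟩ := (h.sub_odd hm (hK (dd_mem_inn (FiniteField.isSquare_of_char_two hp _)))
        (hc (uu 1)) (ho.trans h2) hodd hb1 (by
          rw [aa_mul (n := b) (by simp), aa_mul (n := b) (by simp [hb, ha]), mul_one,
            one_mul])).mpr hu.symm
      simp only [← dd_apply, ← map_zpow] at hk
      rw [eq_mul_inv_iff_mul_eq, dd_apply, dd_apply, mul_conj, aa_uu] at hk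
      have h5 := congrArg (fun β : MulAut PSL(2, F) => β (uu 1)) hk
      simp only [MulAut.mul_apply, MulAut.conj_apply, aa_uu, mul_inv_cancel_right, map_one,
        mul_one] at h5
      rw [eq_mul_inv_iff_mul_eq, ← uu_add, ← uu_add, add_comm] at h5
      rw [(Units.ext (add_left_cancel (uu_inj h5)) : b ^ k = b), mul_left_inj] at hk
      exact ha1 (by simpa [hb] using uu_inj (hi hk))
    · have := Fact.mk (CharP.char_is_prime F (ringChar F))
      have h1 : (uu 1 : PSL(2, F)) ≠ 1 := fun e => one_ne_zero (uu_inj (e.trans uu_zero.symm))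
      have h3 : orderOf (uu 1 : PSL(2, F)) = ringChar F :=
        orderOf_eq_prime (by rw [uu_pow]; simp [uu_zero]) h1
      have h5 := (h.sub_odd hm (hc (uu 1)) (hc (ww F)) (ho.trans h2) (by
        rw [orderOf_injective _ hi, h3]; exact this.out.odd_of_ne_two hp)
        (by rwa [Ne, map_eq_one_iff _ hi]) hu.symm).mpr hw.symm
      rw [← map_inv, ← map_mul, ← map_mul, ← MonoidHom.map_zpowers, mem_map_iff_mem hi, ww_uu,
        ← mem_powers_iff_mem_zpowers] at h5
      obtain ⟨k, hk⟩ := h5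
      simp only [uu_pow] at hk
      simpa using uu_ne_vv hk
  · have := (h.sub_odd (hc _) hm (hc (uu 1)) ((orderOf_injective _ hi _).trans orderOf_ww)
      (ho ▸ h2) (fun e => hσ.ne_one (by rw [← ho, e, orderOf_one])) hw).mp
      (by rw [← hu, mul_inv_cancel_right]; exact mem_zpowers _)
    rw [← map_mul, ← map_mul] at this
    exact ww_not_comm (hi this).symm

theorem not_field (h : CN K) (hK : Cfsg.Inn PSL(2, F) ≤ K) (h4 : 4 < Nat.card F)
    {l : Fˣ} (hl : IsSquare (l : F)) {σ : RingAut F} (hm : aa l σ ∈ K) : σ = 1 := by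
  by_contra hσ
  have h1 : aa 1 σ ∈ K := by
    have := mul_mem (hK (dd_mem_inn (l := l⁻¹) (by simpa using hl))) hm
    rwa [aa_mul (n := 1) (by simp), one_mul] at this
  have : Finite (RingAut F) := Finite.of_injective _ (ff_injective (F := F))
  obtain ⟨r, hr, hd⟩ := Nat.exists_prime_and_dvd (orderOf_eq_one_iff.not.mpr hσ)
  refine not_field_prime h hK h4 (σ := σ ^ (orderOf σ / r)) ?_ ?_
  · rwa [orderOf_pow_orderOf_div (orderOf_pos σ).ne' hd]
  · rw [← ff_apply, map_pow]; exact pow_mem h1 _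

theorem eq_one (h : CN K) (hK : Cfsg.Inn PSL(2, F) ≤ K) (h4 : 4 < Nat.card F)
    {l : Fˣ} {σ : RingAut F} (hm : aa l σ ∈ K) : σ = 1 := by
  by_contra hσ
  have hl : ¬ IsSquare (l : F) := fun hl => hσ (not_field h hK h4 hl hm)
  have := Fintype.ofFinite F
  have hp : ringChar F ≠ 2 := fun e => hl (FiniteField.isSquare_of_char_two e _)
  have hsq : ∀ m : Fˣ, aa m σ * aa m σ = aa (m * Units.map (σ : F →* F) m) (σ * σ) :=
    fun m => aa_mul (by simp)
  have h2 : σ * σ = 1 := not_field h hK h4 (l := l * Units.map (σ : F →* F) l)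
    (by simpa using isSquare_mul_map σ l) (hsq l ▸ mul_mem hm hm)
  have ho := orderOf_eq_two hσ h2
  have hq := card_fixedSubfield_pow σ
  rw [ho, Nat.card_eq_fintype_card (α := F)] at hq
  have hodd := FiniteField.odd_card_of_char_ne_two hp
  obtain ⟨j, hj⟩ : Odd (Nat.card (fixedSubfield σ)) :=
    (Nat.odd_pow_iff two_ne_zero).mp (hq ▸ Nat.odd_iff.mpr hodd)
  have hne : (-1 : F) ≠ 1 := Ring.neg_one_ne_one_of_char_ne_two hp
  have key : ∀ m : Fˣ, ¬ IsSquare (m : F) → σ (m ^ 2) = m ^ 2 := by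
    intro m hm2
    have hmK : aa m σ ∈ K := by
      have := mul_mem (hK (dd_mem_inn (l := m * l⁻¹) (by
        simpa using isSquare_mul hm2 (isSquare_inv.not.mpr hl)))) hm
      rwa [aa_mul (n := m) (by simp), one_mul] at this
    have ht : aa m σ ^ (2 * j) = aa (-1) 1 := by
      rw [pow_mul, sq, hsq, h2, ← dd_apply, ← map_pow, dd_apply]
      congr 1
      apply Units.ext
      have h3 := (FiniteField.pow_dichotomy hp m.ne_zero).resolve_left
        ((FiniteField.isSquare_iff hp m.ne_zero).not.mp hm2)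
      have h5 : Fintype.card F / 2 = (2 * j + 2) * j := by
        rw [← hq, hj, show (2 * j + 1) ^ 2 = 2 * ((2 * j + 2) * j) + 1 by ring]; omega
      simp only [Units.val_pow_eq_pow_val, Units.val_mul, Units.coe_map, MonoidHom.coe_coe,
        apply_eq_pow_of_orderOf_eq_two hq.symm ho, hj, Units.val_neg, Units.val_one]
      rw [← h3, h5]; ring
    obtain ⟨k, hk⟩ := h.sub_even (s := aa (-1) 1) (g := MulAut.conj (ww F)) hmK (hK ⟨_, rfl⟩) (by
      rw [← dd_apply, orderOf_injective _ dd_injective]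
      exact orderOf_eq_two (fun e => hne (by simpa using congrArg Units.val e)) (by simp))
      (ht ▸ npow_mem_zpowers _ _) (by rw [conj_ww_aa]; simp)
    have h6 : aa m σ * aa m⁻¹ σ = aa m⁻¹ σ * aa m σ := by
      simp only [conj_ww_aa, mul_inv_cancel_right] at hk
      rw [← hk]; group
    rw [aa_mul (n := m * Units.map (σ : F →* F) m⁻¹) (by simp),
      aa_mul (n := m⁻¹ * Units.map (σ : F →* F) m) (by simp)] at h6
    have h7 := congrArg Units.val (aa_inj h6).1
    have h8 : σ m ≠ 0 := by simp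
    simp only [Units.val_mul, Units.coe_map, MonoidHom.coe_coe, Units.val_inv_eq_inv_val,
      map_inv₀] at h7
    field_simp at h7
    rw [map_pow, h7]
  have key2 : ∀ x : F, σ (x ^ 2) = x ^ 2 := fun x => by
    by_cases h0 : x = 0
    · simp [h0]
    by_cases hx : IsSquare x
    · have h3 := key (Units.mk0 x h0 * l) fun h3 => hl (by
        simpa [h0] using (isSquare_inv.mpr hx).mul h3)
      simp only [Units.val_mul, Units.val_mk0, mul_pow, map_mul, key l hl] at h3
      exact mul_right_cancel₀ (pow_ne_zero 2 l.ne_zero) h3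
    · exact key (Units.mk0 x h0) hx
  refine hσ (RingEquiv.ext fun x => ?_)
  have h3 := key2 (x + 1)
  have h5 := key2 x
  simp only [map_pow, map_add, map_one] at h3 h5
  have h6 : (2 : F) ≠ 0 := Ring.two_ne_zero hp
  exact mul_left_cancel₀ h6 (by simp only [RingAut.one_apply]; linear_combination h3 - h5)

theorem le_range (h : CN K) (hK : Cfsg.Inn PSL(2, F) ≤ K) (h4 : 4 < Nat.card F) :
    K ≤ (innD (Fin 2) F).range := fun β hβ => by
  obtain ⟨g, σ, rfl⟩ := PSL_aut_eq_two β
  have h1 := mul_mem (hK (innD_mem_inn (g := diagUnitsGL ![GeneralLinearGroup.det g, 1] * g⁻¹).mpr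
    (by simp [det_dg]))) hβ
  rw [← mul_assoc, ← map_mul, inv_mul_cancel_right] at h1
  rw [eq_one h hK h4 h1]
  exact ⟨g, by simp⟩

theorem eq_or_eq (hK : Cfsg.Inn PSL(2, F) ≤ K) (h : K ≤ (innD (Fin 2) F).range) :
    K = Cfsg.Inn PSL(2, F) ∨ K = (innD (Fin 2) F).range := by
  have hs : ∀ a : Fˣ, IsSquare a ↔ IsSquare (a : F) := fun a =>
    ⟨fun h => h.map (Units.coeHom F), fun ⟨r, hr⟩ =>
      ⟨Units.mk0 r fun e => a.ne_zero (by rw [hr, e, zero_mul]), Units.ext hr⟩⟩
  refine or_iff_not_imp_left.mpr fun h1 => le_antisymm h ?_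
  obtain ⟨β, hβ, h2⟩ := SetLike.not_le_iff_exists.mp fun h3 => h1 (le_antisymm h3 hK)
  obtain ⟨g, rfl⟩ := h hβ
  rintro _ ⟨k, rfl⟩
  by_cases h3 : innD (Fin 2) F k ∈ Cfsg.Inn PSL(2, F)
  · exact hK h3
  rw [innD_mem_inn, hs] at h2 h3
  have h4 := hK (innD_mem_inn (g := k * g).mpr (by
    rw [hs, map_mul, Units.val_mul]; exact isSquare_mul h3 h2))
  simpa using mul_mem h4 (inv_mem hβ)

end Semi

section Final

variable {G : Type u} [Group G] [Finite G]

theorem isSolvable_of_odd_central (h : ∀ x : G, Odd (orderOf x) → x ∈ center G) :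
    Group.IsSolvable G := by
  have := Fact.mk Nat.prime_two
  have h2 : IsPGroup 2 (G ⧸ center G) := fun x => by
    induction x using QuotientGroup.induction_on with | H x => ?_
    obtain ⟨k, m, hm, e⟩ := Nat.exists_eq_two_pow_mul_odd (orderOf_pos x).ne'
    refine ⟨k, ?_⟩
    rw [← QuotientGroup.mk_pow, QuotientGroup.eq_one_iff]
    exact h _ (hm.of_dvd_nat (orderOf_dvd_of_pow_eq_one (by rw [← pow_mul, ← e, pow_orderOf_eq_one])))
  have := h2.isNilpotent
  have : Group.IsSolvable (center G) :=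
    Group.isSolvable_of_comm fun a b => Subtype.ext (mem_center_iff.mp b.2 a)
  exact Group.isSolvable_of_ker_le_range (center G).subtype (QuotientGroup.mk' (center G))
    (by simp)

theorem isSolvable_of_odd_normal (h : ∀ x g : G, Odd (orderOf x) → g * x * g⁻¹ ∈ zpowers x) :
    Group.IsSolvable G := by
  have : Group.IsSolvable (commutator G) := isSolvable_of_odd_central fun x hx => by
    have h1 : commutator G ≤ Cz (x : G) := by
      refine commutator_le.mpr fun a _ b _ => ?_
      have key : ∀ a b : G, a * (b * x * b⁻¹) * a⁻¹ = b * (a * x * a⁻¹) * b⁻¹ := fun a b => by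
        obtain ⟨i, hi⟩ := h x a (by rwa [orderOf_coe])
        obtain ⟨j, hj⟩ := h x b (by rwa [orderOf_coe])
        rw [← hj, ← hi]
        simp only [← conj_zpow, ← hi, ← hj, ← _root_.zpow_mul, mul_comm]
      rw [mem_Cz', commutatorElement_def]
      calc _ = a * b * (a⁻¹ * (b⁻¹ * x * b⁻¹⁻¹) * a⁻¹⁻¹) * (a * b)⁻¹ := by group
        _ = _ := by rw [key]; group
    exact mem_center_iff.mpr fun g => Subtype.ext (mem_Cz.mp (h1 g.2))
  exact Group.isSolvable_of_ker_le_range (commutator G).subtype (Abelianization.of) (by simp)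

theorem CN.isSolvable_Cz (h : CN G) {t : G} (ht : orderOf t = 2) : Group.IsSolvable (Cz t) :=
  isSolvable_of_odd_normal fun x g hx => by
    by_cases h1 : x = 1
    · simp [h1]
    have h2 := h.Nz_odd ht (by rwa [orderOf_coe]) (fun e => h1 (Subtype.ext e)) x.2
    have h3 := mem_Nz.mp (h2.ge g.2)
    simpa [mem_zpowers_iff, Subtype.ext_iff] using h3

theorem CN.isSolvable_of_comm (h : CN G) {A B : Subgroup G} (hA : ¬ Group.IsSolvable A)
    (hB : B ≤ centralizer (A : Set G)) : Group.IsSolvable B := by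
  obtain ⟨t, htA, ht⟩ := exists_invol_of_even (H := A) fun ho => hA (FT.odd_order_solvable ho)
  have := h.isSolvable_Cz ht
  exact Group.isSolvable_of_isSolvable_injective (f := inclusion (hB.trans
    (centralizer_le (Set.singleton_subset_iff.mpr htA)))) (inclusion_injective _)

theorem CN.isSimpleGroup (h : CN G) {N : Subgroup G} (hN : IsMinNormal N)
    (hs : ¬ Group.IsSolvable N) : IsSimpleGroup N := by
  have := hN.normal
  have := (nontrivial_iff_ne_bot N).mpr hN.ne_bot
  refine ⟨fun K hK => ?_⟩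
  by_contra hcon
  push Not at hcon
  obtain ⟨M, hM, hMK⟩ := exists_isMinNormal_le K hcon.1
  have := hM.normal
  have hMs : ¬ Group.IsSolvable M := fun _ => by
    obtain ⟨p, k, hp, hk, e⟩ := hM.card_eq_prime_pow
    have := Fact.mk hp
    have h5 : (pCore p N).map N.subtype = N :=
      (hN.min _ (normal_map_subtype_of_char _) (map_subtype_le _)).resolve_left fun e' =>
        hM.ne_bot (le_bot_iff.mp ((le_pCore hM.normal (IsPGroup.of_card e)).trans
          ((map_eq_bot_iff_of_injective _ N.subtype_injective).mp e').le))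
    have h6 := (isPGroup_map_pCore p N)
    rw [h5] at h6
    have := h6.isNilpotent
    exact hs inferInstance
  by_cases h1 : ∀ g : G, M.map (MulAut.conjNormal g : MulAut N).toMonoidHom = M
  · have h2 : (M.map N.subtype).Normal := ⟨by
      rintro _ ⟨m, hm, rfl⟩ g
      exact ⟨MulAut.conjNormal g m, h1 g ▸ mem_map_of_mem _ hm, rfl⟩⟩
    rcases hN.min _ h2 (map_subtype_le M) with e | e
    · exact hM.ne_bot ((map_eq_bot_iff_of_injective M N.subtype_injective).mp e)
    · refine hcon.2 (eq_top_iff.mpr fun n _ => hMK ?_)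
      obtain ⟨m, hm, e⟩ : (n : G) ∈ M.map N.subtype := e.symm ▸ n.2
      exact (Subtype.ext e : m = n) ▸ hm
  push Not at h1
  obtain ⟨g, hg⟩ := h1
  set M' := M.map (MulAut.conjNormal g : MulAut N).toMonoidHom with hM'
  have : M'.Normal := hM.normal.map _ (MulAut.conjNormal g).surjective
  have h2 : M ⊓ M' = ⊥ := (hM.inf_eq_bot_or_le M').resolve_right fun hle =>
    hg (eq_of_le_of_card_ge hle (card_map_of_injective (MulAut.conjNormal g).injective).le).symm
  have h3 := le_centralizer_of_disjoint (H := M') (K := M) le_normalizer_of_normal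
    le_normalizer_of_normal (by rwa [inf_comm])
  have := (h.of_injective N.subtype N.subtype_injective).isSolvable_of_comm hMs h3
  exact hMs (Group.isSolvable_of_isSolvable_injective
    (G' := M') (f := (M.equivMapOfInjective _ (MulAut.conjNormal g).injective).toMonoidHom)
    (MulEquiv.injective _))

theorem psl2_four_five {F : Type*} [Field F] [Finite F] (hF : Nat.card F = 4) :
    Nonempty (PSL(2, F) ≃* @ProjectiveSpecialLinearGroup (Fin 2) _ _ (ZMod 5) _) := by
  have := Fact.mk Nat.prime_five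
  have h5 : Nat.card (ZMod 5) = 5 := Nat.card_zmod 5
  have := ProjectiveSpecialLinearGroup.rank_two_simple (F := F) hF.ge
  have := ProjectiveSpecialLinearGroup.rank_two_simple (F := ZMod 5) (by omega)
  have h1 := Class.gcd_mul_card_PSL2 (F := F)
  have h2 := Class.gcd_mul_card_PSL2 (F := ZMod 5)
  rw [hF] at h1
  rw [h5] at h2
  obtain ⟨e1⟩ := Class.nonempty_mulEquiv_A5_of_isSimpleGroup (G := PSL(2, F)) (by simpa using h1)
  obtain ⟨e2⟩ := Class.nonempty_mulEquiv_A5_of_isSimpleGroup (G := PSL(2, ZMod 5))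
    (by rw [show Nat.gcd 2 (5 - 1) = 2 by norm_num] at h2; omega)
  exact ⟨e1.trans e2.symm⟩

omit [Finite G] in
theorem CN.of_socle (h : CN G) {N : Subgroup G} [N.Normal] (hC : centralizer (N : Set G) = ⊥)
    {F : Type*} [Field F] [Finite F] (h4 : 4 < Nat.card F) (e : N ≃* PSL(2, F)) :
    Nonempty (G ≃* PSL(2, F)) ∨ Nonempty (G ≃* ProjGenLinGroup (Fin 2) F) := by
  let f : G →* MulAut PSL(2, F) := (MulAut.congr e).toMonoidHom.comp MulAut.conjNormal
  have hf : Function.Injective f := (injective_iff_map_eq_one f).mpr fun g hg => by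
    have h1 : MulAut.conjNormal (H := N) g = 1 := (map_eq_one_iff _ (MulAut.congr e).injective).mp hg
    refine mem_bot.mp (hC ▸ fun n hn => ?_)
    have := congrArg (fun β : MulAut N => (β ⟨n, hn⟩ : G)) h1
    exact (mul_inv_eq_iff_eq_mul.mp (by simpa using this)).symm
  have hK : Cfsg.Inn PSL(2, F) ≤ f.range := by
    rintro _ ⟨x, rfl⟩
    refine ⟨e.symm x, MulEquiv.ext fun y => e.symm.injective (Subtype.ext ?_)⟩
    simp [f, MulAut.congr]
  have e1 := MonoidHom.ofInjective hf
  have h1 : CN f.range := h.of_injective e1.symm.toMonoidHom e1.symm.injective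
  exact (Semi.eq_or_eq hK (Semi.le_range h1 hK h4)).imp
    (fun h2 => ⟨(e1.trans (MulEquiv.subgroupCongr h2)).trans
      (MonoidHom.ofInjective (Semi.conj_injective (by omega))).symm⟩)
    fun h2 => ⟨(e1.trans (MulEquiv.subgroupCongr h2)).trans (pglEquivRange _ _).symm⟩

theorem CN.final [Gate.CITStrong.{u}] [Gate.BenderCore.{u}] [Gate.S1136.{u, u}] [Gate.S0508.{u}]
    [Nontrivial G] (h : CN G) (hss : ∀ N : Subgroup G, N.Normal → Group.IsSolvable N → N = ⊥) :
    ∃ (F : Type) (_ : Field F) (_ : Fintype F), 3 < Fintype.card F ∧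
      (Nonempty (G ≃* PSL(2, F)) ∨ Nonempty (G ≃* ProjGenLinGroup (Fin 2) F)) := by
  obtain ⟨N, hN⟩ := exists_isMinNormal G
  have := hN.normal
  have hs : ¬ Group.IsSolvable N := fun h1 => hN.ne_bot (hss N this h1)
  have := h.isSimpleGroup hN hs
  have hC := hss _ inferInstance (h.isSolvable_of_comm hs le_rfl)
  obtain ⟨F, _, _, h3, ⟨e⟩⟩ := (h.of_injective N.subtype N.subtype_injective).simple (by
    by_contra h2
    push Not at h2
    exact hs (Group.isSolvable_of_comm h2))
  by_cases h4 : Nat.card F = 4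
  · have := Fact.mk Nat.prime_five
    obtain ⟨e1⟩ := psl2_four_five h4
    exact ⟨ZMod 5, inferInstance, inferInstance, by simp,
      h.of_socle hC (by simp) (e.trans e1)⟩
  · exact ⟨F, inferInstance, inferInstance, h3,
      h.of_socle hC (by rw [← Nat.card_eq_fintype_card] at h3; omega) e⟩

end Final

end Cfsg.Lib.Recog
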