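import Cfsg.Agent.Recog.Mc3K
import Cfsg.Agent.Perm.FCTri
import Cfsg.Agent.Solv.ExtraSub
import Cfsg.Agent.Spor.Co0Simple
import Cfsg.Agent.Trans.GenFitting

/-!
Reduction of the hypotheses phrased with generalised Fitting subgroups to the working form.
-/

set_option autoImplicit false
set_option linter.unusedSectionVars false
set_option linter.unusedVariables false
set_option linter.style.haveILetI false

namespace Cfsg.Lib.Mc3

open Subgroup Cfsg.Lib.Perm Cfsg.Lib.Block

variable {G : Type*} [Group G]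

theorem exists_hom_comap {C : Subgroup G} (K : Subgroup C) [K.Normal] {Γ : Type*} [Group Γ]
    (F : Subgroup (C ⧸ K)) (e : F ≃* Γ) :
    ∃ φ : ((F.comap (QuotientGroup.mk' K)).map C.subtype) →* Γ,
      (∀ x, φ x = 1 ↔ (x : G) ∈ K.map C.subtype) ∧ Function.Surjective φ := by
  let ψ := (equivMapOfInjective (F.comap (QuotientGroup.mk' K)) _ (subtype_injective C)).symm
  refine ⟨(e.toMonoidHom.comp ((QuotientGroup.mk' K).subgroupComap F)).comp ψ.toMonoidHom,
    fun x => ?_, e.surjective.comp (((QuotientGroup.mk' K).subgroupComap_surjective_of_surjective F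
      (QuotientGroup.mk'_surjective K)).comp ψ.surjective)⟩
  obtain ⟨x, rfl⟩ := ψ.symm.surjective x
  change e (MonoidHom.subgroupComap _ F (ψ (ψ.symm x))) = 1 ↔ C.subtype x ∈ _
  rw [ψ.apply_symm_apply, e.map_eq_one_iff, mem_map_iff_mem (subtype_injective C), Subtype.ext_iff]
  exact QuotientGroup.eq_one_iff _

variable [Finite G]

theorem exists_LS' {Z : Subgroup G} (hZ : Nat.card Z = 3) (S : Sylow 3 (centralizer (Z : Set G)))
    (hQ : IsExtraspecial 3 (generalizedFittingSubgroup (centralizer (Z : Set G))))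
    (hQcard : Nat.card (generalizedFittingSubgroup (centralizer (Z : Set G))) = 3 ^ 5)
    [hQn : (generalizedFittingSubgroup (centralizer (Z : Set G))).Normal]
    (hexp : ∀ x ∈ generalizedFittingSubgroup (centralizer (Z : Set G)), x ^ 3 = 1)
    (e : generalizedFittingSubgroup (centralizer (Z : Set G) ⧸
      generalizedFittingSubgroup (centralizer (Z : Set G))) ≃* SL25) :
    ∃ (S' : Sylow 3 G) (Q L : Subgroup G) (z : G) (pL : G → SL25),
      (S' : Subgroup G) = (S : Subgroup _).map (centralizer (Z : Set G)).subtype ∧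
        LS S' Q L z pL := by
  haveI : Fact (Nat.Prime 3) := ⟨Nat.prime_three⟩
  obtain ⟨z, rfl⟩ : ∃ z, zpowers z = Z := by
    haveI := isCyclic_of_prime_card hZ
    exact (Subgroup.isCyclic_iff_exists_zpowers_eq_top Z).mp inferInstance
  have z3 : orderOf z = 3 := by rw [← Nat.card_zpowers, hZ]
  have hC : ∀ g, g ∈ centralizer (zpowers z : Set G) ↔ g * z = z * g := fun g =>
    ⟨fun h => (h z (mem_zpowers z)).symm, fun h x hx => (comm_zp h hx).symm⟩
  have hNC : normalizer (zpowers z : Set G) ≤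
      normalizer (centralizer (zpowers z : Set G) : Subgroup G) :=
    (normal_subgroupOf_iff_le_normalizer (centralizer_le_normalizer _)).mp inferInstance
  generalize centralizer (zpowers z : Set G) = C at *
  set F := generalizedFittingSubgroup C
  have hCQ : ∀ g ∈ C, (∀ q ∈ F.map C.subtype, g * q = q * g) → g ∈ F.map C.subtype :=
    fun g hg h => ⟨⟨g, hg⟩, Trans.centralizer_genFitting_le C fun q hq =>
      Subtype.ext (h q ⟨q, hq, rfl⟩).symm, rfl⟩
  have hQz : ∀ q ∈ F.map C.subtype, q * z = z * q := fun q hq => (hC q).mp (map_subtype_le _ hq)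
  have hzQ := hCQ z ((hC z).mpr rfl) fun q hq => (hQz q hq).symm
  obtain ⟨-, h2, h3⟩ := extraspecial_facts z3 hzQ hQz (Solv.PG.isExtraspecial_of_mulEquiv
    (equivMapOfInjective F _ (subtype_injective C)) hQ)
  obtain ⟨h3, h4⟩ := h3 fun g hg => hCQ g ((hC g).mpr (hg z hzQ).symm) fun q hq => (hg q hq).symm
  have hQS : F.map C.subtype ≤ (S : Subgroup C).map C.subtype :=
    map_mono (hQ.1.1.le_sylow_of_normal S)
  have hS := isSylowIn_map 3 C S
  obtain ⟨S', hS'⟩ := isSylowIn_top_iff.mp (IsSylowIn.of_inf_normalizer (isSylowIn_of_maximal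
    hS.isPGroup (le_inf le_top le_normalizer) fun T hT h5 h6 => hS.eq_of_le hT h5 fun t ht => by
      obtain ⟨k, hk⟩ := IsPGroup.iff_orderOf.mp hT ⟨t, ht⟩
      refine (hC t).mpr (comm_of_pow_odd z3 (mem_nz (h4 _ fun q hq => ?_)) (n := 3 ^ k)
        (Odd.pow (by decide)) (by rw [← hk, ← orderOf_coe]; exact pow_orderOf_eq_one t))
      have := (hC _).mp (hS.le ((mem_normalizer_iff''.mp (h6 ht).2 q).mp (hQS hq)))
      calc t * z * t⁻¹ * q = t * (z * (t⁻¹ * q * t)) * t⁻¹ := by group
        _ = q * (t * z * t⁻¹) := by rw [← this]; group))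
  set Fb := generalizedFittingSubgroup (C ⧸ F)
  obtain ⟨φ, hφ, hφ'⟩ := exists_hom_comap F Fb e
  have hsq : ∀ g, g * g ∈ Fb := fun g => by
    have := index_sup_centralizer_SL25 e
    rw [sup_eq_left.mpr (Trans.centralizer_genFitting_le _)] at this
    exact this.elim (fun h => (index_eq_one.mp h).ge (mem_top _)) fun h => mul_self_mem_of_index_two h g
  have hSL : (S : Subgroup C).map C.subtype ≤ (Fb.comap (QuotientGroup.mk' F)).map C.subtype :=
    map_mono fun s hs => by
      obtain ⟨k, hk⟩ := S.isPGroup' ⟨s, hs⟩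
      exact mem_of_sq_of_pow (congrArg Subtype.val hk) (by rw [mem_comap, map_mul]; exact hsq _)
  haveI : F.Characteristic := Trans.genFitting_characteristic C
  haveI : (Fb.comap (QuotientGroup.mk' F)).Characteristic :=
    Characteristic.comap_quotient_mk (Trans.genFitting_characteristic _)
  obtain ⟨pL, p1, p2, p3⟩ := exists_proj (hQS.trans hSL) φ hφ
  refine ⟨S', _, _, z, pL, hS', z3, hS' ▸ hQS, hS' ▸ hSL,
    fun l hl => (hC l).mp (map_subtype_le _ hl), ?_, h2, hzQ,
    by rw [card_map_of_injective (subtype_injective C), hQcard]; rfl, h3, h4,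
    fun n hn q hq => (mem_normalizer_iff.mp
      (Solv.normalizer_le_normalizer_map_subtype_of_char F (hNC hn)) q).mp hq,
    fun n hn q hq => (mem_normalizer_iff.mp
      (Solv.normalizer_le_normalizer_map_subtype_of_char _ (hNC hn)) q).mp hq, p1, p2, fun x => ?_⟩
  · rintro _ ⟨q, hq, rfl⟩
    exact congrArg Subtype.val (hexp q hq)
  · obtain ⟨l, hl⟩ := hφ' x
    exact ⟨l, l.2, (p3 l).trans hl⟩

theorem exists_MS'' {S : Sylow 3 G} {J : Subgroup G} (hJS : J ≤ S) (hJ : IsElementaryAbelian 3 J)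
    (hJcard : Nat.card J = 3 ^ 4) [hJn : (J.subgroupOf (normalizer (J : Set G))).Normal]
    (e : closure {x : normalizer (J : Set G) ⧸ J.subgroupOf (normalizer (J : Set G)) |
      ∃ k : ℕ, orderOf x = 3 ^ k} ≃* alternatingGroup (Fin 6)) : ∃ M pM, MS S J M pM := by
  obtain ⟨φ, hφ, hφ'⟩ := exists_hom_comap _ _ e
  rw [map_subgroupOf_eq_of_le le_normalizer] at hφ
  have h3 : ∀ g : normalizer (J : Set G), (∃ k : ℕ, orderOf g = 3 ^ k) → (g : G) ∈ _ :=
    fun g ⟨k, hk⟩ => mem_map_of_mem (normalizer (J : Set G)).subtype (mem_comap.mpr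
      (subset_closure (k := {x | ∃ k : ℕ, orderOf x = 3 ^ k}) (by
        obtain ⟨i, -, hi⟩ := (Nat.dvd_prime_pow Nat.prime_three).mp
          (hk ▸ orderOf_map_dvd (QuotientGroup.mk' (J.subgroupOf (normalizer (J : Set G)))) g)
        exact ⟨i, hi⟩)))
  refine ⟨_, exists_MS' hJS hJ.1 hJ.2 hJcard (fun j hj => h3 ⟨j, le_normalizer hj⟩ ?_)
    (map_subtype_le _) ?_ (fun g hg h => h3 ⟨g, hg⟩ (by simpa only [orderOf_mk] using h)) φ hφ hφ'⟩
  · obtain ⟨k, hk⟩ := IsPGroup.iff_orderOf.mp (haveI : Fact (Nat.Prime 3) := ⟨Nat.prime_three⟩;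
      S.isPGroup') ⟨j, hJS hj⟩
    exact ⟨k, by simpa only [orderOf_mk] using hk⟩
  · rintro n hn _ ⟨m, hm, rfl⟩
    refine ⟨⟨n, hn⟩ * m * ⟨n, hn⟩⁻¹, ?_, rfl⟩
    rw [SetLike.mem_coe, mem_comap, map_mul, map_mul, map_inv]
    simpa using conj_mem_closure_three (N := ⊤) (mem_top _) (by simpa using hm)

theorem not_comm_McL : ¬IsMulCommutative Spor.McL := fun h => by
  haveI := Spor.CK.isSimpleGroup_McL
  letI : CommGroup Spor.McL := { mul_comm := h.is_comm.comm }
  have := IsSimpleGroup.prime_card (α := Spor.McL)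
  rw [Spor.CK.card_McL] at this
  exact absurd this (by norm_num)

theorem conclude' (h : Nonempty (G ≃* Spor.McL) ∨ ∃ N : Subgroup G, N.index = 2 ∧
      Nonempty (N ≃* Spor.McL) ∧ ∀ g : G, (∀ n ∈ N, g * n = n * g) → g = 1) :
    Spor.IsoMcL (generalizedFittingSubgroup G) := by
  haveI := Spor.CK.isSimpleGroup_McL
  have key : ∀ N : Subgroup G, N.Normal → (N ≃* Spor.McL) → N ⊔ centralizer N = N →
      Spor.IsoMcL (generalizedFittingSubgroup G) := fun N hN e h => by
    haveI := e.isSimpleGroup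
    have h1 : IsComponent N := ⟨hN.isSubnormal, Trans.isQuasisimple_of_isSimpleGroup fun h =>
      not_comm_McL ⟨⟨fun a b => e.symm.injective (by simp only [map_mul, mul_comm'])⟩⟩⟩
    exact ⟨(MulEquiv.subgroupCongr (le_antisymm
      ((Trans.IsComponent.genFitting_le_sup_centralizer h1).trans h.le)
      (Trans.IsComponent.le_genFitting h1))).trans e⟩
  rcases h with ⟨⟨e⟩⟩ | ⟨N, h1, ⟨e⟩, h2⟩
  · exact key ⊤ inferInstance (topEquiv.trans e) (top_sup_eq _)
  · exact key N (normal_of_index_eq_two h1) e (sup_eq_left.mpr fun g hg =>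
      h2 g (fun n hn => (hg n hn).symm) ▸ one_mem N)

end Cfsg.Lib.Mc3
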