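import Cfsg.Agent.Recog.C22Api2

/-!
Recognition of `Fi₂₂` from a `3`-centralizer: the first step, cases A and B.
-/

set_option autoImplicit false

namespace Cfsg.Lib.C22

open Cfsg Subgroup Equiv Cfsg.Lib.Recog.P43 Cfsg.Lib.Recog.P43.Q

variable {G : Type*} [Group G] {D D' : FD G}

namespace B1

theorem three_v (v : V) : v + v + v = 0 :=
  funext fun i => (by decide : ∀ a : V2, a + a + a = 0) (v i)

theorem blk_sq : ∀ g : Q, g ^ 3 = 1 → ∀ a : V2, a2 g (a - a2 g a) = a - a2 g a := by decide +kernel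

theorem comm_η {y : G} (hy : Commute y D.z) (u : V) :
    D.η u 0 * y * (D.η u 0)⁻¹ * y⁻¹ =
      D.η (u - (D.ρ y).act u) (-D.lam y u - bf u ((D.ρ y).act u)) := by
  rw [mul_assoc, mul_assoc, ← mul_assoc y, D.inv, D.conj y hy, D.mul, W.act_neg, D.lam_neg hy,
    bf_neg_right]
  exact D.congr (sub_eq_add_neg _ _).symm (by ring)

/-- The map `1 - w`. -/
def T (w : W) : V →ₗ[F3] V where
  toFun v := v - w.act v
  map_add' u v := by rw [W.act_add]; abel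
  map_smul' k v := by rw [W.act_smul, smul_sub]; rfl

theorem T_apply (w : W) (v : V) : T w v = v - w.act v := rfl

theorem mem_ker {w : W} {v : V} : v ∈ LinearMap.ker (T w) ↔ w.act v = v := by
  rw [LinearMap.mem_ker, T_apply, sub_eq_zero, eq_comm]

theorem bf_T {w : W} {f : V} (hf : w.act f = f) (u : V) : bf (T w u) f = 0 := by
  rw [T_apply, sub_eq_add_neg, bf_add_left, bf_neg_left]
  conv_lhs => rw [← W.bf_act w u f, hf]
  exact add_neg_cancel _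

theorem card_sub (S : Submodule F3 V) : Nat.card S = 3 ^ Module.finrank F3 S := by
  have : Fact (Nat.Prime 3) := ⟨Nat.prime_three⟩
  rw [Module.natCard_eq_pow_finrank (K := F3), Nat.card_zmod]

theorem finrank_V : Module.finrank F3 V = 6 := by
  have : Fact (Nat.Prime 3) := ⟨Nat.prime_three⟩
  simp [V, V2, Module.finrank_pi_fintype]

/-- The norm map. -/
def N (g : W) (v : V) : V := v + g.act v + g.act (g.act v)

theorem N_fix {g : W} (h3 : g ^ 3 = 1) (v : V) : g.act (N g v) = N g v := by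
  have : g.act (g.act (g.act v)) = v := by
    rw [← W.act_mul, ← W.act_mul, ← pow_three', h3, W.act_one]
  rw [N, W.act_add, W.act_add, this]; abel

theorem s1 {g : W} (hc : g.Cy) (a : V2) : g.act (sg 0 a) 0 = 0 := by
  rw [W.act_sg]; exact if_neg (hc 0).symm

theorem s2 {g : W} (hc : g.Cy) (a : V2) : g.act (g.act (sg 0 a)) 0 = 0 := by
  rw [W.act_sg, W.act_sg]
  refine if_neg ?_
  rcases cy_cases _ hc with ⟨a, b, c⟩ | ⟨a, b, c⟩ <;> simp [a, b, c]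

theorem N_zero {g : W} (hc : g.Cy) (a : V2) : N g (sg 0 a) 0 = a := by
  rw [N, Pi.add_apply, Pi.add_apply, s1 hc, s2 hc, add_zero, add_zero]; rfl

theorem fix_zero {g : W} (hc : g.Cy) {v : V} (hv : g.act v = v) (h0 : v 0 = 0) : v = 0 := by
  have e : ∀ i, v i = 0 → v (g.σ i) = 0 := fun i hi => by
    rw [← hv, W.act_apply, hi, a2_zero]
  have e1 := e _ h0
  have e2 := e _ e1
  funext j
  rcases cy_cases _ hc with ⟨a, b, c⟩ | ⟨a, b, c⟩ <;> simp only [a, b, c] at e1 e2 <;>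
    fin_cases j <;> assumption

theorem exists_w {g : W} (hc : g.Cy) (h3 : g ^ 3 = 1) {v : V} (hv : g.act v = v) :
    ∃ w, w - g.act w = v ∧ bf w (g.act w) = 0 := by
  refine ⟨sg 0 (v 0) - g.act (sg 0 (v 0)), ?_, ?_⟩
  · refine Eq.trans ?_ (sub_eq_zero.1 (fix_zero hc (v := N g (sg 0 (v 0)) - v)
      (by rw [W.act_sub, N_fix h3, hv]) (by rw [Pi.sub_apply, N_zero hc, sub_self])))
    rw [N, W.act_sub, eq_comm, ← sub_eq_zero, ← three_v (g.act (sg 0 (v 0)))]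
    abel
  · rw [sub_eq_add_neg (sg 0 (v 0)), bf_add_left, bf_neg_left, W.bf_act, bf_sg, bf_sg, W.act_add,
      W.act_neg, Pi.add_apply, Pi.add_apply, Pi.neg_apply, Pi.neg_apply, s1 hc, s2 hc]
    simp [sg, b2, mul_comm]

end B1

open B1

namespace FD.Far

theorem K (h : D.Far D') {u : V} {l : F3} (hm : D.η (u - (D.ρ D'.z).act u) l ∈ D'.Q)
    (hl : l = -D.lam D'.z u - bf u ((D.ρ D'.z).act u)) : u - (D.ρ D'.z).act u = 0 := by
  rw [hl, ← comm_η h.com] at hm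
  have h1 := h.wc _ (D.η_mem u 0) ((mul_mem_cancel_right (inv_mem D'.z_mem)).1 hm)
  have h2 := mul_mem h1 (inv_mem (mem_zpowers D'.z))
  rw [comm_η h.com] at h2
  rcases D'.mem_Z'.1 h2 with e | e | e
  · exact (D.η_eq_one.1 e).1
  · exact absurd (e ▸ D.η_mem _ _) h.n1
  · exact absurd (inv_mem_iff.1 (e ▸ D.η_mem _ _)) h.n1

theorem zero (h : D.Far D') {l : F3} (hm : D.η 0 l ∈ D'.Q) : l = 0 := by
  rcases D.mem_Z'.1 (D.η_mem_Z.2 rfl : D.η 0 l ∈ D.Z) with e | e | e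
  · exact D.inj₀ l e
  · exact absurd (e ▸ hm) h.n2
  · exact absurd (inv_mem_iff.1 (e ▸ hm)) h.n2

theorem mem_D0 (h : D.Far D') {v : V} :
    v ∈ D.vS (D.Q ⊓ D'.H) ↔ (D.ρ D'.z).act v = v ∧ D.lam D'.z v = 0 :=
  ⟨fun ⟨_, _, e⟩ => (D.commute_η h.com).1 (D'.mem_H.1 e).symm,
    fun e => ⟨0, D.η_mem _ _, D'.mem_H.2 ((D.commute_η h.com).2 e).symm⟩⟩

theorem U_le (D D' : FD G) : D.vS (D.Q ⊓ D'.Q) ≤ D.vS (D.Q ⊓ D'.H) :=
  fun _ ⟨l, a, b⟩ => ⟨l, a, D'.Q_le_H b⟩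

theorem card (h : D.Far D') :
    Nat.card (D.vS (D.Q ⊓ D'.H)) ≤ 3 * Nat.card (D.vS (D.Q ⊓ D'.Q)) := by
  have h1 := h.st (D.Q ⊓ D'.H) inf_le_right D.pQ.to_inf_left
  rw [inf_assoc, inf_eq_right.2 D'.Q_le_H, D.card_of_z inf_le_left ⟨D.z_mem, D'.mem_H.2 h.com.symm⟩,
    D.card_of_nz inf_le_left fun e => h.n2 e.2] at h1
  omega

theorem perp (h : D.Far D') {v w : V} (hv : v ∈ D.vS (D.Q ⊓ D'.H)) (hw : w ∈ D.vS (D.Q ⊓ D'.Q)) :
    bf v w = 0 := by
  obtain ⟨l, -, h1⟩ := hv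
  obtain ⟨k, -, h2⟩ := hw
  have := mul_mem (D'.conj_mem (D'.mem_H.1 h1) h2) (inv_mem h2)
  rw [← commutatorElement_def, D.commutator] at this
  exact neg_eq_zero.1 (h.zero this)

theorem cube (h : D.Far D') : D.ρ D'.z ^ 3 = 1 := by rw [← D.ρ_pow h.com, D'.z3, D.ρ_one]

/-- An element commuting with both central elements and inverting the symplectic space. -/
theorem exists_f (h : D.Far D') (hc : (D.ρ D'.z).Cy) :
    ∃ f, Commute f D.z ∧ Commute f D'.z ∧ ∀ v, (D.ρ f).act v = -v := by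
  have hy := h.com
  have hb : Commute (D'.z * D.r 0 * D'.z⁻¹) D.z := (hy.mul_left (D.r_z 0)).mul_left hy.inv_left
  have hd : Commute (D'.z * (D'.z * D.r 0 * D'.z⁻¹) * D'.z⁻¹) D.z :=
    (hy.mul_left hb).mul_left hy.inv_left
  have c1 : Commute (D.r 0) (D'.z * D.r 0 * D'.z⁻¹) := by
    obtain ⟨_, ⟨v, l, hv, rfl⟩, e⟩ := D.conj_r hy 0
    have := (D.r_η (l := l)).2 (hv 0 (hc 0).symm)
    rw [e]
    exact (this.mul_right (D.r_comm _ _)).mul_right this.inv_right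
  have e3 : D'.z * (D'.z * (D'.z * D.r 0 * D'.z⁻¹) * D'.z⁻¹) * D'.z⁻¹ = D.r 0 := by
    rw [show D'.z * (D'.z * (D'.z * D.r 0 * D'.z⁻¹) * D'.z⁻¹) * D'.z⁻¹ =
      D'.z ^ 3 * D.r 0 * (D'.z ^ 3)⁻¹ by rw [pow_three]; group, D'.z3]
    group
  have c3 := (Commute.conj_iff D'.z).2 ((Commute.conj_iff D'.z).2 c1)
  rw [e3] at c3
  refine ⟨D.r 0 * (D'.z * D.r 0 * D'.z⁻¹) * (D'.z * (D'.z * D.r 0 * D'.z⁻¹) * D'.z⁻¹),
    ((D.r_z 0).mul_left hb).mul_left hd, Commute.symm (mul_inv_eq_iff_eq_mul.1 ?_), fun v => ?_⟩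
  · rw [← conj_mul, ← conj_mul, e3]
    exact (c1.symm.mul_left c3).eq.trans (mul_assoc _ _ _).symm
  · rw [D.ρ_mul ((D.r_z 0).mul_left hb) hd, D.ρ_mul (D.r_z 0) hb, D.ρ_conj hy hb,
      D.ρ_conj hy (D.r_z 0), D.ρ_r, W.conj_ng, W.conj_ng, W.act_mul, W.act_mul]
    funext j
    rcases cy_cases _ hc with ⟨a, b, c⟩ | ⟨a, b, c⟩ <;> fin_cases j <;> simp [ng_act, a, b, c]

theorem not_cy (h : D.Far D') : ¬ (D.ρ D'.z).Cy := fun hc => by
  have hy := h.com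
  obtain ⟨f, f1, f2, f3⟩ := h.exists_f hc
  have l3 : ∀ v, D.lam D'.z (N (D.ρ D'.z) v) = 0 := fun v => by
    have := D.lam_mul (hy.mul_left hy) hy v
    rw [← pow_three', D'.z3, D.lam_mul hy hy,
      ((D.commute_η (Commute.one_left _)).1 (Commute.one_left (D.η v 0))).2] at this
    rw [N, D.lam_add hy, D.lam_add hy, this, add_assoc]
  have h9 := Nat.card_le_card_of_injective
    (fun a : V2 => (⟨_, h.mem_D0.2 ⟨N_fix h.cube (sg 0 a), l3 _⟩⟩ : D.vS (D.Q ⊓ D'.H)))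
    fun a b e => (N_zero hc a).symm.trans ((congrFun (congrArg Subtype.val e) 0).trans (N_zero hc b))
  have h3 := h.card
  have : Nontrivial (D.vS (D.Q ⊓ D'.Q)) := Finite.one_lt_card_iff_nontrivial.1 (by
    rw [show Nat.card V2 = 9 by simp [V2]] at h9; omega)
  obtain ⟨⟨v, l, hv⟩, hv0⟩ := exists_ne (0 : D.vS (D.Q ⊓ D'.Q))
  obtain ⟨w, e, e0⟩ := exists_w hc h.cube (h.mem_D0.1 (U_le D D' ⟨l, hv⟩)).1
  have e1 := D.lam_mul f1 hy w
  rw [f2.eq, D.lam_mul hy f1, f3, D.lam_neg hy] at e1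
  have e2 := mul_mem hv.2 (D'.conj_mem f2 hv.2)
  rw [D.conj f f1, f3, D.mul, add_neg_cancel, bf_neg_right, bf_self] at e2
  have e3 := h.zero e2
  have e4 : D.lam f v = D.lam f w - D.lam f ((D.ρ D'.z).act w) := by
    rw [← e, sub_eq_add_neg, D.lam_add f1, D.lam_neg f1, sub_eq_add_neg]
  refine hv0 (Subtype.ext (e.symm.trans (h.K (l := l) (by rw [e]; exact hv.2) ?_)))
  rw [e0]
  linear_combination -e3 + e4 + e1 + (l + D.lam D'.z w) * three_eq

theorem fix_T (h : D.Far D') (h1 : (D.ρ D'.z).σ = 1) (u : V) :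
    (D.ρ D'.z).act (T (D.ρ D'.z) u) = T (D.ρ D'.z) u := funext fun i => by
  rw [W.act_σ1 h1, T_apply, Pi.sub_apply, W.act_σ1 h1]
  exact blk_sq _ (by rw [← W.pow_g h1, h.cube]; rfl) _

theorem lam (h : D.Far D') (h1 : (D.ρ D'.z).σ = 1) (v : V)
    (hv : (D.ρ D'.z).act v = v) : D.lam D'.z v = 0 := by
  by_contra hn
  have : Fact (Nat.Prime 3) := ⟨Nat.prime_three⟩
  have hy := h.com
  have r1 := LinearMap.finrank_range_add_finrank_ker (T (D.ρ D'.z))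
  have r2 : Module.finrank F3 (LinearMap.ker (T (D.ρ D'.z))) ≤
      Module.finrank F3 (D.vS (D.Q ⊓ D'.H)) + 1 := by
    rw [← finrank_span_singleton (K := F3) (show v ≠ 0 from fun e => hn (e ▸ D.lam_zero hy))]
    refine (Submodule.finrank_mono fun w hw => ?_).trans
      (Submodule.finrank_add_le_finrank_add_finrank _ _)
    rw [← sub_add_cancel w ((D.lam D'.z w / D.lam D'.z v) • v)]
    refine Submodule.add_mem_sup (h.mem_D0.2 ⟨?_, ?_⟩)
      (Submodule.smul_mem _ _ (Submodule.mem_span_singleton_self v))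
    · rw [W.act_sub, W.act_smul, hv, mem_ker.1 hw]
    · rw [sub_eq_add_neg, D.lam_add hy, D.lam_neg hy, D.lam_smul hy, div_mul_cancel₀ _ hn,
        add_neg_cancel]
  have r3 := h.card
  rw [card_sub, card_sub, ← pow_succ', Nat.pow_le_pow_iff_right (by norm_num)] at r3
  have r4 := Submodule.finrank_sup_add_finrank_inf_eq (D.vS (D.Q ⊓ D'.Q))
    (LinearMap.range (T (D.ρ D'.z)))
  rw [show D.vS (D.Q ⊓ D'.Q) ⊓ LinearMap.range (T (D.ρ D'.z)) = ⊥ from eq_bot_iff.2 (by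
    rintro _ ⟨⟨l, hl⟩, u, rfl⟩
    obtain ⟨k, hk⟩ : ∃ k, k * D.lam D'.z v = -D.lam D'.z u - bf u ((D.ρ D'.z).act u) - l :=
      ⟨_, div_mul_cancel₀ _ hn⟩
    have e : u + k • v - (D.ρ D'.z).act (u + k • v) = T (D.ρ D'.z) u := by
      rw [W.act_add, W.act_smul, hv, T_apply]; abel
    refine e.symm.trans (h.K (l := l) (by rw [e]; exact hl.2) ?_)
    have := W.bf_act (D.ρ D'.z) v u
    rw [hv, bf_swap u v] at this
    rw [W.act_add, W.act_smul, hv, D.lam_add hy, D.lam_smul hy, bf_add_left, bf_add_right,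
      bf_add_right, bf_smul_left, bf_smul_right, bf_self, this]
    linear_combination hk), finrank_bot] at r4
  have r5 := Submodule.finrank_mono (show D.vS (D.Q ⊓ D'.Q) ⊔ LinearMap.range (T (D.ρ D'.z)) ≤
      BF.orthogonal (D.vS (D.Q ⊓ D'.Q) ⊔ LinearMap.range (T (D.ρ D'.z))) from fun _ ha0 _ hb0 => by
    obtain ⟨a, ha, _, ⟨a', rfl⟩, rfl⟩ := Submodule.mem_sup.1 ha0
    obtain ⟨b, hb, _, ⟨b', rfl⟩, rfl⟩ := Submodule.mem_sup.1 hb0
    change bf _ _ = 0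
    rw [bf_add_left, bf_add_right, bf_add_right, h.perp (U_le D D' hb) ha, bf_swap _ b,
      bf_T (h.mem_D0.1 (U_le D D' hb)).1, bf_T (h.mem_D0.1 (U_le D D' ha)).1, bf_T (h.fix_T h1 _)]
    simp)
  rw [LinearMap.BilinForm.finrank_orthogonal BF_nd, finrank_V] at r5
  rw [finrank_V] at r1
  omega

end FD.Far

end Cfsg.Lib.C22
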