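import Cfsg.Agent.Recog.C22B1

/-!
Recognition of `Fi₂₂` from a `3`-centralizer: the first step, case C.
-/

set_option autoImplicit false

namespace Cfsg.Lib.C22

open Cfsg Subgroup Equiv Cfsg.Lib.Recog.P43 Cfsg.Lib.Recog.P43.Q

variable {G : Type*} [Group G] {D D' : FD G}

namespace B2

theorem ex_fix : ∀ g : Q, g ^ 3 = 1 → ∃ a : V2, a ≠ 0 ∧ a2 g a = a := by decide +kernel

theorem fix_line : ∀ g : Q, g ≠ 1 → ∀ a : V2, a ≠ 0 → a2 g a = a → ∀ b, a2 g b = b →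
    ∃ c : F3, b = c • a := by decide +kernel

theorem ex_b : ∀ g : Q, g ≠ 1 → ∀ a : V2, a ≠ 0 → a2 g a = a →
    ∃ b, b - a2 g b = a ∧ b2 b (a2 g b) ≠ 0 := by decide +kernel

theorem iso : ∀ m0 m1 m2 : F3, m0 ≠ 0 → m1 ≠ 0 → m2 ≠ 0 → ∃ β : Fin 3 → F3, (∃ i, β i ≠ 0) ∧
    β 0 * β 0 * m0 + β 1 * β 1 * m1 + β 2 * β 2 * m2 = 0 := by decide +kernel

theorem sq_cases : ∀ g : Q, g * g = 1 → g = 1 ∨ g = m := by decide +kernel

theorem neg_ne : ∀ a : V2, a ≠ 0 → -a ≠ a := by decide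

theorem smul_inj : ∀ a : V2, a ≠ 0 → ∀ c d : F3, c • a = d • a → c = d := by decide

theorem perm_fix : ∀ (σ : Perm (Fin 3)) (k : Fin 3), (∀ i, i ≠ k → σ i = i) → σ = 1 := by decide

theorem b2_smul (c d : F3) (a b : V2) : b2 (c • a) (d • b) = c * d * b2 a b := by
  simp only [b2, Prod.smul_fst, Prod.smul_snd, smul_eq_mul]; ring

theorem b2_self (a : V2) : b2 a a = 0 := by simp only [b2]; ring

theorem sg_smul (i : Fin 3) (c : F3) (a : V2) : sg i (c • a) = c • sg i a := funext fun j => by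
  by_cases e : j = i <;> simp [sg, e]

theorem single_smul (a : V) (i : Fin 3) :
    (fun j => (Pi.single i 1 : Fin 3 → F3) j • a j) = sg i (a i) := funext fun j => by
  by_cases e : j = i <;> simp [sg, e]

theorem fix_two {w : W} {k : Fin 3} {a : V} (ha : ∀ i, a i ≠ 0)
    (h : ∀ i, i ≠ k → w.act (sg i (a i)) = sg i (a i)) :
    w.σ = 1 ∧ ∀ i, i ≠ k → a2 (w.g i) (a i) = a i := by
  have h1 : w.σ = 1 := perm_fix _ k fun i hi => by
    by_contra n
    have := congrFun (h i hi) i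
    rw [W.act_sg] at this
    simp only [sg, if_neg (Ne.symm n), if_true] at this
    exact ha i this.symm
  refine ⟨h1, fun i hi => ?_⟩
  simpa [W.act_σ1 h1, sg] using congrFun (h i hi) i

theorem comm_η' {s : G} (hs : Commute s D.z) (v : V) :
    s * D.η v 0 * s⁻¹ * (D.η v 0)⁻¹ =
      D.η ((D.ρ s).act v - v) (0 + D.lam s v + -0 + bf ((D.ρ s).act v) (-v)) := by
  rw [D.conj s hs, D.inv, D.mul, sub_eq_add_neg]

end B2

open B1 B2

namespace FD

theorem Far.nf (h : D.Far D') (h1 : (D.ρ D'.z).σ = 1) (h2 : ∀ v, D.lam D'.z v = 0) :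
    D.Nf D' := by
  have hy := h.com
  have g3 : ∀ i, (D.ρ D'.z).g i ^ 3 = 1 := fun i => by rw [← W.pow_g h1, h.cube]; rfl
  choose a ha ha' using fun i => ex_fix _ (g3 i)
  have mem : ∀ v : V, v ∈ D.vS (D.Q ⊓ D'.H) ↔ ∀ i, a2 ((D.ρ D'.z).g i) (v i) = v i := fun v => by
    rw [h.mem_D0, and_iff_left (h2 v), funext_iff]
    simp only [W.act_σ1 h1]
  have c1 := h.card
  have c2 : Nat.card (D.vS (D.Q ⊓ D'.H)) * Nat.card (D.vS (D.Q ⊓ D'.Q)) ≤ 729 := by
    rw [← card_mul_card_perp (D.vS (D.Q ⊓ D'.H))]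
    exact Nat.mul_le_mul_left _ (Nat.card_le_card_of_injective _ (Submodule.inclusion_injective
      fun v hv => mem_perp.2 fun w hw => h.perp hw hv))
  have ne : ∀ i, (D.ρ D'.z).g i ≠ 1 := fun i e => by
    have := Nat.card_le_card_of_injective (fun p : V2 × ({j // j ≠ i} → F3) =>
      (⟨fun j => if c : j = i then p.1 else p.2 ⟨j, c⟩ • a j, (mem _).2 fun j => by
        split_ifs with c
        · rw [c, e, a2_one]
        · rw [a2_smul, ha']⟩ : D.vS (D.Q ⊓ D'.H))) fun p q k => by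
      have k := congrFun (congrArg Subtype.val k)
      refine Prod.ext (by simpa using k i) (funext fun j => smul_inj _ (ha j) _ _ ?_)
      simpa [j.2] using k j
    rw [show Nat.card (V2 × ({j // j ≠ i} → F3)) = 81 by simp [V2]] at this
    nlinarith
  have c3 := Nat.card_le_card_of_injective (fun c : Fin 3 → F3 =>
    (⟨fun j => c j • a j, (mem _).2 fun j => by rw [a2_smul, ha']⟩ : D.vS (D.Q ⊓ D'.H)))
    fun p q k => funext fun j => smul_inj _ (ha j) _ _ (congrFun (congrArg Subtype.val k) j)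
  rw [show Nat.card (Fin 3 → F3) = 27 by simp] at c3
  have line : ∀ v ∈ D.vS (D.Q ⊓ D'.Q), ∃ c : Fin 3 → F3, v = fun i => c i • a i := fun v hv => by
    choose c hc using fun i => fix_line _ (ne i) _ (ha i) (ha' i) _ ((mem v).1 (Far.U_le D D' hv) i)
    exact ⟨c, funext hc⟩
  have blk : ∀ v l, D.η v l ∈ D'.Q → ∀ i, D.η (sg i (v i)) 0 ∈ D'.Q := fun v l hv i => by
    have := mul_mem (D'.conj_mem (D.commute_r hy h1 h2 i).symm hv) (inv_mem hv)
    rw [D.r_conj, D.inv, D.mul] at this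
    convert this using 2
    · funext j
      rw [Pi.add_apply, Pi.neg_apply, ng_act]
      by_cases e : j = i
      · rw [if_pos e, sg, if_pos e, e]
        exact (by decide : ∀ a : V2, a = -a + -a) _
      · rw [if_neg e, sg, if_neg e, add_neg_cancel]
    · simp only [bf, ng_act, Pi.neg_apply, b2]
      fin_cases i <;> simp <;> ring
  have l0 : ∀ v l, D.η v l ∈ D'.Q → l = 0 := fun v l hv => by
    have := mul_mem (mul_mem (blk v l hv 0) (blk v l hv 1)) (blk v l hv 2)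
    rw [D.mul, D.mul, ← sg_sum, bf_add_left, bf_sg, bf_sg, bf_sg] at this
    have := mul_mem hv (inv_mem this)
    rw [D.inv, D.mul, add_neg_cancel, bf_neg_right, bf_self] at this
    simpa [sg, b2] using h.zero this
  have sgA : ∀ (c : Fin 3 → F3) i, (fun i => c i • a i) ∈ D.vS (D.Q ⊓ D'.Q) → c i ≠ 0 →
      sg i (a i) ∈ D.vS (D.Q ⊓ D'.Q) := fun c i ⟨l, hl⟩ hc => by
    have := Submodule.smul_mem _ (c i) (show sg i (c i • a i) ∈ D.vS (D.Q ⊓ D'.Q) from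
      ⟨0, D.η_mem _ _, blk _ l hl.2 i⟩)
    rwa [sg_smul, smul_smul, (by decide : ∀ c : F3, c ≠ 0 → c * c = 1) _ hc, one_smul] at this
  have ofA : ∀ c : Fin 3 → F3, (∀ i, c i = 0 ∨ sg i (a i) ∈ D.vS (D.Q ⊓ D'.Q)) →
      D.η (fun i => c i • a i) 0 ∈ D'.Q := fun c hc => by
    have k : ∀ i, sg i (c i • a i) ∈ D.vS (D.Q ⊓ D'.Q) := fun i => by
      rw [sg_smul]
      rcases hc i with e | e
      · rw [e, zero_smul]; exact zero_mem _
      · exact Submodule.smul_mem _ _ e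
    obtain ⟨l, hl⟩ := add_mem (add_mem (k 0) (k 1)) (k 2)
    rw [← sg_sum fun i => c i • a i] at hl
    exact l0 _ l hl.2 ▸ hl.2
  obtain ⟨k, hk⟩ : ∃ k, sg k (a k) ∉ D.vS (D.Q ⊓ D'.Q) := by
    by_contra! H
    choose b hb hb' using fun i => ex_b _ (ne i) _ (ha i) (ha' i)
    obtain ⟨β, ⟨i, hi⟩, e⟩ := iso _ _ _ (hb' 0) (hb' 1) (hb' 2)
    have e1 : (fun i => β i • b i) - (D.ρ D'.z).act (fun i => β i • b i) = fun i => β i • a i :=
      funext fun j => by rw [Pi.sub_apply, W.act_σ1 h1, a2_smul, ← smul_sub, hb]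
    have := h.K (u := fun i => β i • b i) (l := 0) (by rw [e1]; exact ofA β fun i => .inr (H i)) (by
      simp only [h2, bf, W.act_σ1 h1, a2_smul, b2_smul, e, neg_zero, sub_zero])
    rw [e1] at this
    exact hi (smul_inj _ (ha i) _ _ ((congrFun this i).trans (zero_smul _ _).symm))
  have hI : ∀ j, j ≠ k → sg j (a j) ∈ D.vS (D.Q ⊓ D'.Q) := fun j hj => by
    by_contra hn
    obtain ⟨i, hi⟩ := (by decide : ∀ j k : Fin 3, j ≠ k → ∃ i, ∀ x, x = i ∨ x = j ∨ x = k) j k hj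
    choose c hc using line
    have := Nat.card_le_card_of_injective (fun v : D.vS (D.Q ⊓ D'.Q) => c v v.2 i) fun v w e => by
      refine Subtype.ext ((hc v v.2).trans (Eq.trans (funext fun x => ?_) (hc w w.2).symm))
      have z : ∀ (v : D.vS (D.Q ⊓ D'.Q)) x, sg x (a x) ∉ D.vS (D.Q ⊓ D'.Q) → c v v.2 x = 0 :=
        fun v x hx => by_contra fun n => hx (sgA _ x (hc v v.2 ▸ v.2) n)
      rcases hi x with rfl | rfl | rfl
      · exact congrArg (· • a x) e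
      · rw [z v x hn, z w x hn]
      · rw [z v x hk, z w x hk]
    rw [Nat.card_zmod] at this
    omega
  refine ⟨k, a, fun i => ⟨ha i, (D.commute_η hy).2 ⟨?_, h2 _⟩⟩, fun q => ⟨?_, ?_⟩⟩
  · rw [W.act_sg, h1, Perm.one_apply, ha']
  · rintro ⟨⟨v, l, rfl⟩, hq⟩
    obtain ⟨c, rfl⟩ := line v ⟨l, D.η_mem _ _, hq⟩
    exact ⟨c, by_contra fun n => hk (sgA c k ⟨l, D.η_mem _ _, hq⟩ n), by rw [l0 _ l hq]⟩
  · rintro ⟨c, hc, rfl⟩
    refine ⟨D.η_mem _ _, ofA c fun i => ?_⟩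
    by_cases e : i = k
    exacts [.inl (e ▸ hc), .inr (hI i e)]

theorem Nf.false (h : D.Nf D') (h' : D'.Nf D) (hc : Commute D'.z D.z)
    (h1 : (D'.ρ D.z).σ = 1) (h2 : ∀ v, D'.lam D.z v = 0) : False := by
  obtain ⟨k, a, ha, hU⟩ := h
  obtain ⟨k', a', ha', hU'⟩ := h'
  have hs : Commute (D'.r k') D.z := (D'.commute_r hc.symm h1 h2 k').symm
  have sU : ∀ q ∈ D.Q ⊓ D'.Q, Commute (D'.r k') q := fun q hq => by
    obtain ⟨c, hc, rfl⟩ := (hU' q).1 ⟨hq.2, hq.1⟩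
    exact D'.r_η.2 (by rw [hc, zero_smul])
  obtain ⟨σ1, f1⟩ := fix_two (fun i => (ha i).1) fun i hi => ((D.commute_η hs).1 (sU _ ((hU _).2
    ⟨Pi.single i 1, Pi.single_eq_of_ne hi.symm _, by rw [single_smul]⟩))).1
  have sq : ∀ i, (D.ρ (D'.r k')).g i = 1 ∨ (D.ρ (D'.r k')).g i = m := fun i => sq_cases _ (by
    rw [← pow_two, ← W.pow_g σ1, ← D.ρ_pow hs, pow_two, D'.r_sq, D.ρ_one]; rfl)
  have gk : (D.ρ (D'.r k')).g k = m := (sq k).resolve_left fun e => D'.r_ne (i := k')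
    (eq_one_of_sq_cube (D'.r_sq k') (D.Q_cube ((D.ρ_eq_one hs).1 (W.ext σ1 (funext fun i => by
      by_cases c : i = k
      · rw [c, e]; rfl
      · exact (sq i).resolve_right fun e' => neg_ne _ (ha i).1 (by rw [← a2_m, ← e', f1 i c]))))))
  have ty : Commute (D.η (sg k (a k)) 0) D'.z := (ha k).2.symm
  have tU : ∀ q ∈ D.Q ⊓ D'.Q, Commute (D.η (sg k (a k)) 0) q := fun q hq => by
    obtain ⟨c, hc, rfl⟩ := (hU q).1 hq
    exact D.comm_iff.2 (by rw [bf_sg, hc, zero_smul]; simp [b2])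
  obtain ⟨σ2, -⟩ := fix_two (fun i => (ha' i).1) fun i hi => ((D'.commute_η ty).1 (tU _
    (And.symm ((hU' _).2 ⟨Pi.single i 1, Pi.single_eq_of_ne hi.symm _, by rw [single_smul]⟩)))).1
  have hr := D'.r_z k'
  have m1 : D'.r k' * D.η (sg k (a k)) 0 * (D'.r k')⁻¹ * (D.η (sg k (a k)) 0)⁻¹ ∈ D'.Q := by
    rw [← D'.ρ_eq_one (((hr.mul_left ty).mul_left hr.inv_left).mul_left ty.inv_left), mul_assoc,
      mul_assoc, ← mul_assoc (D.η _ _), D'.ρ_mul hr ((ty.mul_left hr.inv_left).mul_left ty.inv_left),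
      D'.ρ_conj ty hr.inv_left, D'.r_inv, D'.ρ_r, W.conj_ng, σ2, Perm.one_apply, ← D'.ρ_r,
      ← D'.ρ_mul hr hr, D'.r_sq, D'.ρ_one]
  rw [comm_η' hs] at m1
  obtain ⟨c, hc, e⟩ := (hU _).1 ⟨D.η_mem _ _, m1⟩
  have := congrFun (D.inj e).1 k
  rw [hc, zero_smul, Pi.sub_apply, W.act_σ1 σ1, gk, a2_m, sub_eq_zero] at this
  simp only [sg, if_true] at this
  exact neg_ne _ (ha k).1 this

end FD

end Cfsg.Lib.C22
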