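import Cfsg.Agent.Recog.C22BrA
import Cfsg.Agent.Trans.GenFitting
import Cfsg.Agent.Solv.ExtraSub

/-!
From the hypotheses on the `3`-centralizer of type `Fi₂₂` to coordinates.
-/

set_option autoImplicit false

namespace Cfsg.Lib.C22

open Cfsg Subgroup Equiv Cfsg.Lib.Trans.ES Cfsg.Lib.Recog.P43 Cfsg.Lib.Recog.P43.Q Br

namespace Br

theorem Q8_normal : W.Q8.Normal := ⟨fun n hn g => ⟨by
    rw [W.mul_σ, W.mul_σ, hn.1, W.inv_σ, mul_one, mul_inv_cancel], fun i => by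
    rw [W.mul_g, W.mul_g, W.mul_σ, hn.1, mul_one, W.inv_g, chi_mul, chi_mul, hn.2, add_zero, ← chi_mul]
    simp only [Perm.coe_inv, apply_symm_apply, mul_inv_cancel]
    decide⟩⟩

theorem pow_g {w : W} (h : w.σ = 1) (n : ℕ) : (w ^ n).σ = 1 ∧ ∀ i, (w ^ n).g i = w.g i ^ n := by
  induction n with
  | zero => simp
  | succ n ih => exact ⟨by rw [pow_succ, W.mul_σ, ih.1, h, mul_one], fun i => by
      rw [pow_succ, W.mul_g, ih.1, ih.2, pow_succ]; rfl⟩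

theorem chi_iff : ∀ g : Q, g ^ 4 = 1 ↔ chi g = 0 := by decide +kernel

theorem wb {Γ : Type*} [Group Γ] [Finite Γ] (f : Γ →* W) (hf : Function.Injective f)
    (hn : ∀ i, W.ng i ∈ f.range) (hc : Nat.card (pCore 2 Γ) = 128) (h2 : ∀ x ∈ pCore 2 Γ, f x ∈ W.Q8)
    (h3 : pCore 3 Γ = ⊥) : WB f.range := by
  refine ⟨hn, ?_, fun N h1 h2 h4 => ?_⟩
  · rw [← hc, ← card_map_of_injective hf]
    congr 2
    refine le_antisymm ?_ (le_inf (map_le_range _ _) (map_le_iff_le_comap.2 h2))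
    rintro _ ⟨⟨x, rfl⟩, hx⟩
    refine mem_map_of_mem f (Solv.le_pCore (Q8_normal.comap f) (fun y => ⟨2, Subtype.ext (hf ?_)⟩) hx)
    have := pow_g y.2.1 4
    rw [SubgroupClass.coe_pow, map_pow, OneMemClass.coe_one, map_one]
    exact W.ext this.1 (funext fun i => (this.2 i).trans ((chi_iff _).2 (y.2.2 i)))
  · have := Solv.le_pCore (N := N.comap f) ⟨fun n hn g => by
      rw [mem_comap, map_mul, map_mul, map_inv]
      exact h2 _ ⟨g, rfl⟩ _ hn⟩ (h4.comap_of_injective f hf)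
    rw [h3, le_bot_iff] at this
    rw [← map_comap_eq_self h1, this, Subgroup.map_bot]

end Br

set_option linter.unusedVariables false in
theorem exists_FD {G : Type*} [Group G] [Finite G]
    (H : Subgroup G) (Q : Subgroup H) (hQF : Q = Cfsg.generalizedFittingSubgroup H) [hQn : Q.Normal]
    (hQex : Cfsg.IsExtraspecial 3 Q) (hQcard : Nat.card Q = 3 ^ 7)
    (hZZ : (Subgroup.center Q).map Q.subtype = Subgroup.center H)
    (P : Subgroup H) (hP : P = (Cfsg.pCore 2 (H ⧸ Q)).comap (QuotientGroup.mk' Q))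
    (hPcard : Nat.card (Cfsg.pCore 2 (H ⧸ Q)) = 2 ^ 7)
    (Q₁ Q₂ Q₃ : Subgroup H) (hle : Q₁ ≤ Q ∧ Q₂ ≤ Q ∧ Q₃ ≤ Q)
    (hZle : Subgroup.center H ≤ Q₁ ∧ Subgroup.center H ≤ Q₂ ∧ Subgroup.center H ≤ Q₃)
    (hex : Cfsg.IsExtraspecial 3 Q₁ ∧ Cfsg.IsExtraspecial 3 Q₂ ∧ Cfsg.IsExtraspecial 3 Q₃)
    (hcard : Nat.card Q₁ = 27 ∧ Nat.card Q₂ = 27 ∧ Nat.card Q₃ = 27)
    (hcomm : (∀ a ∈ Q₁, ∀ b ∈ Q₂, a * b = b * a) ∧ (∀ a ∈ Q₁, ∀ b ∈ Q₃, a * b = b * a) ∧ (∀ a ∈ Q₂, ∀ b ∈ Q₃, a * b = b * a))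
    (hprod : Q₁ ⊔ Q₂ ⊔ Q₃ = Q)
    (hnorm : ∀ x ∈ P, ∀ Qᵢ ∈ [Q₁, Q₂, Q₃], ∀ q ∈ Qᵢ, x * q * x⁻¹ ∈ Qᵢ)
    (hexp4 : ∀ x ∈ P, ∀ Qᵢ ∈ [Q₁, Q₂, Q₃], ∀ q ∈ Qᵢ, x ^ 4 * q * (x ^ 4)⁻¹ * q⁻¹ ∈ Subgroup.center H)
    (hinv : ∀ x ∈ P, ∀ Qᵢ ∈ [Q₁, Q₂, Q₃], (∀ q ∈ Qᵢ, x ^ 2 * q * (x ^ 2)⁻¹ * q⁻¹ ∈ Subgroup.center H) →
      (∀ q ∈ Qᵢ, x * q * x⁻¹ * q⁻¹ ∈ Subgroup.center H) ∨ (∀ q ∈ Qᵢ, x * q * x⁻¹ * q ∈ Subgroup.center H))
    (hcent : ∀ Qᵢ ∈ [Q₁, Q₂, Q₃], ∃ x ∈ P, (∀ q ∈ Qᵢ, x * q * x⁻¹ * q ∈ Subgroup.center H) ∧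
      ∀ Qⱼ ∈ [Q₁, Q₂, Q₃], Qⱼ ≠ Qᵢ → ∀ q ∈ Qⱼ, x * q * x⁻¹ * q⁻¹ ∈ Subgroup.center H)
    (Z : Subgroup G) (hZ : Z = (Subgroup.center H).map H.subtype) (hHC : H = Subgroup.centralizer (Z : Set G)) :
    ∃ D : FD G, Z = D.Z ∧ (Cfsg.pCore 3 H).map H.subtype = D.Q := by
  have : Fact (Nat.Prime 3) := ⟨Nat.prime_three⟩
  have hZ3 : Nat.card Z = 3 := by
    rw [hZ, card_map_of_injective (subtype_injective _), ← hZZ, card_map_of_injective (subtype_injective _),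
      hQex.2]
  obtain ⟨z, hz⟩ : ∃ z, zpowers z = Z :=
    (Subgroup.isCyclic_iff_exists_zpowers_eq_top Z).1 (isCyclic_of_prime_card hZ3)
  subst hz
  rw [Nat.card_zpowers] at hZ3
  have mH : ∀ g, g ∈ H ↔ Commute g z := fun g => by
    rw [hHC, zpowers_eq_closure, centralizer_closure, mem_centralizer_singleton_iff]; rfl
  have mZ : ∀ {x : H}, x ∈ center H → (x : G) ∈ zpowers z := fun hx => hZ ▸ mem_map_of_mem _ hx
  have hQ3 : pCore 3 H = Q := le_antisymm (hQF ▸ Trans.pCore_le_genFitting 3 H) (Solv.le_pCore hQn hQex.1.1)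
  have nH : ∀ n, n * z * n⁻¹ ∈ zpowers z → n ∈ normalizer (H : Set G) := fun n hn =>
    mem_normalizer_fintype fun x hx => (mH _).2 (by
      have e : zpowers (n * z * n⁻¹) = zpowers z := eq_of_le_of_card_ge (zpowers_le.2 hn) (by
        rw [Nat.card_zpowers, Nat.card_zpowers]
        exact (orderOf_injective (MulAut.conj n).toMonoidHom (MulAut.conj n).injective z).ge)
      obtain ⟨k, e⟩ := e.ge (mem_zpowers z)
      exact e ▸ ((Commute.conj_iff n).2 ((mH x).1 hx)).zpow_right k)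
  let B : Fin 3 → Subgroup H := ![Q₁, Q₂, Q₃]
  have mB : ∀ i, B i ∈ [Q₁, Q₂, Q₃] := fun i => by fin_cases i <;> simp [B]
  have cB : ∀ i j, i ≠ j → ∀ a ∈ B i, ∀ b ∈ B j, a * b = b * a := fun i j e a ha b hb => by
    fin_cases i <;> fin_cases j
    exacts [absurd rfl e, hcomm.1 a ha b hb, hcomm.2.1 a ha b hb, (hcomm.1 b hb a ha).symm, absurd rfl e,
      hcomm.2.2 a ha b hb, (hcomm.2.1 b hb a ha).symm, (hcomm.2.2 b hb a ha).symm, absurd rfl e]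
  have eB : ∀ i, IsExtraspecial 3 (B i) := fun i => by
    fin_cases i
    exacts [hex.1, hex.2.1, hex.2.2]
  have h : BR z (Q.map H.subtype) (P.map H.subtype) fun i => (B i).map H.subtype := by
    refine ⟨hZ3 ▸ pow_orderOf_eq_one z, fun e => by simp [e] at hZ3, ?_, ?_, fun i => map_mono ?_,
      fun n hn q hq => ?_, ?_, fun g e => ?_, fun i => ?_, fun i => ?_, ?_, ?_, ?_, fun i => ?_⟩
    · rintro _ ⟨x, -, rfl⟩
      exact (mH _).1 x.2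
    · rintro _ ⟨x, -, rfl⟩
      exact (mH _).1 x.2
    · fin_cases i
      exacts [hle.1, hle.2.1, hle.2.2]
    · rw [← hQ3] at hq ⊢
      exact (mem_normalizer_iff.1 (Solv.normalizer_le_normalizer_map_pCore 3 H (nH n hn)) q).1 hq
    · rintro n hn _ ⟨x, hx, rfl⟩
      let α := H.normalizerMonoidHom ⟨n, nH n hn⟩
      have hα : Q ≤ Q.comap (α : H →* H) := by
        rw [← hQ3]; exact ((characteristic_iff_comap_eq.1 inferInstance) α).ge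
      refine ⟨α x, ?_, rfl⟩
      rw [hP] at hx ⊢
      exact Solv.map_pCore_le (QuotientGroup.map Q Q (α : H →* H) hα)
        (QuotientGroup.map_surjective_of_surjective _ _ _ ((QuotientGroup.mk_surjective).comp α.surjective) hα)
        ⟨_, hx, rfl⟩
    · have zH := (mH z).2 (Commute.refl z)
      have zQ : (⟨z, zH⟩ : H) ∈ Q := by
        obtain ⟨y, -, e⟩ := hZZ.ge (mem_center_iff.2 fun g => Subtype.ext ((mH g).1 g.2) :
          (⟨z, zH⟩ : H) ∈ center H)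
        exact e ▸ y.2
      have gH := (mH g).2 (e z ⟨_, zQ, rfl⟩)
      have gQ : (⟨g, gH⟩ : H) ∈ Q := hQF ▸ Trans.centralizer_genFitting_le H fun q hq =>
        Subtype.ext (e q ⟨q, hQF ▸ hq, rfl⟩).symm
      exact mZ (x := ⟨g, gH⟩) (hZZ ▸ ⟨⟨_, gQ⟩, mem_center_iff.2 fun q =>
        Subtype.ext (Subtype.ext (e q ⟨q, q.2, rfl⟩).symm), rfl⟩)
    · exact Solv.PG.isExtraspecial_of_mulEquiv (equivMapOfInjective _ _ (subtype_injective _)) (eB i)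
    · rw [card_map_of_injective (subtype_injective _)]
      fin_cases i
      exacts [hcard.1, hcard.2.1, hcard.2.2]
    · rintro i j e _ ⟨a, ha, rfl⟩ _ ⟨b, hb, rfl⟩
      exact congrArg Subtype.val (cB i j e a ha b hb)
    · rintro _ ⟨q, hq, rfl⟩
      rw [← hprod] at hq
      have e1 : (Q₁ ⊔ Q₂ : Subgroup H) ≤ centralizer Q₃ :=
        sup_le (fun a ha b hb => (hcomm.2.1 a ha b hb).symm) fun a ha b hb => (hcomm.2.2 a ha b hb).symm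
      have e2 : Q₁ ≤ centralizer Q₂ := fun a ha b hb => (hcomm.1 a ha b hb).symm
      obtain ⟨y, hy, c, hc, rfl⟩ := (coe_mul_of_left_le_normalizer_right _ _
        (e1.trans (centralizer_le_normalizer _))).le hq
      obtain ⟨a, ha, b, hb, rfl⟩ := (coe_mul_of_left_le_normalizer_right _ _
        (e2.trans (centralizer_le_normalizer _))).le hy
      exact ⟨_, ⟨a, ha, rfl⟩, _, ⟨b, hb, rfl⟩, _, ⟨c, hc, rfl⟩, rfl⟩
    · rintro _ ⟨s, hs, rfl⟩ s2 i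
      have s2' : s ^ 2 = 1 := Subtype.ext ((sq _).trans s2)
      refine (hinv s hs _ (mB i) fun q _ => by simp [s2']).imp (fun e => ?_) fun e => ?_ <;>
        rintro _ ⟨q, hq, rfl⟩ <;> exact mZ (e q hq)
    · obtain ⟨x, hx, e1, e2⟩ := hcent _ (mB i)
      refine ⟨x, ⟨x, hx, rfl⟩, ?_, fun j e => ?_⟩ <;> rintro _ ⟨q, hq, rfl⟩
      · exact mZ (e1 q hq)
      · refine mZ (e2 _ (mB j) (fun c => center_ne_top_of_isExtraspecial (eB j) ?_) q hq)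
        exact eq_top_iff.2 fun a _ => mem_center_iff.2 fun b => Subtype.ext (cB j i e b b.2 a (c ▸ a.2))
  obtain ⟨D, rfl, hR, hA⟩ := h.exists_F0
  let ρ : H →* W := MonoidHom.mk' (fun g => D.ρ g) fun a b => (D.ρ_lam_mul ((mH _).1 a.2) ((mH _).1 b.2)).1
  have kρ : Q = ρ.ker := Subgroup.ext fun x => ⟨fun hx => by
      obtain ⟨v, l, e⟩ := (hR x).1 ⟨x, hx, rfl⟩
      exact (congrArg D.ρ e).trans (D.ρ_η v l), fun hx => by
      obtain ⟨y, hy, e⟩ := (hR x).2 (D.ρ_eq_one ((mH _).1 x.2) hx)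
      exact Subtype.ext e ▸ hy⟩
  let f : H ⧸ Q →* W := QuotientGroup.lift Q ρ kρ.le
  have hf : Function.Injective f := (QuotientGroup.injective_lift_iff Q ρ kρ.le).2 kρ
  have mf : ∀ w, w ∈ f.range ↔ ∃ g, Commute g D.z ∧ D.ρ g = w := fun w =>
    ⟨fun ⟨x, e⟩ => by
      obtain ⟨x, rfl⟩ := QuotientGroup.mk_surjective x
      exact ⟨x, (mH _).1 x.2, e⟩, fun ⟨g, a, e⟩ => ⟨(⟨g, (mH g).2 a⟩ : H), e⟩⟩
  have w := wb f hf (fun i => (mf _).2 ⟨_, D.r_z i, D.ρ_r i⟩) hPcard (fun x hx => ?_)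
    (le_bot_iff.1 fun y hy => by
      obtain ⟨y, rfl⟩ := QuotientGroup.mk_surjective y
      exact (QuotientGroup.eq_one_iff y).2 (hQ3.le ((Solv.comap_pCore_quotient Q hQex.1.1).le hy)))
  · exact ⟨⟨D.z, D.η, D.r, D.ρ, D.lam, D.mul, D.inj₀, D.hz, D.conj, D.cent, D.r_sq, D.r_conj, ⟨_, w, mf⟩, D.nz⟩,
      rfl, (congrArg _ hQ3).trans (Subgroup.ext hR)⟩
  obtain ⟨x, rfl⟩ := QuotientGroup.mk_surjective x
  have xP : x ∈ P := hP ▸ hx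
  change ρ x ∈ _
  have s1 : (ρ x).σ = 1 := Equiv.ext fun i => by
    obtain ⟨q, hq, e⟩ := (hA i _).2 ⟨(1, 0), 0, rfl⟩
    obtain ⟨a, l, e1⟩ := (hA i _).1 ⟨_, hnorm x xP _ (mB i) q hq, rfl⟩
    have e2 := D.conj x ((mH _).1 x.2) (sg i (1, 0)) 0
    rw [← e] at e2
    have e3 := congrFun (D.inj (e2.symm.trans e1)).1 ((D.ρ x).σ i)
    by_contra c
    rw [W.act_sg, sg, sg, if_pos rfl, if_neg (show ¬ (D.ρ x).σ i = i from c), a2_eq_zero] at e3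
    exact one_ne_zero (congrArg Prod.fst e3)
  refine ⟨s1, fun i => (chi_iff _).1 (a2_ext fun a => ?_)⟩
  obtain ⟨q, hq, e⟩ := (hA i _).2 ⟨a, 0, rfl⟩
  have e1 := mZ (hexp4 x xP _ (mB i) q hq)
  have e2 := D.conj _ ((mH _).1 (x ^ 4).2) (sg i a) 0
  rw [← e] at e2
  change (x ^ 4 : H) * H.subtype q * ((x ^ 4 : H) : G)⁻¹ * (H.subtype q)⁻¹ ∈ _ at e1
  rw [e2, e, D.inv, D.mul, show D.ρ (x ^ 4 : H) = ρ x ^ 4 from map_pow ρ x 4, W.act_sg, (pow_g s1 4).1,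
    (pow_g s1 4).2] at e1
  have e3 := congrFun (D.η_of_Z e1) i
  rw [a2_one]
  simpa [sg, add_neg_eq_zero] using e3

end Cfsg.Lib.C22
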