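import Cfsg.Agent.Recog.C22Api2

/-!
A conjugate of the `3`-central element inside the extraspecial group.
-/

set_option autoImplicit false

namespace Cfsg.Lib.C22

open Cfsg Subgroup Equiv Cfsg.Lib.Recog.P43 Cfsg.Lib.Recog.P43.Q
open scoped commutatorElement

variable {G : Type*} [Group G] [Finite G]

namespace C1

theorem exists_ker {M : Type*} [Group M] [Finite M] {E U : Subgroup G} (φ : E →* M)
    (hE : Nat.card E = 3 ^ 6) (hU : Nat.card U = 81) (hM : ¬ 9 ∣ Nat.card M) :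
    ∃ e : E, φ e = 1 ∧ (e : G) ∉ U := by
  by_contra! h
  have h1 := φ.ker.card_mul_index
  rw [index_ker, hE] at h1
  obtain ⟨j, -, hj⟩ := (Nat.dvd_prime_pow Nat.prime_three).1 (Dvd.intro_left _ h1)
  have h2 : j ≤ 1 := by
    by_contra! h2
    exact hM ((pow_dvd_pow 3 h2).trans (hj ▸ card_subgroup_dvd_card φ.range))
  have h3 : Nat.card φ.ker ≤ Nat.card U := Nat.card_le_card_of_injective
    (fun e => ⟨e.1.1, h e.1 e.2⟩) fun a b e =>
      Subtype.ext (Subtype.ext (congrArg (Subtype.val (p := (· ∈ U))) e))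
  rw [hj] at h1
  interval_cases j <;> omega

theorem orb3 : ∀ σ : Perm (Fin 3), (∀ i, σ i ≠ i) → ∀ i j, j = i ∨ j = σ i ∨ j = σ (σ i) := by
  decide

end C1

theorem FD.pr {D D' : FD G} (w : D.WT) (w' : D'.St) (h : D'.z ∈ D.Q) (hZ : D'.z ∉ D.Z) :
    D.Pr D' := by
  have h81 : 81 ≤ Nat.card ↥(D.Q ⊓ D'.Q) := by
    have := w' (D.Q ⊓ D'.H) inf_le_right D.pQ.to_inf_left
    rw [D.card_cent h hZ, inf_assoc, inf_of_le_right D'.Q_le_H] at this
    omega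
  have ab : ∀ K : Subgroup G, D.z ∉ K → ∀ a b, ⁅a, b⁆ ∈ D.Z → ⁅a, b⁆ ∈ K → Commute a b :=
    fun K hK a b h1 h2 => by
      rcases D.mem_Z'.1 h1 with e | e | e
      · exact commutatorElement_eq_one_iff_commute.1 e
      · exact absurd (e ▸ h2) hK
      · exact absurd (inv_mem_iff.1 (e ▸ h2)) hK
  have mem' : D.z ∈ D'.Q := by
    by_contra hn
    have := D.ab27 (A := D.Q ⊓ D'.Q) inf_le_left (fun e => hn e.2) fun a ha b hb =>
      ab _ hn a b (D.comm_mem_Z ha.1 hb.1) (D'.Z_le (D'.comm_mem_Z ha.2 hb.2))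
    omega
  have nZ' : D.z ∉ D'.Z := fun e => hZ (by
    rcases D'.mem_Z'.1 e with e | e | e
    · exact absurd e D.z_ne
    · exact e ▸ mem_zpowers _
    · exact inv_mem_iff.1 (e ▸ mem_zpowers _))
  have abU : ∀ a ∈ D.Q ⊓ D'.Q, ∀ b ∈ D.Q ⊓ D'.Q, Commute a b := fun a ha b hb =>
    ab _ nZ' a b (D.comm_mem_Z ha.1 hb.1) (D'.comm_mem_Z ha.2 hb.2)
  have cU : Nat.card ↥(D.Q ⊓ D'.Q) = 81 := le_antisymm (D.ab81 inf_le_left abU) h81
  have cE : Nat.card ↥(D'.Q ⊓ D.H) = 3 ^ 6 := D'.card_cent mem' nZ'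
  let ρ : ↥(D'.Q ⊓ D.H) →* W := D.ρH.comp (inclusion inf_le_right)
  have cube : ∀ e ∈ D'.Q, Commute e D.z → D.ρ e ^ 3 = 1 := fun e he hz => by
    rw [← D.ρ_pow hz, D'.Q_cube he, D.ρ_one]
  have cy : ∃ e ∈ D'.Q, D.Cy e := by
    by_contra! hn
    have s1 : ∀ e : ↥(D'.Q ⊓ D.H), (ρ e).σ = 1 := fun e =>
      (W.σ_cases (k := 1) (cube e e.2.1 (D.mem_H.1 e.2.2))).resolve_right
        fun c => hn e e.2.1 ⟨D.mem_H.1 e.2.2, c⟩
    obtain ⟨v0, l0, e0⟩ := h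
    refine hZ (e0 ▸ D.η_mem_Z.2 (funext fun i => ?_))
    obtain ⟨e, e1, e2⟩ := C1.exists_ker (MonoidHom.mk' (fun e => (ρ e).g i) fun a b => by
      rw [map_mul, W.mul_g, s1]; rfl) cE cU (by rw [Recog.P43.Q.card_eq]; decide)
    have hz := D.mem_H.1 e.2.2
    obtain ⟨u, hu, hc⟩ : ∃ u ∈ D.Q ⊓ D'.Q, ¬ Commute (e : G) u := by
      by_contra! hc
      have k1 : D.Q ⊓ D'.Q ⊔ zpowers (e : G) ≤ centralizer ↑(D.Q ⊓ D'.Q ⊔ zpowers (e : G)) := by
        refine sup_le (le_centralizer_iff.1 (sup_le (fun a ha => mem_centralizer_iff.2 fun b hb =>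
          abU b hb a ha) (zpowers_le.2 (mem_centralizer_iff.2 fun b hb => (hc b hb).symm))))
          (le_centralizer_iff.1 (sup_le (le_centralizer_iff.1 (zpowers_le.2
            (mem_centralizer_iff.2 fun b hb => (hc b hb).symm))) (le_centralizer _)))
      have k2 := D'.ab81 (sup_le inf_le_right (zpowers_le.2 e.2.1)) fun a ha b hb =>
        mem_centralizer_iff.1 (k1 hb) a ha
      exact e2 ((eq_of_le_of_card_ge le_sup_left (k2.trans cU.ge)).ge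
        (mem_sup_right (mem_zpowers _)))
    obtain ⟨v, l, rfl⟩ := hu.1
    have k := D'.comm_mem_Z e.2.1 hu.2
    have k3 : (D.ρ e).act v i = v i := by
      rw [W.act_σ1 (x := D.ρ e) (s1 e), show (D.ρ e).g i = 1 from e1, a2_one]
    rcases D'.mem_Z'.1 k with c | c | c
    · exact absurd (commutatorElement_eq_one_iff_commute.1 c) hc
    · rw [commutatorElement_def, mul_inv_eq_iff_eq_mul, D.conj _ hz, e0, D.mul] at c
      have := congrFun (D.inj c).1 i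
      rwa [k3, Pi.add_apply, right_eq_add] at this
    · rw [commutatorElement_def, mul_inv_eq_iff_eq_mul, D.conj _ hz, e0, D.inv, D.mul] at c
      have := congrFun (D.inj c).1 i
      rwa [k3, Pi.add_apply, right_eq_add, Pi.neg_apply, neg_eq_zero] at this
  obtain ⟨d, d1, d2⟩ := C1.exists_ker (W.σHom.comp ρ) cE cU (by
    rw [Nat.card_eq_fintype_card]; decide)
  have dz := D.mem_H.1 d.2.2
  have d3 : D.ρ d ≠ 1 := fun e => d2 ⟨(D.ρ_eq_one dz).1 e, d.2.1⟩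
  obtain ⟨y, hy, c⟩ := cy
  refine ⟨h, hZ, mem', w.sh y d c dz d1 (cube d d.2.1 dz) d3, ⟨y, hy, c⟩, ⟨d, d.2.1, dz, d1, d3⟩,
    fun v l e i hi => hZ (e ▸ D.η_mem_Z.2 (funext fun j => ?_)), cE, cU⟩
  have k1 := ((D.commute_η c.1).1 (e ▸ D'.Q_z hy)).1
  have k2 : ∀ i, v i = 0 → v ((D.ρ y).σ i) = 0 := fun i hi => by
    rw [← k1, W.act_apply, hi, a2_zero]
  rcases C1.orb3 _ c.2 i j with rfl | rfl | rfl
  exacts [hi, k2 _ hi, k2 _ (k2 _ hi)]

end Cfsg.Lib.C22
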