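import Cfsg.Agent.Recog.C22Api2
import Cfsg.Agent.Local.ProdCard

/-!
Conjugates of the `3`-central element inside the extraspecial group.
-/

set_option autoImplicit false

namespace Cfsg.Lib.C22

open Cfsg Subgroup Equiv Cfsg.Lib.Recog.P43 Cfsg.Lib.Recog.P43.Q
open scoped commutatorElement

theorem c2_line : ∀ a b : V2, a ≠ 0 → b2 a b = 0 → ∃ k : F3, b = k • a := by decide +kernel

theorem c2_blk : ∀ (a b : V2) (k : F3), a ≠ 0 → k • a + a = 0 → k • b = 0 → b = 0 := by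
  decide +kernel

theorem c2_third : ∀ i : Fin 3, ∃ j, j ≠ 0 ∧ j ≠ i := by decide

theorem c2_F3 : ∀ k : F3, k = 0 ∨ k = 1 ∨ k = -1 := by decide

theorem W.c2_zero {x : W} (h : x.Cy) {v : V} (hv : x.act v = v) (h0 : v 0 = 0) : v = 0 := by
  have key : ∀ i, v i = 0 → v (x.σ i) = 0 := fun i e => by
    rw [← hv, x.act_apply, e, a2_zero]
  funext i
  rcases cy_cases x.σ h with ⟨h1, h2, -⟩ | ⟨h1, -, h2⟩
  · have e1 := h1 ▸ key 0 h0
    have e2 := h2 ▸ key 1 e1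
    fin_cases i <;> assumption
  · have e1 := h1 ▸ key 0 h0
    have e2 := h2 ▸ key 2 e1
    fin_cases i <;> assumption

theorem c2_exists_bf {w : V} (hw : w ≠ 0) (c : F3) : ∃ u, bf u w = c := by
  obtain ⟨u, hu⟩ := not_forall.1 fun h => hw (eq_zero_of_bf h)
  exact ⟨(c * (bf u w)⁻¹) • u, by rw [bf_smul_left, inv_mul_cancel_right₀ hu]⟩

variable {G : Type*} [Group G]

theorem c2_card_le [Finite G] {T : Type} [Finite T] {A : Subgroup G} {a : G} (f : T → G)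
    (h : ∀ e ∈ A, ∃ t, e * a * e⁻¹ = f t) :
    Nat.card A ≤ Nat.card T * Nat.card ↥(A ⊓ centralizer {a}) := by
  choose τ hτ using fun e : A => h e e.2
  have h1 : ∀ e, τ (Function.invFun τ (τ e)) = τ e := fun e => Function.invFun_eq ⟨e, rfl⟩
  rw [← Nat.card_prod]
  refine Nat.card_le_card_of_injective (fun e : A => ((τ e, ⟨((Function.invFun τ (τ e))⁻¹ * e : A),
    SetLike.coe_mem _, mem_centralizer_singleton_iff.2 ?_⟩) : T × ↥(A ⊓ centralizer {a})))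
    fun e e' he => ?_
  · have := (hτ (Function.invFun τ (τ e))).trans ((congrArg f (h1 e)).trans (hτ e).symm)
    generalize Function.invFun τ (τ e) = s at this
    rw [coe_mul, coe_inv]
    calc (s : G)⁻¹ * e * a = (s : G)⁻¹ * (e * a * (e : G)⁻¹) * e := by group
      _ = _ := by rw [← this]; group
  · have h2 : τ e = τ e' := congrArg Prod.fst he
    have h3 : (((Function.invFun τ (τ e))⁻¹ * e : A) : G) =
      ((Function.invFun τ (τ e'))⁻¹ * e' : A) := congrArg (fun x => x.2.1) he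
    rw [h2] at h3
    exact mul_left_cancel (Subtype.ext h3)

variable [Finite G]

theorem FD.Pr.exists_fix {D D₁ : FD G} (h₁ : D.Pr D₁) {R : Subgroup G} (hR : R ≤ D.H)
    (h3 : IsPGroup 3 R) {v : V} {l : F3} (e : D₁.z = D.η v l) :
    ∃ h, Commute h D.z ∧ ∀ x ∈ R, (D.ρ x).act ((D.ρ h).act v) = (D.ρ h).act v := by
  have : Fact (Nat.Prime 3) := ⟨Nat.prime_three⟩
  let K : Subgroup G :=
    { carrier := {s | Commute s D.z ∧ (D.ρ s).act v = v}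
      mul_mem' := fun {a b} ha hb => ⟨ha.1.mul_left hb.1, by
        rw [D.ρ_mul ha.1 hb.1, W.act_mul, hb.2, ha.2]⟩
      one_mem' := ⟨Commute.one_left _, by rw [D.ρ_one, W.act_one]⟩
      inv_mem' := fun {a} ha => ⟨ha.1.inv_left, by
        conv_lhs => rw [← ha.2, ← W.act_mul, D.ρ_inv ha.1, inv_mul_cancel, W.act_one]⟩ }
  have hN : D₁.Q ⊓ D.H ≤ normalizer (D.Q : Set G) := fun a ha =>
    mem_normalizer_fintype fun q hq => D.conj_mem (D.mem_H.1 ha.2) hq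
  have hS : IsPGroup 3 ↥(D₁.Q ⊓ D.H ⊔ D.Q) :=
    (D₁.pQ.to_inf_left).to_sup_of_normal_right' D.pQ hN
  have hK : D₁.Q ⊓ D.H ⊔ D.Q ≤ K := sup_le
    (fun a ha => ⟨D.mem_H.1 ha.2, ((D.commute_η (D.mem_H.1 ha.2)).1 (e ▸ D₁.Q_z ha.1)).1⟩)
    fun a ha => ⟨D.Q_z ha, by rw [D.ρ_Q ha, W.act_one]⟩
  have hH : D₁.Q ⊓ D.H ⊔ D.Q ≤ D.H := sup_le inf_le_right D.Q_le_H
  have hc := Local.CD.card_sup_mul_card_inf_of_le_normalizer hN
  rw [inf_assoc, inf_eq_right.2 D.Q_le_H, inf_comm D₁.Q D.Q, h₁.card', h₁.card, D.card_Q] at hc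
  obtain ⟨T, hT⟩ := (hS.comap_subtype (K := D.H)).exists_le_sylow
  obtain ⟨S, hS'⟩ := (h3.comap_subtype (K := D.H)).exists_le_sylow
  have h4 : D₁.Q ⊓ D.H ⊔ D.Q = T.1.map D.H.subtype := by
    refine eq_of_le_of_card_ge (fun a ha => ⟨⟨a, hH ha⟩, hT ha, rfl⟩) ?_
    have h5 := h₁.sh.st _ (map_subtype_le T.1) (T.isPGroup'.map _)
    have h6 := card_le_of_le (inf_le_right : T.1.map D.H.subtype ⊓ D.Q ≤ D.Q)
    rw [D.card_Q] at h6
    omega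
  obtain ⟨g, rfl⟩ := MulAction.exists_smul_eq D.H S T
  have hg := D.mem_H.1 g.2
  refine ⟨g⁻¹, hg.inv_left, fun x hx => ?_⟩
  have h7 := (hK (h4.ge ⟨g * ⟨x, hR hx⟩ * g⁻¹, ⟨⟨x, hR hx⟩, hS' hx, rfl⟩, rfl⟩)).2
  change (D.ρ (g * x * (g : G)⁻¹)).act v = v at h7
  rw [D.ρ_conj hg (D.mem_H.1 (hR hx))] at h7
  rw [D.ρ_inv hg]
  conv_rhs => rw [← h7]
  simp only [← W.act_mul, mul_assoc, inv_mul_cancel_left]

theorem FD.Pr.tr {D D₁ D₂ : FD G} (h₁ : D.Pr D₁) (h₂ : D.Pr D₂) :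
    ∃ h, Commute h D.z ∧ (h * D₁.z * h⁻¹ = D₂.z ∨ h * D₁.z * h⁻¹ = D₂.z⁻¹) := by
  obtain ⟨v₁, l₁, e₁⟩ := h₁.mem
  obtain ⟨v₂, l₂, e₂⟩ := h₂.mem
  obtain ⟨h, hh, hw⟩ := h₁.exists_fix (R := D₂.Q ⊓ D.H) inf_le_right D₂.pQ.to_inf_left e₁
  have h0 : (D.ρ h).act v₁ ≠ 0 := fun e => h₁.wt _ _ e₁ 0 (by
    rw [← W.act_one v₁, ← inv_mul_cancel (D.ρ h), W.act_mul, e, W.act_zero]; rfl)
  have h1 := D.conj h hh v₁ l₁
  generalize (D.ρ h).act v₁ = w at hw h0 h1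
  have hv : ∀ x ∈ D₂.Q ⊓ D.H, (D.ρ x).act v₂ = v₂ := fun x hx =>
    ((D.commute_η (D.mem_H.1 hx.2)).1 (e₂ ▸ D₂.Q_z hx.1)).1
  obtain ⟨e, he, he1, he2⟩ := h₂.cy
  obtain ⟨d, hd, hd1, hd2, hd3⟩ := h₂.dd
  have h2 := h₂.sh.wt d hd1 hd2 (by rw [← D.ρ_pow hd1, D₂.Q_cube hd, D.ρ_one]) hd3 0
  obtain ⟨k, hk⟩ := c2_line _ (w 0) (h₂.wt _ _ e₂ 0) (blk_fix _ h2 _ _
    (by rw [← W.act_σ1 hd2, hv d ⟨hd, D.mem_H.2 hd1⟩])
    (by rw [← W.act_σ1 hd2, hw d ⟨hd, D.mem_H.2 hd1⟩]))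
  have h3 : w = k • v₂ := sub_eq_zero.1 (W.c2_zero he2 (by
    rw [W.act_sub, W.act_smul, hv e ⟨he, D.mem_H.2 he1⟩, hw e ⟨he, D.mem_H.2 he1⟩])
    (by rw [Pi.sub_apply, Pi.smul_apply, hk, sub_self]))
  obtain ⟨u, hu⟩ := c2_exists_bf h0 (l₁ + D.lam h v₁ - k * l₂)
  have h4 : D.η u 0 * h * D₁.z * (D.η u 0 * h)⁻¹ = D.η (k • v₂) (k * l₂) := by
    rw [show D.η u 0 * h * D₁.z * (D.η u 0 * h)⁻¹ = D.η u 0 * (h * D₁.z * h⁻¹) * (D.η u 0)⁻¹ by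
      group, e₁, h1, D.conj_η, hu, sub_sub_cancel, h3]
  refine ⟨_, (D.η_z u 0).mul_left hh, ?_⟩
  rw [h4, e₂, D.inv]
  rcases c2_F3 k with rfl | rfl | rfl
  · exact (h0 (h3.trans (zero_smul _ _))).elim
  · exact Or.inl (by rw [one_smul, one_mul])
  · exact Or.inr (by rw [neg_smul, one_smul, neg_one_mul])

theorem FD.Pr.c0 {D D' : FD G} (h : D.Pr D') : Commute (D.r 0 * D'.z * (D.r 0)⁻¹) D'.z ∧
    D.r 0 * D'.z * (D.r 0)⁻¹ ∉ D'.Q ∧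
      81 ≤ Nat.card ↥(D'.Q ⊓ centralizer {D.r 0 * D'.z * (D.r 0)⁻¹}) := by
  obtain ⟨v, l, e⟩ := h.mem
  have h1 : (W.ng 0).act v = sg 0 (v 0) + v := funext fun j => by
    rw [ng_act, Pi.add_apply, sg]
    split_ifs with hj
    · rw [hj, neg_eq_iff_add_eq_zero, ← two_smul F3, ← one_smul F3 (v 0), smul_smul, ← add_smul]
      exact smul_eq_zero_of_left (by decide) _
    · rw [zero_add]
  have h2 : bf (sg 0 (v 0)) v = 0 := by rw [bf_sg, b2]; ring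
  have h3 : D.r 0 * D'.z * (D.r 0)⁻¹ = D.η (sg 0 (v 0)) 0 * D'.z := by
    rw [e, D.r_conj, D.mul, h1, h2, zero_add, add_zero]
  have h4 : ∀ x ∈ D'.Q ⊓ D.H, x * D.η (sg 0 (v 0)) 0 * x⁻¹ =
      D.η (sg ((D.ρ x).σ 0) (v ((D.ρ x).σ 0))) (D.lam x (sg 0 (v 0))) := fun x hx => by
    have hv := ((D.commute_η (D.mem_H.1 hx.2)).1 (e ▸ D'.Q_z hx.1)).1
    rw [D.conj x (D.mem_H.1 hx.2), W.act_sg, ← W.act_apply, hv, zero_add]
  rw [h3]
  refine ⟨Commute.mul_left (e ▸ D.comm_iff.2 h2) (Commute.refl _), fun hQ => ?_, ?_⟩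
  · obtain ⟨x, hx, hx1, hx2⟩ := h.cy
    obtain ⟨k, hk⟩ := D'.mem_Z.1 (D'.comm_mem_Z hx ((mul_mem_cancel_right D'.z_mem).1 hQ))
    rw [D'.η_zero, e, D.p3_η, commutatorElement_def, h4 x ⟨hx, D.mem_H.2 hx1⟩, mul_inv_eq_iff_eq_mul,
      D.mul] at hk
    have h5 := (D.inj hk).1
    obtain ⟨j, hj, hj'⟩ := c2_third ((D.ρ x).σ 0)
    have h6 := congrFun h5 0
    have h7 := congrFun h5 j
    simp only [sg, Pi.add_apply, Pi.smul_apply, if_neg (hx2 0).symm, if_neg hj, if_neg hj', if_true,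
      add_zero] at h6 h7
    exact h.wt _ _ e j (c2_blk _ _ k (h.wt _ _ e 0) h6.symm h7.symm)
  · have h5 := c2_card_le (fun t : Fin 3 × F3 => D.η (sg t.1 (v t.1)) t.2) fun x hx =>
      ⟨(_, _), h4 x hx⟩
    have h6 := card_le_of_le (show D'.Q ⊓ D.H ⊓ centralizer {D.η (sg 0 (v 0)) 0} ≤
        D'.Q ⊓ centralizer {D.η (sg 0 (v 0)) 0 * D'.z} from fun x hx =>
      ⟨hx.1.1, mem_centralizer_singleton_iff.2
        (Commute.mul_right (mem_centralizer_singleton_iff.1 hx.2) (D'.Q_z hx.1.1))⟩)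
    rw [h.card, Nat.card_prod, Nat.card_zmod, Nat.card_eq_fintype_card, Fintype.card_fin] at h5
    omega

theorem FD.Sh0.lam {D : FD G} (h : D.Sh0) {t : G} (ht : Commute t D.z) (h3 : t ^ 3 = 1)
    (hQ : t ∉ D.Q) (h81 : 81 ≤ Nat.card ↥(D.Q ⊓ centralizer {t})) :
    (D.ρ t).σ = 1 ∧ ∀ v, (D.ρ t).act v = v → D.lam t v = 0 := by
  have h1 : D.ρ t ^ 3 = 1 := by rw [← D.ρ_pow ht, h3, D.ρ_one]
  rw [D.card_of_z inf_le_left ⟨D.z_mem, mem_centralizer_singleton_iff.2 ht.symm⟩] at h81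
  have h2 : ∀ v ∈ D.vS (D.Q ⊓ centralizer {t}), (D.ρ t).act v = v ∧ D.lam t v = 0 :=
    fun v ⟨l, hl⟩ => (D.commute_η ht).1 (Commute.symm (mem_centralizer_singleton_iff.1 hl.2))
  generalize D.vS (D.Q ⊓ centralizer {t}) = S at h81 h2
  rcases W.σ_cases (k := 1) h1 with h4 | h4
  · refine ⟨h4, fun v hv => (h2 v ?_).2⟩
    have h5 := h.wt t ht h4 h1 fun e => hQ ((D.ρ_eq_one ht).1 e)
    have h6 : ∀ w, (D.ρ t).act w = w → w ∈ BF.orthogonal S := fun w hw =>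
      mem_perp.2 fun u hu => W.bf_fix_diag h4 h5 (h2 u hu).1 hw
    have h7 := card_mul_card_perp S
    have h8 : S.toAddSubgroup = (BF.orthogonal S).toAddSubgroup :=
      AddSubgroup.eq_of_le_of_card_ge (fun w hw => h6 w (h2 w hw).1) (by
        change Nat.card (BF.orthogonal S) ≤ Nat.card S
        nlinarith)
    exact h8.ge (h6 v hv)
  · have h5 := Nat.card_le_card_of_injective (fun v : S => v.1 0) fun v w e =>
      Subtype.ext (sub_eq_zero.1 (W.c2_zero h4 (by rw [W.act_sub, (h2 _ v.2).1, (h2 _ w.2).1])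
        (sub_eq_zero.2 e)))
    rw [Nat.card_prod, Nat.card_zmod] at h5
    omega

end Cfsg.Lib.C22
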