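import Cfsg.Agent.Recog.C22Api2

/-!
Sylow `3`-subgroups of the centralizers of involutions.
-/

set_option autoImplicit false

namespace Cfsg.Lib.C22

open Cfsg Subgroup Equiv Cfsg.Lib.Recog.P43 Cfsg.Lib.Recog.P43.Q _root_.Cfsg.Lib.Trans
open scoped commutatorElement

variable {G : Type*} [Group G]

namespace C22D

theorem eq_one_of {M : Type*} [Monoid M] {x : M} {k : ℕ} (h2 : x * x = 1) (h3 : x ^ 3 ^ k = 1) :
    x = 1 := by
  obtain ⟨n, hn⟩ : Odd (3 ^ k) := Odd.pow (by decide)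
  rwa [hn, pow_succ, pow_mul, pow_two, h2, one_pow, one_mul] at h3

theorem pg {x : G} {k : ℕ} (h : x ^ 3 ^ k = 1) : IsPGroup 3 (zpowers x) := by
  rintro ⟨_, n, rfl⟩
  exact ⟨k, Subtype.ext (by
    change (x ^ n) ^ 3 ^ k = 1
    rw [← zpow_natCast, ← zpow_mul, mul_comm, zpow_mul, zpow_natCast, h, one_zpow])⟩

variable {D : FD G} {u : G}

theorem comm_fix (hu : Commute u D.z) (u2 : u * u = 1) {v : V} {l : F3} :
    Commute u (D.η v l) ↔ (D.ρ u).act v = v := by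
  rw [D.commute_η hu, and_iff_left_iff_imp]
  intro e
  have := D.lam_mul hu hu v
  rw [u2, e, ← D.zero, D.lam_η, bf_zero_left] at this
  linear_combination this + D.lam u v * three_eq

theorem fix_nd (hu : Commute u D.z) (u2 : u * u = 1) {v : V} (e : (D.ρ u).act v = v) (h : v ≠ 0) :
    ∃ w, (D.ρ u).act w = w ∧ bf v w ≠ 0 := by
  obtain ⟨w, hw⟩ := not_forall.1 (mt eq_zero_of_bf h)
  refine ⟨w + (D.ρ u).act w, ?_, fun e1 => hw ?_⟩
  · rw [W.act_add, ← W.act_mul, ← D.ρ_mul hu hu, u2, D.ρ_one, W.act_one, add_comm]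
  · have := (D.ρ u).bf_act v w
    rw [e] at this
    rw [bf_add_right, this, bf_swap] at e1
    linear_combination e1 + bf w v * three_eq

theorem cen (h : D.Sh0) (hu : Commute u D.z) (u2 : u * u = 1) {v : V} (e : (D.ρ u).act v = v)
    (h0 : v ≠ 0) {t : G} (t1 : Commute t D.z) (t2 : Commute t u) {k : ℕ} (t3 : t ^ 3 ^ k = 1)
    (hc : ∀ q ∈ D.Q, Commute q u → Commute t q) : t ∈ D.Z := by
  have key : ∀ w, (D.ρ u).act w = w → Commute t (D.η w 0) := fun w e =>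
    hc _ (D.η_mem _ _) ((comm_fix hu u2).2 e).symm
  by_cases hQ : t ∈ D.Q
  · obtain ⟨v', l, rfl⟩ := hQ
    refine D.η_mem_Z.2 (by_contra fun n => ?_)
    obtain ⟨w, w1, w2⟩ := fix_nd hu u2 ((comm_fix hu u2).1 t2.symm) n
    exact w2 (D.comm_iff.1 (key w w1))
  · obtain ⟨w, w1, w2⟩ := fix_nd hu u2 e h0
    exact absurd (D.comm_iff.1 (h.cab t1 hQ t3 (D.η_mem _ _) (D.η_mem _ _) (key v e) (key w w1))) w2

/-- A Sylow subgroup of the centralizer of `u` with centre `Z`. -/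
structure Syl (D : FD G) (u : G) (T : Subgroup G) : Prop where
  le : T ≤ D.H
  syl : IsSylowIn 3 T (centralizer {u})
  cen : ∀ t ∈ T, (∀ s ∈ T, Commute t s) → t ∈ D.Z
  Q : D.Q ⊓ centralizer {u} ≤ T
  z : D.z ∈ T

variable [Finite G]

theorem exists_syl (h : D.Sh0) (hu : Commute u D.z) (u2 : u * u = 1) {v : V}
    (e : (D.ρ u).act v = v) (h0 : v ≠ 0) :
    ∃ T, Syl D u T ∧ IsSylowIn 3 T (D.H ⊓ centralizer {u}) := by
  obtain ⟨T, hT⟩ := exists_isSylowIn (p := 3) (D.H ⊓ centralizer {u})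
  have hC : ∀ {g}, g ∈ centralizer {u} ↔ Commute g u := mem_centralizer_singleton_iff
  have a1 : D.Q ⊓ centralizer {u} ≤ T := hT.le_of_normal (D.pQ.to_le inf_le_left)
    (inf_le_inf_right _ D.Q_le_H) fun g hg => mem_normalizer_of_cj_le (cj_le_iff.2 fun q hq =>
      ⟨D.conj_mem (D.mem_H.1 hg.1) hq.1, hC.2 (((hC.1 hg.2).mul_left (hC.1 hq.2)).mul_left
        (hC.1 hg.2).inv_left)⟩)
  have a2 : ∀ t ∈ T, (∀ s ∈ T, Commute t s) → t ∈ D.Z := fun t ht hc => by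
    obtain ⟨k, hk⟩ := hT.isPGroup ⟨t, ht⟩
    exact cen h hu u2 e h0 (D.mem_H.1 (hT.le ht).1) (hC.1 (hT.le ht).2) (congrArg Subtype.val hk)
      fun q hq hq' => hc q (a1 ⟨hq, hC.2 hq'⟩)
  have a3 : D.z ∈ T := a1 ⟨D.z_mem, hC.2 hu.symm⟩
  refine ⟨T, ⟨hT.le.trans inf_le_left, isSylowIn_of_norm (hT.le.trans inf_le_right) hT.isPGroup
    fun y hy hn ⟨k, hk⟩ => ?_, a2, a1, a3⟩, hT⟩
  have b1 := a2 _ (mem_normalizer_conj hn a3) fun s hs => by
    simpa [mul_assoc] using (Commute.conj_iff y).2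
      (D.mem_H.1 (hT.le (mem_normalizer_conj' hn hs)).1).symm
  have b2 : Commute y D.z := by
    rcases D.mem_Z'.1 b1 with e | e | e
    · exact absurd (conj_eq_one_iff.1 e) D.z_ne
    · exact mul_inv_eq_iff_eq_mul.1 e
    · have e2 : Commute (y * y) D.z := mul_inv_eq_iff_eq_mul.1 (by
        rw [show y * y * D.z * (y * y)⁻¹ = y * (y * D.z * y⁻¹) * y⁻¹ by group, e, ← conj_inv, e, inv_inv])
      obtain ⟨n, hn⟩ : Odd (3 ^ k) := Odd.pow (by decide)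
      rw [hn, pow_succ, pow_mul, pow_two, mul_eq_one_iff_inv_eq] at hk
      exact hk ▸ (e2.pow_left n).inv_left
  exact (hT.eq_of_le (hT.isPGroup.to_sup_of_normal_left' (pg hk) (zpowers_le.2 hn)) le_sup_left
    (sup_le hT.le (zpowers_le.2 ⟨D.mem_H.2 b2, hy⟩))).le (mem_sup_right (mem_zpowers y))

omit [Finite G] in
theorem syl_cj {T : Subgroup G} (h : IsSylowIn 3 T (centralizer {u})) (g : G) :
    IsSylowIn 3 (cj g T) (centralizer {g * u * g⁻¹}) := by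
  have := h.cj g
  rwa [cj_centralizer_set, Set.image_singleton] at this

theorem Syl.nc {T T' : Subgroup G} {g : G} (h : Syl D u T) (h' : Syl D (g * u * g⁻¹) T') :
    ∃ n, n * D.z * n⁻¹ ∈ D.Z ∧ n * u * n⁻¹ = g * u * g⁻¹ := by
  obtain ⟨c, hc, e⟩ := h'.syl.exists_cj_eq (syl_cj h.syl g)
  rw [cj_cj] at e
  refine ⟨c * g, h'.cen _ (e ▸ conj_mem_cj.2 h.z) fun s hs => ?_, ?_⟩
  · have := (Commute.conj_iff (c * g)).2 (D.mem_H.1 (h.le (mem_cj.1 (e.symm ▸ hs)))).symm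
    rwa [show c * g * ((c * g)⁻¹ * s * (c * g)) * (c * g)⁻¹ = s by group] at this
  · rw [show c * g * u * (c * g)⁻¹ = c * (g * u * g⁻¹) * c⁻¹ by group,
      mem_centralizer_singleton_iff.1 hc, mul_inv_cancel_right]

omit [Finite G] in
theorem σ_eq {t : G} (h1 : Commute t D.z) (h2 : Commute t (D.r 0)) {k : ℕ} (h3 : t ^ 3 ^ k = 1) :
    (D.ρ t).σ = 1 := by
  have e : D.ρ t * W.ng 0 = W.ng 0 * D.ρ t := by
    rw [← D.ρ_r, ← D.ρ_mul h1 (D.r_z 0), ← D.ρ_mul (D.r_z 0) h1, h2.eq]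
  have e1 := congrArg (W.g · 0) e
  have e2 : (D.ρ t).σ⁻¹ 0 = 0 := by
    by_contra n
    simp only [W.mul_g, W.ng, if_neg n, mul_one, if_true, inv_one, Perm.one_apply] at e1
    exact m_facts.1 (mul_eq_right.1 e1.symm)
  refine eq_one_of (k := k) ((by decide : ∀ σ : Perm (Fin 3), σ⁻¹ 0 = 0 → σ * σ = 1) _ e2) ?_
  change W.σHom (D.ρ t) ^ _ = 1
  rw [← map_pow, ← D.ρ_pow h1, h3, D.ρ_one, map_one]

omit [Finite G] in
theorem Q_inf : D.Q ⊓ centralizer {D.r 0} = D.QS ({1, 2} : Finset (Fin 3)) := by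
  ext q
  have key : ∀ v : V, v 0 = 0 ↔ ∀ j, j ∉ (({1, 2} : Finset (Fin 3)) : Set (Fin 3)) → v j = 0 :=
    fun v => ⟨fun e j hj => by
      obtain rfl : j = 0 := by revert j; decide
      exact e, fun e => e 0 (by decide)⟩
  refine ⟨fun ⟨⟨v, l, e⟩, h⟩ => ?_, fun ⟨v, l, h, e⟩ => ?_⟩ <;> subst e
  · exact D.η_mem_QS.2 ((key v).1 (D.r_η.1 (Commute.symm (mem_centralizer_singleton_iff.1 h))))
  · exact ⟨D.η_mem _ _, mem_centralizer_singleton_iff.2 (D.r_η.2 ((key v).2 h)).symm⟩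

omit [Finite G] in
theorem idx (h : D.Sh0) {Y : Subgroup G} (h1 : Y ≤ D.H) (h2 : Y ≤ centralizer {D.r 0})
    (h3 : IsPGroup 3 Y) : Nat.card Y ≤ 3 * Nat.card ↥(Y ⊓ D.Q) :=
  h.idx Y h1 h3 fun t ht => by
    obtain ⟨k, hk⟩ := h3 ⟨t, ht⟩
    exact σ_eq (D.mem_H.1 (h1 ht)) (mem_centralizer_singleton_iff.1 (h2 ht)) (congrArg Subtype.val hk)

end C22D

open C22D in
theorem FD.tc [Finite G] {D : FD G} (h : D.Sh0) {d : G} (hd : D.Dd d) (hc : IsConj D.z d) : D.Tc := by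
  have hC : ∀ {g u : G}, g ∈ centralizer {u} ↔ Commute g u := mem_centralizer_singleton_iff
  have dQ : d ∉ D.Q := fun e => hd.wt 0 (by rw [D.ρ_Q e]; rfl)
  obtain ⟨T, hT, hT'⟩ := exists_syl h (D.r_z 0) (D.r_sq 0) (v := sg 1 (1, 0))
    ((comm_fix (l := 0) (D.r_z 0) (D.r_sq 0)).1 (D.r_η.2 rfl)) (by decide)
  have cQ : Nat.card ↥(D.Q ⊓ centralizer {D.r 0}) = 243 := by rw [Q_inf, D.card_QS]; rfl
  have c1 : Nat.card T ≤ 729 := (idx h hT.le hT.syl.le hT.syl.isPGroup).trans (by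
    have := Trans.card_le_of_le (show T ⊓ D.Q ≤ D.Q ⊓ centralizer {D.r 0} from
      fun x hx => ⟨hx.2, hT.syl.le hx.1⟩)
    omega)
  refine ⟨fun Y y1 y2 y3 => ?_, fun e => ?_, fun e => ?_, ?_⟩
  · obtain ⟨c, c1, c2⟩ := hT.syl.exists_cj_le y2 y1
    by_contra! n
    have a1 : D.z ∉ Trans.cj c Y ⊓ D.Q := fun e => n c⁻¹ (hC.1 (inv_mem c1)) (by simpa using mem_cj.1 e.1)
    have a2 := idx h (c2.trans hT.le) (c2.trans hT.syl.le) (isPGroup_cj y2 c)
    have a3 : Trans.cj c Y ⊓ D.Q ≤ centralizer {D.r 0} := inf_le_left.trans (c2.trans hT.syl.le)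
    have a4 : Trans.cj c Y ⊓ D.Q ≤ D.Q := inf_le_right
    rw [card_cj, D.card_of_nz a4 a1] at a2
    generalize Trans.cj c Y ⊓ D.Q = A at a1 a2 a3 a4
    have a5 := D.vS_mul_le (A := A) (B := centralizer A) fun a ha b hb => mem_centralizer_iff.1 hb a ha
    have a6 : D.vS A < D.vS (centralizer A) := by
      refine lt_of_le_of_ne (fun v ⟨l, hv⟩ => ⟨l, mem_centralizer_iff.2 fun a ha => ?_⟩) fun e => ?_
      · have b1 := D.comm_mem_Z (a4 ha) (a4 hv)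
        have b2 : ⁅a, D.η v l⁆ ∈ A := mul_mem (mul_mem (mul_mem ha hv) (inv_mem ha)) (inv_mem hv)
        rcases D.mem_Z'.1 b1 with e | e | e
        · exact commutatorElement_eq_one_iff_mul_comm.1 e
        · exact absurd (e ▸ b2) a1
        · exact absurd (inv_mem_iff.1 (e ▸ b2)) a1
      · obtain ⟨l, hl⟩ := e.ge (show sg 0 (1, 0) ∈ D.vS (centralizer A) from
          ⟨0, mem_centralizer_iff.2 fun a ha => by
            obtain ⟨v, l, rfl⟩ := a4 ha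
            refine (D.comm_iff.2 ?_).symm
            rw [bf_sg, D.r_η.1 (hC.1 (a3 ha)).symm]; rfl⟩)
        exact absurd (D.r_η.1 (hC.1 (a3 hl)).symm) (by decide)
    have a7 : Nat.card (D.vS A) < Nat.card (D.vS (centralizer A)) :=
      Set.ncard_lt_ncard (show (D.vS A : Set V) ⊂ _ from a6)
    nlinarith
  · have a1 := (Nat.prime_three.pow_dvd_iff_le_factorization Nat.card_pos.ne').1 e
    have a2 := Nat.pow_le_pow_right (show 0 < 3 by decide) a1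
    rw [← hT.syl.card_eq] at a2
    omega
  · obtain ⟨g, hg⟩ := isConj_iff.1 e
    have u1 := (D.r_z 0).mul_left (D.r_z 2)
    have u2 : D.r 0 * D.r 2 * (D.r 0 * D.r 2) = 1 := by
      rw [(D.r_comm 0 2).symm.mul_mul_mul_comm, D.r_sq, D.r_sq, mul_one]
    have u3 : D.ρ (D.r 0 * D.r 2) = W.ng 0 * W.ng 2 := by rw [D.ρ_mul (D.r_z 0) (D.r_z 2), D.ρ_r, D.ρ_r]
    obtain ⟨T', hU, -⟩ := exists_syl h u1 u2 (v := sg 1 (1, 0)) (by rw [u3]; decide +kernel) (by decide)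
    have a1 := hU.syl.card_eq_card (hg ▸ syl_cj hT.syl g)
    have a2 := h.st T' hU.le hU.syl.isPGroup
    have a3 := Trans.card_le_of_le (show T' ⊓ D.Q ≤ D.QS ({1} : Finset (Fin 3)) from by
      rintro _ ⟨h1, v, l, rfl⟩
      have b1 := (comm_fix u1 u2).1 (hC.1 (hU.syl.le h1)).symm
      rw [u3, W.act_mul] at b1
      refine D.η_mem_QS.2 fun j hj => ?_
      have b2 := congrFun b1 j
      rw [ng_act, ng_act] at b2
      have b3 : -v j = v j := by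
        rcases (by decide : ∀ j : Fin 3, j ∉ (({1} : Finset (Fin 3)) : Set (Fin 3)) → j = 0 ∨ j = 2)
          j hj with rfl | rfl <;> simpa using b2
      exact (by decide : ∀ a : V2, -a = a → a = 0) _ b3)
    obtain ⟨c, c2, c3⟩ := hT'.exists_cj_le (pg (k := 1) hd.d3)
      (zpowers_le.2 ⟨D.mem_H.2 hd.dz, hC.2 (hd.dr 0)⟩)
    have a4 := card_lt_of_lt (lt_of_le_of_ne hT.Q fun e => dQ (by
      simpa [mul_assoc] using D.conj_mem (D.mem_H.1 c2.1).inv_left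
        (e.ge (cj_le_iff.1 c3 d (mem_zpowers d))).1))
    rw [card_cj] at a1
    rw [D.card_QS, Finset.card_singleton] at a3
    omega
  · obtain ⟨g, rfl⟩ := isConj_iff.1 hc
    generalize hd' : g * D.z * g⁻¹ = d at hd dQ
    have fx : ∀ i, ∃ a, a ≠ 0 ∧ Commute d (D.η (sg i a) 0) := fun i => by
      have e := congrArg (W.g · i) ((D.ρ_pow hd.dz 3).symm.trans (by rw [hd.d3, D.ρ_one]))
      simp only [pow_three, W.mul_g, hd.σ1, inv_one, Perm.one_apply, W.one_g] at e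
      obtain ⟨a, a1, a2⟩ := (by decide +kernel : ∀ q : Recog.P43.Q, q * (q * q) = 1 →
        ∃ a : V2, a ≠ 0 ∧ a2 q a = a) _ e
      exact ⟨a, a1, (D.commute_η hd.dz).2 ⟨by rw [W.act_sg, hd.σ1, Perm.one_apply, a2], hd.lam _⟩⟩
    obtain ⟨a, a0, a1⟩ := fx 1
    obtain ⟨b, b0, b1⟩ := fx 2
    let A := D.Q ⊓ (centralizer {d} ⊓ centralizer {D.r 0})
    have s1 : sg 1 a ∈ D.vS A := ⟨0, D.η_mem _ _, hC.2 a1.symm, hC.2 (D.r_η.2 (by rfl)).symm⟩
    have s2 : sg 2 b ∈ D.vS A := ⟨0, D.η_mem _ _, hC.2 b1.symm, hC.2 (D.r_η.2 (by rfl)).symm⟩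
    have s3 : Nat.card (F3 × F3) ≤ Nat.card (D.vS A) := Nat.card_le_card_of_injective
      (fun p => ⟨p.1 • sg 1 a + p.2 • sg 2 b, add_mem (Submodule.smul_mem _ _ s1)
        (Submodule.smul_mem _ _ s2)⟩) fun p q e => by
      have e1 := congrFun (congrArg Subtype.val e) 1
      have e2 := congrFun (congrArg Subtype.val e) 2
      have key : ∀ (a : V2) (k l : F3), a ≠ 0 → k • a = l • a → k = l := by decide
      exact Prod.ext (key a _ _ a0 (by simpa [sg] using e1)) (key b _ _ b0 (by simpa [sg] using e2))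
    have s4 := D.card_of_z (A := A) inf_le_left ⟨D.z_mem, hC.2 hd.dz.symm, hC.2 (D.r_z 0).symm⟩
    have s5 : A ⊔ zpowers d ≤ centralizer {d} ⊓ centralizer {D.r 0} :=
      sup_le inf_le_right (zpowers_le.2 ⟨hC.2 rfl, hC.2 (hd.dr 0)⟩)
    have s6 := h.st.cj g (A ⊔ zpowers d) (by rw [FD.H, D.cj_z, hd']; exact s5.trans inf_le_left)
      ((D.pQ.to_le inf_le_left).to_sup_of_normal_left' (pg (k := 1) hd.d3) (zpowers_le.2
        (mem_normalizer_of_cj_le (cj_le_iff.2 fun x hx => by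
          rwa [← (hC.1 hx.2.1).eq, mul_inv_cancel_right]))))
    have s7 := card_lt_of_lt (lt_of_le_of_ne (le_sup_left : A ≤ A ⊔ zpowers d) fun e =>
      dQ (e.ge (mem_sup_right (mem_zpowers d))).1)
    obtain ⟨q, q1, q2⟩ : ∃ q ∈ (A ⊔ zpowers d) ⊓ (D.cj g).Q, q ∉ (D.cj g).Z := by
      by_contra! n
      have := Trans.card_le_of_le (show _ ≤ (D.cj g).Z from n)
      rw [FD.card_Z] at this
      simp only [Nat.card_prod, Nat.card_zmod] at s3
      omega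
    obtain ⟨v, l, rfl⟩ := q1.2
    have u1 : Commute (g⁻¹ * D.r 0 * g⁻¹⁻¹) D.z := by
      simpa [← hd', mul_assoc] using (Commute.conj_iff g⁻¹).2 (hd.dr 0).symm
    have u2 : g⁻¹ * D.r 0 * g⁻¹⁻¹ * (g⁻¹ * D.r 0 * g⁻¹⁻¹) = 1 := by
      rw [conj_mul, D.r_sq, mul_one, mul_inv_cancel]
    obtain ⟨T', hU, -⟩ := exists_syl h u1 u2 (v := v) ((comm_fix (l := l) u1 u2).1 (by
      simpa [D.cj_η, mul_assoc] using (Commute.conj_iff g⁻¹).2 (hC.1 (s5 q1.1).2).symm))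
      (mt (D.cj g).η_mem_Z.2 q2)
    obtain ⟨n, n1, n2⟩ := hT.nc hU
    have e : g * n * D.z * (g * n)⁻¹ = g * (n * D.z * n⁻¹) * g⁻¹ := by group
    refine ⟨g * n, mul_inv_eq_iff_eq_mul.1 (by
      rw [show g * n * D.r 0 * (g * n)⁻¹ = g * (n * D.r 0 * n⁻¹) * g⁻¹ by group, n2]; group), ?_⟩
    rw [e]
    rcases D.mem_Z'.1 n1 with e | e | e
    · exact absurd (conj_eq_one_iff.1 e) D.z_ne
    · rw [e, hd']
      exact ⟨hd.dz, fun e => dQ (D.Z_le e)⟩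
    · rw [e, ← conj_inv, hd']
      exact ⟨hd.dz.inv_left, fun e => dQ (D.Z_le (inv_mem_iff.1 e))⟩

end Cfsg.Lib.C22
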