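import Cfsg.Agent.Recog.C22Api2
import Cfsg.Agent.Class.HermSimple

/-! The normal subgroup `2.U₆(2)` is perfect and contains the three involutions. -/

set_option autoImplicit false

namespace Cfsg.Lib.C22

open Cfsg Subgroup Equiv Cfsg.Lib.Recog.P43 Cfsg.Lib.Recog.P43.Q
open Cfsg.Lib.Spor Cfsg.Lib.Spor.FT Cfsg.Lib.Spor.U6 Cfsg.Lib.Spor.TQ

theorem E2.perf : _root_.commutator (TQ.Inn T6) = ⊤ := by
  obtain ⟨e⟩ := nonempty_psu_inn (K := GF4) GF4.card
  have := Class.Form.isSimpleGroup_PSU (q := 2) GF4.card 6 (by norm_num) (by norm_num)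
  have := e.symm.isSimpleGroup
  refine (IsSimpleGroup.eq_bot_or_eq_top_of_normal _ inferInstance).resolve_left fun b => ?_
  have := @IsSimpleGroup.prime_card (TQ.Inn T6) ⟨fun x y => commutatorElement_eq_one_iff_mul_comm.1
    (mem_bot.1 (b.le (commutator_mem_commutator (mem_top x) (mem_top y))))⟩ this
  rw [card_Inn_T6] at this
  exact absurd this (by norm_num)

variable {G : Type*} [Group G] [Finite G]

theorem FD.kd {D : FD G} (h : D.Sh) {d y : G} (hd : D.Dd d) (hT : D.Tc) {K : Subgroup G} {π : K →* Perm T6}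
    (hK : KX (D.r 0) K π) (h0 : y * D.r 0 * y⁻¹ = D.r 1) (h1 : y * D.r 1 * y⁻¹ = D.r 2)
    (h2 : y * D.r 2 * y⁻¹ = D.r 0) : KD (D.r 0) (D.r 1) (D.r 2) y K π := by
  have : Fact (Nat.Prime 3) := ⟨by norm_num⟩
  have le : K ≤ centralizer {D.r 0} := fun k hk => mem_centralizer_singleton_iff.2 (hK.le k hk)
  have su : Function.Surjective (π.codRestrict _ hK.mem) := fun k =>
    (hK.sur k k.2).imp fun _ => Subtype.ext
  have three : ∀ g, Commute g (D.r 0) → g ^ 3 = 1 → g ∈ K := fun g hg g3 => by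
    have : (K.subgroupOf (centralizer {D.r 0})).Normal := ⟨fun k hk x =>
      hK.nK _ (mem_centralizer_singleton_iff.1 x.2) _ hk⟩
    have m : g ^ K.relIndex (centralizer {D.r 0}) ∈ K :=
      pow_index_mem (H := K.subgroupOf _) ⟨g, mem_centralizer_singleton_iff.2 hg⟩
    have n : ¬ 3 ∣ K.relIndex (centralizer {D.r 0}) := fun n => hT.n7 (by
      rw [← Trans.card_mul_relIndex le, pow_succ]
      refine mul_dvd_mul (dvd_trans ?_ (card_dvd_of_surjective _ su)) n
      rw [card_Inn_T6]; norm_num)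
    rw [pow_eq_pow_mod _ g3] at m
    rcases (by omega : K.relIndex (centralizer {D.r 0}) % 3 = 1 ∨
      K.relIndex (centralizer {D.r 0}) % 3 = 2) with e | e <;> rw [e] at m
    · rwa [pow_one] at m
    · have := mul_mem m m
      rwa [← pow_add, pow_succ, g3, one_mul] at this
  have dec : ∀ k : K, ∃ c ∈ _root_.commutator K, k = c ∨ k = c * ⟨_, hK.dK⟩ := fun k => by
    obtain ⟨c, hc, e⟩ := ((map_commutator_eq _ _).trans (by
      rw [MonoidHom.range_eq_top.2 su]; exact E2.perf)).ge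
      (mem_top (π.codRestrict _ hK.mem k))
    refine ⟨c, hc, ((hK.ker (c⁻¹ * k)).1 (by
      rw [map_mul, map_inv, inv_mul_eq_one]; exact congrArg Subtype.val e)).imp (fun e => ?_)
      fun e => ?_⟩
    exacts [(inv_mul_eq_one.1 (Subtype.ext e)).symm, inv_mul_eq_iff_eq_mul.1 (Subtype.ext e)]
  have sq : ∀ k ∈ K, k * k ∈ (_root_.commutator K).map K.subtype := fun k hk => by
    obtain ⟨c, hc, e | e⟩ := dec ⟨k, hk⟩ <;> refine ⟨c * c, mul_mem hc hc, ?_⟩ <;>
      rw [show k = _ from congrArg Subtype.val e]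
    · rfl
    · change c.1 * c.1 = c.1 * D.r 0 * (c.1 * D.r 0)
      rw [(hK.le c c.2).symm.mul_mul_mul_comm, D.r_sq, mul_one]
  have dK := three d (hd.dr 0) hd.d3
  have key : ∀ s : Fin 3 → Bool, (∃ i j, i ≠ j ∧ s i = true ∧ s j = true) → ∀ R, Commute R D.z →
      Commute R (D.r 0) → D.ρ R = ⟨1, fun i => cond (s i) m 1⟩ →
      R ∈ (_root_.commutator K).map K.subtype := fun s hs R Rz R0 e => by
    obtain ⟨p₀, z₀, σ₀, g₀⟩ := h.sup s hs
    obtain ⟨p, pz, ρp, p0⟩ := D.adj z₀ (i := 0) (by rw [σ₀]; rfl)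
    have cK := mul_mem (hK.nK p p0 d dK) (inv_mem dK)
    have cz := ((pz.mul_left hd.dz).mul_left pz.inv_left).mul_left hd.dz.inv_left
    have qQ := (D.ρ_eq_one ((cz.mul_left cz).mul_left Rz.inv_left)).1 (by
      rw [D.ρ_mul (cz.mul_left cz) Rz.inv_left, D.ρ_inv Rz, mul_inv_eq_one, D.ρ_mul cz cz, D.ρ_mul
        ((pz.mul_left hd.dz).mul_left pz.inv_left) hd.dz.inv_left, D.ρ_conj pz hd.dz, D.ρ_inv hd.dz,
        ρp, e]
      refine W.ext (by simp [σ₀, hd.σ1]) (funext fun i => ?_)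
      have := (by decide +kernel : ∀ τ : Recog.P43.Q, τ ≠ 1 → τ ^ 3 = 1 → ∀ a, ∀ b : Bool,
        a * a = cond b m 1 → a * τ * a⁻¹ * τ⁻¹ * (a * τ * a⁻¹ * τ⁻¹) = cond b m 1) _ (hd.wt i)
        (by rw [← W.pow_g hd.σ1, ← D.ρ_pow hd.dz, hd.d3, D.ρ_one]; rfl) _ _ (g₀ i)
      simpa [σ₀, hd.σ1] using this)
    have q3 := D.Q_cube qQ
    have qK := three _ (((hK.le _ cK).mul_left (hK.le _ cK)).mul_left R0.inv_left) q3
    have := sq _ (mul_mem qK qK)
    rw [← pow_two, ← pow_two, ← pow_mul, pow_succ, q3, one_mul] at this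
    exact inv_mem_iff.1 ((mul_mem_cancel_left (sq _ cK)).1 this)
  have z := D.r_z
  have c := fun i => D.r_comm i 0
  have k1 := key ![true, true, false] (by decide) _ ((z 0).mul_left (z 1)) ((c 0).mul_left (c 1))
    (by rw [D.ρ_mul (z 0) (z 1), D.ρ_r, D.ρ_r]; exact W.ext rfl (by decide +kernel))
  have k2 := key ![true, false, true] (by decide) _ ((z 0).mul_left (z 2)) ((c 0).mul_left (c 2))
    (by rw [D.ρ_mul (z 0) (z 2), D.ρ_r, D.ρ_r]; exact W.ext rfl (by decide +kernel))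
  have k3 := key ![true, true, true] (by decide) _ (((z 0).mul_left (z 1)).mul_left (z 2))
    (((c 0).mul_left (c 1)).mul_left (c 2)) (by
      rw [D.ρ_mul ((z 0).mul_left (z 1)) (z 2), D.ρ_mul (z 0) (z 1), D.ρ_r, D.ρ_r, D.ρ_r]
      exact W.ext rfl (by decide +kernel))
  have m2 := (mul_mem_cancel_left k1).1 k3
  have m0 := (mul_mem_cancel_right m2).1 k2
  have m1 := (mul_mem_cancel_left m0).1 k1
  have c81 : ∀ i j, 0 ≠ j → i ≠ j → 81 ∣ Nat.card ↥(K ⊓ centralizer {D.r i}) := fun i j a b => by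
    have n : zpowers d ≤ normalizer (D.QS {j} : Set G) := zpowers_le.2 (mem_normalizer_fintype (by
      rintro _ ⟨v, l, hv, rfl⟩
      exact ⟨_, _, fun k hk => by rw [W.act_σ1 hd.σ1, hv k hk, a2_zero], D.conj d hd.dz v l⟩))
    obtain ⟨n, e⟩ := IsPGroup.iff_card.1 ((D.pQ.to_le (D.QS_le {j})).to_sup_of_normal_left'
      (IsPGroup.of_card (n := 1) ((Nat.card_zpowers d).trans (orderOf_eq_prime hd.d3 fun e =>
        hd.wt 0 (by rw [e, D.ρ_one]; rfl)))) n)
    have lt := Trans.card_lt_of_lt (left_lt_sup.2 fun l : zpowers d ≤ D.QS {j} => hd.wt 0 (by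
      rw [D.ρ_Q (D.QS_le _ (l (mem_zpowers d)))]; rfl))
    have c := D.card_QS {j}
    rw [Finset.coe_singleton] at c
    rw [c, e] at lt
    refine ((pow_dvd_pow 3 (show 4 ≤ n from (pow_lt_pow_iff_right₀ (a := 3) (n := 3)
      (by norm_num)).1 lt)).trans e.symm.dvd).trans (card_dvd_of_le (sup_le ?_ (zpowers_le.2
        ⟨dK, mem_centralizer_singleton_iff.2 (hd.dr i)⟩)))
    rintro _ ⟨v, l, hv, rfl⟩
    exact ⟨three _ (D.r_η.2 (hv 0 a)).symm (D.cube v l),
      mem_centralizer_singleton_iff.2 (D.r_η.2 (hv i b)).symm⟩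
  refine ⟨⟨hK.dK, Subtype.ext (D.r_sq 0), fun e => D.r_ne (congrArg Subtype.val e),
    fun k => Subtype.ext (hK.le k k.2), fun k => by simp only [hK.ker, Subtype.ext_iff, coe_one],
    hK.mem, hK.sur, eq_top_iff.2 fun k _ => ?_⟩, map_subtype_le _ m1, map_subtype_le _ m2, hK.nK,
    hK.cK, c81 1 2 (by decide) (by decide), c81 2 1 (by decide) (by decide), h0, h1, h2,
    fun e => absurd ((D.ρ_r 1).symm.trans (e ▸ D.ρ_r 0)) (by decide +kernel), hT.nc⟩
  obtain ⟨c, hc, rfl | rfl⟩ := dec k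
  exacts [hc, mul_mem hc ((mem_map_iff_mem (subtype_injective _)).1 m0)]

end Cfsg.Lib.C22
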