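import Cfsg.Agent.Recog.C22Api
import Cfsg.Agent.S1714
import Cfsg.Agent.Spor.Fi22U
import Cfsg.Agent.Spor.Fi22C2c
import Cfsg.Agent.Spor.Fi22Two

/-!
Involutions of `2.U₆(2)` whose centralizer has order divisible by `81` are transvections.
-/

set_option autoImplicit false

namespace Cfsg.Lib.C22

open Cfsg Subgroup Equiv
open Cfsg.Lib.Spor Cfsg.Lib.Spor.FT Cfsg.Lib.Spor.U6 Cfsg.Lib.Spor.TQ

namespace F1

open Cfsg.Lib.Spor.F22 in
theorem card_three {G : Type*} [Group G] {D : Set G} (M : MD G D) {l : List G}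
    (h : Fm.CT D 3 l) : Nat.card (centralizer ({l.prod} : Set G)) = 2 ^ 16 * 3 ^ 3 := by
  obtain ⟨a, b, c, rfl⟩ := List.length_eq_three.1 h.2.1
  have h1 := h.1
  simp only [List.nodup_cons, List.mem_cons, not_or, List.not_mem_nil] at h1
  obtain ⟨M, rfl, rfl, rfl⟩ := MD.at3 M (h.2.2.1 a (by simp)) (h.2.2.1 b (by simp))
    (h.2.2.1 c (by simp)) h1.1.1 h1.1.2.1 h1.2.1.1 (h.2.2.2 a (by simp) b (by simp))
    (h.2.2.2 a (by simp) c (by simp)) (h.2.2.2 b (by simp) c (by simp))
  rw [List.prod_cons, List.prod_cons, List.prod_singleton, ← mul_assoc,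
    M.card_centralizer (x := C2c.Q.ev [5, 3, 1]) (by
    rw [map_mul, map_mul, M.ρτ, M.ρτ, M.ρτ, t0640]; exact (Fis.wv_ext (by decide +kernel)).symm)]
  exact C2c.ActlE.2

variable {Y : Type*} [TQ Y]

theorem card_comap {G : Type*} [Group G] [Finite G] {d : G} {π : G →* Perm Y} (P : Pre d π)
    (T : Subgroup (Perm Y)) :
    Nat.card (T.comap π) * T.relIndex (TQ.Inn Y) = Nat.card (TQ.Inn Y) * 2 := by
  have hr : π.range = TQ.Inn Y := le_antisymm (by rintro _ ⟨g, rfl⟩; exact P.mem g) P.sur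
  have hk : π.ker = zpowers d := le_antisymm
    (fun h e => ((P.ker h).1 e).elim (· ▸ one_mem _) (· ▸ mem_zpowers _))
    (zpowers_le.2 P.πd)
  rw [← hr, ← index_comap, card_mul_index, ← index_ker, ← π.ker.index_mul_card, hk,
    Nat.card_zpowers, orderOf_eq_prime (p := 2) (by rw [pow_two, P.d2]) P.d1]

theorem transfer {G H : Type*} [Group G] [Finite G] [Group H] [Finite H] {d g : G} {e x : H}
    {π : G →* Perm Y} {ρ : H →* Perm Y} (P : Pre d π) (Q : Pre e ρ) (h : π g = ρ x)
    (h81 : 81 ∣ Nat.card (centralizer ({g} : Set G))) :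
    81 ∣ Nat.card (centralizer ({x} : Set H)) := by
  have : Fact (Nat.Prime 3) := ⟨Nat.prime_three⟩
  have h1 := card_comap P (centralizer {π g})
  have h2 := card_comap Q (centralizer {π g})
  have h0 : (centralizer ({π g} : Set (Perm Y))).relIndex (TQ.Inn Y) ≠ 0 := by
    have hr : π.range = TQ.Inn Y := le_antisymm (by rintro _ ⟨g, rfl⟩; exact P.mem g) P.sur
    rw [← hr, ← index_comap]; exact index_ne_zero_of_finite
  have h3 := mul_right_cancel₀ h0 (h1.trans h2.symm)
  have h4 : 3 ^ 4 ∣ Nat.card ((centralizer {π g}).comap ρ) := h3 ▸ h81.trans (card_dvd_of_le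
    fun y hy => by
      rw [mem_comap, mem_centralizer_singleton_iff, ← map_mul, ← map_mul,
        mem_centralizer_singleton_iff.1 hy])
  obtain ⟨S, hS⟩ := Sylow.exists_subgroup_card_pow_prime 3 h4
  rw [← card_map_of_injective (subtype_injective _)] at hS
  refine (show 81 = 3 ^ 4 by norm_num) ▸ hS ▸ card_dvd_of_le fun y hy => ?_
  have h5 : y ^ 81 = 1 := by
    have := congrArg Subtype.val (pow_card_eq_one' (x := (⟨y, hy⟩ : S.map (Subgroup.subtype _))))
    rwa [hS] at this
  have h6 : ρ (y * x * y⁻¹) = ρ x := by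
    have := mem_centralizer_singleton_iff.1 (mem_comap.1 (map_subtype_le _ hy))
    rw [map_mul, map_mul, map_inv, ← h, this, mul_inv_cancel_right]
  have h7 : Commute (y ^ 2) x := by
    rcases Q.eq_or h6 with k | k
    · exact (show Commute y x from mul_inv_eq_iff_eq_mul.1 k).pow_left 2
    · have : y ^ 2 * x * (y ^ 2)⁻¹ = x := calc
        _ = y * (y * x * y⁻¹) * y⁻¹ := by simp [pow_two, mul_assoc]
        _ = y * x * y⁻¹ * (y * e * y⁻¹) := by
          conv_lhs => rw [k]
          group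
        _ = x := by rw [k, Q.conj_d, mul_assoc, Q.d2, mul_one]
      exact mul_inv_eq_iff_eq_mul.1 this
  have h8 : y = (y ^ 2) ^ 41 := by rw [← pow_mul, show 2 * 41 = 81 + 1 from rfl, pow_succ, h5, one_mul]
  rw [mem_centralizer_singleton_iff, h8]
  exact h7.pow_left 41

end F1

theorem tv {G : Type*} [Group G] [Finite G] {d g : G} {π : G →* Perm T6} (P : Pre d π)
    (h2 : g * g = 1) (h1 : g ≠ 1) (hd : g ≠ d)
    (h : 81 ∣ Nat.card (centralizer ({g} : Set G))) : ∃ p, π g = toPerm p := by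
  obtain ⟨ρ, Q⟩ := Agent.S1714.pre22
  have hD := IsTT.group_of_class Known.f22_tt
  obtain ⟨M⟩ := F22.exists_mdl hD Known.f22_prim Known.f22_type
  have k1 : π g ≠ 1 := fun e => ((P.ker g).1 e).elim h1 hd
  have k2 : π g * π g = 1 := by rw [← map_mul, h2, map_one]
  by_contra hn
  have key : ∀ x, ρ x = π g → ∃ l, Fm.CT (conjugatesOf (Fi22P.g0 1)) 2 l ∧ l.prod = x := fun x hx => by
    have x2 : x * x = 1 := Q.lift_T6.sq_of inv_T6 (hx ▸ k2)
    have x1 : x ≠ 1 := fun e => k1 (by rw [← hx, e, map_one])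
    obtain ⟨m, m1, m3, l, hl, e⟩ := M.exists_ct (x := x) (by
      rw [Subgroup.orderOf_coe]; exact orderOf_eq_prime (by rw [pow_two, x2]) x1)
    interval_cases m
    · obtain ⟨a, rfl⟩ := List.length_eq_one_iff.1 hl.2.1
      have ha := hl.2.2.1 a (by simp)
      rw [List.prod_singleton] at e
      refine (hn (exists_eq_toPerm (P.mem g) k2 k1 fun k hk => ?_)).elim
      obtain ⟨y, rfl⟩ := Q.sur k hk
      have := hD.1.2 a ha _ (hD.2.1 y a ha)
      rw [← hx, ← map_inv, ← map_mul, ← map_mul, ← map_mul, ← map_pow, ← map_pow]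
      refine this.imp (fun k => ?_) fun k => ?_
      · rw [show (x * (y * x * y⁻¹)) ^ 2 = 1 from Subtype.ext (by simpa [← e] using k), map_one]
      · rw [show (x * (y * x * y⁻¹)) ^ 3 = 1 from Subtype.ext (by simpa [← e] using k), map_one]
    · exact ⟨l, hl, e⟩
    · have c1 := F1.transfer P Q hx.symm h
      have c2 := c1.trans (card_dvd_of_injective
        (((Subgroup.subtype _).comp (centralizer {x}).subtype).codRestrict (centralizer {l.prod})
          fun y => by
            rw [mem_centralizer_singleton_iff, e]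
            exact congrArg Subtype.val (mem_centralizer_singleton_iff.1 y.2))
        fun a b k => by
          have := congrArg Subtype.val k
          exact Subtype.ext (Subtype.ext this))
      rw [F1.card_three M hl] at c2
      norm_num at c2
  obtain ⟨x, hx⟩ := Q.sur _ (P.mem g)
  obtain ⟨l, hl, e⟩ := key x hx
  obtain ⟨l', hl', e'⟩ := key (x * dC _) (by rw [map_mul, Q.πd, mul_one, hx])
  obtain ⟨a, b, rfl⟩ := List.length_eq_two.1 hl.2.1
  have ha := hl.2.2.1 a (by simp)
  have hb := hl.2.2.1 b (by simp)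
  have hab := hl.2.2.2 a (by simp) b (by simp)
  have hne : a ≠ b := by simpa using hl.1
  have ht : Fi22P.g0 1 ∈ conjugatesOf (Fi22P.g0 1) := IsConj.refl _
  rw [List.prod_cons, List.prod_singleton] at e
  rw [Subgroup.coe_mul, ← e] at e'
  change _ = a * b * Fi22P.g0 1 at e'
  obtain ⟨c1, c2⟩ := tt_commute_mul_iff hD.1 ha hb ht hne
    (e ▸ (mem_centralizer_singleton_iff.1 x.2).symm) hab
  by_cases t1 : Fi22P.g0 1 = a
  · have := M.ct_eq (m := 2) (m' := 1) (l' := [b]) (by norm_num) (by norm_num) le_rfl (by norm_num)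
      hl' ⟨by simp, rfl, by simpa using hb, by simp⟩ (by
        rw [e', t1, hab.eq, mul_assoc, tt_mul_self hD.1 ha]; simp)
    omega
  by_cases t2 : Fi22P.g0 1 = b
  · have := M.ct_eq (m := 2) (m' := 1) (l' := [a]) (by norm_num) (by norm_num) le_rfl (by norm_num)
      hl' ⟨by simp, rfl, by simpa using ha, by simp⟩ (by
        rw [e', t2, mul_assoc, tt_mul_self hD.1 hb]; simp)
    omega
  have := M.ct_eq (m := 2) (m' := 3) (l' := [a, b, Fi22P.g0 1]) (by norm_num) (by norm_num)
    (by norm_num) le_rfl hl' ⟨by simp [hne, Ne.symm t1, Ne.symm t2], rfl, by simp [ha, hb, ht],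
      by simp [hab, hab.symm, c1, c2, c1.symm, c2.symm]⟩ (by rw [e']; simp [mul_assoc])
  omega

end Cfsg.Lib.C22
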