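import Cfsg.Agent.Recog.C22Defs
import Cfsg.Agent.Known.Fi22Type

/-! The component of the class of the involution is `Fi₂₂`. -/

set_option autoImplicit false

namespace Cfsg.Lib.C22

open Cfsg Subgroup Equiv
open Cfsg.Lib.Spor Cfsg.Lib.Spor.FT Cfsg.Lib.Spor.U6 Cfsg.Lib.Spor.TQ Cfsg.Lib.Spor.FG

variable {G : Type*} [Group G]

namespace F2

theorem prim_congr {X : Type*} [Group X] (e : G ≃* X) {D : Set G} (h : IsPrimitiveUnderConj D) :
    IsPrimitiveUnderConj (e '' D) := by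
  obtain ⟨h1, ⟨a, ha, b, hb, h2⟩, h3⟩ := h
  refine ⟨?_, ⟨_, ⟨a, ha, rfl⟩, _, ⟨b, hb, rfl⟩, e.injective.ne h2⟩, fun B hB h => ?_⟩
  · rintro _ ⟨a, ha, rfl⟩ _ ⟨b, hb, rfl⟩
    obtain ⟨g, rfl⟩ := h1 a ha b hb
    exact ⟨e g, by simp⟩
  obtain ⟨B, rfl⟩ : ∃ B', e '' B' = B := ⟨e ⁻¹' B, Set.image_preimage_eq _ e.surjective⟩
  refine (h3 B ((Set.image_subset_image_iff e.injective).1 hB) fun g => ?_).imp
    (fun k => k.image _) (congrArg _)
  have := h (e g)
  rwa [Set.image_image, show (fun x => e g * e x * (e g)⁻¹) = fun x => e (g * x * g⁻¹) by simp,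
    ← Set.image_image e, e.injective.image_injective.eq_iff,
    Set.disjoint_image_iff e.injective] at this

theorem card_cent {X : Type*} [Group X] (e : G ≃* X) {a : G} {b : X} (h : IsConj (e a) b) :
    Nat.card (centralizer ({b} : Set X)) = Nat.card (centralizer ({a} : Set G)) := by
  obtain ⟨g, rfl⟩ := isConj_iff.1 h
  refine (Nat.card_congr ((e.trans (MulAut.conj g)).toEquiv.subtypeEquiv fun x => ?_)).symm
  rw [mem_centralizer_singleton_iff, mem_centralizer_singleton_iff,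
    ← (e.trans (MulAut.conj g)).injective.eq_iff, map_mul, map_mul]
  rfl

theorem pre_congr {X : Type*} [Group X] (e : G ≃* X) {d : G} {π : G →* Perm T6} (P : Pre d π) :
    Pre (e d) (π.comp e.symm.toMonoidHom) where
  d2 := by rw [← map_mul, P.d2, map_one]
  d1 := e.map_ne_one_iff.2 P.d1
  cen h := by obtain ⟨h, rfl⟩ := e.surjective h; exact (P.cen h).map e
  ker h := by obtain ⟨h, rfl⟩ := e.surjective h; simpa using P.ker h
  mem h := P.mem _
  sur k hk := let ⟨h, e1⟩ := P.sur k hk; ⟨e h, by simpa using e1⟩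
  perf := by
    have := congrArg (Subgroup.map e.toMonoidHom) P.perf
    rwa [map_commutator_eq, map_top_of_surjective _ e.surjective,
      MonoidHom.range_eq_top.2 e.surjective] at this

/-- The pair is conjugate to the given one. -/
def R (d e u v : G) : Prop := ∃ g, g * d * g⁻¹ = u ∧ g * e * g⁻¹ = v

theorem R_eq_1' : type_of% @R.eq_1 := @R.eq_1

theorem R.conj {d e u v : G} (h : R d e u v) (g : G) : R d e (g * u * g⁻¹) (g * v * g⁻¹) := by
  obtain ⟨k, rfl, rfl⟩ := h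
  exact ⟨g * k, by group, by group⟩

variable {d e f y : G} {K : Subgroup G} {π : K →* Perm T6}

theorem exists_cov (h : KD d e f y K π) (dK : d ∈ K) (P : Pre (⟨d, dK⟩ : K) π)
    (tv : ∀ g : K, g * g = 1 → g ≠ 1 → (g : G) ≠ d → 81 ∣ Nat.card (centralizer ({g} : Set K)) →
      ∃ p, π g = toPerm p) : ∃ a : T6 → K, Cov (⟨d, dK⟩ : K) π a ∧ (∃ p, (a p : G) = e) ∧
      (∃ p, (a p : G) = f) ∧ ∀ v, R d e d v → ∃ p, (a p : G) = v := by
  have d2 : d * d = 1 := congrArg Subtype.val P.d2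
  have d1 : d ≠ 1 := fun k => P.d1 (Subtype.ext k)
  have tv' : ∀ g x : G, ∀ hg : Commute g d, ∀ hx : x ∈ K, IsConj d x → x ≠ d →
      81 ∣ Nat.card ↥(K ⊓ centralizer {x}) → ∃ p, π ⟨g * x * g⁻¹, h.nK g hg x hx⟩ = toPerm p := by
    intro g x hg hx h1 h2 h3
    obtain ⟨k, hk⟩ := isConj_iff.1 h1
    refine tv _ (Subtype.ext ?_) (fun e => d1 ?_) (fun e => h2 ?_) (h3.trans ?_)
    · change g * x * g⁻¹ * (g * x * g⁻¹) = 1
      rw [conj_mul, ← hk, conj_mul, d2]; group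
    · simpa [← hk] using congrArg Subtype.val e
    · exact (MulAut.conj g).injective (e.trans (mul_inv_eq_iff_eq_mul.2 hg.eq).symm)
    · refine card_dvd_of_injective (α := ↥(K ⊓ centralizer {x}))
        ((((MulAut.conj g).toMonoidHom.comp (K ⊓ centralizer {x}).subtype).codRestrict K
          fun u => h.nK g hg _ u.2.1).codRestrict _ fun u => mem_centralizer_singleton_iff.2
            (Subtype.ext ((show Commute u.1 x from mem_centralizer_singleton_iff.1 u.2.2).map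
              (MulAut.conj g)).eq)) fun u v e => Subtype.ext ((MulAut.conj g).injective
                (congrArg (fun t => t.1.1) e))
  have ce : IsConj d e := isConj_iff.2 ⟨y, h.yd⟩
  have cf : IsConj d f := ce.trans (isConj_iff.2 ⟨y, h.ye⟩)
  obtain ⟨a, C, p, hp⟩ : ∃ a : T6 → K, Cov (⟨d, dK⟩ : K) π a ∧ ∃ p, (a p : G) = e := by
    obtain ⟨a, C⟩ := P.exists_cov_T6
    obtain ⟨p, hp⟩ := tv' 1 e (Commute.one_left d) h.eK ce h.ne h.e81
    obtain k | k := P.eq_or (hp.trans (C.πa p).symm)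
    exacts [⟨a, C, p, by simpa using congrArg Subtype.val k.symm⟩,
      ⟨_, C.mul_d, p, by simpa using congrArg Subtype.val k.symm⟩]
  have h1 : ∀ p q, IsConj (a p : G) (a q) := fun p q =>
    let ⟨k, hk⟩ := C.exists_conj conn_T6 p q; isConj_iff.2 ⟨k, congrArg Subtype.val hk⟩
  have h2 : ∀ p q, IsConj (a p * d : G) (a q * d) := fun p q =>
    let ⟨k, hk⟩ := C.mul_d.exists_conj conn_T6 p q; isConj_iff.2 ⟨k, congrArg Subtype.val hk⟩
  have fd : f * d = d * f := congrArg Subtype.val (P.cen ⟨f, h.fK⟩).eq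
  obtain ⟨q, hq⟩ : ∃ q, (a q : G) = f := by
    obtain ⟨q, hq⟩ := tv' 1 f (Commute.one_left d) h.fK cf
      (fun k => h.ne (by rw [← h.yd, ← k, h.yf, k])) h.f81
    obtain k | k := P.eq_or (hq.trans (C.πa q).symm)
    · exact ⟨q, by simpa using congrArg Subtype.val k.symm⟩
    · replace k : f = a q * d := by simpa using congrArg Subtype.val k
      refine (h.nc (ce.trans ?_)).elim
      rw [← fd, k, mul_assoc, d2, mul_one, ← hp]
      exact h1 p q
  refine ⟨a, C, ⟨p, hp⟩, ⟨q, hq⟩, ?_⟩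
  rintro _ ⟨g, hg, rfl⟩
  obtain ⟨r, hr⟩ := tv' g e (mul_inv_eq_iff_eq_mul.1 hg) h.eK ce h.ne h.e81
  obtain k | k := P.eq_or (hr.trans (C.πa r).symm)
  · exact ⟨r, congrArg Subtype.val k.symm⟩
  · refine (h.nc ((ce.trans (isConj_iff.2 ⟨g, congrArg Subtype.val k⟩)).trans ?_)).elim
    rw [← fd, ← hq]
    exact h2 r q

end F2

open F2 in
theorem KD.ce [Finite G] {d e f y : G} {K : Subgroup G} {π : K →* Perm T6} (h : KD d e f y K π)
    (tv : ∀ g : K, g * g = 1 → g ≠ 1 → (g : G) ≠ d → 81 ∣ Nat.card (centralizer ({g} : Set K)) →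
      ∃ p, π g = toPerm p) : ∃ E, CE d e f E := by
  obtain ⟨dK, P⟩ := h.pre
  obtain ⟨a, C, ⟨p, hp⟩, ⟨q, hq⟩, h1⟩ := exists_cov h dK P tv
  have hi := C.inj (Prim.toPerm_inj prim_T6)
  have cen : ∀ k : K, (k : G) * d * (k : G)⁻¹ = d := fun k => congrArg Subtype.val (P.conj_d k)
  have h2 : ∀ r, R d e d (a r) := fun r =>
    let ⟨k, hk⟩ := C.exists_conj conn_T6 p r; ⟨k, cen k, hp ▸ congrArg Subtype.val hk⟩
  have de : Commute d e := (mul_inv_eq_iff_eq_mul.1 (cen ⟨e, h.eK⟩)).symm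
  have rc : ∀ {u v}, R d e u v → u ≠ v ∧ Commute u v := by
    rintro _ _ ⟨g, rfl, rfl⟩
    exact ⟨(MulAut.conj g).injective.ne h.ne.symm, de.map (MulAut.conj g)⟩
  have ref : R d e e f := ⟨y, h.yd, h.ye⟩
  have rs : ∀ {u v}, R d e u v → R d e v u := by
    rintro _ _ ⟨g, rfl, rfl⟩
    have := (hq ▸ h2 q).conj y
    rw [h.yd, h.yf] at this
    exact this.conj g
  have ca : ∀ {s t : T6}, Commute (a s : G) (a t) → s ⫫ t := fun k =>
    C.commute_iff.1 (Subtype.ext k)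
  have h3 : ∀ s t, s ≠ t → s ⫫ t → R d e (a s) (a t) := fun s t n k => by
    obtain ⟨m, hm, rfl, rfl⟩ := prim_T6.exists_com_pair (a := p) (b := q)
      ⟨fun k => (rc ref).1 (by rw [← hp, ← hq, k]), ca (hp ▸ hq ▸ (rc ref).2)⟩ ⟨n.symm, k⟩
    obtain ⟨m, rfl⟩ := P.sur m hm
    rw [← C.eqv, ← C.eqv]
    change R d e (m * a p * (m : G)⁻¹) (m * a q * (m : G)⁻¹)
    rw [hp, hq]
    exact ref.conj m
  let V := {x : G // IsConj d x}
  let c : V → V → Prop := fun u v => u = v ∨ R d e u v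
  let cj : G → V → V := fun g x => ⟨g * x * g⁻¹, x.2.trans (isConj_iff.2 ⟨g, rfl⟩)⟩
  have hc : ∀ g u v, c u v → c (cj g u) (cj g v) := fun g u v k =>
    k.imp (congrArg _) fun k => k.conj g
  have cj1 : ∀ g u, cj g⁻¹ (cj g u) = u := fun g u => Subtype.ext (by simp [cj, mul_assoc])
  have hc' : ∀ g u v, c (cj g u) (cj g v) ↔ c u v := fun g u v =>
    ⟨fun k => by simpa only [cj1] using hc g⁻¹ _ _ k, hc g u v⟩
  have rv : ∀ {v}, R d e d v → IsConj d v := fun ⟨g, _, k⟩ =>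
    (isConj_iff.2 ⟨y, h.yd⟩).trans (isConj_iff.2 ⟨g, k⟩)
  let d0 : V := ⟨d, IsConj.refl d⟩
  let A : T6 → V := fun s => ⟨a s, rv (h2 s)⟩
  have L : LG T6 c Subtype.val fun v => cj v := by
    refine ⟨fun _ => Or.inl rfl, fun _ _ k => k.imp Eq.symm rs, fun v => hc v, fun v x k =>
      Subtype.ext (mul_inv_eq_iff_eq_mul.2 (k.elim (fun k => k ▸ rfl) fun k => (rc k).2)), fun r => ?_⟩
    obtain ⟨g, rfl⟩ : ∃ g, cj g d0 = r := let ⟨g, hg⟩ := isConj_iff.1 r.2; ⟨g, Subtype.ext hg⟩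
    have m1 : ∀ s t, (a (s ▹ t) : G) = a s * a t * (a s : G)⁻¹ := fun s t =>
      congrArg Subtype.val (C.rep.map_act s t)
    have i1 : Function.Injective fun s => (cj g (A s)).1 := fun s t k =>
      hi (Subtype.ext ((MulAut.conj g).injective k))
    refine ⟨fun s => cj g (A s), fun x => ?_, fun s t => (hc' ..).trans ⟨fun k => ?_, fun k => ?_⟩,
      fun s t => Subtype.ext ?_, ⟨fun s t => ?_, fun s => ?_, fun s t k => i1 k ▸ rfl⟩, i1⟩
    · obtain ⟨x, rfl⟩ : ∃ x', cj g x' = x := ⟨cj g⁻¹ x, by simpa only [inv_inv] using cj1 g⁻¹ x⟩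
      rw [hc']
      refine ⟨fun ⟨s, k⟩ => ?_, fun ⟨k1, k2⟩ => ?_⟩
      · obtain rfl : A s = x := by simpa only [cj1] using congrArg (cj g⁻¹) k
        exact ⟨fun k => (rc (h2 s)).1 ((MulAut.conj g).injective (congrArg Subtype.val k)).symm,
          Or.inr (h2 s)⟩
      · obtain ⟨s, hs⟩ := h1 _ (k2.resolve_left fun k => k1 (k ▸ rfl))
        exact ⟨s, congrArg (cj g) (Subtype.ext hs)⟩
    · exact ca (k.elim (fun k => congrArg Subtype.val k ▸ Commute.refl _) fun k => (rc k).2)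
    · exact (eq_or_ne s t).imp (congrArg A) fun n => h3 s t n k
    · simp only [cj, A, m1]; group
    · simp only [cj, A, m1]; group
    · simp only [cj, A]
      rw [conj_mul, ← coe_mul, C.sq]; simp
  have H : GG T6 c Subtype.val fun v => cj v := ⟨L, prim_T6, wide_T6, L.dl6⟩
  have := H.tt d0
  set E := Subtype.val '' cp c d0 with hE
  have dE : d ∈ E := ⟨d0, H.self _, rfl⟩
  have aE : ∀ s, (a s : G) ∈ E := fun s => ⟨A s, ⟨d0, Or.inl rfl, Or.inr (h2 s)⟩, rfl⟩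
  have kE : ∀ (M : Subgroup G), (∀ s, (a s : G) ∈ M) → K ≤ M := fun M hM k hk =>
    (closure_le (M.comap K.subtype)).2 (by rintro _ ⟨s, rfl⟩; exact hM s) (C.gen.ge (mem_top ⟨k, hk⟩))
  have trn : ∀ x ∈ E, ∃ g ∈ closure E, g * d * g⁻¹ = x := by
    rintro _ ⟨x, hx, rfl⟩
    obtain ⟨r, hr, b, N, ⟨s, hs⟩, t, rfl⟩ := H.near (H.self d0) hx
    obtain ⟨g, hg, k⟩ := Rep_exists_conj N.rep conn_T6 s t
    exact ⟨g, closure_mono (by rintro _ ⟨u, rfl⟩; exact ⟨_, H.cls hr (N.nb u).2, rfl⟩) hg,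
      by rwa [hs] at k⟩
  have T := H.t22 d0
  have cn : ∀ g, (∀ x ∈ E, Commute g x) → g = 1 := fun g hg => by
    refine (h.cK g fun k hk => (mem_centralizer_singleton_iff.1 (kE (centralizer {g})
      (fun s => mem_centralizer_singleton_iff.2 (hg _ (aE s)).symm) hk)).symm).resolve_right ?_
    rintro rfl
    have := T.prim.nontrivial
    obtain ⟨x, hx⟩ := T.prim.conn.exists_ncom ⟨g, dE⟩
    exact hx (IsTT.com_iff.2 (hg _ x.2))
  have mp : ∀ g, ∀ x ∈ E, g * x * g⁻¹ ∈ E → ∀ w ∈ E, g * w * g⁻¹ ∈ E := by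
    rintro g _ ⟨x, hx, rfl⟩ ⟨x', hx', k⟩ _ ⟨w, hw, rfl⟩
    obtain rfl : x' = cj g x := Subtype.ext k
    obtain ⟨u, k1, k2⟩ := H.cp_eq hx ▸ hw
    exact ⟨cj g w, H.cp_eq hx' ▸ ⟨cj g u, hc _ _ _ k1, hc _ _ _ k2⟩, rfl⟩
  have := IsTT.of_group (dn_group E)
  let d1 : closure E := ⟨d, subset_closure dE⟩
  have : Nontrivial (closure E) := ⟨d1, 1, fun k =>
    P.d1 (Subtype.ext (congrArg (fun t : closure E => t.1) k))⟩
  obtain ⟨φ, hφ, h4⟩ := Fi.exists_hom22 (dn_group E) (eq_bot_iff.2 fun z hz => Subtype.ext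
    (cn _ fun x hx => (congrArg Subtype.val (mem_center_iff.1 hz ⟨x, subset_closure hx⟩)).symm))
    (T.of_iso (dnIso _))
  let ε := MulEquiv.ofBijective φ (equiv_of_simple Fi22P.simple hφ)
  have h5 : dn E = conjugatesOf d1 := Set.ext fun x =>
    ⟨fun hx => let ⟨g, hg, k⟩ := trn _ hx; isConj_iff.2 ⟨⟨g, hg⟩, Subtype.ext k⟩, fun hx => by
      obtain ⟨g, rfl⟩ := isConj_iff.1 hx
      exact IsTT.conj_mem_of_mem_closure g.2 dE⟩
  have h6 : IsConj d1 (ε (Fi22P.g0 1)) := by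
    have := h4 Cfsg.Spor.Fi22.Gen.a
    rwa [show PresentedGroup.of Cfsg.Spor.Fi22.Gen.a = Fi22P.g0 1 from
      (Fi22P.ok.g0_lt Cfsg.Spor.Fi22.Gen.a).symm, h5] at this
  have h7 : ε '' conjugatesOf (Fi22P.g0 1) = dn E := by
    rw [Known.image_conjugatesOf, h5, isConj_iff_conjugatesOf_eq.1 h6]
  have KE : K ≤ closure E := kE _ fun s => subset_closure (aE s)
  let ι : K →* centralizer ({d1} : Set (closure E)) := (inclusion KE).codRestrict _ fun k =>
    mem_centralizer_singleton_iff.2 (Subtype.ext (mul_inv_eq_iff_eq_mul.1 (cen k)))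
  have h8 : Function.Bijective ι := (Nat.bijective_iff_injective_and_card ι).2
    ⟨fun u v k => Subtype.ext (congrArg (fun t => t.1.1) k), by
      rw [P.card, card_Inn_T6, card_cent ε h6.symm, Known.f22_cent, Known.f6_card]
      norm_num⟩
  obtain ⟨Gl, h9, -, h10, -⟩ := Pre.eq22 (d := d1) (pre_congr (MulEquiv.ofBijective ι h8) P)
    (let ⟨g, hg, k⟩ := trn e (hp ▸ aE p); ⟨⟨g, hg⟩, mem_centralizer_singleton_iff.2
      (Subtype.ext (show g * d * g⁻¹ * d = d * (g * d * g⁻¹) from k ▸ de.symm)),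
      fun k' => h.ne (k.symm.trans (congrArg Subtype.val k'))⟩)
  have := Fi22P.simple
  have := ε.symm.isSimpleGroup
  have : IsSimpleGroup (closure (E0 d1)) := by
    rw [h9, ← h5, closure_preimage_eq_top]; exact topEquiv.isSimpleGroup
  have h11 := Gl.comp (Or.inl (by omega))
  rw [h9, ← h5] at h11
  exact ⟨E, dE, hp ▸ aE p, hq ▸ aE q, ⟨h.ne.symm, (rc (hq ▸ h2 q)).1, (rc ref).1, de,
    (rc (hq ▸ h2 q)).2, (rc ref).2⟩, fun g x hx k w => ⟨mp g x hx k w, fun k' => by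
      simpa [mul_assoc] using mp g⁻¹ _ k (by simpa [mul_assoc] using hx) _ k'⟩, trn, cn, dn_group E,
    h7 ▸ prim_congr ε Known.f22_prim, h7 ▸ Known.typeM22_congr ε Known.f22_type, ⟨ε⟩, h11⟩

end Cfsg.Lib.C22
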