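import Cfsg.Agent.Recog.C22Defs

/-!
The normalizer of the component of the class of the involution is the whole group.
-/

set_option autoImplicit false

namespace Cfsg.Lib.C22

open Cfsg Cfsg.Lib.Spor Cfsg.Lib.Spor.FT

variable {G : Type*} [Group G]

namespace C22F3

/-- `E` is a component of the class `D`, controlled by `M`. -/
structure CM (D E : Set G) (M : Subgroup G) : Prop where
  sub : E ⊆ D
  tt : IsTT E
  le : E ⊆ M
  conjE : ∀ {g x}, g ∈ M → x ∈ E → g * x * g⁻¹ ∈ E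
  k4 : ∀ {g x}, x ∈ E → g * x * g⁻¹ ∈ E → g ∈ M
  k1 : ∀ {y}, y ∈ D → y ∈ M → y ∈ E
  cnj : ∀ x ∈ D, ∀ y, y ∈ D ↔ IsConj x y
  fp : ∀ z ∈ M, z * z = 1 → ∃ x ∈ E, Commute z x
  r3 : ∀ t, T2 E t → t ∉ D
  r4 : ∀ a ∈ E, ∀ b ∈ E, ∀ c ∈ E, ∀ e ∈ E, a ≠ b → Commute a b → Commute a c → a * b = c * e → c = a ∨ c = b
  odd : ∀ a ∈ E, ∀ b ∈ E, a ≠ b → Commute a b → ∃ l : List G, Odd l.length ∧ l.prod = 1 ∧
    ∀ x ∈ l, x ∈ E ∧ Commute x a ∧ Commute x b ∧ ∀ y ∈ l, Commute x y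
  wide : ∃ t, T2 E t
  hex : ∀ a ∈ E, ∀ b ∈ E, ∀ f ∈ E, a ≠ b → f ≠ a → f ≠ b → Commute a b → Commute f a → Commute f b →
    ∃ s ∈ E, s ≠ a ∧ Commute s a ∧ Commute s b ∧ Commute s f ∧ ∀ f' ∈ E, f' ≠ a → f' ≠ s → Commute f' a →
      Commute f' b → Commute f' f → Commute f' s → T2 E (a * b * f * f') → T2 E (s * f' * b * f)

namespace CM

variable {D E : Set G} {M : Subgroup G} (C : CM D E M)
include C

theorem cls (x : G) (hx : x ∈ E) (y : G) (hy : y ∈ D) (h : Commute x y) : y ∈ E :=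
  C.k1 hy (C.k4 hx (by rwa [← h.eq, mul_inv_cancel_right]))

theorem sq {x : G} (hx : x ∈ D) : x * x = 1 := by
  obtain ⟨_, u, hu, -⟩ := C.wide
  obtain ⟨g, rfl⟩ := isConj_iff.1 ((C.cnj u (C.sub hu) x).1 hx)
  rw [conj_mul, tt_mul_self C.tt.set hu, mul_one, mul_inv_cancel]

theorem conjD (g : G) {x : G} (hx : x ∈ D) : g * x * g⁻¹ ∈ D := (C.cnj x hx _).2 (isConj_iff.2 ⟨g, rfl⟩)

theorem T2_sq {t : G} (h : T2 E t) : t * t = 1 := by
  obtain ⟨u, hu, v, hv, -, h, rfl⟩ := h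
  rw [← pow_two, sq_of_commute (C.sq (C.sub hu)) (C.sq (C.sub hv)) h]

theorem T2_mem {t : G} (h : T2 E t) : t ∈ M := by
  obtain ⟨u, hu, v, hv, -, -, rfl⟩ := h
  exact mul_mem (C.le hu) (C.le hv)

theorem T2_conj {g t : G} (hg : g ∈ M) (h : T2 E t) : T2 E (g * t * g⁻¹) := by
  obtain ⟨u, hu, v, hv, h1, h2, rfl⟩ := h
  exact ⟨_, C.conjE hg hu, _, C.conjE hg hv, fun e => h1 ((MulAut.conj g).injective e),
    (Commute.conj_iff g).2 h2, (conj_mul).symm⟩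

variable [Finite G]

theorem k2 {g t : G} (h : T2 E t) (hg : Commute g t) : g ∈ M := by
  have ht := C.T2_sq h
  have hD := C.r3 t h
  have hm := C.T2_mem h
  obtain ⟨a, ha, b, hb, h1, h2, e⟩ := h
  have ht' : dC t * dC t = 1 := Subtype.ext ht
  have hc : ∀ u : Subgroup.centralizer {t}, Commute (u : G) t := fun u =>
    Subgroup.mem_centralizer_singleton_iff.1 u.2
  have : (Subgroup.zpowers (dC t)).Normal := ⟨fun x hx u => by
    rcases eq_or_of_mem_zpowers ht' hx with rfl | rfl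
    · simp
    · rwa [show u * dC t = dC t * u from Subtype.ext (hc u), mul_inv_cancel_right]⟩
  let φ := QuotientGroup.mk' (Subgroup.zpowers (dC t))
  have hφ : ∀ x y, φ x = φ y → (y : G) = x ∨ (y : G) = x * t := fun x y h =>
    (eq_or_of_mem_zpowers ht' (QuotientGroup.eq.1 h)).imp
      (fun h => congrArg Subtype.val (inv_mul_eq_one.1 h).symm)
      fun h => congrArg Subtype.val (inv_mul_eq_iff_eq_mul.1 h)
  have h3 : ∀ x u : Subgroup.centralizer {t}, x.1 ∈ E → IsConj x.1 (u * x * u⁻¹ : Subgroup.centralizer {t}) →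
      Commute (φ x) (φ u) → u.1 ∈ M := fun x u hx h4 h5 => by
    refine C.k4 hx (C.cls _ hx _ (C.conjD _ (C.sub hx)) ?_)
    rcases hφ x (u * x * u⁻¹) (by rw [map_mul, map_mul, map_inv, ← h5.eq, mul_inv_cancel_right]) with h | h <;>
      rw [show (u : G) * x * (u : G)⁻¹ = _ from h]
    exact (Commute.refl _).mul_right (hc x)
  have h4 : ∀ x : Subgroup.centralizer {t}, x.1 ∈ E → φ x * φ x = 1 ∧ φ x ≠ 1 ∧ Subgroup.centralizer {φ x} ≤
      ((M).subgroupOf _).map φ := fun x hx => by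
    refine ⟨by rw [← map_mul, show x * x = 1 from Subtype.ext (C.sq (C.sub hx)), map_one], fun h => ?_,
      fun u hu => ?_⟩
    · rcases hφ 1 x h.symm with h | h
      · exact tt_ne_one C.tt.set hx h
      · exact hD (by rw [← one_mul t]; exact h ▸ C.sub hx)
    · obtain ⟨u, rfl⟩ := QuotientGroup.mk_surjective u
      exact ⟨u, h3 x u hx (isConj_iff.2 ⟨u, rfl⟩) (Subgroup.mem_centralizer_singleton_iff.1 hu).symm, rfl⟩
  have hL : ∀ x, Commute x a → Commute x b → x ∈ Subgroup.centralizer {t} := fun x h1 h2 =>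
    Subgroup.mem_centralizer_singleton_iff.2 (e ▸ h1.mul_right h2)
  let a' : Subgroup.centralizer {t} := ⟨a, hL a (Commute.refl a) h2⟩
  obtain ⟨l, l1, l2, l3⟩ := C.odd a ha b hb h1 h2
  have h5 := eq_top_of_isolated (z := φ a') ⟨orderOf_eq_prime (pow_two (φ a') ▸ (h4 a' ha).1) (h4 a' ha).2.1, ?_⟩
    (h4 a' ha).2.2 (l := l.attach.map fun x => φ ⟨x.1, hL _ (l3 _ x.2).2.1 (l3 _ x.2).2.2.1⟩) (by simpa using l1)
    ?_ ?_
  · obtain ⟨u, hu, h6⟩ : φ ⟨g, Subgroup.mem_centralizer_singleton_iff.2 hg⟩ ∈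
      ((M).subgroupOf _).map φ := h5 ▸ Subgroup.mem_top _
    rcases hφ _ _ h6 with h | h <;> rw [show g = _ from h]
    exacts [hu, mul_mem hu hm]
  · intro u hu
    obtain ⟨u, rfl⟩ := QuotientGroup.mk_surjective u
    have h6 := C.k1 (C.conjD u (C.sub ha)) (h3 a' (u * a' * u⁻¹) ha (isConj_iff.2 ⟨_, rfl⟩) hu)
    have h7 := tt_commute_mul_iff C.tt.set ha hb h6 h1 (e ▸ hc (u * a' * u⁻¹)) h2
    rcases C.r4 a ha b hb _ h6 _ (C.cls _ h6 _ (C.conjD u (C.sub hb)) ((Commute.conj_iff _).2 h2)) h1 h2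
      h7.1.symm (by rw [conj_mul, ← e, (hc u).eq, mul_inv_cancel_right]) with h | h
    · exact congrArg φ (Subtype.ext h : u * a' * u⁻¹ = a')
    · refine (QuotientGroup.eq (a := u * a' * u⁻¹)).2 ?_
      rw [show (u * a' * u⁻¹)⁻¹ * a' = dC t from Subtype.ext (by
        show ((u : G) * a * (u : G)⁻¹)⁻¹ * a = t
        rw [h, tt_inv C.tt.set hb, e, h2.eq])]
      exact Subgroup.mem_zpowers _
  · rw [show (fun x : {x // x ∈ l} => φ ⟨x.1, hL _ (l3 _ x.2).2.1 (l3 _ x.2).2.2.1⟩) = φ ∘ _ from rfl,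
      ← List.map_map, ← map_list_prod, ← map_one φ]
    refine congrArg φ (Subtype.ext ?_)
    rw [Subgroup.val_list_prod, List.map_map]
    simpa [Function.comp_def] using l2
  · intro x hx
    obtain ⟨x, -, rfl⟩ := List.mem_map.1 hx
    refine ⟨(h4 _ (l3 _ x.2).1).1, (h4 _ (l3 _ x.2).1).2.1, (h4 _ (l3 _ x.2).1).2.2, fun y hy => ?_⟩
    obtain ⟨y, -, rfl⟩ := List.mem_map.1 hy
    refine Commute.map ?_ φ
    exact Subtype.ext ((l3 _ x.2).2.2.2 _ y.2)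

theorem k3 {g t : G} (h : T2 E t) (hg : g * t * g⁻¹ ∈ M) : g ∈ M := by
  obtain ⟨y, hy, h1⟩ := C.fp _ hg (by rw [conj_mul, C.T2_sq h, mul_one, mul_inv_cancel])
  have h2 : g * (g⁻¹ * y * g⁻¹⁻¹) * g⁻¹ = y := by group
  exact C.k4 (C.k1 (C.conjD g⁻¹ (C.sub hy)) (C.k2 h ((Commute.conj_iff g).1 (h2.symm ▸ h1.symm)))) (h2.symm ▸ hy)

theorem step {e a b : G} (he : e ∈ D) (hn : e ∉ E) (ha : a ∈ E) (hb : b ∈ E) (h1 : a ≠ b) (h2 : Commute a b) :
    ∃ f ∈ E, f ≠ a ∧ f ≠ b ∧ Commute f a ∧ Commute f b ∧ Commute (a * b * f) e ∧ IsConj (a * b) (a * b * f * e) ∧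
      ∃ k, f = k * e * k⁻¹ ∧ ∀ w, Commute w (a * b) → Commute w e → Commute w k := by
  have hT : T2 E (a * b) := ⟨a, ha, b, hb, h1, h2, rfl⟩
  obtain ⟨z, k, z1, z2, z3, z4, z5, z6 | ⟨z6, z7⟩⟩ := dihedral (C.T2_sq hT) (C.sq he)
    fun h => C.r3 _ hT ((C.cnj e he _).2 h.symm)
  · obtain ⟨g, rfl⟩ := isConj_iff.1 ((C.cnj a (C.sub ha) e).1 he)
    have h3 : g * (g⁻¹ * (z * (g * a * g⁻¹)) * g⁻¹⁻¹) * g⁻¹ = z * (g * a * g⁻¹) := by group
    have h4 : Commute a (g⁻¹ * (z * (g * a * g⁻¹)) * g⁻¹⁻¹) :=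
      (Commute.conj_iff g).1 (h3.symm ▸ z4.symm.mul_right (Commute.refl _))
    refine absurd (C.conjE (C.k3 ⟨_, C.cls a ha _ (C.conjD _ (z6 ▸ C.conjD k he)) h4, a, ha, fun h => z1 ?_,
      h4.symm, rfl⟩ ?_) ha) hn
    · rw [h] at h3; simpa using h3
    · rw [← conj_mul, h3, mul_assoc, C.sq he, mul_one]; exact C.k2 hT z3
  · have h3 := C.k1 (z6 ▸ C.conjD k he) (mul_mem (C.k2 hT z3) (C.T2_mem hT))
    have h4 := tt_commute_mul_iff C.tt.set ha hb h3 h1 (z3.mul_left (Commute.refl _)) h2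
    have h5 : a * b * (z * (a * b)) = z := by rw [z3.eq, ← mul_assoc, C.T2_sq hT, one_mul]
    refine ⟨_, h3, fun h => hn (C.cls b hb e he ?_), fun h => hn (C.cls a ha e he ?_), h4.1, h4.2, h5.symm ▸ z4,
      h5.symm ▸ z7, k, z6, z5⟩
    · rwa [← h5, h, h2.eq, mul_assoc, C.sq (C.sub ha), mul_one] at z4
    · rwa [← h5, h, mul_assoc, C.sq (C.sub hb), mul_one] at z4

/-- The component is the class. -/
theorem eq : E = D := by
  refine C.sub.antisymm fun e he => by_contra fun hn => ?_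
  obtain ⟨_, a, ha, b, hb, h1, h2, -⟩ := C.wide
  obtain ⟨f, hf, f1, f2, f3, f4, f5, f6, -⟩ := C.step he hn ha hb h1 h2
  obtain ⟨s, hs, s1, s2, s3, s4, s5⟩ := C.hex a ha b hb f hf h1 f1 f2 h2 f3 f4
  obtain ⟨f', hf', g1, g2, g3, g4, g5, -, k, g6, g7⟩ := C.step he hn ha hs s1.symm s2.symm
  have h3 := g7 _ ((((Commute.refl a).mul_left h2.symm).mul_left f3).mul_right
    ((s2.symm.mul_left s3.symm).mul_left s4.symm)) f5
  have h4 : a * b * f * f' = k * (a * b * f * e) * k⁻¹ := by rw [g6, ← mul_assoc, ← mul_assoc, h3.eq]; group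
  have h5 : Commute f' (a * b * f) := by
    rw [g6]; exact ((h3.mul_right f5).mul_right h3.inv_right).symm
  have h6 := tt_commute_mul_iff C.tt.set hb hf hf' f2.symm (by
    have := g3.inv_right.mul_right h5
    rwa [mul_assoc, inv_mul_cancel_left] at this) f4.symm
  obtain ⟨j, hj⟩ := isConj_iff.1 f6
  have h7 : a * b * f * f' = k * j * (a * b) * (k * j)⁻¹ := by rw [h4, ← hj]; group
  have hT : T2 E (a * b) := ⟨a, ha, b, hb, h1, h2, rfl⟩
  have h8 := s5 f' hf' g1 g2 g3 h6.1 h6.2 g4 (h7 ▸ C.T2_conj (C.k3 hT (h7 ▸ mul_mem (mul_mem (C.T2_mem hT)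
    (C.le hf)) (C.le hf'))) hT)
  refine hn (C.k1 he (C.k2 h8 ?_))
  have := (g5.mul_left f5).symm
  rwa [show a * s * f' * (a * b * f) = s * f' * b * f by
    rw [mul_assoc a s, ← (s2.mul_left g3).eq, mul_assoc, mul_assoc a b, ← mul_assoc a, C.sq (C.sub ha), one_mul,
      ← mul_assoc]] at this

end CM

end C22F3

open Subgroup in
theorem CE.top [Finite G] {d e f : G} {E : Set G} (h : CE d e f E)
    (fp : ∀ u ∈ normalizer E, u * u = 1 → ∃ x ∈ E, Commute u x)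
    (hD : ∀ g, g * d * g⁻¹ ∈ normalizer E → g ∈ normalizer E) : normalizer E = ⊤ := by
  let ι := (closure E).subtype
  have hι : Function.Injective ι := subtype_injective _
  have hE : ι '' dn E = E := Set.image_preimage_eq_of_subset fun x hx => ⟨⟨x, subset_closure hx⟩, rfl⟩
  have hT : ∀ t, T2 E (ι t) ↔ T2 (dn E) t := fun t => by rw [← T2_map hι, hE]
  have up : ∀ x ∈ E, ∃ y ∈ dn E, ι y = x := fun x hx => hE.ge hx
  have hc : ∀ {x y}, Commute (ι x) (ι y) ↔ Commute x y := fun {x y} =>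
    ⟨fun e => hι (by rw [map_mul, map_mul]; exact e), fun e => e.map ι⟩
  have := h.comp.tt
  have tt : IsTT E := hE ▸ IsTT.image ι fun x hx e => tt_ne_one h.comp.tt.set hx (hι (e.trans (map_one ι).symm))
  have cE : ∀ {g x}, g ∈ normalizer E → x ∈ E → g * x * g⁻¹ ∈ E := fun hg hx => (hg _).1 hx
  have le : E ⊆ normalizer E := fun x hx => h.cmp x x hx (by rwa [mul_inv_cancel_right])
  have sub : E ⊆ conjugatesOf d := fun x hx => let ⟨g, _, e⟩ := h.trn x hx; isConj_iff.2 ⟨g, e⟩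
  have k1 : ∀ {y}, y ∈ conjugatesOf d → y ∈ normalizer E → y ∈ E := fun hy hm => by
    obtain ⟨g, rfl⟩ := isConj_iff.1 hy
    exact cE (hD g hm) h.dE
  have C : C22F3.CM (conjugatesOf d) E (normalizer E) :=
    { sub := sub
      tt := tt
      le := le
      conjE := cE
      k4 := fun hx => h.cmp _ _ hx
      k1 := k1
      cnj := fun x hx y => ⟨hx.symm.trans, hx.trans⟩
      fp := fp
      r3 := fun t ht hd => by
        have h1 := k1 hd ((closure_le _).2 le (Comp.T2_mem ht))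
        exact h.comp.r3 ⟨t, Comp.T2_mem ht⟩ ((hT _).1 ht) h1
      r4 := fun a ha b hb c hc' e he h1 h2 h3 h4 => by
        obtain ⟨a, ha, rfl⟩ := up a ha
        obtain ⟨b, hb, rfl⟩ := up b hb
        obtain ⟨c, hc', rfl⟩ := up c hc'
        obtain ⟨e, he, rfl⟩ := up e he
        exact (h.comp.r4 a ha b hb c hc' e he (fun e => h1 (e ▸ rfl)) (hc.1 h2) (hc.1 h3)
          (hι (by rw [map_mul, map_mul, h4]))).imp (congrArg ι) (congrArg ι)
      odd := fun a ha b hb h1 h2 => by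
        obtain ⟨a, ha, rfl⟩ := up a ha
        obtain ⟨b, hb, rfl⟩ := up b hb
        obtain ⟨l, l1, l2, l3⟩ := h.comp.odd a ha b hb (fun e => h1 (e ▸ rfl)) (hc.1 h2)
        refine ⟨l.map ι, by simpa using l1, by rw [← map_list_prod, l2, map_one], fun x hx => ?_⟩
        obtain ⟨x, hx', rfl⟩ := List.mem_map.1 hx
        refine ⟨(l3 x hx').1, hc.2 (l3 x hx').2.1, hc.2 (l3 x hx').2.2.1, fun y hy => ?_⟩
        obtain ⟨y, hy', rfl⟩ := List.mem_map.1 hy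
        exact hc.2 ((l3 x hx').2.2.2 y hy')
      wide := ⟨_, d, h.dE, e, h.eE, h.ct.1, h.ct.2.2.2.1, rfl⟩
      hex := fun a ha b hb f hf h1 h2 h3 h4 h5 h6 => by
        obtain ⟨a, ha, rfl⟩ := up a ha
        obtain ⟨b, hb, rfl⟩ := up b hb
        obtain ⟨f, hf, rfl⟩ := up f hf
        obtain ⟨s, hs, s1, s2, s3, s4, s5⟩ := h.comp.hex a ha b hb f hf (fun e => h1 (e ▸ rfl))
          (fun e => h2 (e ▸ rfl)) (fun e => h3 (e ▸ rfl)) (hc.1 h4) (hc.1 h5) (hc.1 h6)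
        refine ⟨ι s, hs, hι.ne s1, hc.2 s2, hc.2 s3, hc.2 s4, fun f' hf' a1 a2 a3 a4 a5 a6 a7 => ?_⟩
        obtain ⟨f', hf', rfl⟩ := up f' hf'
        simp only [← map_mul, hT] at a7 ⊢
        exact s5 f' hf' (fun e => a1 (e ▸ rfl)) (fun e => a2 (e ▸ rfl)) (hc.1 a3) (hc.1 a4) (hc.1 a5)
          (hc.1 a6) a7 }
  exact eq_top_iff.2 fun g _ => h.cmp g d h.dE (C.eq.ge (isConj_iff.2 ⟨g, rfl⟩))

end Cfsg.Lib.C22
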