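import Cfsg.Agent.Recog.C22Api
import Cfsg.Agent.Spor.G22Cl
import Cfsg.Agent.Spor.Fi22Cst

/-!
Facts on the normalizer of a class of `3`-transpositions generating `Fi₂₂`.
-/

set_option autoImplicit false
set_option maxRecDepth 100000

namespace Cfsg.Lib.C22

open Cfsg Subgroup Equiv
open Cfsg.Lib.Spor Cfsg.Lib.Spor.FT

namespace F4

section

variable {G : Type*} [Group G] [Finite G] {D : Set G} (hD : IsThreeTranspositionGroup D)
  (hprim : IsPrimitiveUnderConj D) (h22 : IsOfTypeM22 G D)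
include hD hprim h22

theorem three {x : G} (hx : orderOf x = 3) : 3 ^ 7 ∣ Nat.card (centralizer ({x} : Set G)) := by
  obtain ⟨-, M, -⟩ := G22.exists_model hD hprim h22
  obtain ⟨W, hW, y, e⟩ := M.exists_zpowers Nat.prime_three (G22.good3 M) G22.r3p
    (X := zpowers x) (by rw [Nat.card_zpowers, hx])
  obtain ⟨i, rfl⟩ := G22.r3R W hW
  have h := G22.r3c i (M.conj y)
  rw [← e, zpowers_eq_closure, centralizer_closure] at h
  rw [h]
  clear * -
  revert i
  decide

open Cfsg.Lib.Spor.F22 Cfsg.Lib.Spor.Fis in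
theorem out : (∀ φ ψ : MulAut G, φ ∉ (MulAut.conj : G →* MulAut G).range →
    ψ ∉ (MulAut.conj : G →* MulAut G).range → φ * ψ ∈ (MulAut.conj : G →* MulAut G).range) ∧
    (∀ φ : MulAut G, φ ^ 2 = 1 → φ ∉ (MulAut.conj : G →* MulAut G).range →
      81 ∣ Nat.card (φ.toMonoidHom.eqLocus (MonoidHom.id G))) ∧
    ∀ φ : MulAut G, φ ^ 2 = 1 → ∃ d ∈ D, φ d = d := by
  obtain ⟨M⟩ := exists_mdl hD hprim h22
  obtain ⟨M', -, a2, a3, a4⟩ := M.exists_aut hD
  have out : ∀ φ : MulAut G, φ ∈ (MulAut.conj : G →* MulAut G).range ↔ M'.ρ φ ∈ E := fun φ =>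
    ⟨fun ⟨g, e⟩ => by rw [← e, a2]; exact (M.ρ_mem g).2, fun h => by
      obtain ⟨g, e⟩ := M.exists_ρ ⟨M'.ρ_mem φ, h⟩
      exact ⟨g, M'.inj ((a2 g).trans e)⟩⟩
  have key : ∀ φ : MulAut G, Nat.card (φ.toMonoidHom.eqLocus (MonoidHom.id G)) =
      Nat.card ↥(Q.A ⊓ centralizer {M'.ρ φ} ⊓ E) := fun φ => by
    rw [← M.card_pb_AE]
    congr 2
    ext g
    change φ g = g ↔ _
    rw [Mdl.pb, mem_comap, mem_centralizer_singleton_iff, ← M.inj.eq_iff, a3,
      mul_inv_eq_iff_eq_mul, eq_comm]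
  have cj : ∀ φ c : MulAut G, Nat.card ((c * φ * c⁻¹).toMonoidHom.eqLocus (MonoidHom.id G)) =
      Nat.card (φ.toMonoidHom.eqLocus (MonoidHom.id G)) := fun φ c =>
    Nat.card_congr ⟨fun g => ⟨c⁻¹ g, by
      have : c (φ (c⁻¹ g)) = g := g.2
      change φ (c⁻¹ g) = c⁻¹ g
      rw [← c.injective.eq_iff, this]; simp⟩, fun g => ⟨c g, by
      have : φ g = g := g.2
      change c (φ (c⁻¹ (c g))) = c g
      simp [this]⟩, fun g => Subtype.ext (by simp), fun g => Subtype.ext (by simp)⟩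
  refine ⟨fun φ ψ h1 h2 => ?_, fun φ h1 h2 => ?_, fun φ h1 => ?_⟩
  · rw [out, Perm.mem_alternatingGroup] at h1 h2 ⊢
    rw [map_mul, map_mul, (Int.units_eq_one_or _).resolve_left h1,
      (Int.units_eq_one_or _).resolve_left h2]
    rfl
  · rw [out] at h2
    obtain ⟨c, hc, h⟩ := Inv.inv_A (M'.ρ_mem φ) (by rw [← map_pow, h1, map_one])
      (fun e => h2 (e ▸ one_mem _))
    obtain ⟨c, rfl⟩ := M'.exists_ρ hc
    have k : ∀ y ∈ E, M'.ρ φ ≠ M'.ρ c * y * (M'.ρ c)⁻¹ := fun y hy e =>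
      h2 (e ▸ (alternatingGroup.normal).conj_mem y hy _)
    have k' : ∀ y, M'.ρ φ = M'.ρ c * y * (M'.ρ c)⁻¹ →
        Nat.card (φ.toMonoidHom.eqLocus (MonoidHom.id G)) =
          Nat.card ↥(Q.A ⊓ centralizer {y} ⊓ E) := fun y e => by
      rw [← cj φ c⁻¹, key, map_mul, map_mul, e, map_inv, map_inv, map_inv]
      congr 5
      group
    rcases h with h | h | h | h | h | h
    · exact absurd h (k _ (t_mem _).2)
    · exact absurd h (k _ (mul_mem (t_mem _).2 (t_mem _).2))
    · exact absurd h (k _ (mul_mem (mul_mem (t_mem _).2 (t_mem _).2) (t_mem _).2))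
    · rw [k' _ h]
      have := Cs.ActlE.2
      exact (Cs.I_def.symm ▸ this : Nat.card ↥(Q.A ⊓ centralizer {Inv.s} ⊓ E) = _) ▸ by norm_num
    · rw [k' _ h, ← Cst.ev_c]
      exact (Cst.CctlE.2 : Nat.card ↥(Q.A ⊓ centralizer {Cst.Q.ev [1, 74]} ⊓ E) = _) ▸ by norm_num
    · rw [k' _ h, ← Cst.ev_d]
      exact (Cst.DctlE.2 : Nat.card ↥(Q.A ⊓ centralizer {Cst.Q.ev [3, 1, 74]} ⊓ E) = _) ▸ by norm_num
  · by_cases h5 : M'.ρ φ = 1
    · exact ⟨M.τ (pp 0), M.τ_mem _, by rw [a4, h5]; rfl⟩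
    obtain ⟨c, hc, h⟩ := Inv.inv_A (M'.ρ_mem φ) (by rw [← map_pow, h1, map_one]) h5
    have b1 := t_self (pp 0)
    have b2 := t_comm c0_6
    have b3 := t_comm c0_40
    refine ⟨M.τ (c (pp 0)), M.τ_mem _, ?_⟩
    have b4 : c⁻¹ (c (pp 0)) = pp 0 := by simp
    rw [a4]
    rcases h with h | h | h | h | h | h <;> rw [h] <;>
      simp only [Equiv.Perm.mul_apply, b4, b1, b2, b3, Inv.s_0]

end

variable {G : Type*} [Group G] {E : Set G}

theorem norm_le : normalizer E ≤ normalizer (closure E : Set G) := by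
  have key : ∀ g ∈ normalizer E, ∀ x ∈ closure E, g * x * g⁻¹ ∈ closure E := fun g hg x hx => by
    have : closure E ≤ (closure E).comap (MulAut.conj g).toMonoidHom :=
      (closure_le _).2 fun y hy => subset_closure ((hg y).1 hy)
    exact this hx
  intro g hg
  refine fun x => ⟨key g hg x, fun h => ?_⟩
  simpa [mul_assoc] using key _ (inv_mem hg) _ h

/-- The action of the normalizer on the generated subgroup. -/
noncomputable def κ (E : Set G) : normalizer E →* MulAut (closure E) :=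
  (closure E).normalizerMonoidHom.comp (inclusion norm_le)

theorem κ_apply (u : normalizer E) (x : closure E) : (κ E u x : G) = u * x * (u : G)⁻¹ := rfl

end F4

open F4 in
theorem CE.mf {G : Type*} [Group G] [Finite G] {d e f : G} {E : Set G} (h : CE d e f E) :
    MF d e f E := by
  obtain ⟨o1, o2, o3⟩ := out h.tt h.prim h.typ
  have le : closure E ≤ normalizer E := fun g hg => h.cmp g d h.dE
    (h.tt.2.1 ⟨g, hg⟩ ⟨d, subset_closure h.dE⟩ h.dE)
  have inn : ∀ u : normalizer E, κ E u ∈ (MulAut.conj : _ →* MulAut (closure E)).range →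
      (u : G) ∈ closure E := by
    rintro u ⟨g, hg⟩
    have := h.cen ((g : G)⁻¹ * u) fun x hx => by
      have := congrArg (fun φ : MulAut (closure E) => (φ ⟨x, subset_closure hx⟩ : G)) hg
      simp only [κ_apply, MulAut.conj_apply, Subgroup.coe_mul, Subgroup.coe_inv] at this
      exact mul_inv_eq_iff_eq_mul.1 (calc
        _ = (g : G)⁻¹ * (u * x * (u : G)⁻¹) * g := by group
        _ = x := by rw [← this]; group)
    rw [← inv_mul_eq_one.1 this]
    exact g.2
  have emb : ∀ (u : G) (K : Subgroup (closure E)), (∀ g ∈ K, (g : G) * u = u * g) →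
      Nat.card K ∣ Nat.card ↥(normalizer E ⊓ centralizer {u}) := fun u K hK => by
    rw [← card_map_of_injective (subtype_injective _)]
    refine card_dvd_of_le ?_
    rintro _ ⟨g, hg, rfl⟩
    exact ⟨le g.2, mem_centralizer_singleton_iff.2 (hK g hg)⟩
  refine ⟨fun x hx h3 => ?_, fun u hu h2 => ?_, fun u hu h2 => ?_, fun ht => ?_⟩
  · have hx' : x ∈ closure E := inn ⟨x, hx⟩ (by_contra fun hn => hn (by
      have h1 : κ E ⟨x, hx⟩ * κ E ⟨x, hx⟩ = (κ E ⟨x, hx⟩)⁻¹ := by
        rw [← map_mul, ← map_inv]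
        congr 1
        refine Subtype.ext (eq_inv_of_mul_eq_one_left ?_)
        simpa [h3, pow_succ] using pow_orderOf_eq_one x
      exact inv_mem_iff.1 (h1 ▸ o1 _ _ hn hn)))
    refine (three h.tt h.prim h.typ (x := ⟨x, hx'⟩) (by rwa [← Subgroup.orderOf_coe])).trans
      (emb _ _ fun g hg => congrArg Subtype.val (mem_centralizer_singleton_iff.1 hg))
  · by_cases hu' : u ∈ closure E
    · right
      obtain ⟨M⟩ := F22.exists_mdl h.tt h.prim h.typ
      obtain ⟨m, m1, m3, l, hl, e1⟩ := M.exists_ct (x := ⟨u, hu'⟩) (by rwa [← Subgroup.orderOf_coe])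
      obtain ⟨n1, n2, n3, c1, c2, c3⟩ := h.ct
      let d' : closure E := ⟨d, subset_closure h.dE⟩
      let e' : closure E := ⟨e, subset_closure h.eE⟩
      let f' : closure E := ⟨f, subset_closure h.fE⟩
      have k1 : d' ∈ dn E := h.dE
      have k2 : e' ∈ dn E := h.eE
      have k3 : f' ∈ dn E := h.fE
      have n1' : d' ≠ e' := fun k => n1 (congrArg Subtype.val k)
      have n2' : d' ≠ f' := fun k => n2 (congrArg Subtype.val k)
      have n3' : e' ≠ f' := fun k => n3 (congrArg Subtype.val k)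
      have c1' : Commute d' e' := Subtype.ext c1
      have c2' : Commute d' f' := Subtype.ext c2
      have c3' : Commute e' f' := Subtype.ext c3
      have fin : ∀ l', Fm.CT (dn E) m l' → ∃ g ∈ normalizer E, g * u * g⁻¹ = (l'.prod : closure E) :=
        fun l' hl' => by
          obtain ⟨g, hg⟩ := isConj_iff.1 (M.isConj m1 m3 hl hl')
          exact ⟨g, le g.2, by rw [← hg, e1]; rfl⟩
      interval_cases m
      · obtain ⟨g, hg, k⟩ := fin [d'] ⟨by simp, rfl, by simpa using k1, by simp⟩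
        exact ⟨g, hg, Or.inl (by simpa using k)⟩
      · obtain ⟨g, hg, k⟩ := fin [d', e'] ⟨by simpa using n1', rfl, by simpa using ⟨k1, k2⟩,
          by simp [c1', c1'.symm]⟩
        exact ⟨g, hg, Or.inr (Or.inl (by simpa using k))⟩
      · obtain ⟨g, hg, k⟩ := fin [d', e', f'] ⟨by simp [n1', n2', n3'], rfl, by simpa using ⟨k1, k2, k3⟩,
          by simp [c1', c1'.symm, c2', c2'.symm, c3', c3'.symm]⟩
        exact ⟨g, hg, Or.inr (Or.inr (by simpa [mul_assoc] using k))⟩
    · left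
      refine (o2 (κ E ⟨u, hu⟩) ?_ fun k => hu' (inn _ k)).trans (emb _ _ fun g hg => ?_)
      · rw [← map_pow, show (⟨u, hu⟩ : normalizer E) ^ 2 = 1 from
          Subtype.ext (by simpa [h2] using pow_orderOf_eq_one u), map_one]
      · exact (mul_inv_eq_iff_eq_mul.1 (congrArg Subtype.val hg)).symm
  · obtain ⟨x, hx, k⟩ := o3 (κ E ⟨u, hu⟩) (by
      rw [← map_pow, show (⟨u, hu⟩ : normalizer E) ^ 2 = 1 from
        Subtype.ext (by simpa [pow_two] using h2), map_one])
    exact ⟨x, hx, mul_inv_eq_iff_eq_mul.1 (congrArg Subtype.val k)⟩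
  · obtain ⟨ι⟩ := h.iso
    by_cases hG : closure E = ⊤
    · exact Or.inl ⟨(topEquiv.symm.trans (MulEquiv.subgroupCongr hG.symm)).trans ι.symm⟩
    right
    obtain ⟨u, hu⟩ : ∃ u, u ∉ closure E := by_contra fun k => hG (eq_top_iff.2 fun u _ => by
      push Not at k; exact k u)
    have hu1 : u ∈ normalizer E := ht ▸ mem_top u
    have c : ∀ g : closure E, κ E ⟨g, le g.2⟩ = MulAut.conj g := fun g =>
      MulEquiv.ext fun x => Subtype.ext rfl
    have bij : Function.Bijective (κ E) := by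
      refine ⟨(injective_iff_map_eq_one _).2 fun g hg => Subtype.ext (h.cen _ fun x hx => ?_),
        fun φ => ?_⟩
      · have := congrArg (fun φ : MulAut (closure E) => (φ ⟨x, subset_closure hx⟩ : G)) hg
        exact mul_inv_eq_iff_eq_mul.1 this
      · by_cases hφ : φ ∈ (MulAut.conj : _ →* MulAut (closure E)).range
        · obtain ⟨g, rfl⟩ := hφ
          exact ⟨_, c g⟩
        · obtain ⟨g, hg⟩ := o1 _ _ hφ fun k => hu (inn ⟨u, hu1⟩ k)
          exact ⟨⟨g, le g.2⟩ * ⟨u, hu1⟩⁻¹, by rw [map_mul, map_inv, c, hg, mul_inv_cancel_right]⟩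
    exact ⟨((topEquiv.symm.trans (MulEquiv.subgroupCongr ht.symm)).trans
      (MulEquiv.ofBijective _ bij)).trans (MulAut.congr ι.symm)⟩

end Cfsg.Lib.C22
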