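import Cfsg.Agent.Recog.C22Api

/-! Subgroups of `SL₂(3) ≀ S₃` meeting `Q₈³` in a subgroup of index four. -/

set_option autoImplicit false

namespace Cfsg.Lib.C22

open Cfsg Subgroup Equiv Cfsg.Lib.Recog.P43 Cfsg.Lib.Recog.P43.Q

namespace Wt

/-- The factor at a block. -/
def bl (i : Fin 3) : Q →* W := MonoidHom.mk' (fun a => ⟨1, fun j => if j = i then a else 1⟩)
  fun a b => W.ext (by simp) (funext fun j => by by_cases h : j = i <;> simp [h])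

@[simp] theorem bl_σ (i : Fin 3) (a : Q) : (bl i a).σ = 1 := rfl

theorem bl_g (i : Fin 3) (a : Q) (j : Fin 3) : (bl i a).g j = if j = i then a else 1 := rfl

theorem conj_bl (b : W) (i : Fin 3) (a : Q) :
    b * bl i a * b⁻¹ = bl (b.σ i) (b.g (b.σ i) * a * (b.g (b.σ i))⁻¹) :=
  W.ext (by simp) (funext fun j => by
    obtain ⟨j, rfl⟩ := b.σ.surjective j
    by_cases h : j = i <;> simp [bl_g, h])

theorem dec {w : W} (h : w.σ = 1) : bl 0 (w.g 0) * bl 1 (w.g 1) * bl 2 (w.g 2) = w :=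
  W.ext (by simp [h]) (funext fun j => by fin_cases j <;> simp [bl_g])

theorem chi_inv : ∀ a : Q, chi a⁻¹ = -chi a := by decide +kernel

theorem chi_one : chi 1 = 0 := by decide

theorem bl_mem {i : Fin 3} {a : Q} (h : chi a = 0) : bl i a ∈ W.Q8 :=
  ⟨rfl, fun j => by rw [bl_g]; split_ifs; exacts [h, chi_one]⟩

theorem card_Q8 : Nat.card W.Q8 = 512 := by
  rw [Nat.card_congr (β := Fin 3 → {a : Q // chi a = 0}) ⟨fun w i => ⟨w.1.g i, w.2.2 i⟩,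
    fun f => ⟨⟨1, fun i => f i⟩, rfl, fun i => (f i).2⟩, fun w => Subtype.ext (W.ext w.2.1.symm rfl),
    fun _ => rfl⟩, Nat.card_fun, Nat.card_eq_fintype_card, Nat.card_eq_fintype_card]
  decide +kernel

theorem pow_g {t : W} (h : t.σ = 1) (i : Fin 3) (n : ℕ) : (t ^ n).g i = t.g i ^ n := by
  induction n with
  | zero => rfl
  | succ n ih => rw [pow_succ', W.mul_g, h, pow_succ', ← ih]; rfl

theorem g_one {t : W} {n : ℕ} (h : t.σ = 1) (h3 : t ^ 3 ^ n = 1) {i : Fin 3} (c : chi (t.g i) = 0) :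
    t.g i = 1 := by
  have := pow_gcd_eq_one.2 ⟨(pow_g h i _).symm.trans (congrArg (W.g · i) h3),
    (by decide +kernel : ∀ a : Q, chi a = 0 → a ^ 4 = 1) _ c⟩
  rwa [(Nat.Coprime.pow_left n (by norm_num : Nat.Coprime 3 4)).gcd_eq_one, pow_one] at this

theorem card_le {Y : Subgroup W} (h : ∀ t ∈ Y, t.σ = 1) (S : Finset (Fin 3))
    (hS : ∀ t ∈ Y, (∀ j ∈ S, chi (t.g j) = 0) → t = 1) : Nat.card Y ≤ 3 ^ S.card := by
  have := Nat.card_le_card_of_injective (fun (t : Y) (j : S) => chi (t.1.g j)) fun s t e =>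
    Subtype.ext (inv_mul_eq_one.1 (hS _ (mul_mem (inv_mem s.2) t.2) fun j hj => by
      have := congrFun e ⟨j, hj⟩
      simp only at this
      simp [h s s.2, chi_mul, chi_inv, this]))
  simpa using this

variable (B : Subgroup W)

/-- The quaternion group at a block is contained in `B`. -/
def Fu (i : Fin 3) : Prop := ∀ a, chi a = 0 → bl i a ∈ B

/-- The quaternion group at a block meets `B` in its centre. -/
def Sm (i : Fin 3) : Prop := ∀ a, chi a = 0 → bl i a ∈ B → a = 1 ∨ a = m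

variable {B} {i j : Fin 3} {t w : W}

theorem Fu.conj (h : Fu B i) (hw : w ∈ B) : Fu B (w.σ i) := fun a ha => by
  have := mul_mem (mul_mem hw (h ((w.g (w.σ i))⁻¹ * a * w.g (w.σ i))
    (by simp [chi_mul, chi_inv, ha]))) (inv_mem hw)
  rwa [conj_bl, show ∀ c : Q, c * (c⁻¹ * a * c) * c⁻¹ = a from fun c => by group] at this

variable (h : WB B)
include h

theorem cen {a : Q} (e : a = 1 ∨ a = m) : bl i a ∈ B := by
  rcases e with rfl | rfl
  exacts [map_one (bl i) ▸ one_mem B, h.ng i]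

theorem supp (hw : w ∈ B) (h1 : w.σ = 1) (hj : ∀ k ≠ j, w.g k = 1 ∨ w.g k = m) :
    bl j (w.g j) ∈ B := by
  have k : ∀ k ≠ j, bl k (w.g k) ∈ B := fun k hk => cen h (hj k hk)
  rw [← dec h1] at hw
  fin_cases j
  · rwa [mul_mem_cancel_right (k 2 (by decide)), mul_mem_cancel_right (k 1 (by decide))] at hw
  · rwa [mul_mem_cancel_right (k 2 (by decide)), mul_mem_cancel_left (k 0 (by decide))] at hw
  · rwa [mul_mem_cancel_left (mul_mem (k 0 (by decide)) (k 1 (by decide)))] at hw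

theorem exists_not : ∃ i, ¬ Fu B i := by
  by_contra! n
  have := h.card
  rw [inf_of_le_right fun w hw => dec hw.1 ▸
    mul_mem (mul_mem (n 0 _ (hw.2 0)) (n 1 _ (hw.2 1))) (n 2 _ (hw.2 2)), card_Q8] at this
  omega

theorem sm (ht : t ∈ B) (h1 : t.σ = 1) (c : chi (t.g i) ≠ 0) (n : ¬ Fu B i) : Sm B i :=
  fun q hq m1 => by_contra fun e => n fun a ha => by
    have k : ∀ {x}, bl i x ∈ B → bl i (t.g i * x * (t.g i)⁻¹) ∈ B := fun {x} hx => by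
      have := mul_mem (mul_mem ht hx) (inv_mem ht)
      rwa [conj_bl, h1] at this
    obtain ⟨ε, h2, rfl | rfl | rfl | rfl⟩ := (by decide +kernel : ∀ τ : Q, chi τ ≠ 0 → ∀ q, chi q = 0 →
      ¬ (q = 1 ∨ q = m) → ∀ a, chi a = 0 → ∃ ε, (ε = 1 ∨ ε = m) ∧ (a = ε ∨ a = ε * q ∨
        a = ε * (τ * q * τ⁻¹) ∨ a = ε * (τ * (τ * q * τ⁻¹) * τ⁻¹))) _ c q hq e a ha
    · exact cen h h2
    all_goals rw [map_mul]
    exacts [mul_mem (cen h h2) m1, mul_mem (cen h h2) (k m1), mul_mem (cen h h2) (k (k m1))]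

theorem cover (s : Sm B i) (hw : w ∈ W.Q8) : ∃ q, chi q = 0 ∧ w⁻¹ * bl i q ∈ B := by
  obtain ⟨r, r1, r2⟩ : ∃ r : Fin 4 → Q, (∀ k, chi (r k) = 0) ∧
      ∀ k l, (r k)⁻¹ * r l = 1 ∨ (r k)⁻¹ * r l = m → k = l :=
    ⟨![1, ⟨1⟩, Q.s * ⟨1⟩ * Q.s⁻¹, Q.s⁻¹ * ⟨1⟩ * Q.s], by decide +kernel⟩
  have c := (B.subgroupOf W.Q8).card_mul_index
  rw [← card_subtype, subgroupOf_map_subtype, h.card, card_Q8] at c
  obtain ⟨k, e⟩ := (Function.Injective.bijective_of_nat_card_le (f := fun k =>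
    ((⟨bl i (r k), bl_mem (r1 k)⟩ : W.Q8) : W.Q8 ⧸ B.subgroupOf W.Q8)) (fun k l e => r2 k l (s _
      (by simp [chi_mul, chi_inv, r1]) (by simpa using mem_subgroupOf.1 (QuotientGroup.eq.1 e))))
    (by rw [← index_eq_card]; simp; omega)).2 (⟨w, hw⟩ : W.Q8)
  exact ⟨_, r1 k, mem_subgroupOf.1 (QuotientGroup.eq.1 e.symm)⟩

theorem key (ht : t ∈ B) (h1 : t.σ = 1) (ni : ¬ Fu B i) (nj : ¬ Fu B j) (c : chi (t.g i) = 0) :
    chi (t.g j) = 0 := by
  by_contra c'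
  have s := sm h ht h1 c' nj
  obtain ⟨a, ha, n⟩ : ∃ a, chi a = 0 ∧ bl i a ∉ B := by simpa [Fu] using ni
  obtain ⟨q, hq, e⟩ := cover h s (bl_mem (i := i) ha)
  have ij : j ≠ i := fun e => c' (e ▸ c)
  have k := supp h (j := j) (mul_mem (mul_mem (mul_mem ht e) (inv_mem ht)) (inv_mem e))
    (by simp [h1]) fun k hk => by
      by_cases e : k = i
      · simpa [h1, bl_g, hk, e, ij.symm] using (by decide +kernel : ∀ τ : Q, chi τ = 0 → ∀ a,
          chi a = 0 → τ * a⁻¹ * τ⁻¹ * a = 1 ∨ τ * a⁻¹ * τ⁻¹ * a = m) _ c a ha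
      · simp [h1, bl_g, hk, e]
  refine n (inv_mem_iff.1 ((mul_mem_cancel_right (cen h ((by decide +kernel : ∀ τ : Q, chi τ ≠ 0 →
    ∀ q, chi q = 0 → τ * q * τ⁻¹ * q⁻¹ = 1 ∨ τ * q * τ⁻¹ * q⁻¹ = m → q = 1 ∨ q = m) _ c' q hq
    (s _ (by simp [chi_mul, chi_inv]) ?_)))).1 e))
  simpa [h1, bl_g, ij] using k

theorem nine {Y : Subgroup W} (le : Y ≤ B) (h3 : IsPGroup 3 Y) (h1 : ∀ t ∈ Y, t.σ = 1) :
    Nat.card Y ≤ 9 := by
  obtain ⟨i, ni⟩ := exists_not h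
  refine (card_le h1 {i}ᶜ fun t ht c => ?_).trans (by simp [Finset.card_compl])
  obtain ⟨n, e⟩ := h3 ⟨t, ht⟩
  have e' : t ^ 3 ^ n = 1 := congrArg Subtype.val e
  have c1 : ∀ j ≠ i, t.g j = 1 := fun j hj => g_one (h1 t ht) e' (c j (by simpa using hj))
  have et : t = bl i (t.g i) := W.ext (h1 t ht) (funext fun j => by
    rw [bl_g]; split_ifs with d; exacts [d ▸ rfl, c1 j d])
  by_cases ci : chi (t.g i) = 0
  · rw [et, g_one (h1 t ht) e' ci, map_one]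
  refine zpowers_eq_bot.1 (h.o3 _ (zpowers_le.2 (le ht)) ?_ (h3.to_le (zpowers_le.2 ht)))
  rintro b hb _ ⟨k, rfl⟩
  have bi : b.σ i = i := by_contra fun n => ci (key h (i := b.σ i) (le ht) (h1 t ht)
    (fun f => ni (by simpa using f.conj (inv_mem hb))) ni (c _ (by simpa using n)))
  have m1 := mul_mem (inv_mem (le ht)) (mul_mem (mul_mem hb (le ht)) (inv_mem hb))
  rw [et, conj_bl, bi, ← map_inv, ← map_mul] at m1
  have := (by decide +kernel : ∀ τ : Q, chi τ ≠ 0 → ∀ c, τ⁻¹ * (c * τ * c⁻¹) ≠ m) _ ci (b.g i)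
  rw [← conj_zpow, et, conj_bl, bi, ← inv_mul_eq_one.1 ((sm h (le ht) (h1 t ht) ci ni _
    (by simp [chi_mul, chi_inv]) m1).resolve_right this)]
  exact zpow_mem (mem_zpowers _) k

theorem nfu {y : W} (hy : y ∈ B) (c : y.Cy) (i : Fin 3) : ¬ Fu B i := fun f => by
  obtain ⟨j, n⟩ := exists_not h
  rcases (by decide : ∀ σ : Perm (Fin 3), (∀ i, σ i ≠ i) → ∀ i j, j = i ∨ j = σ i ∨ j = σ (σ i))
    _ c i j with rfl | rfl | rfl
  exacts [n f, n (f.conj hy), n ((f.conj hy).conj hy)]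

theorem triv {y : W} (hy : y ∈ B) (c : y.Cy) (ht : t ∈ B) (h1 : t.σ = 1) {n : ℕ}
    (h3 : t ^ 3 ^ n = 1) (e : chi (t.g i) = 0) : t = 1 :=
  W.ext h1 (funext fun j => g_one h1 h3 (key h ht h1 (nfu h hy c i) (nfu h hy c j) e))

theorem three {y : W} (hy : y ∈ B) (c : y.Cy) {Y : Subgroup W} (le : Y ≤ B) (h3 : IsPGroup 3 Y)
    (h1 : ∀ t ∈ Y, t.σ = 1) : Nat.card Y ≤ 3 :=
  card_le h1 {0} fun t ht e => (h3 ⟨t, ht⟩).elim fun _ k =>
    triv h hy c (le ht) (h1 t ht) (congrArg Subtype.val k) (e 0 (by simp))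

theorem st {Y : Subgroup W} (le : Y ≤ B) (h3 : IsPGroup 3 Y) : Nat.card Y ≤ 9 := by
  have : Fact (Nat.Prime 3) := ⟨by norm_num⟩
  by_cases h1 : ∀ t ∈ Y, t.σ = 1
  · exact nine h le h3 h1
  push Not at h1
  obtain ⟨y, hy, n⟩ := h1
  obtain ⟨k, e⟩ := h3 ⟨y, hy⟩
  have c : y.Cy := (by decide : ∀ σ : Perm (Fin 3), σ ^ 2 ≠ 1 → ∀ i, σ i ≠ i) _ fun d => n (by
    have := pow_gcd_eq_one.2 ⟨(map_pow W.σHom y _).symm.trans
      ((congrArg (W.σHom ·.1) e).trans (map_one _)), d⟩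
    rwa [(Nat.Coprime.pow_left k (by norm_num : Nat.Coprime 3 2)).gcd_eq_one, pow_one] at this)
  have c1 := three h (le hy) c (Y := W.σHom.ker ⊓ Y) (inf_le_right.trans le) h3.to_inf_right
    fun t ht => ht.1
  have c2 := Solv.PG.relIndex_mul_card_inf W.σHom.ker Y
  obtain ⟨l, c3⟩ := IsPGroup.iff_card.1 (h3.map W.σHom)
  have c4 := card_subgroup_dvd_card (Y.map W.σHom)
  rw [relIndex_ker, c3] at c2
  rw [c3, Nat.card_perm, Nat.card_fin] at c4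
  have : l ≤ 1 := by_contra fun n => absurd ((pow_dvd_pow 3 (show 2 ≤ l by omega)).trans c4)
    (by decide)
  have := Nat.mul_le_mul (Nat.pow_le_pow_right (by norm_num : 0 < 3) this) c1
  omega

section

variable {y d : W} (hy : y ∈ B) (c : y.Cy) (hd : d ∈ B) (d1 : d.σ = 1) (d3 : d ^ 3 = 1) (dn : d ≠ 1)
include hy c hd d1 d3 dn

theorem sm' (i : Fin 3) : Sm B i :=
  sm h hd d1 (fun e => dn (triv h hy c hd d1 (n := 1) d3 e)) (nfu h hy c i)

theorem proj (i : Fin 3) {f : Fin 3 → Q} (hf : ∀ j, chi (f j) = 0) :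
    ∃ p ∈ B ⊓ W.Q8, ∀ j ≠ i, p.g j = f j := by
  have m : (⟨1, f⟩ : W) ∈ W.Q8 := ⟨rfl, hf⟩
  obtain ⟨q, hq, e⟩ := cover h (sm' h hy c hd d1 d3 dn i) (inv_mem m)
  exact ⟨_, ⟨e, W.Q8.mul_mem (W.Q8.inv_mem (W.Q8.inv_mem m)) (bl_mem hq)⟩, fun j hj => by simp [bl_g, hj]⟩

theorem pair (ij : i ≠ j) : ∃ p ∈ B, p.σ = 1 ∧ p.g i * p.g i = m ∧ p.g j * p.g j = m ∧
    ∀ k ≠ i, k ≠ j → p.g k = 1 := by
  obtain ⟨p, hp, e⟩ := proj h hy c hd d1 d3 dn i (bl_mem (i := j) (a := ⟨1⟩) (by decide)).2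
  have pj : p.g j = ⟨1⟩ := by rw [e j ij.symm, bl_g, if_pos rfl]
  have pk : ∀ k ≠ i, k ≠ j → p.g k = 1 := fun k a b => by rw [e k a, bl_g, if_neg b]
  refine ⟨p, hp.1, hp.2.1, by_contra fun n => ?_, by rw [pj]; decide, pk⟩
  refine absurd (sm' h hy c hd d1 d3 dn j _ (hp.2.2 j) (supp h hp.1 hp.2.1 fun k hk => ?_))
    (by rw [pj]; decide)
  by_cases e : k = i
  · exact e ▸ (by decide +kernel : ∀ a : Q, chi a = 0 → a * a ≠ m → a = 1 ∨ a = m) _ (hp.2.2 i) n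
  · exact Or.inl (pk k e hk)

theorem sup (s : Fin 3 → Bool) (hs : ∃ i j, i ≠ j ∧ s i = true ∧ s j = true) :
    ∃ p ∈ B, p.σ = 1 ∧ ∀ i, p.g i * p.g i = cond (s i) m 1 := by
  by_cases a : ∀ i, s i = true
  · obtain ⟨p, hp, p1, p2, p3, p4⟩ := pair h hy c hd d1 d3 dn (i := 0) (j := 1) (by decide)
    obtain ⟨q, hq, q1, q2, q3, q4⟩ := pair h hy c hd d1 d3 dn (i := 0) (j := 2) (by decide)
    have p5 := p4 2 (by decide) (by decide)
    have q5 := q4 1 (by decide) (by decide)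
    rcases (by decide +kernel : ∀ u : Q, u * u = m → ∀ v, v * v = m → ∀ τ, chi τ ≠ 0 →
      u * v * (u * v) = m ∨ u * (τ * v * τ⁻¹) * (u * (τ * v * τ⁻¹)) = m) _ p2 _ q2 (d.g 0)
      (fun e => dn (triv h hy c hd d1 (n := 1) d3 e)) with e | e
    · refine ⟨p * q, mul_mem hp hq, by simp [p1, q1], fun i => ?_⟩
      fin_cases i <;> simp [a, p1, p3, p5, q3, q5, e]
    · refine ⟨p * (d * q * d⁻¹), mul_mem hp (mul_mem (mul_mem hd hq) (inv_mem hd)),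
        by simp [p1, q1], fun i => ?_⟩
      fin_cases i <;> simp [a, p1, q1, d1, p3, p5, q3, q5, e, m_facts.2.2.2.1]
  obtain ⟨i, j, ij, si, sj⟩ := hs
  obtain ⟨p, hp, p1, p2, p3, p4⟩ := pair h hy c hd d1 d3 dn ij
  refine ⟨p, hp, p1, fun k => ?_⟩
  by_cases ki : k = i
  · rw [ki, si, p2, cond_true]
  by_cases kj : k = j
  · rw [kj, sj, p3, cond_true]
  cases e : s k
  · rw [p4 k ki kj, mul_one, cond_false]
  · refine absurd (fun l => ?_) a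
    rcases (by omega : l = i ∨ l = j ∨ l = k) with rfl | rfl | rfl <;> assumption

end

end Wt

open Wt

variable {G : Type*} [Group G] [Finite G]

set_option linter.unusedSectionVars false in
theorem FD.wt (D : FD G) : D.WT := by
  have h := D.wb'
  have mem : ∀ {g}, Commute g D.z → D.ρ g ∈ D.ρH.range := fun {g} e => ⟨⟨g, D.mem_H.2 e⟩, rfl⟩
  have tr : ∀ Y ≤ D.H, Nat.card ((Y.subgroupOf D.H).map D.ρH) * Nat.card ↥(Y ⊓ D.Q) = Nat.card Y :=
    fun Y le => by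
      have := Solv.PG.relIndex_mul_card_inf D.ρH.ker (Y.subgroupOf D.H)
      rwa [relIndex_ker, show D.ρH.ker ⊓ Y.subgroupOf D.H = (Y ⊓ D.Q).subgroupOf D.H from
        Subgroup.ext fun x => and_comm.trans (and_congr Iff.rfl (D.ρ_eq_one (D.mem_H.1 x.2))),
        Nat.card_congr (subgroupOfEquivOfLe le).toEquiv,
        Nat.card_congr (subgroupOfEquivOfLe (inf_le_left.trans le)).toEquiv] at this
  have s : D.St := fun Y le h3 => tr Y le ▸
    Nat.mul_le_mul_right _ (st h (map_le_range _ _) (h3.comap_subtype.map _))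
  have s0 : ∀ y, D.Cy y → D.Sh0 := fun y c => ⟨s, ⟨y, c⟩, fun t ht h1 h3 n i e =>
    n (triv h (mem c.1) c.2 (mem ht) h1 (n := 1) h3 (i := i) (e ▸ chi_one)),
    fun Y le h3 h1 => tr Y le ▸ Nat.mul_le_mul_right _ (three h (mem c.1) c.2 (map_le_range _ _)
      (h3.comap_subtype.map _) (by rintro _ ⟨t, ht, rfl⟩; exact h1 t ht))⟩
  refine ⟨s, s0, fun y d c hd d1 d3 dn => ⟨s0 y c, fun g hg g1 i e => ?_, fun s hs => ?_,
    fun a b ha hb => ?_⟩⟩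
  · obtain ⟨j, hj⟩ := exists_ne i
    exact sm' h (mem c.1) c.2 (mem hd) d1 d3 dn i _ (key h (mem hg) g1 (nfu h (mem c.1) c.2 j)
      (nfu h (mem c.1) c.2 i) (e j hj ▸ chi_one)) (supp h (mem hg) g1 fun k hk => Or.inl (e k hk))
  · obtain ⟨_, ⟨p, rfl⟩, e⟩ := sup h (mem c.1) c.2 (mem hd) d1 d3 dn s hs
    exact ⟨p, D.mem_H.1 p.2, e⟩
  · obtain ⟨_, ⟨⟨p, rfl⟩, m⟩, e⟩ := proj h (mem c.1) c.2 (mem hd) d1 d3 dn 0 (f := ![1, a, b])
      fun j => by fin_cases j; exacts [chi_one, ha, hb]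
    exact ⟨p, D.mem_H.1 p.2, m, e 1 (by decide), e 2 (by decide)⟩

end Cfsg.Lib.C22
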