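import Cfsg.Agent.Recog.C23Api

/-!
Elements of order three acting on the extraspecial group of order `128`.
-/

set_option autoImplicit false

namespace Cfsg.Lib.C23

open Cfsg Subgroup Cfsg.Lib.Recog.P43 Cfsg.Lib.C22

theorem dvd_card_of_free {G : Type*} [Group G] (K : Subgroup G) (T : Set G)
    (h1 : ∀ n ∈ K, ∀ x ∈ T, n * x * n⁻¹ ∈ T) (h2 : ∀ n ∈ K, ∀ x ∈ T, n * x * n⁻¹ = x → n = 1) :
    Nat.card K ∣ Nat.card T := by
  let : MulAction K T :=
    { smul := fun n x => ⟨n * x * (n : G)⁻¹, h1 _ n.2 _ x.2⟩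
      one_smul := fun x => Subtype.ext (show (1 : G) * x * 1⁻¹ = x by simp)
      mul_smul := fun m n x => Subtype.ext (show (m * n : G) * x * (m * n : G)⁻¹ = m * (n * x * (n : G)⁻¹) * (m : G)⁻¹ by
        group) }
  rw [Nat.card_congr (MulAction.selfEquivOrbitsQuotientProd (G := K) (X := T) fun x => eq_bot_iff.2 fun n e =>
    Subtype.ext (h2 _ n.2 _ x.2 (congrArg Subtype.val e))), Nat.card_prod]
  exact dvd_mul_left _ _

universe u

variable {B : Type u} [Group B] {R : Subgroup B} {π : B →* X} {i : B}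

namespace RH

theorem comm_of_cube (h : RH R π i) {t r : B} (h3 : t ^ 3 = 1) (e : Zi i (t * r * t⁻¹ * r⁻¹)) : Commute t r := by
  have e1 : t * r * t⁻¹ = t * r * t⁻¹ * r⁻¹ * r := by group
  generalize t * r * t⁻¹ * r⁻¹ = c at e e1
  have e2 : r = c * c * c * r := by
    calc r = t * (t * (t * r * t⁻¹) * t⁻¹) * t⁻¹ := by
          rw [show t * (t * (t * r * t⁻¹) * t⁻¹) * t⁻¹ = t ^ 3 * r * (t ^ 3)⁻¹ by
            simp only [pow_three]; group, h3]; group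
      _ = _ := by
        have e3 : ∀ x, t * (c * x) * t⁻¹ = c * (t * x * t⁻¹) := fun x => by rw [← conj_mul, h.zi_conj e]
        rw [e1, e3, e1, e3, e3, e1]; group
  rcases e with rfl | rfl
  · exact mul_inv_eq_iff_eq_mul.1 (e1.trans (one_mul r))
  · rw [h.ii, one_mul] at e2
    exact absurd (right_eq_mul.1 e2) h.i1

/-- The quotient by the central involution. -/
theorem zn (h : RH R π i) : (zpowers i).Normal :=
  ⟨fun _ hn g => by rw [h.zi_conj (h.zi_iff.2 hn)]; exact hn⟩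

theorem zi_mk (h : RH R π i) [(zpowers i).Normal] {x : B} : Zi i x ↔ QuotientGroup.mk' (zpowers i) x = 1 :=
  h.zi_iff.trans (QuotientGroup.eq_one_iff x).symm

theorem exists_φ (h : RH R π i) : ∃ (Y : Type u) (_ : Group Y) (φ : B →* Y), (∀ x, Zi i x ↔ φ x = 1) ∧
    (∀ r ∈ R, φ r * φ r = 1) ∧ ∀ r ∈ R, ∀ s ∈ R, φ r * φ s = φ s * φ r :=
  haveI := h.zn
  ⟨B ⧸ zpowers i, inferInstance, QuotientGroup.mk' _, fun _ => h.zi_mk,
    fun r hr => by rw [← map_mul]; exact h.zi_mk.1 (h.sq r hr), fun r hr s hs => by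
      have := h.zi_mk.1 (h.cm r hr s hs)
      rwa [map_mul, map_mul, map_mul, map_inv, map_inv, mul_inv_eq_one, mul_inv_eq_iff_eq_mul] at this⟩

theorem zi_trans (h : RH R π i) {w r r₀ : B} (h0 : r₀ ∈ R) (hr : r ∈ R) (e : Zi i (w * r * w⁻¹ * r⁻¹)) :
    Zi i (w * r₀ * r * (w * r₀)⁻¹ * r⁻¹) := by
  have := h.zi_mul (h.cm _ h0 _ hr) e
  rw [← h.zi_conj (h.cm _ h0 _ hr) w] at this
  convert this using 1
  group

variable [Finite B]

theorem fpf (h : RH R π i) {w r : B} (hw : π w = X.a) (hr : r ∈ R) (e : Zi i (w * r * w⁻¹ * r⁻¹)) :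
    Zi i r := by
  classical
  obtain ⟨p, hp⟩ : ∃ p : X, p * p * p = X.a := by decide +kernel
  obtain ⟨s₀, rfl⟩ := h.sur p
  have a3 : π s₀ ^ 9 = 1 := by
    rw [show 9 = 3 * 3 from rfl, pow_mul, pow_three' (π s₀), hp, pow_three', X.a_facts.2.1]
  have h36 : (s₀ ^ 9) ^ 4 = 1 := h.pow4 ((h.ker _).1 (by rw [map_pow, a3]))
  obtain ⟨s, s9, hs⟩ : ∃ s, (s ^ 3) ^ 3 = 1 ∧ π (s ^ 3) = X.a := ⟨s₀ ^ 28,
    by rw [← pow_mul, ← pow_mul, show 28 * (3 * 3) = 9 * 4 * 7 from rfl, pow_mul, pow_mul, h36, one_pow],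
    by rw [← pow_mul, show 28 * 3 = 9 * 9 + 3 from rfl, map_pow, pow_add, pow_mul, a3, one_pow, one_mul,
      pow_three', hp]⟩
  have hc : Commute (s ^ 3) r := h.comm_of_cube s9 (by
    have := h.zi_trans (r₀ := w⁻¹ * s ^ 3) ((h.ker _).1 (by rw [map_mul, map_inv, hs, hw, inv_mul_cancel])) hr e
    rwa [mul_inv_cancel_left] at this)
  let C := R ⊓ centralizer {s ^ 3}
  have mC : ∀ x, x ∈ C ↔ x ∈ R ∧ Commute x (s ^ 3) := fun x => and_congr_right' mem_centralizer_singleton_iff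
  have hC : Nat.card C = 2 := by
    have : Fact (Nat.Prime 3) := ⟨Nat.prime_three⟩
    have : Fact (Nat.Prime 2) := ⟨Nat.prime_two⟩
    have n3 : s ^ 3 ∉ R := fun c => X.a_facts.1 (hs.symm.trans ((h.ker _).2 c))
    have o9 : orderOf s = 3 ^ (1 + 1) := orderOf_eq_prime_pow (fun c => n3 (by rw [pow_one] at c; exact c ▸ one_mem R))
      (by rw [pow_add, pow_one, pow_mul, s9])
    have h1 := dvd_card_of_free (zpowers s) ((R : Set B) \ C) (fun n hn x hx => ⟨h.conj_mem n hx.1, fun c =>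
      hx.2 ((mC _).2 ⟨hx.1, (Commute.conj_iff n).1 (by
        obtain ⟨k, rfl⟩ := hn
        rw [(((Commute.refl s).zpow_left k).pow_right 3).eq, mul_inv_cancel_right]; exact ((mC _).1 c).2)⟩)⟩)
      fun n hn x hx e => by
        obtain ⟨k, hk, rfl⟩ := (mem_zpowers_iff_mem_range_orderOf.trans Finset.mem_image).1 hn
        have c : Commute x (s ^ k) := (show Commute _ x from mul_inv_eq_iff_eq_mul.1 e).symm
        by_contra n1
        refine hx.2 ((mC _).2 ⟨hx.1, ?_⟩)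
        have k9 : ∀ k < 9, k = 0 ∨ ∃ m < 9, k * m % 9 = 3 := by decide
        rcases k9 k (by simpa [o9] using hk) with rfl | ⟨m, -, e⟩
        · exact absurd (pow_zero s) n1
        · rw [← e, show 9 = orderOf s from o9.symm, pow_mod_orderOf, pow_mul]
          exact c.pow_right m
    have hle : (C : Set B) ⊆ R := fun _ hx => hx.1
    rw [Nat.card_zpowers, o9, Nat.card_coe_set_eq, Set.ncard_sdiff hle, ← Nat.card_coe_set_eq, ← Nat.card_coe_set_eq,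
      SetLike.coe_sort_coe, SetLike.coe_sort_coe, h.card] at h1
    obtain ⟨k, hk, e⟩ := (Nat.dvd_prime_pow Nat.prime_two).1 (show Nat.card C ∣ 2 ^ 7 from
      (card_dvd_of_le (H := C) inf_le_left).trans h.card.dvd)
    have : k ≠ 7 := by
      rintro rfl
      have := eq_of_le_of_card_ge (H := C) inf_le_left (h.card.trans e.symm).le
      exact n3 (h.cent _ fun x hx => ((mC x).1 (this ▸ hx)).2.symm)
    rw [e] at h1 ⊢
    interval_cases k <;> first | rfl | omega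
  by_contra n
  have := (Nat.card_eq_two_iff' (1 : C)).1 hC
  exact n (.inr (congrArg Subtype.val (this.unique (y₁ := ⟨r, (mC _).2 ⟨hr, hc.symm⟩⟩)
    (y₂ := ⟨i, (mC _).2 ⟨h.iR, (h.iB _).symm⟩⟩) (fun e => n (.inl (congrArg Subtype.val e)))
    fun e => h.i1 (congrArg Subtype.val e))))

theorem wrel (h : RH R π i) {w r : B} (hw : π w = X.a) (hr : r ∈ R) :
    Zi i (r * (w * r * w⁻¹) * (w * (w * r * w⁻¹) * w⁻¹)) := by
  have h1 := h.conj_mem w hr
  have h2 := h.conj_mem w h1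
  have h3 : w * w * w ∈ R := (h.ker _).1 (by rw [map_mul, map_mul, hw, X.a_facts.2.1])
  refine h.fpf hw (mul_mem (mul_mem hr h1) h2) ?_
  obtain ⟨Y, _, φ, k, -, c⟩ := h.exists_φ
  rw [← conj_mul, ← conj_mul, k, map_mul, map_inv, mul_inv_eq_one, map_mul, map_mul, map_mul φ (r * _), map_mul φ r,
    show w * (w * (w * r * w⁻¹) * w⁻¹) * w⁻¹ = w * w * w * r * (w * w * w)⁻¹ by group, map_mul φ (w * w * w * r),
    map_mul φ (w * w * w), c _ h3 _ hr, map_inv, mul_inv_cancel_right, mul_assoc (φ r), ← map_mul φ (w * r * w⁻¹),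
    c _ (mul_mem h1 h2) _ hr]

omit [Finite B] in
theorem q4 (h : RH R π i) {t : B} (h3 : t ^ 3 = 1) (h1 : t ≠ 1) :
    ∃ r ∈ R, r * t * r⁻¹ * t⁻¹ * (r * t * r⁻¹ * t⁻¹) = i := by
  by_contra! N
  have m : ∀ r ∈ R, r * t * r⁻¹ * t⁻¹ ∈ R := fun r hr => by
    simpa [mul_assoc] using mul_mem hr (h.conj_mem t (inv_mem hr))
  have s : ∀ r ∈ R, r * t * r⁻¹ * t⁻¹ * (r * t * r⁻¹ * t⁻¹) = 1 := fun r hr => (h.sq _ (m r hr)).resolve_right (N r hr)
  obtain ⟨Y, _, φ, k, q, c⟩ := h.exists_φ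
  have z : ∀ a b, φ a = φ b → Zi i (b⁻¹ * a) := fun a b e => (k _).2 (by rw [map_mul, map_inv, e, inv_mul_cancel])
  have c1 : ∀ r ∈ R, ∀ x ∈ R, Commute (r * t * r⁻¹ * t⁻¹) (x * t * x⁻¹ * t⁻¹) := fun r hr x hx => by
    have e := z (r * t * r⁻¹ * t⁻¹ * (x * t * x⁻¹ * t⁻¹)) (r * x * t * (r * x)⁻¹ * t⁻¹) (by
      rw [show r * x * t * (r * x)⁻¹ * t⁻¹ = r * ((x * t * x⁻¹ * t⁻¹) * (t * r⁻¹ * t⁻¹)) by group, map_mul φ r,
        map_mul φ (x * t * x⁻¹ * t⁻¹), c _ (m x hx) _ (h.conj_mem t (inv_mem hr)), ← map_mul, ← map_mul]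
      congr 1; group)
    have e1 := s _ (mul_mem hr hx)
    have e2 := s r hr
    have e3 := s x hx
    generalize r * t * r⁻¹ * t⁻¹ = a, x * t * x⁻¹ * t⁻¹ = b, r * x * t * (r * x)⁻¹ * t⁻¹ = d at e e1 e2 e3
    have e4 : a * b * (a * b) = 1 := by
      rw [← mul_inv_cancel_left d (a * b)]
      rcases e with e | e <;> rw [e]
      · simpa using e1
      · rw [mul_assoc, ← mul_assoc i, ← (h.iB d).eq, mul_assoc, h.ii, mul_one, e1]
    rw [Commute, SemiconjBy, eq_inv_of_mul_eq_one_left e4, mul_inv_rev, inv_eq_of_mul_eq_one_right e2,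
      inv_eq_of_mul_eq_one_right e3]
  refine h1 (h.eq_one_of_cube (k := 1) (h.cent t fun r hr => h.comm_of_cube h3 ?_) h3)
  rw [← inv_inv r, show t * r⁻¹⁻¹ * t⁻¹ * r⁻¹⁻¹⁻¹ = r⁻¹⁻¹ * (r⁻¹ * t * r⁻¹⁻¹ * t⁻¹) * r⁻¹⁻¹⁻¹ by group]
  replace hr := inv_mem hr
  generalize r⁻¹ = r at hr
  suffices Zi i (r * t * r⁻¹ * t⁻¹) by rwa [h.zi_conj this]
  refine h.ce _ (m r hr) fun x hx => ?_
  have x1 := h.conj_mem t hx
  have x2 := h.conj_mem t x1
  have x3 : t * (t * (t * x * t⁻¹) * t⁻¹) * t⁻¹ = x := by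
    rw [show t * (t * (t * x * t⁻¹) * t⁻¹) * t⁻¹ = t ^ 3 * x * (t ^ 3)⁻¹ by simp only [pow_three]; group, h3]; group
  have n := mul_mem (mul_mem hx x1) x2
  have n1 : Commute t (x * (t * x * t⁻¹) * (t * (t * x * t⁻¹) * t⁻¹)) := h.comm_of_cube h3 (by
    rw [← conj_mul, ← conj_mul, x3, k, map_mul, map_inv, mul_inv_eq_one, map_mul, c _ (mul_mem x1 x2) _ hx, ← map_mul,
      mul_assoc x])
  have n2 := z x (x * (t * x * t⁻¹) * (t * (t * x * t⁻¹) * t⁻¹) * (t * x * t⁻¹ * t * (t * x * t⁻¹)⁻¹ * t⁻¹)) (by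
    rw [show t * x * t⁻¹ * t * (t * x * t⁻¹)⁻¹ * t⁻¹ = t * x * t⁻¹ * (t * (t * x * t⁻¹) * t⁻¹)⁻¹ by group]
    generalize t * (t * x * t⁻¹) * t⁻¹ = b at x2
    generalize t * x * t⁻¹ = a at x1
    simp only [map_mul, map_inv]
    rw [mul_assoc (φ x * φ a), ← mul_assoc (φ b), c b x2 a x1, mul_inv_cancel_right, mul_assoc, q a x1, mul_one])
  have n3 := c1 r hr _ x1
  generalize x * (t * x * t⁻¹) * (t * (t * x * t⁻¹) * t⁻¹) = y at n n1 n2
  have n4 : Commute (r * t * r⁻¹ * t⁻¹) y := by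
    have e : r⁻¹ * y * r = r⁻¹ * y * r⁻¹⁻¹ * y⁻¹ * y := by group
    have e1 := h.cm _ (inv_mem hr) _ n
    have : Commute t (r⁻¹ * y * r) := e ▸ (h.zi_comm e1 t).mul_right n1
    exact Commute.mul_left ((Commute.conj_iff r⁻¹).1 (by simpa [mul_assoc] using this)) n1.inv_left
  rw [← mul_inv_cancel_left (y * (t * x * t⁻¹ * t * (t * x * t⁻¹)⁻¹ * t⁻¹)) x]
  exact (n4.mul_right n3).mul_right (h.zi_comm n2 _)

end RH

end Cfsg.Lib.C23
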