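import Cfsg.Agent.Recog.C23Api

/-!
Elementary abelian subgroups of order `27` in the extension of `2^{1+6}` by `3^{1+2} : SL₂(3)`.
-/

set_option autoImplicit false

namespace Cfsg.Lib.C23

open Cfsg Subgroup Cfsg.Lib.Recog.P43 Cfsg.Lib.C22

theorem X_inv_conj' : ∀ p : X, p * p = 1 → p = 1 ∨ ∃ x y, (⟨x, y, 0, 1⟩ : X) * p * (⟨x, y, 0, 1⟩ : X)⁻¹ = X.t := by
  decide +kernel
theorem X_inv_conj : ∀ p : X, p * p = 1 → p = 1 ∨ ∃ g, g * p * g⁻¹ = X.t := fun p h =>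
  (X_inv_conj' p h).imp_right fun ⟨_, _, e⟩ => ⟨_, e⟩
theorem X_inv_cent : ∀ p : X, p * p = 1 → p * X.t = X.t * p → p = 1 ∨ p = X.t := by decide +kernel

theorem X_card : Nat.card X = 648 := by rw [Nat.card_congr X.equivProd]; simp

theorem X_card_S : Nat.card X.S = 81 := by
  rw [show Nat.card X.S = Nat.card {p : X // X.InS p} from rfl, Nat.card_eq_fintype_card, Fintype.card_subtype]
  decide +kernel

theorem X_conj_le {A : Subgroup X} (h : ∀ a ∈ A, a ^ 3 = 1) : ∃ g, ∀ a ∈ A, X.InS (g * a * g⁻¹) := by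
  have : Fact (Nat.Prime 3) := ⟨Nat.prime_three⟩
  obtain ⟨P, hP⟩ := IsPGroup.exists_le_sylow (p := 3) (P := A) fun a => ⟨1, Subtype.ext (h _ a.2)⟩
  obtain ⟨g, e⟩ := MulAction.exists_smul_eq X P (Sylow.ofCard X.S (by
    rw [X_card_S, X_card, show 648 = 3 ^ 4 * 8 from rfl, Nat.factorization_mul (by decide) (by decide),
      Nat.Prime.factorization_pow Nat.prime_three]
    simp [Nat.factorization_eq_zero_of_not_dvd]))
  exact ⟨g, fun a ha => (SetLike.ext_iff.1 e (g * a * g⁻¹)).1 ⟨a, hP ha, rfl⟩⟩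

theorem X_e27 (A : Subgroup X) (h : ∀ a ∈ A, a ^ 3 = 1) : Nat.card A ≤ 27 := by
  obtain ⟨g, hg⟩ := X_conj_le h
  have i := (MulAut.conj g).injective
  have h1 : A.map (MulAut.conj g).toMonoidHom ≤ X.S := fun _ ⟨a, ha, e⟩ => e ▸ hg a ha
  obtain ⟨k, hk, e⟩ := (Nat.dvd_prime_pow Nat.prime_three).1 (show _ ∣ 3 ^ 4 from X_card_S ▸ card_dvd_of_le h1)
  obtain ⟨p, hp, hp'⟩ : ∃ p, X.InS p ∧ p * p * p ≠ 1 := by decide +kernel
  have : k ≠ 4 := by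
    rintro rfl
    obtain ⟨a, ha, rfl⟩ := (eq_of_le_of_card_ge h1 (X_card_S.trans e.symm).le).ge (show p ∈ X.S from hp)
    exact hp' (by rw [← pow_three', ← map_pow, h a ha, map_one])
  rw [← card_map_of_injective (f := (MulAut.conj g).toMonoidHom) i, e]
  exact Nat.pow_le_pow_right (by decide) (show k ≤ 3 by omega)

theorem X_J {A : Subgroup X} (h : J27 A) : ∃ g, ∀ a, a ∈ A ↔ ∃ v, X.jv v = g * a * g⁻¹ := by
  obtain ⟨g, hg⟩ := X_conj_le h.cube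
  have h1 : ∀ a ∈ A, ∃ v, X.jv v = g * a * g⁻¹ := fun a ha => (X.inJ_iff _).1 (by_contra fun n => by
    have := X.cent_small _ (hg a ha) n
    rw [← Fintype.card_subtype, ← Nat.card_eq_fintype_card] at this
    have h2 := Nat.card_le_card_of_injective (fun b : A => (⟨g * b * g⁻¹, hg _ b.2,
      (Commute.conj_iff g).2 (h.com _ b.2 _ ha)⟩ : {q : X // X.InS q ∧ q * (g * a * g⁻¹) = g * a * g⁻¹ * q}))
      fun _ _ e => Subtype.ext (by simpa using congrArg Subtype.val e)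
    rw [h.card] at h2
    omega)
  choose f hf using h1
  have h2 : Function.Bijective fun a : A => f a a.2 := (Nat.bijective_iff_injective_and_card _).2
    ⟨fun a b e => Subtype.ext (by simpa using (hf a a.2).symm.trans ((congrArg X.jv e).trans (hf b b.2))),
      by rw [h.card]; simp⟩
  refine ⟨g, fun a => ⟨fun ha => ⟨_, hf a ha⟩, fun ⟨v, e⟩ => ?_⟩⟩
  obtain ⟨b, rfl⟩ := h2.2 v
  have : (b : X) = a := by simpa using (hf b b.2).symm.trans e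
  exact this ▸ b.2

theorem X_j2 : ∀ (p : X) (u : Recog.P43.V), ∃ v, p * X.jv v * p⁻¹ * X.jv v ≠ 1 ∧ p * X.jv v * p⁻¹ * X.jv v ≠ X.jv u ∧
    p * X.jv v * p⁻¹ * X.jv v ≠ (X.jv u)⁻¹ := by decide +kernel

variable {B : Type*} [Group B] {R : Subgroup B} {π : B →* X} {i : B}

theorem RH.card_map (h : RH R π i) {A : Subgroup B} (hA : ∀ a ∈ A, a ^ 3 = 1) : Nat.card (A.map π) = Nat.card A := by
  rw [← A.range_subtype, ← MonoidHom.range_comp, A.range_subtype]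
  exact (Nat.card_congr (MonoidHom.ofInjective ((injective_iff_map_eq_one _).2 fun a e =>
    Subtype.ext (h.eq_one_of_cube (k := 1) ((h.ker _).1 e) (hA _ a.2)))).toEquiv).symm

theorem cube_map {A : Subgroup B} (hA : ∀ a ∈ A, a ^ 3 = 1) : ∀ a ∈ A.map π, a ^ 3 = 1 := by
  rintro _ ⟨a, ha, rfl⟩
  rw [← map_pow, hA a ha, map_one]

theorem RH.e27 (h : RH R π i) (A : Subgroup B) (hA : ∀ a ∈ A, a ^ 3 = 1) : Nat.card A ≤ 27 :=
  h.card_map hA ▸ X_e27 _ (cube_map hA)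

theorem RH.exists_g (h : RH R π i) {J : Subgroup B} (hJ : J27 J) :
    ∃ g, ∀ a, a ∈ J.map π ↔ ∃ v, X.jv v = π g * a * (π g)⁻¹ := by
  obtain ⟨g, hg⟩ := X_J (A := J.map π) ⟨by
    rintro _ ⟨a, ha, rfl⟩ _ ⟨b, hb, rfl⟩
    exact (hJ.com a ha b hb).map π, cube_map hJ.cube, (h.card_map hJ.cube).trans hJ.card⟩
  obtain ⟨g, rfl⟩ := h.sur g
  exact ⟨g, hg⟩

theorem RH.exists_w (h : RH R π i) {J : Subgroup B} (hJ : J27 J) : ∃ w ∈ J, π w = X.a :=
  let ⟨g, hg⟩ := h.exists_g hJ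
  (hg _).2 ⟨_, by rw [X.a_comm, mul_inv_cancel_right, X.a_facts.2.2.1]⟩

theorem RH.j2 (h : RH R π i) (J : Subgroup B) (hJ : J27 J) (j t : B) (ht : t ∈ J) :
    ¬ ∀ x ∈ J, j * x * j⁻¹ * x ∈ zpowers t := fun H => by
  obtain ⟨g, hg⟩ := h.exists_g hJ
  obtain ⟨u, hu⟩ := (hg _).1 ⟨t, ht, rfl⟩
  obtain ⟨v, h1, h2, h3⟩ := X_j2 (π g * π j * (π g)⁻¹) u
  obtain ⟨x, hx, e⟩ := (hg ((π g)⁻¹ * X.jv v * π g)).2 ⟨v, by group⟩
  have e1 : π g * π j * (π g)⁻¹ * X.jv v * (π g * π j * (π g)⁻¹)⁻¹ * X.jv v =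
      π g * π (j * x * j⁻¹ * x) * (π g)⁻¹ := by simp only [map_mul, map_inv, e]; group
  rw [e1, hu] at h2 h3
  rw [e1] at h1
  rcases zpowers_cases (hJ.cube t ht) (H x hx) with e | e | e <;> rw [e] at h1 h2 h3
  exacts [h1 (by simp), h2 rfl, h3 (by simp [mul_assoc])]

theorem RH.exists_s [Finite B] (h : RH R π i) {J : Subgroup B} (hJ : J27 J) :
    ∃ s g, (∀ x ∈ J, s * x * s⁻¹ ∈ J) ∧ π (g * s * g⁻¹) = X.t := by
  have : Fact (Nat.Prime 3) := ⟨Nat.prime_three⟩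
  obtain ⟨g, hg⟩ := h.exists_g hJ
  obtain ⟨t, ht⟩ := h.sur X.t
  let K := (J.map π).comap π
  have h1 : ∀ x ∈ J, (g⁻¹ * t * g) * x * (g⁻¹ * t * g)⁻¹ ∈ K := fun x hx => by
    obtain ⟨v, e⟩ := (hg _).1 ⟨x, hx, rfl⟩
    exact (hg _).2 ⟨_, by rw [← t_act v, e]; simp [ht, mul_assoc]⟩
  have hK : Nat.card K = 3 ^ 3 * 128 := by
    have e := card_eq_card_quotient_mul_card_subgroup (π.comp K.subtype).ker
    rw [Nat.card_congr (QuotientGroup.quotientKerEquivRange _).toEquiv, MonoidHom.range_comp, range_subtype,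
      map_comap_eq_self_of_surjective h.sur, h.card_map hJ.cube, hJ.card,
      ← card_map_of_injective K.subtype_injective, show (π.comp K.subtype).ker.map K.subtype = R from
        Subgroup.ext fun x => ⟨fun ⟨y, a, b⟩ => b ▸ (h.ker _).1 a, fun a =>
          ⟨⟨x, show π x ∈ J.map π from (h.ker _).2 a ▸ one_mem _⟩, (h.ker _).2 a, rfl⟩⟩, h.card] at e
    exact e
  have k : ∀ A ≤ K, Nat.card A = 27 → Nat.card (A.subgroupOf K) = 3 ^ (Nat.card K).factorization 3 := fun A a b => by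
    rw [Nat.card_congr (subgroupOfEquivOfLe a).toEquiv, b, hK, Nat.factorization_mul (by decide) (by decide),
      Nat.Prime.factorization_pow Nat.prime_three]
    simp [Nat.factorization_eq_zero_of_not_dvd]
  obtain ⟨⟨c, y, hy, hc⟩, e⟩ := MulAction.exists_smul_eq K
    (Sylow.ofCard _ (k (J.map (MulAut.conj (g⁻¹ * t * g)).toMonoidHom) (fun _ ⟨x, hx, e⟩ => e ▸ h1 x hx)
      ((card_map_of_injective (MulAut.conj _).injective).trans hJ.card)))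
    (Sylow.ofCard _ (k J (le_comap_map _ _) hJ.card))
  refine ⟨y⁻¹ * c * (g⁻¹ * t * g), g, fun x hx => ?_, by simp [hc, ht, mul_assoc]⟩
  have h2 : c * (g⁻¹ * t * g * x * (g⁻¹ * t * g)⁻¹) * c⁻¹ ∈ J :=
    (SetLike.ext_iff.1 e (⟨c, y, hy, hc⟩ * ⟨_, h1 x hx⟩ * (⟨c, y, hy, hc⟩ : K)⁻¹)).1 ⟨⟨_, h1 x hx⟩, ⟨x, hx, rfl⟩, rfl⟩
  simpa [mul_assoc] using mul_mem (mul_mem (inv_mem hy) h2) hy

end Cfsg.Lib.C23
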