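import Cfsg.Agent.Recog.C23Api

/-!
Duality in the extraspecial group `R`: centralisers and inner automorphisms.
-/

set_option autoImplicit false

namespace Cfsg.Lib.C23

open Cfsg Subgroup Cfsg.Lib.Recog.P43 Cfsg.Lib.C22
open scoped Classical

variable {B : Type*} [Group B] [Finite B] {R : Subgroup B} {π : B →* X} {i : B}

namespace A1

/-- the sign of an element of `⟨i⟩` -/
noncomputable def sgn (x : B) : ℤ := if x = 1 then 1 else -1

theorem sgn_eq_1' : type_of% @sgn.eq_1 := @sgn.eq_1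

omit [Finite B]

theorem sgn_one {x : B} : sgn x = 1 ↔ x = 1 := by unfold sgn; split_ifs with h <;> simp [h]

theorem sgn_inv (x : B) : sgn x⁻¹ = sgn x := by simp only [sgn, inv_eq_one]

theorem sgn_mul (h : RH R π i) {x y : B} (hx : Zi i x) (hy : Zi i y) :
    sgn (x * y) = sgn x * sgn y := by
  rcases hx with rfl | rfl <;> rcases hy with rfl | rfl <;> simp [sgn, h.i1, h.ii]

theorem exists_chi (h : RH R π i) {A : Subgroup B} {g : B}
    (hg : ∀ a ∈ A, Zi i (g * a * g⁻¹ * a⁻¹)) :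
    ∃ χ : A →* ℤ, (∀ a : A, χ a = sgn (g * a * g⁻¹ * (a : B)⁻¹)) ∧
      (χ = 1 ↔ g ∈ centralizer (A : Set B)) := by
  refine ⟨{ toFun := fun a => sgn (g * a * g⁻¹ * (a : B)⁻¹)
            map_one' := sgn_one.2 (by simp)
            map_mul' := fun a b => ?_ }, fun _ => rfl, fun e a ha => ?_, fun e => ?_⟩
  · rw [← sgn_mul h (hg a a.2) (hg b b.2), ← h.zi_conj (hg b b.2) a, coe_mul]
    congr 1; group
  · have := sgn_one.1 (DFunLike.congr_fun e ⟨a, ha⟩)
    rw [mul_inv_eq_one, mul_inv_eq_iff_eq_mul] at this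
    exact this.symm
  · exact MonoidHom.ext fun a => sgn_one.2 (by rw [← e a a.2]; simp)

end A1

open A1

theorem RH.dual (h : RH R π i) {A : Subgroup B} (hA : A ≤ R) {g : B}
    (hg : ∀ a ∈ A, Zi i (g * a * g⁻¹ * a⁻¹)) :
    Nat.card A * Nat.card {r : R // (r : B) * g ∈ centralizer (A : Set B)} =
      128 * Nat.card {a : A // (a : B) ∈ zpowers i} := by
  have := Fintype.ofFinite R
  have := Fintype.ofFinite A
  have e : ∀ (r : R) (a : A), r * g * a * ((r : B) * g)⁻¹ * (a : B)⁻¹ =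
      g * a * g⁻¹ * (a : B)⁻¹ * ((a : B) * r * (a : B)⁻¹ * (r : B)⁻¹)⁻¹ := fun r a => by
    rw [← h.zi_conj (hg a a.2) r]; group
  have h1 : ∀ r : R, ∑ a : A, sgn (r * g * a * ((r : B) * g)⁻¹ * (a : B)⁻¹) =
      if (r : B) * g ∈ centralizer (A : Set B) then (Nat.card A : ℤ) else 0 := fun r => by
    obtain ⟨χ, e1, e2⟩ := exists_chi h (A := A) (g := r * g) fun a ha =>
      e r ⟨a, ha⟩ ▸ h.zi_mul (hg a ha) (h.zi_inv (h.cm a (hA ha) r r.2))
    simp only [← e1, ← e2, sum_hom_units, Nat.card_eq_fintype_card, Nat.cast_ite, Nat.cast_zero]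
  have h2 : ∀ a : A, ∑ r : R, sgn (r * g * a * ((r : B) * g)⁻¹ * (a : B)⁻¹) =
      if (a : B) ∈ zpowers i then 128 else 0 := fun a => by
    obtain ⟨χ, e1, e2⟩ := exists_chi h (A := R) (g := a) fun r hr => h.cm a (hA a.2) r hr
    have e3 : χ = 1 ↔ (a : B) ∈ zpowers i := e2.trans (Iff.trans
      ⟨fun hc => h.ce a (hA a.2) fun s hs => (hc s hs).symm, fun hz s _ => h.zi_comm hz s⟩ h.zi_iff)
    rw [Finset.sum_congr rfl fun r _ => (congrArg sgn (e r a)).trans ((sgn_mul h (hg a a.2)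
      (h.zi_inv (h.cm a (hA a.2) r r.2))).trans (by rw [sgn_inv, ← e1])), ← Finset.mul_sum]
    simp only [sum_hom_units, e3, ← Nat.card_eq_fintype_card, h.card]
    split_ifs with hz
    · rw [h.zi_conj (h.zi_iff.2 hz), mul_inv_cancel, sgn_one.2 rfl]; rfl
    · simp
  have h3 := Finset.sum_comm.trans (Finset.sum_congr rfl fun a _ => h2 a)
    |>.symm.trans (Finset.sum_congr rfl fun r (_ : r ∈ Finset.univ) => h1 r)
  rw [← Finset.sum_filter, ← Finset.sum_filter, Finset.sum_const, Finset.sum_const,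
    ← Fintype.card_subtype, ← Fintype.card_subtype, ← Nat.card_eq_fintype_card,
    ← Nat.card_eq_fintype_card, nsmul_eq_mul, nsmul_eq_mul] at h3
  rw [mul_comm, mul_comm 128]
  exact_mod_cast h3.symm

theorem RH.perp (h : RH R π i) {A : Subgroup B} (hA : A ≤ R) (hi : i ∈ A) :
    Nat.card A * Nat.card ↥(R ⊓ centralizer (A : Set B)) = 256 := by
  have := h.dual hA (g := 1) fun a _ => .inl (by simp)
  simp only [mul_one] at this
  rw [Nat.card_congr (Equiv.subtypeSubtypeEquivSubtypeInter (· ∈ R) (· ∈ centralizer (A : Set B))),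
    Nat.card_congr (Equiv.subtypeSubtypeEquivSubtype (p := (· ∈ A)) (q := (· ∈ zpowers i))
      fun hx => zpowers_le.2 hi hx), Nat.card_zpowers,
    orderOf_eq_prime (by rw [pow_two, h.ii]) h.i1] at this
  exact this

theorem RH.inner (h : RH R π i) {A : Subgroup B} (hA : A ≤ R) {g : B}
    (hg : ∀ a ∈ A, Zi i (g * a * g⁻¹ * a⁻¹)) :
    ∃ s ∈ R, ∀ a ∈ A, s * a * s⁻¹ = g * a * g⁻¹ := by
  have e := h.dual hA hg
  have : Nonempty {a : A // (a : B) ∈ zpowers i} := ⟨⟨1, one_mem _⟩⟩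
  obtain ⟨⟨r, hr⟩⟩ := (Nat.card_ne_zero.1 (right_ne_zero_of_mul
    (e.trans_ne (mul_ne_zero (by norm_num) Nat.card_pos.ne')))).1
  refine ⟨r⁻¹, inv_mem r.2, fun a ha => ?_⟩
  calc (r : B)⁻¹ * a * (r : B)⁻¹⁻¹ = (r : B)⁻¹ * (a * (r * g)) * g⁻¹ := by group
    _ = _ := by rw [hr a ha]; group

theorem RH.act (h : RH R π i) {t : B} (ht : t ∉ R) : ∃ r ∈ R, ¬ Zi i (t * r * t⁻¹ * r⁻¹) := by
  by_contra! hc
  obtain ⟨s, hs, e⟩ := h.inner le_rfl hc
  refine ht (mul_inv_cancel_left s t ▸ mul_mem hs (h.cent (s⁻¹ * t) fun r hr => ?_))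
  calc s⁻¹ * t * r = s⁻¹ * (t * r * t⁻¹) * t := by group
    _ = _ := by rw [← e r hr]; group

end Cfsg.Lib.C23
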