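import Cfsg.Agent.Recog.C23A2
import Cfsg.Agent.Recog.C23A1
import Cfsg.Agent.GHB.Invol

/-!
The extraspecial group `R` under an involution of the quotient.
-/

set_option autoImplicit false

namespace Cfsg.Lib.C23

open Cfsg Subgroup Cfsg.Lib.Recog.P43 Cfsg.Lib.C22 Cfsg.Lib.GHB
open scoped commutatorElement

variable {B : Type*} [Group B] [Finite B] {R : Subgroup B} {π : B →* X} {i : B}

namespace A4

omit [Finite B] in
theorem comm_conj (h : RH R π i) {k x y : B} (h1 : Zi i ⁅k, x⁆) (h2 : Zi i ⁅k, y⁆) :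
    Commute k ⁅x, y⁆ := by
  have cl : ∀ {u : B}, Zi i u → ∀ a b : B, ⁅u * a, b⁆ = ⁅a, b⁆ := fun {u} hu a b =>
    calc ⁅u * a, b⁆ = u * (a * b * a⁻¹) * u⁻¹ * b⁻¹ := by simp only [commutatorElement_def]; group
      _ = _ := by rw [← (h.zi_comm hu _).eq, mul_inv_cancel_right, commutatorElement_def]
  refine mul_inv_eq_iff_eq_mul.1 ?_
  rw [show k * ⁅x, y⁆ * k⁻¹ = ⁅⁅k, x⁆ * x, ⁅k, y⁆ * y⁆ by simp only [commutatorElement_def]; group,
    cl h1, ← commutatorElement_inv, cl h2, commutatorElement_inv]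

omit [Finite B] in
theorem card_Z (h : RH R π i) : Nat.card (zpowers i) = 2 := by
  rw [Nat.card_zpowers, orderOf_eq_prime (by rw [pow_two, h.ii]) h.i1]

omit [Finite B] in
theorem ea_Z (h : RH R π i) : EA ⊥ (zpowers i) := EA.bot fun x hx => by
  rcases h.zi_iff.2 hx with rfl | rfl
  exacts [one_mul 1, h.ii]

omit [Finite B] in
theorem adj {A : Subgroup B} (hA : EA ⊥ A) {g : B} (h1 : ∀ a ∈ A, Commute g a) (h2 : g * g = 1)
    (h3 : g ∉ A) : EA ⊥ (A ⊔ zpowers g) ∧ Nat.card ↥(A ⊔ zpowers g) = 2 * Nat.card A ∧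
      ∀ x, x ∈ A ⊔ zpowers g ↔ x ∈ A ∨ g * x ∈ A := by
  have c : ∀ a ∈ A, g * a * g⁻¹ ∈ A := fun a ha => by rwa [(h1 a ha).eq, mul_inv_cancel_right]
  have s : g * g ∈ A := h2 ▸ one_mem A
  exact ⟨hA.adj (fun a ha => commutatorElement_eq_one_iff_commute.2 (h1 a ha)) h2,
    card_adj c s h3, fun x => by rw [mem_adj c s, inv_eq_of_mul_eq_one_right h2]⟩

theorem exists_f (h : RH R π i) {e e' : B} (he : e ∈ R) (he' : e' ∈ R) (h1 : ¬ Zi i e)
    (h2 : e * e = 1) {K : Subgroup B} (hK : Nat.card K = 32)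
    (h3 : ∀ r ∈ R, Commute r e → Commute r e' → r ∈ K) :
    ∃ f ∈ R, f * e' * f⁻¹ = i * e' ∧ Commute f e := by
  have := h.perp (sup_le (zpowers_le.2 h.iR) (zpowers_le.2 he)) (mem_sup_left (mem_zpowers i))
  rw [(adj (ea_Z h) (fun a ha => h.zi_comm (h.zi_iff.2 ha) e) h2 (mt h.zi_iff.2 h1)).2.1,
    card_Z h] at this
  obtain ⟨f, hf, nf⟩ := exists_not_mem (H := K)
    (B := R ⊓ centralizer ((zpowers i ⊔ zpowers e : Subgroup B) : Set B)) (by omega)
  have c : Commute f e := (hf.2 e (mem_sup_right (mem_zpowers e))).symm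
  refine ⟨f, hf.1, eq_mul_of_mul_inv_eq ((h.cm f hf.1 e' he').resolve_left fun e1 => ?_), c⟩
  exact nf (h3 f hf.1 c (commutatorElement_eq_one_iff_commute.1 e1))

end A4

open A4

theorem RH.exists_FM (h : RH R π i) : ∃ t e₁ e₂ f₁ f₂ c c' E, FM R π i t e₁ e₂ f₁ f₂ c c' E := by
  obtain ⟨t, ht⟩ := h.sur X.t
  obtain ⟨w, hw⟩ := h.sur X.a
  have : (zpowers i).Normal := ⟨fun n hn g => by rwa [h.zi_conj (h.zi_iff.2 hn)]⟩
  have cm : ∀ q ∈ R, ∀ b ∈ R, ⁅q, b⁆ ∈ zpowers i := fun q hq b hb => h.zi_iff.1 (h.cm q hq b hb)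
  have ea : EA (zpowers i) R := EA.of_normal (zpowers_le.2 h.iR) fun x hx => h.zi_iff.1 (h.sq x hx)
  have t2 : ∀ b ∈ R, ⁅t * t, b⁆ ∈ zpowers i := cm _ ((h.ker _).1 (by rw [map_mul, ht]; decide))
  obtain ⟨r, hr, nr⟩ := h.act (t := t) fun e => absurd (ht.symm.trans ((h.ker t).2 e)) (by decide)
  set K := Cm (zpowers i) R t with hK
  have wK : ∀ g, π g⁻¹ * X.t * π g * X.t⁻¹ = 1 → ∀ k ∈ K, g * k * g⁻¹ ∈ K := fun g hg k hk => by
    rw [hK, ← Cm_congr (g := g⁻¹ * t * g) cm ((h.ker _).1 (by simpa [ht] using hg))] at hk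
    refine ⟨h.conj_mem g hk.1, ?_⟩
    have := this.conj_mem _ hk.2 g
    rwa [show g * ⁅g⁻¹ * t * g, k⁆ * g⁻¹ = ⁅t, g * k * g⁻¹⁆ by
      simp only [commutatorElement_def]; group] at this
  have w1 := wK w (by rw [map_inv, hw]; decide)
  have w2 := wK w⁻¹ (by rw [inv_inv, map_inv, hw]; decide)
  set e := ⁅r, t⁆ with he
  have eK : e ∈ K := ea.comm_mem_Cm (fun b => h.conj_mem t) t2 hr
  have n1 : ¬ Zi i e := fun z => nr (by
    have := h.zi_inv z
    rwa [he, commutatorElement_inv] at this)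
  have nc : ∀ x, ¬ Zi i x → ¬ Zi i (w * x * w⁻¹) := fun x hx z => hx (by
    have := h.zi_conj z w⁻¹
    rw [← this] at z
    simpa [mul_assoc] using z)
  have c1 : ∀ k ∈ K, Commute k e := fun k hk => comm_conj h (h.cm k hk.1 r hr) (by
    have := h.zi_inv (h.zi_iff.2 hk.2)
    rwa [commutatorElement_inv] at this)
  have cw : ∀ x, (∀ k ∈ K, Commute k x) → ∀ k ∈ K, Commute k (w * x * w⁻¹) := fun x hx k hk => by
    have := (hx _ (w2 k hk)).conj w
    rwa [show w * (w⁻¹ * k * w⁻¹⁻¹) * w⁻¹ = k by group] at this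
  have c2 := cw e c1
  have c3 := cw _ c2
  have e2K := w1 e eK
  have rel := h.wrel hw eK.1
  have zsq : ∀ {u}, Zi i u → u * u = 1 := fun hu => (ea_Z h).sq _ (h.zi_iff.1 hu)
  have sw : ∀ x ∈ R, w * x * w⁻¹ * (w * x * w⁻¹) = x * x := fun x hx => by
    rw [conj_mul, h.zi_conj (h.sq x hx)]
  have q1 : e * e = 1 := by
    have := zsq rel
    rwa [(c3 _ (mul_mem eK e2K)).symm.mul_mul_mul_comm, (c2 _ eK).symm.mul_mul_mul_comm,
      sw _ e2K.1, sw _ eK.1, zsq (h.sq e eK.1), one_mul] at this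
  have q2 : w * e * w⁻¹ * (w * e * w⁻¹) = 1 := (sw e eK.1).trans q1
  obtain ⟨a1, a2, a3⟩ := adj (ea_Z h) (fun a ha => h.zi_comm (h.zi_iff.2 ha) e) q1
    (mt h.zi_iff.2 n1)
  have le1 : zpowers i ⊔ zpowers e ≤ K := sup_le (le_Cm ea.le) (zpowers_le.2 eK)
  obtain ⟨b1, b2, b3⟩ := adj a1 (fun a ha => (c2 a (le1 ha)).symm) q2 fun hm => by
    rcases (a3 _).1 hm with hm | hm
    · exact nc e n1 (h.zi_iff.2 hm)
    · exact nc _ (nc e n1) (by
        have := h.zi_mul (h.zi_inv (h.zi_iff.2 hm)) rel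
        rwa [inv_mul_cancel_left] at this)
  rw [a2, card_Z h] at b2
  set E := zpowers i ⊔ zpowers e ⊔ zpowers (w * e * w⁻¹) with hE
  have EK : E ≤ K := sup_le le1 (zpowers_le.2 e2K)
  have cE : ∀ k, Commute k e → Commute k (w * e * w⁻¹) → ∀ a ∈ E, Commute k a := fun k h1 h2 a ha =>
    (mem_centralizer_singleton_iff.1 ((sup_le (sup_le
      (zpowers_le.2 (mem_centralizer_singleton_iff.2 (h.iB k).symm.eq))
      (zpowers_le.2 (mem_centralizer_singleton_iff.2 h1.symm.eq)))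
      (zpowers_le.2 (mem_centralizer_singleton_iff.2 h2.symm.eq)) : E ≤ centralizer {k}) ha)).symm
  have eqK : R ⊓ centralizer (E : Set B) = R ⊓ centralizer {e} ⊓ centralizer {w * e * w⁻¹} := by
    ext k
    simp only [mem_inf, mem_centralizer_singleton_iff, and_assoc]
    exact and_congr_right fun _ => ⟨fun hk => ⟨(hk e (mem_sup_left (mem_sup_right
      (mem_zpowers e)))).symm, (hk _ (mem_sup_right (mem_zpowers _))).symm⟩,
      fun hk a ha => (cE k hk.1 hk.2 a ha).symm⟩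
  have card := h.perp (EK.trans Cm_le) (mem_sup_left (mem_sup_left (mem_zpowers i)))
  rw [b2, eqK] at card
  replace card : Nat.card ↥(R ⊓ centralizer {e} ⊓ centralizer {w * e * w⁻¹}) = 32 := by omega
  have le2 : K ≤ R ⊓ centralizer {e} ⊓ centralizer {w * e * w⁻¹} := fun k hk =>
    ⟨⟨hk.1, mem_centralizer_singleton_iff.2 (c1 k hk).eq⟩,
      mem_centralizer_singleton_iff.2 (c2 k hk).eq⟩
  have cK : Nat.card K = 32 := by
    have : Fact (Nat.Prime 3) := ⟨Nat.prime_three⟩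
    have h1 := ea.card_le_sq (fun b => h.conj_mem t) t2
    have h2 := cnt (K := zpowers i) 3 w1 fun b hb =>
      cm _ ((h.ker _).1 (by rw [map_pow, hw]; decide)) b hb.1
    rw [relIndex_eq_one.2 (fun b hb => h.zi_iff.1 (h.fpf hw hb.1.1 (h.zi_iff.2 hb.2)) :
      Cm (zpowers i) K w ≤ _)] at h2
    have h3 := relIndex_mul_relIndex ⊥ (zpowers i) K bot_le (le_Cm ea.le)
    rw [relIndex_bot_left, relIndex_bot_left, card_Z h] at h3
    obtain ⟨n, hn, e1⟩ := (Nat.dvd_prime_pow Nat.prime_two (m := 5)).1 (card ▸ card_dvd_of_le le2)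
    rw [h.card, card_Z h, ← hK, e1] at h1
    rw [e1] at h3 ⊢
    unfold Nat.ModEq at h2
    interval_cases n <;> omega
  have mK : ∀ k ∈ R, Commute k e → Commute k (w * e * w⁻¹) → k ∈ K := fun k hk h1 h2 =>
    (eq_of_le_of_card_ge le2 (card.trans cK.symm).le).ge
      ⟨⟨hk, mem_centralizer_singleton_iff.2 h1.eq⟩, mem_centralizer_singleton_iff.2 h2.eq⟩
  obtain ⟨s, hs, es⟩ := h.inner (A := K) Cm_le (g := t) fun a ha => h.zi_iff.2 ha.2
  obtain ⟨f₁, m₁, g₁, d₁⟩ := exists_f h e2K.1 eK.1 (nc e n1) q2 cK fun r hr x y => mK r hr y x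
  obtain ⟨f₂, m₂, g₂, d₂⟩ := exists_f h eK.1 e2K.1 n1 q1 cK mK
  obtain ⟨c, cK', cc⟩ : ∃ c ∈ K, c * c = i := by
    by_contra! hc
    have := h.minus K Cm_le fun a ha => (h.sq a ha.1).resolve_right (hc a ha)
    omega
  have c'K := w1 c cK'
  have cc' := (sw c cK'.1).trans cc
  refine ⟨s⁻¹ * t, e, w * e * w⁻¹, f₁, f₂, c, w * c * w⁻¹, E,
    by rw [map_mul, (h.ker _).2 (inv_mem hs), one_mul, ht], ⟨eK.1, e2K.1, m₁, m₂, cK'.1, c'K.1⟩,
    ⟨q1, q2, c2 e eK⟩, fun x => ⟨fun hx => ?_, ?_⟩, fun k hk h1 h2 => ?_, fun x hx z => ?_, card,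
    fun k hk h1 h2 k2 => by_contra fun n => ?_, ⟨g₁, d₁, d₂, g₂⟩,
    ⟨c1 c cK', c2 c cK', c1 _ c'K, c2 _ c'K⟩, cc, cc',
    (h.cm c cK'.1 _ c'K.1).resolve_left fun z => h.i1 ?_⟩
  · have p1 : ∀ y ∈ zpowers i ⊔ zpowers e, ∃ a b : Fin 2, y = i ^ a.1 * e ^ b.1 := fun y hy => by
      rcases (a3 y).1 hy with hy | hy <;> rcases h.zi_iff.2 hy with z | z
      · exact ⟨0, 0, by simp [z]⟩
      · exact ⟨1, 0, by simp [z]⟩
      · exact ⟨0, 1, by simp [eq_inv_of_mul_eq_one_right z, inv_eq_of_mul_eq_one_right q1]⟩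
      · exact ⟨1, 1, by simp [eq_inv_mul_of_mul_eq z, inv_eq_of_mul_eq_one_right q1, (h.iB e).eq]⟩
    rcases (b3 x).1 hx with hx | hx <;> obtain ⟨a, b, z⟩ := p1 _ hx
    · exact ⟨a, b, 0, by simp [z]⟩
    · refine ⟨a, b, 1, ?_⟩
      rw [← z, Fin.val_one, pow_one, (c2 _ (le1 hx)).eq, ← mul_assoc, q2, one_mul]
  · rintro ⟨a, b, d, rfl⟩
    exact mul_mem (mem_sup_left (mul_mem (mem_sup_left (npow_mem_zpowers _ _))
      (mem_sup_right (npow_mem_zpowers _ _)))) (mem_sup_right (npow_mem_zpowers _ _))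
  · calc s⁻¹ * t * k = s⁻¹ * (t * k * t⁻¹) * t := by group
      _ = _ := by rw [← es k (mK k hk h1 h2)]; group
  · have : x ∈ K := 
      (Cm_congr (g := s⁻¹ * t) (a := t) cm (by simpa using hs)).le ⟨hx, h.zi_iff.1 z⟩
    exact ⟨c1 x this, c2 x this⟩
  · obtain ⟨d1, d2, -⟩ := adj b1 (cE k h1 h2) k2 n
    have := h.minus _ (sup_le (EK.trans Cm_le) (zpowers_le.2 hk)) d1.sq
    omega
  · have rc := h.wrel hw cK'.1
    have e3 := (sw _ c'K.1).trans cc'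
    have e4 : c * (w * c * w⁻¹) * (c * (w * c * w⁻¹)) = 1 := by
      rw [(commutatorElement_eq_one_iff_commute.1 z).symm.mul_mul_mul_comm, cc, cc', h.ii]
    generalize c * (w * c * w⁻¹) = y at rc e4
    generalize w * (w * c * w⁻¹) * w⁻¹ = v at rc e3
    have e5 : v = y * (y * v) := by rw [← mul_assoc, e4, one_mul]
    rw [← e3, e5, (h.zi_comm rc y).symm.mul_mul_mul_comm, e4, zsq rc, one_mul]

end Cfsg.Lib.C23
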