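import Cfsg.Agent.Recog.C23A2
import Cfsg.Agent.Recog.C23A3
import Cfsg.Agent.S1324

/-!
The decomposition of the extraspecial group of order `128` under an elementary abelian group of order `27`.
-/

set_option autoImplicit false

namespace Cfsg.Lib.C23

open Cfsg Subgroup Cfsg.Lib.Recog.P43 Cfsg.Lib.C22

variable {B : Type*} [Group B] {R : Subgroup B} {π : B →* X} {i : B}

/-- A subgroup of index at most three of `J` with a non-central fixed point on `R`. -/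
structure Gd (R : Subgroup B) (i : B) (J H : Subgroup B) : Prop where
  le : H ≤ J
  idx : H.relIndex J ≤ 3
  ex : ∃ c ∈ R, (∀ y ∈ H, Commute y c) ∧ ¬ Zi i c

theorem card_dvd_of_lt [Finite B] {K L : Subgroup B} (hle : K ≤ L) {x : B} (hx : x ∈ L) (hn : x ∉ K) {n : ℕ}
    (h : Nat.card L ∣ 3 ^ (n + 1)) : Nat.card K ∣ 3 ^ n := by
  obtain ⟨k, hk, e⟩ := (Nat.dvd_prime_pow Nat.prime_three).1 ((card_dvd_of_le hle).trans h)
  rcases hk.eq_or_lt with rfl | hk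
  · exact absurd (eq_of_le_of_card_ge hle (e ▸ Nat.le_of_dvd (by positivity) h) ▸ hx) hn
  · exact e ▸ pow_dvd_pow 3 (Nat.lt_succ_iff.1 hk)

namespace RH

variable [Finite B] (h : RH R π i) {J : Subgroup B} (hJ : J27 J)
include h hJ

theorem zi_of_J {c : B} (hc : c ∈ R) (e : ∀ y ∈ J, Commute y c) : Zi i c := by
  obtain ⟨w, hw, e'⟩ := h.exists_w hJ
  exact h.fpf e' hc (.inl (by rw [(e w hw).eq]; group))

theorem cent_of_gd {g : B} (e : ∀ H, Gd R i J H → ∀ c ∈ R, (∀ y ∈ H, Commute y c) → Commute g c) :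
    ∀ r ∈ R, Commute g r := by
  have : Fact (Nat.Prime 3) := ⟨Nat.prime_three⟩
  have := h.normal
  have h1 := Cfsg.Agent.S1324.result 3 J R
    ⟨⟨⟨fun a b => Subtype.ext (hJ.com a a.2 b b.2).eq⟩⟩, hJ.cube⟩ (by rw [hJ.card]; decide)
    (by rw [h.card]; decide) (by rw [normalizer_eq_top]; exact le_top)
  have h2 : R ≤ centralizer {g} := by
    refine h1.le.trans (iSup_le fun H c hc => mem_centralizer_singleton_iff.2 ?_)
    by_cases z : Zi i c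
    · exact (h.zi_comm z g).eq.symm
    · exact (e H ⟨H.2.1, H.2.2, c, hc.1, fun y hy => hc.2 y hy, z⟩ c hc.1 fun y hy => hc.2 y hy).eq.symm
  exact fun r hr => (mem_centralizer_singleton_iff.1 (h2 hr)).symm

theorem gd_not_le {H : Subgroup B} (g : Gd R i J H) : ¬ J ≤ H := fun c =>
  let ⟨_, h1, h2, h3⟩ := g.ex
  h3 (h.zi_of_J hJ h1 fun y hy => h2 y (c hy))

theorem gd_gen {H : Subgroup B} (g : Gd R i J H) {x : B} (hx : x ∈ J) (hn : x ∉ H) {t : B} (ht : t ∈ J) :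
    ∃ n : ℕ, (x ^ n)⁻¹ * t ∈ H := by
  have : Fact (Nat.Prime 3) := ⟨Nat.prime_three⟩
  have : (H.subgroupOf J).Normal := ⟨fun a ha b => by
    rw [show b * a * b⁻¹ = a from Subtype.ext (by
      change (b : B) * a * (b : B)⁻¹ = a
      rw [(hJ.com b b.2 a a.2).eq, mul_inv_cancel_right])]
    exact ha⟩
  have h3 : Nat.card (J ⧸ H.subgroupOf J) = 3 := by
    have h1 : H.relIndex J ∣ 3 ^ 3 := (relIndex_dvd_card H J).trans hJ.card.dvd
    obtain ⟨k, hk, e⟩ := (Nat.dvd_prime_pow Nat.prime_three).1 h1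
    have h2 := g.idx
    have h4 : H.relIndex J ≠ 1 := fun c => h.gd_not_le hJ g (relIndex_eq_one.1 c)
    change H.relIndex J = 3
    rw [e] at h2 h4 ⊢
    interval_cases k <;> first | rfl | omega
  obtain ⟨n, e⟩ := mem_powers_of_prime_card h3 (g := QuotientGroup.mk ⟨x, hx⟩) (g' := QuotientGroup.mk ⟨t, ht⟩)
    fun c => hn ((QuotientGroup.eq_one_iff (N := H.subgroupOf J) _).1 c)
  exact ⟨n, (QuotientGroup.eq (s := H.subgroupOf J)).1 ((QuotientGroup.mk_pow (H.subgroupOf J) _ n).trans e)⟩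

theorem gd_sep {x : B} (hx : x ∈ J) (h1 : x ≠ 1) : ∃ H, Gd R i J H ∧ x ∉ H := by
  by_contra! c
  exact h1 (h.eq_one_of_cube (h.cent x (h.cent_of_gd hJ fun H g _ _ e => e x (c H g))) (k := 1) (hJ.cube x hx))

omit [Finite B] h in
theorem gd_int {H H' : Subgroup B} (g : Gd R i J H) (g' : Gd R i J H') : ∃ x, x ≠ 1 ∧ x ∈ H ∧ x ∈ H' := by
  by_contra! c
  have h1 : H ⊓ H' = ⊥ := eq_bot_iff.2 fun x hx => by_contra fun n => c x n hx.1 hx.2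
  have h2 := (relIndex_inf_le (H := H) (K := H') (L := J)).trans (Nat.mul_le_mul g.idx g'.idx)
  rw [h1, relIndex_bot_left, hJ.card] at h2
  omega

theorem gd_phi {H : Subgroup B} (g : Gd R i J H) {x : B} (hx : x ∈ J) (hn : x ∉ H) {c : B} (hc : c ∈ R)
    (e : ∀ y ∈ H, Commute y c) : ∃ r ∈ R, (∀ y ∈ H, Commute y r) ∧ Zi i (c⁻¹ * (r * x * r⁻¹ * x⁻¹)) := by
  have cj : ∀ {c : B}, (∀ y ∈ H, Commute y c) → ∀ y ∈ H, Commute y (x * c * x⁻¹) := fun e y hy =>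
    have := (hJ.com x hx y (g.le hy)).symm
    (this.mul_right (e y hy)).mul_right this.inv_right
  refine ⟨_, h.conj_mem x hc, cj e, ?_⟩
  obtain ⟨Y, _, φ, h1, h2, h3⟩ := h.exists_φ
  have hc1 := h.conj_mem x hc
  have hc2 := h.conj_mem x hc1
  have x3 := hJ.cube x hx
  have hN : Zi i (c * (x * c * x⁻¹) * (x * (x * c * x⁻¹) * x⁻¹)) := by
    have hx' : Commute x (c * (x * c * x⁻¹) * (x * (x * c * x⁻¹) * x⁻¹)) := h.comm_of_cube x3 (by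
      rw [show x * (c * (x * c * x⁻¹) * (x * (x * c * x⁻¹) * x⁻¹)) * x⁻¹ =
        x * c * x⁻¹ * (x * (x * c * x⁻¹) * x⁻¹) * (x ^ 3 * c * (x ^ 3)⁻¹) by simp only [pow_three]; group,
        x3, one_mul, inv_one, mul_one, h1, map_mul, map_inv, mul_inv_eq_one, map_mul, h3 _ (mul_mem hc1 hc2) _ hc,
        ← map_mul, ← mul_assoc])
    refine h.zi_of_J hJ (mul_mem (mul_mem hc hc1) hc2) fun t ht => ?_
    obtain ⟨n, hn⟩ := h.gd_gen hJ g hx hn ht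
    rw [← mul_inv_cancel_left (x ^ n) t]
    exact (hx'.pow_left n).mul_left (((e _ hn).mul_right (cj e _ hn)).mul_right (cj (cj e) _ hn))
  rw [show x * c * x⁻¹ * x * (x * c * x⁻¹)⁻¹ * x⁻¹ = x * c * x⁻¹ * (x * (x * c * x⁻¹) * x⁻¹)⁻¹ by group]
  rw [h1] at hN ⊢
  rw [← hN, map_mul, map_mul _ (x * c * x⁻¹), map_inv, map_inv, inv_eq_of_mul_eq_one_right (h2 _ hc),
    inv_eq_of_mul_eq_one_right (h2 _ hc2), map_mul _ _ (x * (x * c * x⁻¹) * x⁻¹), map_mul _ c, mul_assoc (φ c)]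

theorem gd_sq {H : Subgroup B} (g : Gd R i J H) : ∃ c ∈ R, (∀ y ∈ H, Commute y c) ∧ c * c = i := by
  by_contra! n
  have sq : ∀ c ∈ R, (∀ y ∈ H, Commute y c) → c⁻¹ = c := fun c hc e =>
    inv_eq_of_mul_eq_one_right ((h.sq c hc).resolve_right (n c hc e))
  obtain ⟨c, hc, e, z⟩ := g.ex
  refine z (h.ce c hc (h.cent_of_gd hJ fun H' g' c' hc' e' => ?_))
  by_cases hle : H' ≤ H
  · have e'' : ∀ y ∈ H, Commute y c' := fun y hy => e' y (by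
      by_contra m
      refine h.gd_not_le hJ g fun t ht => ?_
      obtain ⟨k, hk⟩ := h.gd_gen hJ g' (g.le hy) m ht
      exact (mul_mem_cancel_left (inv_mem (pow_mem hy k))).1 (hle hk))
    have := sq _ (mul_mem hc hc') fun y hy => (e y hy).mul_right (e'' y hy)
    rw [mul_inv_rev, sq c hc e, sq c' hc' e''] at this
    exact this.symm
  · obtain ⟨x, hx, hn⟩ := SetLike.not_le_iff_exists.1 hle
    obtain ⟨r, hr, -, zr⟩ := h.gd_phi hJ g (g'.le hx) hn hc e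
    have h1 : Commute c' (r * x * r⁻¹ * x⁻¹) := by
      have z1 := h.cm _ hc' _ hr
      have ex : c' * x * c'⁻¹ = x := by rw [← (e' x hx).eq, mul_inv_cancel_right]
      refine mul_inv_eq_iff_eq_mul.1 ?_
      calc c' * (r * x * r⁻¹ * x⁻¹) * c'⁻¹ = c' * r * c'⁻¹ * r⁻¹ * (r * (c' * x * c'⁻¹) * r⁻¹) *
            (c' * r * c'⁻¹ * r⁻¹)⁻¹ * (c' * x * c'⁻¹)⁻¹ := by group
        _ = _ := by rw [ex, ← (h.zi_comm z1 _).eq, mul_inv_cancel_right]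
    rw [show c = r * x * r⁻¹ * x⁻¹ * (c⁻¹ * (r * x * r⁻¹ * x⁻¹))⁻¹ by group]
    exact (h1.mul_right (h.zi_comm zr c').inv_right).symm

theorem gd_r {H : Subgroup B} (g : Gd R i J H) {x : B} (hx : x ∈ J) (hn : x ∉ H) :
    ∃ r ∈ R, r * x * r⁻¹ * x⁻¹ * (r * x * r⁻¹ * x⁻¹) = i ∧ ∀ y ∈ H, Commute r y := by
  obtain ⟨c, hc, e, c2⟩ := h.gd_sq hJ g
  obtain ⟨r, hr, er, z⟩ := h.gd_phi hJ g hx hn hc e
  refine ⟨r, hr, ?_, fun y hy => (er y hy).symm⟩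
  rw [← mul_inv_cancel_left c (r * x * r⁻¹ * x⁻¹)]
  rcases z with z | z <;> rw [z]
  · rw [mul_one, c2]
  · rw [← mul_assoc, mul_assoc c, ← (h.iB c).eq, ← mul_assoc, c2, h.ii, one_mul]

theorem tri : ∃ x r : Fin 3 → B, (∀ k, x k ∈ J) ∧
    (∀ t ∈ J, ∃ n : Fin 3 → ℕ, t = x 0 ^ n 0 * x 1 ^ n 1 * x 2 ^ n 2) ∧ ∀ k, r k ∈ R ∧
    r k * x k * (r k)⁻¹ * (x k)⁻¹ * (r k * x k * (r k)⁻¹ * (x k)⁻¹) = i ∧ ∀ l, l ≠ k → Commute (r k) (x l) := by
  obtain ⟨⟨u, hu⟩, u1⟩ := ne_bot_iff_exists_ne_one.1 fun c : J = ⊥ => by simpa [c] using hJ.card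
  obtain ⟨H0, g0, u0⟩ := h.gd_sep hJ hu fun c => u1 (Subtype.ext c)
  obtain ⟨v, v1, v0, -⟩ := gd_int hJ g0 g0
  obtain ⟨H1, g1, n1⟩ := h.gd_sep hJ (g0.le v0) v1
  obtain ⟨x2, e2, x20, x21⟩ := gd_int hJ g0 g1
  obtain ⟨H2, g2, n2⟩ := h.gd_sep hJ (g0.le x20) e2
  obtain ⟨x0, e0, x01, x02⟩ := gd_int hJ g1 g2
  obtain ⟨x1, e1, x10, x12⟩ := gd_int hJ g0 g2
  have bot : ∀ y, y ∈ H0 → y ∈ H1 → y ∈ H2 → y = 1 := by
    have c0 := card_dvd_of_lt g0.le hu u0 (n := 2) hJ.card.dvd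
    have c1 := card_dvd_of_lt (K := H0 ⊓ H1) inf_le_left v0 (fun c => n1 c.2) c0
    have c2 := card_dvd_of_lt (K := H0 ⊓ H1 ⊓ H2) inf_le_left ⟨x20, x21⟩ (fun c => n2 c.2) c1
    exact fun y y0 y1 y2 => mem_bot.1 (card_eq_one.1 (Nat.dvd_one.1 c2) ▸ (⟨⟨y0, y1⟩, y2⟩ : y ∈ H0 ⊓ H1 ⊓ H2))
  have n0 : x0 ∉ H0 := fun c => e0 (bot _ c x01 x02)
  have n1 : x1 ∉ H1 := fun c => e1 (bot _ x10 c x12)
  obtain ⟨r0, a0, b0, c0⟩ := h.gd_r hJ g0 (g1.le x01) n0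
  obtain ⟨r1, a1, b1, c1⟩ := h.gd_r hJ g1 (g0.le x10) n1
  obtain ⟨r2, a2, b2, c2⟩ := h.gd_r hJ g2 (g0.le x20) n2
  refine ⟨![x0, x1, x2], ![r0, r1, r2], fun k => ?_, fun t ht => ?_, fun k => ?_⟩
  · fin_cases k
    exacts [g1.le x01, g0.le x10, g0.le x20]
  · obtain ⟨k0, m0⟩ := h.gd_gen hJ g0 (g1.le x01) n0 ht
    obtain ⟨k1, m1⟩ := h.gd_gen hJ g1 (g0.le x10) n1 (g0.le m0)
    obtain ⟨k2, m2⟩ := h.gd_gen hJ g2 (g0.le x20) n2 (g1.le m1)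
    refine ⟨![k0, k1, k2], ?_⟩
    have := bot _ (mul_mem (inv_mem (pow_mem x20 k2)) (mul_mem (inv_mem (pow_mem x10 k1)) m0))
      (mul_mem (inv_mem (pow_mem x21 k2)) m1) m2
    rw [inv_mul_eq_one, eq_inv_mul_iff_mul_eq, eq_inv_mul_iff_mul_eq, ← mul_assoc] at this
    exact this.symm
  · fin_cases k
    · refine ⟨a0, b0, fun l hl => ?_⟩
      fin_cases l
      exacts [absurd rfl hl, c0 _ x10, c0 _ x20]
    · refine ⟨a1, b1, fun l hl => ?_⟩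
      fin_cases l
      exacts [c1 _ x01, absurd rfl hl, c1 _ x21]
    · refine ⟨a2, b2, fun l hl => ?_⟩
      fin_cases l
      exacts [c2 _ x02, c2 _ x12, absurd rfl hl]

end RH

end Cfsg.Lib.C23
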