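import Cfsg.Agent.Recog.C23Api

/-!
The decomposition of the module into four blocks.
-/

set_option autoImplicit false

namespace Cfsg.Lib.C23

open Cfsg Subgroup Cfsg.Lib.Recog.P43 Cfsg.Lib.C22

variable {B : Type*} [Group B] {R E : Subgroup B} {π : B →* X} {i t e₁ e₂ f₁ f₂ c c' g g' : B}
  {V : Type*} [AddCommGroup V] [Module F3 V] [DistribMulAction B V]

namespace B1

variable (V) in
/-- An eigenspace. -/
def Eig (g : B) (a : F3) : Submodule F3 V where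
  carrier := {v | g • v = a • v}
  add_mem' := fun {v w} h h' => show g • (v + w) = a • (v + w) by rw [smul_add, h, h', smul_add]
  zero_mem' := show g • (0 : V) = a • 0 by rw [smul_zero, smul_zero]
  smul_mem' := fun k v h => show g • k • v = a • k • v by rw [smul_comm3, h, smul_comm]

theorem Eig_eq_1' : type_of% @Eig.eq_1 := @Eig.eq_1

theorem eig_smul (h : Commute g g') {a : F3} {v : V} (hv : v ∈ Eig V g a) : g' • v ∈ Eig V g a :=
  show g • g' • v = a • g' • v by rw [← mul_smul, h.eq, mul_smul, hv, smul_comm3]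

theorem eig_proj (h : g * g = 1) {a : F3} (ha : a * a = 1) (v : V) : v + a • g • v ∈ Eig V g a :=
  show g • (v + a • g • v) = a • (v + a • g • v) by
    rw [smul_add, smul_add, smul_comm3, ← mul_smul g, h, ← mul_smul, ha, one_smul, one_smul, add_comm]

theorem proj (S : SP B V) (h : g * g = 1) {a : F3} (ha : a * a = 1) {u : V} (hu : u ∈ Eig V g a)
    {U : Submodule F3 V} (hU : ∀ v ∈ U, g • v ∈ U) (e : ∃ w ∈ U, S.b u w ≠ 0) :
    ∃ w ∈ U ⊓ Eig V g a, S.b u w ≠ 0 := by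
  obtain ⟨w, hw, e⟩ := e
  refine ⟨_, ⟨U.add_mem hw (U.smul_mem a (hU w hw)), eig_proj h ha w⟩, ?_⟩
  have := S.pres g u w
  rw [show g • u = a • u from hu, LinearMap.map_smul₂] at this
  rw [map_add, map_smul, this]
  exact (by decide : ∀ x : F3, x ≠ 0 → x + x ≠ 0) _ e

theorem nz (h : g * g = 1) {U : Submodule F3 V} (hU : ∀ v ∈ U, g • v ∈ U) (e : ∃ w ∈ U, w ≠ 0) :
    ∃ a : F3, a * a = 1 ∧ ∃ w ∈ U ⊓ Eig V g a, w ≠ 0 := by
  obtain ⟨w, hw, e⟩ := e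
  by_cases h0 : w + (1 : F3) • g • w = 0
  · exact ⟨-1, by decide, w, ⟨hw, show g • w = (-1 : F3) • w by
      rw [one_smul] at h0; rw [neg_smul, one_smul, eq_neg_of_add_eq_zero_right h0]⟩, e⟩
  · exact ⟨1, rfl, _, ⟨U.add_mem hw (U.smul_mem 1 (hU w hw)), eig_proj h rfl w⟩, h0⟩

theorem orth (S : SP B V) {a a' : F3} (h : a * a' = -1) {u w : V} (hu : u ∈ Eig V g a)
    (hw : w ∈ Eig V g a') : S.b u w = 0 := by
  have := S.pres g u w
  rw [show g • u = a • u from hu, show g • w = a' • w from hw, map_smul, map_smul,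
    LinearMap.smul_apply, smul_smul, mul_comm, h] at this
  exact (by decide : ∀ x : F3, -1 * x = x → x = 0) _ this

theorem flip (h : RH R π i) {f e : B} (hf : f * e * f⁻¹ = i * e) {a : F3} {v : V}
    (h1 : v ∈ Eig V i (-1)) (h2 : v ∈ Eig V e a) : f • v ∈ Eig V e (-a) := by
  have e1 : e * f = f * (i * e) := by
    rw [← mul_assoc, (h.iB f).eq, mul_assoc, eq_mul_of_mul_inv_eq hf, ← mul_assoc, ← mul_assoc, h.ii,
      one_mul]
  show e • f • v = (-a) • f • v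
  rw [← mul_smul, e1, mul_smul, mul_smul, h2, smul_comm3 i, h1, smul_smul, smul_comm3, mul_neg_one]

/-- The signs of `e₁`. -/
def al : Fin 4 → F3 := ![1, -1, 1, -1]
/-- The signs of `e₂`. -/
def be : Fin 4 → F3 := ![1, 1, -1, -1]
/-- The signs of `d k`. -/
def de (k j : Fin 4) : F3 := if j = k then -1 else 1

theorem al_eq_1' : type_of% @al.eq_1 := @al.eq_1
theorem be_eq_1' : type_of% @be.eq_1 := @be.eq_1
theorem de_eq_1' : type_of% @de.eq_1 := @de.eq_1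

variable (V) in
/-- The blocks. -/
abbrev Blk (i e₁ e₂ : B) (k : Fin 4) : Submodule F3 V :=
  Eig V i (-1) ⊓ Eig V e₁ (al k) ⊓ Eig V e₂ (be k)

theorem mv (h : RH R π i) (hF : FM R π i t e₁ e₂ f₁ f₂ c c' E) (k l : Fin 4) :
    ∃ r ∈ R, ∃ σ : Fin 4 → Fin 4, (∀ j, σ j = k ↔ j = l) ∧
      ∀ j, ∀ v ∈ Blk V i e₁ e₂ j, r • v ∈ Blk V i e₁ e₂ (σ j) := by
  have m1 : ∀ j, ∀ v ∈ Blk V i e₁ e₂ j, f₁ • v ∈ Blk V i e₁ e₂ (![1, 0, 3, 2] j) := fun j v hv => by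
    rw [Blk, (by decide : ∀ j, al (![1, 0, 3, 2] j) = -al j),
      (by decide : ∀ j, be (![1, 0, 3, 2] j) = be j)]
    exact ⟨⟨eig_smul (h.iB f₁).symm hv.1.1, flip h hF.ff.1 hv.1.1 hv.1.2⟩,
      eig_smul hF.ff.2.1.symm hv.2⟩
  have m2 : ∀ j, ∀ v ∈ Blk V i e₁ e₂ j, f₂ • v ∈ Blk V i e₁ e₂ (![2, 3, 0, 1] j) := fun j v hv => by
    rw [Blk, (by decide : ∀ j, al (![2, 3, 0, 1] j) = al j),
      (by decide : ∀ j, be (![2, 3, 0, 1] j) = -be j)]
    exact ⟨⟨eig_smul (h.iB f₂).symm hv.1.1, eig_smul hF.ff.2.2.1.symm hv.1.2⟩,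
      flip h hF.ff.2.2.2 hv.1.1 hv.2⟩
  rcases (by decide : ∀ k l : Fin 4, (∀ j, j = k ↔ j = l) ∨ (∀ j, ![1, 0, 3, 2] j = k ↔ j = l) ∨
    (∀ j, ![2, 3, 0, 1] j = k ↔ j = l) ∨ ∀ j, ![1, 0, 3, 2] (![2, 3, 0, 1] j) = k ↔ j = l) k l
    with e | e | e | e
  · exact ⟨1, one_mem _, id, e, fun j v hv => by rwa [one_smul]⟩
  · exact ⟨_, hF.eR.2.2.1, _, e, m1⟩
  · exact ⟨_, hF.eR.2.2.2.1, _, e, m2⟩
  · exact ⟨_, mul_mem hF.eR.2.2.1 hF.eR.2.2.2.1, _, e, fun j v hv => by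
      rw [mul_smul]; exact m1 _ _ (m2 j v hv)⟩

theorem smul_blk (h : RH R π i) (h1 : Commute g e₁) (h2 : Commute g e₂) {k : Fin 4} {v : V}
    (hv : v ∈ Blk V i e₁ e₂ k) : g • v ∈ Blk V i e₁ e₂ k :=
  ⟨⟨eig_smul (h.iB g).symm hv.1.1, eig_smul h1.symm hv.1.2⟩, eig_smul h2.symm hv.2⟩

theorem orth_blk (S : SP B V) {k l : Fin 4} (ne : k ≠ l) {u w : V} (hu : u ∈ Blk V i e₁ e₂ k)
    (hw : w ∈ Blk V i e₁ e₂ l) : S.b u w = 0 := by
  rcases (by decide : ∀ k l, k ≠ l → al k * al l = -1 ∨ be k * be l = -1) k l ne with e | e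
  exacts [orth S e hu.1.2 hw.1.2, orth S e hu.2 hw.2]

theorem exists_pair (S : SP B V) (h : RH R π i) (hF : FM R π i t e₁ e₂ f₁ f₂ c c' E) (k : Fin 4) :
    ∃ u ∈ Blk V i e₁ e₂ k, ∃ w ∈ Blk V i e₁ e₂ k, S.b u w = 1 := by
  have i1 : ∀ v ∈ Eig V i (-1), e₁ • v ∈ Eig V i (-1) := fun v => eig_smul (h.iB _).symm
  have i2 : ∀ a, ∀ v ∈ Eig V i (-1) ⊓ Eig V e₁ a, e₂ • v ∈ Eig V i (-1) ⊓ Eig V e₁ a :=
    fun a v hv => ⟨eig_smul (h.iB _).symm hv.1, eig_smul hF.ee.2.2 hv.2⟩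
  obtain ⟨a, ha, e⟩ := nz hF.ee.1 i1 (by
    by_contra! hc
    refine h.i1 (S.faith i fun v => ?_)
    have := hc _ (eig_proj h.ii (a := -1) (by decide) v)
    rwa [neg_smul, one_smul, add_neg_eq_zero, eq_comm] at this)
  obtain ⟨b, hb, v, hv, v0⟩ := nz hF.ee.2.1 (i2 a) e
  obtain ⟨l, rfl, rfl⟩ :=
    (by decide : ∀ a b : F3, a * a = 1 → b * b = 1 → ∃ l, a = al l ∧ b = be l) a b ha hb
  obtain ⟨r, -, σ, h1, h2⟩ := mv (V := V) h hF k l
  have hu := (h1 l).2 rfl ▸ h2 l v hv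
  obtain ⟨w, hw, e⟩ := proj S hF.ee.2.1 ((by decide : ∀ k, be k * be k = 1) k) hu.2 (i2 _)
    (proj S hF.ee.1 ((by decide : ∀ k, al k * al k = 1) k) hu.1.2 i1 (by
      obtain ⟨w, hw, e⟩ := proj S h.ii (by decide) hu.1.1 (U := ⊤) (fun _ _ => trivial) (by
        by_contra! hc
        exact v0 ((smul_eq_zero_iff_eq r).1 (S.nd _ fun w => by rw [S.swap, hc w trivial, neg_zero])))
      exact ⟨w, hw.2, e⟩))
  refine ⟨_, hu, S.b (r • v) w • w, Submodule.smul_mem _ _ hw, ?_⟩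
  rw [map_smul]
  exact (by decide : ∀ x : F3, x ≠ 0 → x * x = 1) _ e

theorem exists_e (S : SP B V) (h : RH R π i) (hF : FM R π i t e₁ e₂ f₁ f₂ c c' E) :
    ∃ (e : (Fin 4 → V2) ≃ₗ[F3] V) (u w : Fin 4 → V), (∀ k, u k ∈ Blk V i e₁ e₂ k) ∧
      (∀ k, w k ∈ Blk V i e₁ e₂ k) ∧ (∀ v, e v = ∑ k, ((v k).1 • u k + (v k).2 • w k)) ∧
      (∀ v v', S.b (e v) (e v') = ∑ k, b2 (v k) (v' k)) ∧ (∀ k, u k ≠ 0) ∧
      ∀ k, ∀ y ∈ Blk V i e₁ e₂ k, ∃ a b : F3, y = a • u k + b • w k := by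
  choose u hu w hw e using exists_pair S h hF
  let φ : (Fin 4 → V2) →ₗ[F3] V :=
    { toFun := fun v => ∑ k, ((v k).1 • u k + (v k).2 • w k)
      map_add' := fun v v' => by
        simp only [Pi.add_apply, Prod.fst_add, Prod.snd_add, add_smul, Finset.sum_add_distrib]; abel
      map_smul' := fun a v => by
        simp only [Pi.smul_apply, Prod.smul_fst, Prod.smul_snd, smul_eq_mul, mul_smul,
          Finset.smul_sum, smul_add, RingHom.id_apply] }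
  have m : ∀ (v : Fin 4 → V2) k, (v k).1 • u k + (v k).2 • w k ∈ Blk V i e₁ e₂ k := fun v k =>
    Submodule.add_mem _ (Submodule.smul_mem _ _ (hu k)) (Submodule.smul_mem _ _ (hw k))
  have one : ∀ k, ∀ y ∈ Blk V i e₁ e₂ k, ∀ v,
      S.b y (φ v) = S.b y ((v k).1 • u k + (v k).2 • w k) := fun k y hy v =>
    (map_sum (S.b y) _ _).trans (Fintype.sum_eq_single k
      fun l ne => orth_blk S ne.symm hy (m v l))
  have form : ∀ v v', S.b (φ v) (φ v') = ∑ k, b2 (v k) (v' k) := fun v v' => by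
    refine (LinearMap.map_sum₂ S.b Finset.univ (fun k => (v k).1 • u k + (v k).2 • w k) _).trans
      (Finset.sum_congr rfl fun k _ => ?_)
    rw [one k _ (m v k)]
    simp only [map_add, map_smul, LinearMap.add_apply, LinearMap.smul_apply, S.alt, e,
      S.swap (u k) (w k), b2, smul_eq_mul]
    ring
  have inj : Function.Injective φ := (injective_iff_map_eq_zero φ).2 fun v hv => funext fun k => by
    have h1 := one k _ (hu k) v
    have h2 := one k _ (hw k) v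
    simp only [hv, map_zero, map_add, map_smul, S.alt, e, S.swap (u k) (w k), smul_eq_mul] at h1 h2
    exact Prod.ext (by simpa using h2) (by simpa using h1.symm)
  have := S.finite
  have bij := (Nat.bijective_iff_injective_and_card φ).2 ⟨inj, by rw [S.card]; simp⟩
  refine ⟨.ofBijective φ bij, u, w, hu, hw, fun _ => rfl, form,
    fun k h0 => absurd (e k) (by simp [h0]), fun k y hy => ?_⟩
  obtain ⟨v, rfl⟩ := bij.2 y
  refine ⟨(v k).1, (v k).2, 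
    Fintype.sum_eq_single (f := fun k => (v k).1 • u k + (v k).2 • w k) k fun l ne => ?_⟩
  have h1 := (one l _ (hu l) v).symm.trans (orth_blk S ne (hu l) hy)
  have h2 := (one l _ (hw l) v).symm.trans (orth_blk S ne (hw l) hy)
  simp only [map_add, map_smul, S.alt, e, S.swap (u l) (w l), smul_eq_mul] at h1 h2
  rw [show (v l).1 = 0 by simpa using h2, show (v l).2 = 0 by simpa using h1]
  simp

/-- an operator commuting with a quaternion group on a plane is a scalar -/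
theorem scalar {W : Submodule F3 V} {u w : V} (u0 : u ≠ 0) (hu : u ∈ W)
    (sp : ∀ y ∈ W, ∃ a b : F3, y = a • u + b • w) (h1 : ∀ y ∈ W, c • y ∈ W)
    (h2 : ∀ y ∈ W, c' • y ∈ W) (h3 : ∀ y ∈ W, t • y ∈ W) (h4 : c • c • u = -u)
    (h5 : c' • c • u = -(c • c' • u)) (h6 : Commute t c) (h7 : Commute t c') :
    ∃ a : F3, a * a = 1 ∧ ∀ y ∈ W, t • y = a • y := by
  obtain ⟨x, y, e⟩ := sp _ (h1 u hu)
  have y0 : y * y = 1 := (by decide : ∀ x : F3, x ≠ 0 → x * x = 1) y fun y0 => by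
    rw [y0, zero_smul, add_zero] at e
    rw [e, smul_comm3, e, smul_smul, ← add_eq_zero_iff_eq_neg] at h4
    exact u0 ((smul_eq_zero.1 ((add_smul _ _ _).trans (by rwa [one_smul]))).resolve_left
      ((by decide : ∀ x : F3, x * x + 1 ≠ 0) x))
  have sp' : ∀ z ∈ W, ∃ a b : F3, z = a • u + b • c • u := fun z hz => by
    obtain ⟨a, b, rfl⟩ := sp z hz
    refine ⟨a - b * y * x, b * y, ?_⟩
    rw [e, smul_add, smul_smul, smul_smul, mul_assoc b y y, y0, mul_one, sub_smul]; abel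
  obtain ⟨a, b, et⟩ := sp' _ (h3 u hu)
  have all : ∀ z ∈ W, t • z = a • z + b • c • z := fun z hz => by
    obtain ⟨p, q, rfl⟩ := sp' z hz
    simp only [smul_add, smul_comm3, ← mul_smul t c, h6.eq, mul_smul c t, et]
    generalize c • c • u = u₂
    generalize c • u = u₁
    module
  have e2 := all _ (h2 u hu)
  rw [← mul_smul t, h7.eq, mul_smul, et, smul_add, smul_comm3, smul_comm3, h5, add_right_inj,
    smul_neg, eq_comm] at e2
  obtain rfl : b = 0 := (smul_eq_zero.1 (eq_zero_of_eq_neg e2)).resolve_right fun e3 =>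
    u0 ((smul_eq_zero_iff_eq c').1 ((smul_eq_zero_iff_eq c).1 e3))
  simp only [zero_smul, add_zero] at all et
  refine ⟨a, (by decide : ∀ x : F3, x ≠ 0 → x * x = 1) a fun a0 => u0 ?_, all⟩
  rwa [a0, zero_smul, smul_eq_zero_iff_eq] at et

end B1

open B1

theorem FM.exists_BK [Finite B] (S : SP B V) (h : RH R π i) {t e₁ e₂ f₁ f₂ c c' : B}
    {E : Subgroup B} (hF : FM R π i t e₁ e₂ f₁ f₂ c c' E) : ∃ e d, BK S R π i e d c c' := by
  obtain ⟨e, u, w, hu, hw, he, form, u0, sp⟩ := exists_e S h hF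
  obtain ⟨m1, m2, -, -, mc, mc'⟩ := hF.eR
  obtain ⟨c1, c2, c3, c4⟩ := hF.ce
  let Pat : B → (Fin 4 → F3) → Prop := fun g ε => ∀ k, ∀ v ∈ Blk V i e₁ e₂ k, g • v = ε k • v
  have pact : ∀ {g ε}, Pat g ε → ∀ v, g • e v = e fun j => ε j • v j := fun {g ε} hg v => by
    rw [he, he, Finset.smul_sum]
    refine Finset.sum_congr rfl fun k _ => ?_
    rw [smul_add, smul_comm3, smul_comm3, hg k _ (hu k), hg k _ (hw k), smul_smul, smul_smul,
      mul_comm, mul_comm _ (ε k)]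
    rfl
  have pinj : ∀ {g g' ε ε'}, Pat g ε → Pat g' ε' → ε = ε' → g = g' := fun hg hg' e1 =>
    S.ext fun v => by obtain ⟨v, rfl⟩ := e.surjective v; rw [pact hg, pact hg', e1]
  have pmul : ∀ {g g' ε ε'}, Pat g ε → Pat g' ε' → Pat (g * g') (ε * ε') := fun hg hg' k v hv => by
    rw [mul_smul, hg' k v hv, smul_comm3, hg k v hv, smul_smul, mul_comm]; rfl
  have pone : Pat 1 1 := fun k v _ => by simp
  have ppow : ∀ {g ε}, Pat g ε → ∀ n : Fin 2, Pat (g ^ n.1) (ε ^ n.1) := fun hg n => by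
    fin_cases n <;> simpa using by first | exact hg | exact pone
  have pi : Pat i (-1) := fun k v hv => hv.1.1
  have pE : ∀ a b d : Fin 2, Pat (i ^ a.1 * e₁ ^ b.1 * e₂ ^ d.1) ((-1) ^ a.1 * al ^ b.1 * be ^ d.1) :=
    fun a b d => pmul (pmul (ppow pi a) (ppow (fun k v hv => hv.1.2) b)) (ppow (fun k v hv => hv.2) d)
  have cE : ∀ r, Commute r e₁ → Commute r e₂ → ∀ x ∈ E, Commute r x := fun r h1 h2 x hx => by
    obtain ⟨a, b, d, rfl⟩ := (hF.mem x).1 hx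
    exact (((h.iB r).pow_right _).mul_right (h1.pow_right _)).mul_right (h2.pow_right _)
  have ER : ∀ x ∈ E, x ∈ R := fun x hx => by
    obtain ⟨a, b, d, rfl⟩ := (hF.mem x).1 hx
    exact mul_mem (mul_mem (pow_mem h.iR _) (pow_mem m1 _)) (pow_mem m2 _)
  have ex : ∀ ε : Fin 4 → F3, (∀ k, ε k * ε k = 1) → ε 0 * ε 1 * ε 2 * ε 3 = 1 →
      ∃ x ∈ E, Pat x ε := fun ε h1 h2 => by
    obtain ⟨a, b, d, rfl⟩ := (by decide : ∀ ε : Fin 4 → F3, (∀ k, ε k * ε k = 1) →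
      ε 0 * ε 1 * ε 2 * ε 3 = 1 → ∃ a b d : Fin 2, ε = (-1) ^ a.1 * al ^ b.1 * be ^ d.1) ε h1 h2
    exact ⟨_, (hF.mem _).2 ⟨a, b, d, rfl⟩, pE a b d⟩
  have neg1 : ∀ {k y}, y ∈ Blk V i e₁ e₂ k → i • y = -y := fun hy =>
    hy.1.1.trans (neg_one_smul F3 _)
  choose τ τ2 pt using fun k => scalar (t := t) (c := c) (c' := c') (u0 k) (hu k) (sp k)
    (fun _ => smul_blk h c1 c2) (fun _ => smul_blk h c3 c4)
    (fun _ => smul_blk h (hF.tc _ m1 (.refl _) hF.ee.2.2) (hF.tc _ m2 hF.ee.2.2.symm (.refl _)))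
    (by rw [← mul_smul, hF.cc.1, neg1 (hu k)])
    (by rw [← mul_smul, ← mul_smul, eq_mul_of_mul_inv_eq (eq_mul_of_mul_inv_eq hF.cc.2.2), mul_assoc,
      mul_smul i, neg1 (smul_blk h (c3.mul_left c1) (c4.mul_left c2) (hu k)), neg_neg])
    (hF.tc c mc c1 c2) (hF.tc c' mc' c3 c4)
  have τp : τ 0 * τ 1 * τ 2 * τ 3 ≠ 1 := fun e1 => by
    obtain ⟨x, hx, px⟩ := ex τ τ2 e1
    exact absurd (hF.πt.symm.trans ((h.ker t).2 (pinj pt px rfl ▸ ER x hx))) (by decide)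
  have key := (by decide : ∀ τ : Fin 4 → F3, (∀ k, τ k * τ k = 1) → τ 0 * τ 1 * τ 2 * τ 3 ≠ 1 →
    ∀ k, (∀ j, (τ * de k) j * (τ * de k) j = 1) ∧ τ * (τ * de k) = de k ∧
      (τ * de k) 0 * (τ * de k) 1 * (τ * de k) 2 * (τ * de k) 3 = 1) τ τ2 τp
  choose x hx px using fun k => ex _ (key k).1 (key k).2.2
  have pd : ∀ k, Pat (t * x k) (de k) := fun k => (key k).2.1 ▸ pmul pt (px k)
  have πd : ∀ k, π (t * x k) = X.t := fun k => by
    rw [map_mul, (h.ker _).2 (ER _ (hx k)), mul_one, hF.πt]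
  have cd : ∀ r ∈ R, Commute r e₁ ∧ Commute r e₂ → ∀ k, Commute r (t * x k) := fun r hr hc k =>
    (hF.tc r hr hc.1 hc.2).symm.mul_right (cE r hc.1 hc.2 _ (hx k))
  have dc : ∀ r ∈ R, Zi i (t * x 0 * r * (t * x 0)⁻¹ * r⁻¹) → Commute r e₁ ∧ Commute r e₂ :=
    fun r hr z => hF.tC r hr (by
      have z1 := h.cm _ (inv_mem (ER _ (hx 0))) r hr
      rw [← h.zi_conj z1 (t * x 0)] at z1
      convert h.zi_mul z1 z using 1
      group)
  have dc' : ∀ r ∈ R, Commute r (t * x 0) → Commute r e₁ ∧ Commute r e₂ := fun r hr hc =>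
    dc r hr (.inl (by rw [← hc.eq]; group))
  refine ⟨e, fun k => t * x k, fun v => ?_, form, fun k v => ?_, πd, fun k l => ?_,
    fun s hs s2 => ?_, ?_, fun r hr hc => cd r hr (dc' r hr hc),
    ⟨mc, mc', cd c mc ⟨c1, c2⟩ 0, cd c' mc' ⟨c3, c4⟩ 0⟩, hF.cc⟩
  · obtain ⟨v, rfl⟩ := e.surjective v
    rw [pact pi, ← map_neg]
    exact congrArg e (funext fun j => neg_one_smul F3 _)
  · rw [pact (pd k)]
    exact congrArg e (funext fun j => by unfold de; split_ifs <;> simp)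
  · obtain ⟨r, hr, σ, h1, h2⟩ := mv (V := V) h hF k l
    refine ⟨r⁻¹, inv_mem hr, pinj (ε := de l) (fun j v hv => ?_) (pd l) rfl⟩
    rw [inv_inv, mul_smul, mul_smul, pd k _ _ (h2 j v hv), smul_comm3, inv_smul_smul]
    simp only [de, h1]
  · have d2 : t * x 0 * (t * x 0) = 1 := pinj (pmul (pd 0) (pd 0)) pone (by decide)
    obtain ⟨r, rfl⟩ : ∃ r, s = t * x 0 * r := ⟨_, (mul_inv_cancel_left _ s).symm⟩
    have hr : r ∈ R := (h.ker r).1 (by rwa [map_mul, πd, mul_eq_left] at hs)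
    have hc := dc r hr (by
      rw [inv_eq_of_mul_eq_one_right d2, eq_inv_of_mul_eq_one_left ((mul_assoc _ _ r).trans s2),
        ← mul_inv_rev]
      exact h.zi_inv (h.sq r hr))
    rw [(cd r hr hc 0).mul_mul_mul_comm, d2, one_mul] at s2
    obtain ⟨a, b, d, rfl⟩ := (hF.mem r).1 (hF.inv r hr hc.1 hc.2 s2)
    obtain ⟨k, e1⟩ := (by decide : ∀ a b d : Fin 2, ∃ k,
      de 0 * ((-1) ^ a.1 * al ^ b.1 * be ^ d.1) = de k ∨
      de 0 * ((-1) ^ a.1 * al ^ b.1 * be ^ d.1) = -1 * de k) a b d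
    exact ⟨k, e1.imp (pinj (pmul (pd 0) (pE a b d)) (pd k))
      (pinj (pmul (pd 0) (pE a b d)) (pmul pi (pd k)))⟩
  · rw [← hF.card]
    congr 2
    ext r
    simp only [mem_inf, mem_centralizer_singleton_iff, and_assoc]
    exact and_congr_right fun hr => ⟨fun hc => dc' r hr hc, fun hc => cd r hr hc 0⟩

end Cfsg.Lib.C23
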