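import Cfsg.Agent.Recog.C23A5
import Cfsg.Agent.Recog.C23A2

/-!
Fixed spaces of elements of order three and of elements of the extraspecial `2`-group.
-/

set_option autoImplicit false

namespace Cfsg.Lib.C23

open Cfsg Subgroup Cfsg.Lib.Recog.P43 Cfsg.Lib.C22

variable {B : Type*} [Group B] {R : Subgroup B} {π : B →* X} {i : B}
variable {V : Type*} [AddCommGroup V] [Module F3 V] [DistribMulAction B V]

namespace B2

variable (V) in
/-- The action of an element as a linear map. -/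
def AM (g : B) : V →ₗ[F3] V where
  toFun v := g • v
  map_add' := smul_add g
  map_smul' k v := smul_comm3 g k v

theorem AM_apply (g : B) (v : V) : AM V g v = g • v := rfl

theorem card_map_AM (g : B) (U : Submodule F3 V) : Nat.card (U.map (AM V g)) = Nat.card U :=
  (Nat.card_congr (Submodule.equivMapOfInjective (AM V g) (MulAction.injective g) U).toEquiv).symm

theorem zero_of {r x : B} (hc : ∀ v : V, (r * x * r⁻¹ * x⁻¹) • v = v → v = 0) {u : V} (h1 : x • u = u)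
    (h2 : x • r • u = r • u) : u = 0 := by
  have e : r • u = 0 := hc _ (by
    rw [mul_smul, inv_smul_eq_iff.2 h2.symm, mul_smul, inv_smul_smul, mul_smul, h1])
  exact (smul_eq_zero_iff_eq r).1 e

theorem half (S : SP B V) {r x : B} (hc : ∀ v : V, (r * x * r⁻¹ * x⁻¹) • v = v → v = 0) (W : Submodule F3 V)
    (hW : ∀ v ∈ W, r • v ∈ W) : Nat.card ↥(W ⊓ Fix V x) * Nat.card ↥(W ⊓ Fix V x) ≤ Nat.card W := by
  nth_rewrite 2 [← card_map_AM r]
  refine S.card_mul_le inf_le_left ?_ ?_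
  · rintro _ ⟨u, hu, rfl⟩
    exact hW u hu.1
  · rintro _ hv ⟨u, hu, rfl⟩
    rw [zero_of hc hu.2 hv.2, map_zero]

theorem of_sq (hn : ∀ v : V, i • v = -v) {c : B} (hc : c * c = i) (v : V) (e : c • v = v) : v = 0 :=
  eq_zero_of_eq_neg (by rw [← hn, ← hc, mul_smul, e, e])

theorem half_top (S : SP B V) {r x : B} (hc : ∀ v : V, (r * x * r⁻¹ * x⁻¹) • v = v → v = 0) :
    Nat.card (Fix V x) ≤ 81 := by
  have := half S hc ⊤ fun _ _ => trivial
  rw [top_inf_eq, Nat.card_congr Submodule.topEquiv.toEquiv, S.card] at this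
  nlinarith

theorem fix_inv {r x : B} (h : Commute r x) {v : V} (hv : v ∈ Fix V x) : r • v ∈ Fix V x := by
  rw [mem_Fix, smul_smul, ← h.eq, mul_smul, hv]

theorem card_span {w : V} (hw : w ≠ 0) : Nat.card (Submodule.span F3 {w}) = 3 := by
  have : Fact (Nat.Prime 3) := ⟨Nat.prime_three⟩
  rw [Module.natCard_eq_pow_finrank (K := F3), finrank_span_singleton hw, Nat.card_zmod, pow_one]

theorem span_of (S : SP B V) {U : Submodule F3 V} (hU : Nat.card U ≤ 3) {w : V} (hw : w ∈ U) (h0 : w ≠ 0)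
    {v : V} (hv : v ∈ U) : ∃ k : F3, k • w = v := by
  have := S.eq_of_card ((Submodule.span_singleton_le_iff_mem w U).2 hw) (by rw [card_span h0]; exact hU)
  exact Submodule.mem_span_singleton.1 (this ▸ hv)

theorem pow_fix {x : B} {v : V} (h : x • v = v) (n : ℕ) : x ^ n • v = v := by
  induction n with
  | zero => rw [pow_zero, one_smul]
  | succ n ih => rw [pow_succ, mul_smul, h, ih]

theorem three (S : SP B V) {a b c ra rb rc : B} (ha : ∀ v : V, (ra * a * ra⁻¹ * a⁻¹) • v = v → v = 0)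
    (hb : ∀ v : V, (rb * b * rb⁻¹ * b⁻¹) • v = v → v = 0) (hc : ∀ v : V, (rc * c * rc⁻¹ * c⁻¹) • v = v → v = 0)
    (h1 : Commute ra b) (h2 : Commute ra c) (h3 : Commute rb c) :
    Nat.card ↥(Fix V c ⊓ Fix V b) ≤ 9 ∧ Nat.card ↥(Fix V c ⊓ Fix V b ⊓ Fix V a) ≤ 3 := by
  have e1 := half_top S hc
  have e2 := half S hb (Fix V c) fun v hv => fix_inv h3 hv
  have e3 := half S ha (Fix V c ⊓ Fix V b) fun v hv => ⟨fix_inv h2 hv.1, fix_inv h1 hv.2⟩
  have e4 : Nat.card ↥(Fix V c ⊓ Fix V b) ≤ 9 := by nlinarith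
  exact ⟨e4, by nlinarith⟩

theorem mem_im (S : SP B V) {a b c ra rb rc : B} (ha : ∀ v : V, (ra * a * ra⁻¹ * a⁻¹) • v = v → v = 0)
    (hb : ∀ v : V, (rb * b * rb⁻¹ * b⁻¹) • v = v → v = 0) (hc : ∀ v : V, (rc * c * rc⁻¹ * c⁻¹) • v = v → v = 0)
    (h1 : Commute ra b) (h2 : Commute ra c) (h3 : Commute rb c) (a3 : a ^ 3 = 1) (ab : Commute a b)
    (ac : Commute a c) {n m p : ℕ} (hn : ¬ 3 ∣ n) {v : V} (hv : v ∈ Fix V c ⊓ Fix V b ⊓ Fix V a) :
    v ∈ Im V (a ^ n * b ^ m * c ^ p) := by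
  by_cases h0 : v = 0
  · exact h0 ▸ zero_mem _
  obtain ⟨e1, e2⟩ := three S ha hb hc h1 h2 h3
  have hu : ra • v ∈ Fix V c ⊓ Fix V b := ⟨fix_inv h2 hv.1.1, fix_inv h1 hv.1.2⟩
  have hT : ∀ w ∈ Fix V c ⊓ Fix V b, TM V a w ∈ Fix V c ⊓ Fix V b := fun w hw =>
    sub_mem hw ⟨fix_inv ac hw.1, fix_inv ab hw.2⟩
  have hw0 : TM V a (ra • v) ≠ 0 := fun e => h0 (zero_of ha hv.2 (sub_eq_zero.1 e).symm)
  have e3 := S.card_map (Fix V c ⊓ Fix V b) (TM V a)
  rw [ker_TM] at e3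
  have e4 := S.card_le ((Submodule.span_singleton_le_iff_mem v _).2 hv)
  rw [card_span h0] at e4
  have e5 : Nat.card ((Fix V c ⊓ Fix V b).map (TM V a)) ≤ 3 := by nlinarith
  obtain ⟨k, hk⟩ := span_of S e5 (Submodule.mem_map_of_mem hu) hw0 (Submodule.mem_map_of_mem (hT _ hu))
  have e6 := TM_cube a3 (ra • v)
  rw [← hk, map_smul, ← hk, smul_smul] at e6
  have hk0 : k = 0 := by
    rcases zmod3_cases k with rfl | rfl | rfl
    · rfl
    · exact absurd (by simpa using e6) hw0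
    · exact absurd (by rwa [show (2 * 2 : F3) = 1 from rfl, one_smul] at e6) hw0
  rw [hk0, zero_smul] at hk
  have hw : a • TM V a (ra • v) = TM V a (ra • v) := (sub_eq_zero.1 hk.symm).symm
  obtain ⟨l, hl⟩ := span_of S e2 ⟨hT _ hu, hw⟩ hw0 hv
  have e7 : ∀ j : ℕ, a ^ j • ra • v = ra • v - (j : F3) • TM V a (ra • v) := fun j => by
    induction j with
    | zero => simp
    | succ j ih =>
      rw [pow_succ', mul_smul, ih, smul_sub, smul_comm3, hw, Nat.cast_succ, add_smul, one_smul, TM_apply]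
      abel
  have e8 : (n : F3) • TM V a (ra • v) ∈ Im V (a ^ n * b ^ m * c ^ p) :=
    ⟨ra • v, by rw [mul_smul (a ^ n * b ^ m), pow_fix hu.1, mul_smul (a ^ n), pow_fix hu.2, e7, sub_sub_cancel]⟩
  have e9 : (n : F3) * n = 1 :=
    (by decide : ∀ y : F3, y ≠ 0 → y * y = 1) _ (mt (ZMod.natCast_eq_zero_iff n 3).1 hn)
  have := Submodule.smul_mem _ (l * n) e8
  rwa [smul_smul, mul_assoc l, e9, mul_one, hl] at this

end B2

open B2

variable [Finite B]

theorem RH.fx (S : SP B V) (h : RH R π i) (hn : ∀ v : V, i • v = -v) (t : B) (h3 : t ^ 3 = 1) (h1 : t ≠ 1) :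
    Nat.card (Fix V t) ≤ 81 := by
  obtain ⟨r, -, e⟩ := h.q4 h3 h1
  exact half_top S (of_sq hn e)

omit [Finite B] in
theorem RH.fxR' (S : SP B V) (h : RH R π i) (hn : ∀ v : V, i • v = -v) {r : B} (hr : r ∈ R) (h1 : r ≠ 1) :
    Nat.card (Fix V r) ≤ 81 := by
  by_cases hz : Zi i r
  · obtain rfl : r = i := hz.resolve_left h1
    rw [show Fix V r = ⊥ from eq_bot_iff.2 fun v hv => eq_zero_of_eq_neg (hv.symm.trans (hn v))]
    simp
  · obtain ⟨s, hs, e⟩ : ∃ s ∈ R, ¬ Commute r s := by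
      by_contra! k
      exact hz (h.ce r hr k)
    have e1 : s * r * s⁻¹ * r⁻¹ = i := (h.cm s hs r hr).resolve_left fun k =>
      e (Commute.symm (by rwa [mul_inv_eq_one, mul_inv_eq_iff_eq_mul] at k))
    exact half_top S (r := s) fun v hv => eq_zero_of_eq_neg (by rw [← hn, ← e1, hv])

theorem RH.fxR (S : SP B V) (h : RH R π i) (hn : ∀ v : V, i • v = -v) {r : B} (hr : r ∈ R) (h1 : r ≠ 1) :
    Nat.card (Fix V r) ≤ 81 := h.fxR' S hn hr h1

theorem RH.j1 (S : SP B V) (h : RH R π i) (hn : ∀ v : V, i • v = -v) (J : Subgroup B) (hJ : J27 J) :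
    Nat.card (FixS V J) ≤ 3 ∧ ∀ t ∈ J, t ≠ 1 → FixS V J ≤ Im V t := by
  obtain ⟨x, r, hx, hg, hr⟩ := h.tri hJ
  have z := fun k => of_sq hn (hr k).2.1
  have c := fun k => (hr k).2.2
  have cm := fun k l => hJ.com _ (hx k) _ (hx l)
  have F : ∀ k l m, FixS V J ≤ Fix V (x m) ⊓ Fix V (x l) ⊓ Fix V (x k) := fun k l m v hv =>
    ⟨⟨hv _ (hx m), hv _ (hx l)⟩, hv _ (hx k)⟩
  refine ⟨(S.card_le (F 0 1 2)).trans
    (three S (z 0) (z 1) (z 2) (c 0 1 (by decide)) (c 0 2 (by decide)) (c 1 2 (by decide))).2, fun t ht h1 v hv => ?_⟩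
  obtain ⟨n, rfl⟩ := hg t ht
  by_cases h0 : 3 ∣ n 0
  · by_cases h1' : 3 ∣ n 1
    · by_cases h2 : 3 ∣ n 2
      · have k : ∀ k, 3 ∣ n k → x k ^ n k = 1 := fun k ⟨j, e⟩ => by rw [e, pow_mul, hJ.cube _ (hx k), one_pow]
        exact absurd (by rw [k 0 h0, k 1 h1', k 2 h2, mul_one, mul_one]) h1
      · rw [show x 0 ^ n 0 * x 1 ^ n 1 * x 2 ^ n 2 = x 2 ^ n 2 * x 0 ^ n 0 * x 1 ^ n 1 by
          rw [mul_assoc (x 2 ^ n 2)]
          exact (((cm 0 2).pow_pow _ _).mul_left ((cm 1 2).pow_pow _ _)).eq]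
        exact mem_im S (z 2) (z 0) (z 1) (c 2 0 (by decide)) (c 2 1 (by decide)) (c 0 1 (by decide))
          (hJ.cube _ (hx 2)) (cm 2 0) (cm 2 1) h2 (F 2 0 1 hv)
    · rw [((cm 0 1).pow_pow _ _).eq]
      exact mem_im S (z 1) (z 0) (z 2) (c 1 0 (by decide)) (c 1 2 (by decide)) (c 0 2 (by decide))
        (hJ.cube _ (hx 1)) (cm 1 0) (cm 1 2) h1' (F 1 0 2 hv)
  · exact mem_im S (z 0) (z 1) (z 2) (c 0 1 (by decide)) (c 0 2 (by decide)) (c 1 2 (by decide))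
      (hJ.cube _ (hx 0)) (cm 0 1) (cm 0 2) h0 (F 0 1 2 hv)

theorem B2.AM_eq_1' : type_of% @B2.AM.eq_1 := @B2.AM.eq_1

end Cfsg.Lib.C23
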