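import Cfsg.Agent.Recog.C23B2
import Cfsg.Agent.Recog.C23A3

/-!
The involutions with a large fixed space.
-/

set_option autoImplicit false

namespace Cfsg.Lib.C23

open Cfsg Subgroup Cfsg.Lib.Recog.P43 Cfsg.Lib.C22

variable {B : Type*} [Group B] {R : Subgroup B} {π : B →* X} {i : B}
variable {V : Type*} [AddCommGroup V] [Module F3 V] [DistribMulAction B V]
variable {S : SP B V} {e : (Fin 4 → V2) ≃ₗ[F3] V} {d : Fin 4 → B} {c c' : B}

theorem card_Fix_conj (s g : B) : Nat.card (Fix V (g * s * g⁻¹)) = Nat.card (Fix V s) :=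
  Eq.symm <| by
  exact Nat.card_congr ⟨fun v => ⟨g • v.1, by rw [mem_Fix, smul_smul, inv_mul_cancel_right, mul_smul, v.2]⟩,
    fun v => ⟨g⁻¹ • v.1, by rw [mem_Fix, eq_inv_smul_iff, smul_smul, smul_smul]; exact v.2⟩,
    fun v => by simp, fun v => by simp⟩

theorem X_tt : X.t * X.t = 1 ∧ X.t ≠ 1 := by decide +kernel

theorem BK.dd (hK : BK S R π i e d c c') (k : Fin 4) : d k * d k = 1 := S.faith _ fun v => by
  obtain ⟨u, rfl⟩ := e.surjective v
  rw [mul_smul, hK.act, hK.act]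
  congr 1
  ext1 j
  split_ifs <;> simp

theorem BK.supp (hK : BK S R π i e d c c') {k j : Fin 4} {u : Fin 4 → V2} (h : d k • e u = -e u)
    (hj : j ≠ k) : u j = 0 := by
  rw [hK.act, ← map_neg] at h
  have := congrFun (e.injective h) j
  rw [if_neg hj] at this
  exact eq_zero_of_eq_neg this

theorem BK.card_ng (hK : BK S R π i e d c c') (k : Fin 4) : Nat.card (Ng V (d k)) = 9 := by
  have : Function.Bijective fun a : V2 => (⟨e (Pi.single k a), by
      rw [mem_Ng, hK.act, ← map_neg]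
      congr 1
      ext1 j
      by_cases hj : j = k <;> simp [hj]⟩ : Ng V (d k)) := by
    refine ⟨fun a b h => Pi.single_injective (M := fun _ => V2) k (e.injective (congrArg Subtype.val h)), fun ⟨v, hv⟩ => ?_⟩
    obtain ⟨u, rfl⟩ := e.surjective v
    refine ⟨u k, Subtype.ext (congrArg e (funext fun j => ?_))⟩
    by_cases hj : j = k
    · simp [hj]
    · simp [hj, hK.supp hv hj]
  rw [← Nat.card_eq_of_bijective _ this]
  simp

theorem BK.card_fix (hK : BK S R π i e d c c') (k : Fin 4) : Nat.card (Fix V (d k)) = 729 := by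
  have := S.card_Im (d k)
  rw [Im_eq_Ng (hK.dd k), hK.card_ng] at this
  omega

theorem BK.tt (hK : BK S R π i e d c c') (k : Fin 4) : TT V (d k) :=
  ⟨hK.dd k, fun h => X_tt.2 (by rw [← hK.πd k, h, map_one]), by rw [hK.card_fix]; decide⟩

theorem BK.of_t (hK : BK S R π i e d c c') {s : B} (hs : TT V s) (h : π s = X.t) : ∃ k, s = d k := by
  obtain ⟨k, rfl | rfl⟩ := hK.inv s h hs.sq
  · exact ⟨k, rfl⟩
  · have := hs.lt
    rw [show Fix V (i * d k) = Ng V (d k) from Submodule.ext fun v => by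
      rw [mem_Fix, mem_Ng, mul_smul, hK.neg, neg_eq_iff_eq_neg], hK.card_ng] at this
    omega

variable [Finite B]

theorem BK.π_ne (h : RH R π i) (hK : BK S R π i e d c c') {s : B} (hs : TT V s) : π s ≠ 1 := fun k =>
  (h.fxR S hK.neg ((h.ker s).1 k) hs.ne).not_gt hs.lt

theorem BK.isConj (h : RH R π i) (hK : BK S R π i e d c c') {s : B} (hs : TT V s) : IsConj (d 0) s := by
  obtain ⟨g, hg⟩ := (X_inv_conj (π s) (by rw [← map_mul, hs.sq, map_one])).resolve_left (hK.π_ne h hs)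
  obtain ⟨g, rfl⟩ := h.sur g
  obtain ⟨k, hk⟩ := hK.of_t (hs.conj g) (by simpa using hg)
  obtain ⟨r, -, hr⟩ := hK.tr 0 k
  exact (isConj_iff.2 ⟨r, hr⟩).trans (isConj_iff.2 ⟨g, hk⟩).symm

theorem BK.t0 (h : RH R π i) (hK : BK S R π i e d c c') (s : B) (hs : TT V s) : Nat.card (Fix V s) = 729 := by
  obtain ⟨g, rfl⟩ := isConj_iff.1 (hK.isConj h hs)
  rw [card_Fix_conj, hK.card_fix]

theorem BK.eq_d (h : RH R π i) (hK : BK S R π i e d c c') {s : B} (hs : TT V s) (hc : Commute s (d 0)) :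
    ∃ k, s = d k :=
  hK.of_t hs ((X_inv_cent (π s) (by rw [← map_mul, hs.sq, map_one])
    (by rw [← hK.πd 0]; exact hc.map π)).resolve_left (hK.π_ne h hs))

theorem BK.j3 (h : RH R π i) (hK : BK S R π i e d c c') (J : Subgroup B) (hJ : J27 J) (v : V)
    (hv : v ∈ FixS V J) : ∃ s : B, TT V s ∧ s • v = v := by
  by_cases v0 : v = 0
  · exact ⟨d 0, hK.tt 0, by rw [v0, smul_zero]⟩
  obtain ⟨s, g, h1, h2⟩ := h.exists_s hJ
  obtain ⟨w, hw, e1⟩ := h.exists_w hJ
  have sR : s * s ∈ R := (h.ker _).1 (by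
    have := X_tt.1
    rwa [← h2, ← map_mul, conj_mul, map_mul, map_mul, map_inv, conj_eq_one_iff] at this)
  have k1 : s * s * w * (s * s)⁻¹ * w⁻¹ = 1 := h.eq_one_of_cube (k := 1) (by
    have := mul_mem sR (h.conj_mem w (inv_mem sR))
    rwa [← mul_assoc, ← mul_assoc] at this) (hJ.cube _ (by
    have := mul_mem (h1 _ (h1 _ hw)) (inv_mem hw)
    rwa [show s * (s * w * s⁻¹) * s⁻¹ = s * s * w * (s * s)⁻¹ by group] at this))
  have k2 : Zi i (s * s) := h.fpf e1 sR (Or.inl (by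
    rw [← inv_eq_one, ← k1]; simp only [mul_inv_rev, inv_inv, mul_assoc]))
  have k3 : s • v ∈ FixS V J := fun x hx => by
    have := hv _ (h1 x hx)
    rw [show s * x * s⁻¹ = s⁻¹ * (s * s * x) * s⁻¹ by group, ← (h.zi_comm k2 x).eq,
      show s⁻¹ * (x * (s * s)) * s⁻¹ = s⁻¹ * (x * s) by group, mul_smul, inv_smul_eq_iff, mul_smul] at this
    exact this
  have k4 : s • v = v ∨ s • v = -v := by
    obtain ⟨n, hn⟩ := S.card_pow (F3 ∙ v)
    have n0 : n ≠ 0 := by
      rintro rfl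
      have := (Nat.card_eq_one_iff_unique.1 hn).1
      exact v0 (congrArg Subtype.val (Subsingleton.elim
        (⟨v, Submodule.mem_span_singleton_self v⟩ : F3 ∙ v) 0))
    rw [← S.eq_of_card ((Submodule.span_singleton_le_iff_mem v _).2 hv) ((h.j1 S hK.neg J hJ).1.trans (by
      rw [hn]; exact Nat.le_self_pow n0 3)), Submodule.mem_span_singleton] at k3
    obtain ⟨a, ha⟩ := k3
    rcases zmod3_cases a with rfl | rfl | rfl
    · rw [zero_smul, eq_comm, smul_eq_zero_iff_eq] at ha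
      exact absurd ha v0
    · exact .inl (by rw [← ha, one_smul])
    · exact .inr (by rw [← ha, two_smul, eq_neg_iff_add_eq_zero, three_v])
  have k5 : s * s = 1 := k2.resolve_right fun k => v0 (eq_zero_of_eq_neg (by
    rw [← hK.neg, ← k, mul_smul]
    rcases k4 with a | a <;> simp [a]))
  have k6 : (g * s * g⁻¹) • g • v = g • v ∨ (g * s * g⁻¹) • g • v = -(g • v) := by
    rw [smul_smul, inv_mul_cancel_right, mul_smul]
    rcases k4 with a | a <;> simp [a]
  obtain ⟨k, k7⟩ : ∃ k, d k • g • v = g • v := by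
    obtain ⟨k, hk⟩ := hK.inv _ h2 (by rw [conj_mul, k5, mul_one, mul_inv_cancel])
    have k8 : d k • g • v = g • v ∨ d k • g • v = -(g • v) := by
      rcases hk with a | a <;> rw [a] at k6
      · exact k6
      · rw [mul_smul, hK.neg, neg_inj, neg_eq_iff_eq_neg] at k6
        exact k6.symm
    rcases k8 with a | a
    · exact ⟨k, a⟩
    obtain ⟨l, hl⟩ := exists_ne k
    obtain ⟨u, hu⟩ := e.surjective (g • v)
    rw [← hu] at a ⊢
    refine ⟨l, (hK.act l u).trans (congrArg e (funext fun j => ?_))⟩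
    split_ifs with hj
    · rw [hj, hK.supp a hl, neg_zero]
    · rfl
  exact ⟨g⁻¹ * d k * g⁻¹⁻¹, (hK.tt k).conj _, by rw [inv_inv, mul_smul, mul_smul, k7, inv_smul_smul]⟩

end Cfsg.Lib.C23
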