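import Cfsg.Agent.Recog.C23B4a
import Cfsg.Agent.Recog.C23B2
import Cfsg.Agent.Recog.C23B3

/-!
The action of the centralizer of an involution on three blocks.
-/

set_option autoImplicit false

namespace Cfsg.Lib.C23

open Cfsg Subgroup Cfsg.Lib.Recog.P43 Cfsg.Lib.C22

variable {B : Type*} [Group B] [Finite B] {R : Subgroup B} {π : B →* X} {i : B}
  {V : Type*} [AddCommGroup V] [Module F3 V] [DistribMulAction B V]
  {S : SP B V} {e : (Fin 4 → V2) ≃ₗ[F3] V} {d : Fin 4 → B} {c c' : B}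

theorem BK.exists_BL (h : RH R π i) (hK : BK S R π i e d c c') : ∃ e' dd ρ, BL S (d 0) e' dd ρ :=
  B4.exists_BL_of h hK hK.tt (fun _ => BK.eq_d h hK) fun _ => h.fxR S hK.neg

end Cfsg.Lib.C23
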