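import Cfsg.Agent.Recog.C23G0a
import Cfsg.Agent.S0110
import Cfsg.Agent.Trans.GenFitting
import Cfsg.Agent.Class.FieldIso

/-!
From the hypotheses on the `3`-centralizer of type `Fi₂₃` to coordinates.
-/

set_option autoImplicit false

namespace Cfsg.Lib.C23

open Cfsg Subgroup Cfsg.Lib.Recog.P43 Cfsg.Lib.C22 Cfsg.Lib.Trans.ES
open scoped commutatorElement

universe u

namespace G0

theorem exists_X {Y : Type*} [Group Y] [Finite Y] (D : XD Y) {x : Y} (hx : orderOf x = 3) (P : Sylow 3 Y)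
    (hP : (P : Subgroup Y) ≤ centralizer {x}) : Nonempty (centralizer ({x} : Set Y) ≃* X) := by
  have : Fact (Nat.Prime 3) := ⟨Nat.prime_three⟩
  obtain ⟨c, -, hc⟩ := (Trans.isSylowIn_top P).exists_cj_le D.isSylowIn.isPGroup le_top
  let E := D.map (MulAut.conj c)
  have h : ∀ p ∈ X.S, x * E.φ p = E.φ p * x := fun p hp =>
    (mem_centralizer_singleton_iff.1 (hP (Trans.cj_le_iff.1 hc _ (mem_map_of_mem _ hp)))).symm
  obtain ⟨q, rfl⟩ := E.exists_eq (h X.a (by decide : X.InS _))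
  have h2 : ∀ p ∈ X.S, q * p = p * q := fun p hp => E.inj (by rw [map_mul, map_mul, h p hp])
  refine ⟨((MonoidHom.ofInjective E.inj).trans (MulEquiv.subgroupCongr (E.range.trans ?_))).symm⟩
  rcases X.center_S q (h2 _ X.a_facts.2.2.2.2.2.2) (h2 _ (by decide : X.InS _)) with rfl | rfl | rfl
  · simp at hx
  · rfl
  · ext g
    rw [map_inv, mem_centralizer_singleton_iff, mem_centralizer_singleton_iff]
    exact Commute.inv_right_iff.symm

theorem exists_RH {B : Type*} [Group B] [Finite B] {R : Subgroup B} [hn : R.Normal]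
    (hF : generalizedFittingSubgroup B = R) (hR : IsExtraspecial 2 R) (hc : Nat.card R = 2 ^ 7)
    (hm : ∀ A : Subgroup R, IsElementaryAbelian 2 A → Nat.card A ≤ 2 ^ 3) (e : B ⧸ R ≃* X) :
    ∃ π i, RH R π i := by
  have hP := IsPre.of_isExtraspecial hR
  obtain ⟨t, t1, ht⟩ := (Nat.card_eq_two_iff' (1 : center R)).1 hR.2
  have k : ∀ x : R, x ∈ center R → Zi (t : B) x := fun x hx => by
    by_cases e : (⟨x, hx⟩ : center R) = 1
    · exact Or.inl (congrArg (fun y : center R => ((y : R) : B)) e)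
    · exact Or.inr (congrArg (fun y : center R => ((y : R) : B)) (ht _ e))
  have t1' : ((t : R) : B) ≠ 1 := fun e => t1 (Subtype.ext (Subtype.ext e))
  have tc : ∀ r ∈ R, Commute r t := fun r hr => congrArg Subtype.val (mem_center_iff.1 t.2 ⟨r, hr⟩)
  refine ⟨e.toMonoidHom.comp (QuotientGroup.mk' R), t, fun g => by simp,
    e.surjective.comp (QuotientGroup.mk'_surjective R), hc, t.1.2, t1',
    (k _ (mul_mem t.2 t.2)).resolve_right fun e => t1' (mul_eq_left.1 e), fun g => ?_, fun r hr => ?_,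
    fun r hr s hs => k _ (hP.classTwo ⟨r, hr⟩ ⟨s, hs⟩),
    fun r hr h => k ⟨r, hr⟩ (mem_center_iff.2 fun s => Subtype.ext (h s s.2).symm), fun A hA h => ?_,
    fun g h => hF.le (Trans.centralizer_genFitting_le B fun r hr => (h r (hF.le hr)).symm)⟩
  · refine mul_inv_eq_iff_eq_mul.1 ((k ⟨_, hn.conj_mem _ t.1.2 g⟩ (mem_center_iff.2 fun s => Subtype.ext ?_)).resolve_left
      fun e => t1' (conj_eq_one_iff.1 e))
    have := (Commute.conj_iff g).2 (tc _ (hn.conj_mem' _ s.2 g))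
    simpa [mul_assoc] using this.eq
  · simpa [sq] using k _ (hP.pow_mem_center ⟨r, hr⟩)
  · rw [← Nat.card_congr (subgroupOfEquivOfLe hA).toEquiv]
    refine hm _ ⟨⟨⟨fun a b => Subtype.ext (Subtype.ext ?_)⟩⟩, fun a ha => Subtype.ext ((sq _).trans (h _ ha))⟩
    have h1 := h _ (mul_mem a.2 b.2)
    rw [← inv_eq_iff_mul_eq_one, mul_inv_rev, inv_eq_of_mul_eq_one_right (h _ a.2),
      inv_eq_of_mul_eq_one_right (h _ b.2)] at h1
    exact h1.symm

theorem exists_FA' {G : Type u} [Group G] [Finite G] {z : G} (z3 : orderOf z = 3) (H : Subgroup G)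
    (mH : ∀ g, g ∈ H ↔ Commute g z) (Q : Subgroup H) [hn : Q.Normal] (hF : Q = generalizedFittingSubgroup H)
    (hQ : IsExtraspecial 3 Q) (hc : Nat.card Q = 3 ^ 9) (he : ∀ x ∈ Q, x ^ 3 = 1) :
    ∃ (V : Type u) (_ : AddCommGroup V) (_ : Module F3 V) (_ : DistribMulAction (H ⧸ Q) V) (S : SP (H ⧸ Q) V)
      (D : FA G S), D.z = z := by
  have : Fact (Nat.Prime 3) := ⟨Nat.prime_three⟩
  have hP := IsPre.of_isExtraspecial hQ
  have hC : centralizer (Q : Set H) ≤ Q := hF ▸ Trans.centralizer_genFitting_le H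
  have zH := (mH z).2 (Commute.refl z)
  have zQ : (⟨z, zH⟩ : H) ∈ Q := hC fun q _ => Subtype.ext ((mH q).1 q.2)
  have zc : ∀ x : Q, Commute x ⟨_, zQ⟩ := fun x => Subtype.ext (Subtype.ext ((mH _).1 x.1.2))
  have z1 : (⟨_, zQ⟩ : Q) ≠ 1 := fun e => by
    rw [show z = 1 from congrArg (fun y : Q => ((y : H) : G)) e, orderOf_one] at z3
    omega
  have hZ := hP.zpowers_eq (mem_center_iff.2 zc) z1
  have : B3 Q := ⟨fun x => Subtype.ext (he x x.2), hP.classTwo⟩
  obtain ⟨V, _, _, C, hz⟩ := exists_co z1 zc fun x y => hZ.ge (hP.classTwo x y)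
  rw [← hz] at hZ
  have hf : ∀ g : H, MulAut.conjNormal g C.z = C.z := fun g => Subtype.ext (Subtype.ext (by
    rw [hz]
    exact mul_inv_eq_of_eq_mul ((mH _).1 g.2)))
  let cn : H → Q →* Q := fun g => (MulAut.conjNormal g : MulAut Q).toMonoidHom
  have sp := fun g : H => C.act_spec (α := cn g) (hf g)
  let φ := C.hom MulAut.conjNormal hf
  have hφ : ∀ q ∈ Q, φ q = 1 := fun q hq => AddMonoidHom.ext fun v => by
    obtain ⟨u, k, e⟩ := C.sur ⟨q, hq⟩
    have e1 : cn q (C.η v 0) = ⟨q, hq⟩ * C.η v 0 * ⟨q, hq⟩⁻¹ := rfl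
    rw [sp, e, C.inv, C.mul, C.mul] at e1
    exact (C.inj e1).1.trans (add_neg_cancel_comm u v)
  let : DistribMulAction (H ⧸ Q) V := DistribMulAction.compHom V (QuotientGroup.lift Q φ hφ)
  have nd : ∀ v, (∀ w, C.b w v = 0) → v = 0 := fun v h => C.of_mem_Z (l := 0) (hZ.ge (mem_center_iff.2 fun x => by
    obtain ⟨w, k, rfl⟩ := C.sur x
    exact C.comm_iff.2 (h w)))
  have cV : Nat.card V = 6561 := by
    have := Nat.card_eq_of_bijective _ C.bij
    rw [Nat.card_prod, Nat.card_zmod, hc] at this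
    omega
  let S : SP (H ⧸ Q) V := ⟨C.b, C.alt, nd, cV, fun g v w => by
      obtain ⟨g, rfl⟩ := QuotientGroup.mk_surjective g
      exact C.act_b (α := cn g) (hf g) v w, fun g h => by
      obtain ⟨g, rfl⟩ := QuotientGroup.mk_surjective g
      obtain ⟨e, h1, h2⟩ := Agent.S0110.sup_centralizer_eq Q hQ g fun q hq => by
        obtain ⟨v, l, e⟩ := C.sur ⟨q, hq⟩
        have e1 : cn g ⟨q, hq⟩ * ⟨q, hq⟩⁻¹ ∈ center Q := by
          rw [e, sp, show C.act (cn g) v = v from h v, C.inv, C.mul, add_neg_cancel]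
          exact hZ.le (C.mem_Z _)
        exact ⟨Q.mul_mem (hn.conj_mem q hq g) (Q.inv_mem hq), fun r hr =>
          congrArg Subtype.val (mem_center_iff.1 e1 ⟨r, hr⟩)⟩
      exact (QuotientGroup.eq_one_iff g).2 (by simpa using mul_mem h1 (hC h2))⟩
  have hQ3 : pCore 3 H = Q := le_antisymm (hF ▸ Trans.pCore_le_genFitting 3 H) (Solv.le_pCore hn hQ.1.1)
  have zz : ((C.η 0 1 : H) : G) = z := by rw [C.hz, hz]
  classical
  refine ⟨V, _, _, _, S, ⟨z, fun v l => ((C.η v l : H) : G),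
    fun g => if h : g ∈ H then ((⟨g, h⟩ : H) : H ⧸ Q) else 1,
    fun g => if h : g ∈ H then C.lam (cn ⟨g, h⟩) else 0,
    fun v l w k => congrArg (fun y : Q => ((y : H) : G)) (C.mul v l w k),
    fun l e => (C.inj ((Subtype.ext (Subtype.ext e) : C.η 0 l = 1).trans C.zero.symm)).2, zz, fun g hg v l => ?_,
    fun g hg => ?_, fun b => ?_, fun n e v l => ?_⟩, rfl⟩
  · rw [dif_pos ((mH g).2 hg), dif_pos ((mH g).2 hg)]
    exact congrArg (fun y : Q => ((y : H) : G)) (sp ⟨g, (mH g).2 hg⟩ v l)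
  · obtain ⟨v, w, h⟩ : ∃ v w, C.b v w ≠ 0 := by
      by_contra c
      push Not at c
      have : Subsingleton V := subsingleton_of_forall_eq 0 fun v => nd v fun w => c w v
      have := Finite.card_le_one_iff_subsingleton.2 this
      omega
    have ml : ∀ v l w k, ((C.η v l : H) : G) * ((C.η w k : H) : G) = (C.η (v + w) (l + k + C.b v w) : H) :=
      fun v l w k => congrArg (fun y : Q => ((y : H) : G)) (C.mul v l w k)
    have h1 : Commute g ((C.η 0 (C.b v w) : H) : G) := by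
      have := (hg (-(v + w))).mul_right ((hg v).mul_right (hg w))
      rw [ml, ml, map_neg, LinearMap.neg_apply, C.alt] at this
      simpa using this
    have h2 : Commute g z := by
      rcases zmod3_cases (C.b v w) with e | e | e
      · exact absurd e h
      · rwa [e, zz] at h1
      · have := h1.mul_right h1
        rw [ml, e, map_zero, add_zero, add_zero] at this
        exact zz ▸ this
    obtain ⟨v, l, e⟩ := C.sur ⟨⟨g, (mH g).2 h2⟩, hC fun q hq => by
      obtain ⟨v, l, e⟩ := C.sur ⟨q, hq⟩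
      obtain ⟨k, e1⟩ := C.mem_Z l
      rw [C.split, ← e1, hz] at e
      obtain rfl : q = _ := congrArg Subtype.val e
      exact Subtype.ext (by simpa using ((hg v).mul_right (h2.zpow_right k)).symm.eq)⟩
    exact ⟨v, l, congrArg (fun y : Q => ((y : H) : G)) e⟩
  · obtain ⟨g, rfl⟩ := QuotientGroup.mk_surjective b
    exact ⟨g, (mH _).1 g.2, dif_pos g.2⟩
  · have h1 : n ∈ normalizer (H : Set G) := mem_normalizer_fintype fun x hx => (mH _).2
      (Commute.inv_right_iff.1 (e ▸ (Commute.conj_iff n).2 ((mH x).1 hx)))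
    obtain ⟨q, hq, e1⟩ := (mem_normalizer_iff.1 (Solv.normalizer_le_normalizer_map_pCore 3 H h1) _).1
      (mem_map_of_mem _ (hQ3.ge (C.η v l).2))
    obtain ⟨w, k, e2⟩ := C.sur ⟨q, hQ3.le hq⟩
    exact ⟨w, k, e1.symm.trans (congrArg (fun y : Q => ((y : H) : G)) e2)⟩

end G0

open G0 in
theorem exists_FA {G : Type u} [Group G] [Finite G] (Z : Subgroup G) (hZ : Nat.card ↥Z = 3) (hQ : Cfsg.IsExtraspecial 3 ↥(Cfsg.generalizedFittingSubgroup ↥(Subgroup.centralizer (Z : Set G)))) (hQcard : Nat.card ↥(Cfsg.generalizedFittingSubgroup ↥(Subgroup.centralizer (Z : Set G))) = 3 ^ 9) [hQn : (Cfsg.generalizedFittingSubgroup ↥(Subgroup.centralizer (Z : Set G))).Normal] (hexp : ∀ x ∈ Cfsg.generalizedFittingSubgroup ↥(Subgroup.centralizer (Z : Set G)), x ^ 3 = 1) (hFR : Cfsg.generalizedFittingSubgroup (↥(Subgroup.centralizer (Z : Set G)) ⧸ Cfsg.generalizedFittingSubgroup ↥(Subgroup.centralizer (Z : Set G))) = Cfsg.pCore 2 (↥(Subgroup.centralizer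 (Z : Set G)) ⧸ Cfsg.generalizedFittingSubgroup ↥(Subgroup.centralizer (Z : Set G)))) (hR : Cfsg.IsExtraspecial 2 ↥(Cfsg.pCore 2 (↥(Subgroup.centralizer (Z : Set G)) ⧸ Cfsg.generalizedFittingSubgroup ↥(Subgroup.centralizer (Z : Set G))))) (hRcard : Nat.card ↥(Cfsg.pCore 2 (↥(Subgroup.centralizer (Z : Set G)) ⧸ Cfsg.generalizedFittingSubgroup ↥(Subgroup.centralizer (Z : Set G)))) = 2 ^ 7) (hRminus : ∀ A : Subgroup ↥(Cfsg.pCore 2 (↥(Subgroup.centralizer (Z : Set G)) ⧸ Cfsg.generalizedFittingSubgroup ↥(Subgroup.centralizer (Z : Set G)))), Cfsg.IsElementaryAbelian 2 A → Nat.card ↥A ≤ 2 ^ 3) [hRn : (Cfsg.pCore 2 (↥(Subgroup.centralizer (Z : Set G)) ⧸ Cfsg.generalizedFittingSubgroup ↥(Subgroup.centralizer (Z : Set G)))).Normal] (hTop : ∃ (F : Type) (_ : Field F) (_ : Fintype F) (x : Cfsg.PSp 2 F), Fintype.card F = 3 ∧ orderOf x = 3 ∧ (∃ P : Sylow 3 (Cfsg.PSp 2 F), (P : Subgroup (Cfsg.PSp 2 F)) ≤ Subgroup.centralizer ({x} : Set (Cfsg.PSp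 2 F))) ∧ Nonempty (((↥(Subgroup.centralizer (Z : Set G)) ⧸ Cfsg.generalizedFittingSubgroup ↥(Subgroup.centralizer (Z : Set G))) ⧸ Cfsg.pCore 2 (↥(Subgroup.centralizer (Z : Set G)) ⧸ Cfsg.generalizedFittingSubgroup ↥(Subgroup.centralizer (Z : Set G)))) ≃* ↥(Subgroup.centralizer ({x} : Set (Cfsg.PSp 2 F))))) :
    ∃ (B V : Type u) (_ : Group B) (_ : Finite B) (_ : AddCommGroup V) (_ : Module F3 V) (_ : DistribMulAction B V)
      (S : SP B V) (R : Subgroup B) (π : B →* X) (i : B) (D : FA G S), RH R π i ∧ Z = D.Z := by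
  have : Fact (Nat.Prime 3) := ⟨Nat.prime_three⟩
  obtain ⟨z, rfl⟩ : ∃ z, zpowers z = Z :=
    (Subgroup.isCyclic_iff_exists_zpowers_eq_top Z).1 (isCyclic_of_prime_card hZ)
  rw [Nat.card_zpowers] at hZ
  obtain ⟨V, _, _, _, S, D, e⟩ := exists_FA' hZ _ (fun g => by
    rw [zpowers_eq_closure, centralizer_closure, mem_centralizer_singleton_iff]; rfl) _ rfl hQ hQcard hexp
  obtain ⟨F, _, _, x, hF, hx, ⟨P, hP⟩, ⟨ε⟩⟩ := hTop
  have : Finite (PSp 2 F) := Finite.of_surjective _ QuotientGroup.mk_surjective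
  obtain ⟨θ⟩ := exists_X (xdP.map (Class.pspEquiv 2 (FiniteField.ringEquivOfCardEq (K := ZMod 3) (K' := F)
    (by rw [hF, ZMod.card])))) hx P hP
  obtain ⟨π, i, h⟩ := exists_RH hFR hR hRcard hRminus (ε.trans θ)
  exact ⟨_, V, _, inferInstance, _, _, _, S, _, π, i, D, h, congrArg zpowers e.symm⟩

end Cfsg.Lib.C23
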