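import Cfsg.Agent.Recog.C23G2

/-!
The first step in the recognition of `Fi₂₃`: the linear case.
-/

set_option autoImplicit false

namespace Cfsg.Lib.C23

open Cfsg Subgroup Cfsg.Lib.Recog.P43 Cfsg.Lib.C22
open scoped commutatorElement

variable {B : Type*} [Group B] {V : Type*} [AddCommGroup V] [Module F3 V] [DistribMulAction B V] {S : SP B V}
variable {G : Type*} [Group G]

theorem quad_zero : ∀ a b c d e f : F3, ∃ x y z : F3, ¬ (x = 0 ∧ y = 0 ∧ z = 0) ∧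
    a * (x * x) + b * (y * y) + c * (z * z) + d * (x * y) + e * (x * z) + f * (y * z) = 0 := by decide +kernel

theorem SP.aniso (S : SP B V) {g : B} {M : Submodule F3 V} (h1 : M ≤ Im V g)
    (h2 : ∀ u, u - g • u ∈ M → S.b u (g • u) = 0 → u - g • u = 0) : Nat.card M ≤ 9 := by
  have : Fact (Nat.Prime 3) := ⟨Nat.prime_three⟩
  have := S.finite
  rw [Module.natCard_eq_pow_finrank (K := F3), Nat.card_zmod]
  refine Nat.pow_le_pow_right (n := 3) (by decide) (show _ ≤ 2 from by_contra fun n => ?_)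
  obtain ⟨w, hw⟩ := exists_linearIndependent_of_le_finrank (R := F3) (M := M) (n := 3) (by omega)
  choose u hu using fun k => h1 (w k).2
  obtain ⟨x, y, z, a, b⟩ := quad_zero (S.b (u 0) (g • u 0)) (S.b (u 1) (g • u 1)) (S.b (u 2) (g • u 2))
    (S.b (u 0) (g • u 1) + S.b (u 1) (g • u 0)) (S.b (u 0) (g • u 2) + S.b (u 2) (g • u 0))
    (S.b (u 1) (g • u 2) + S.b (u 2) (g • u 1))
  have e : x • u 0 + y • u 1 + z • u 2 - g • (x • u 0 + y • u 1 + z • u 2) = (x • w 0 + y • w 1 + z • w 2 : M) := by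
    simp only [Submodule.coe_add, Submodule.coe_smul, hu, smul_add, smul_comm3, smul_sub]
    abel
  have := h2 _ (e ▸ Subtype.property _) (by
    simp only [smul_add, smul_comm3, map_add, map_smul, LinearMap.add_apply, LinearMap.smul_apply, smul_eq_mul]
    linear_combination b)
  have k := Fintype.linearIndependent_iff.1 hw ![x, y, z] (by
    rw [Fin.sum_univ_three]; exact Subtype.ext (e.symm.trans this))
  exact a ⟨k 0, k 1, k 2⟩

theorem SP.nine_le (S : SP B V) {g : B} (h : ¬ Fix V g ≤ Im V g) :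
    9 * Nat.card ↥(Im V g ⊓ Fix V g) ≤ Nat.card (Fix V g) := by
  obtain ⟨v, hv, n⟩ := SetLike.not_le_iff_exists.1 h
  rw [← S.perp_Fix, S.mem_perp] at n
  push Not at n
  obtain ⟨w, hw, n⟩ := n
  let f : (F3 × F3) × ↥(Im V g ⊓ Fix V g) → Fix V g := fun p =>
    ⟨p.1.1 • v + p.1.2 • w + p.2, add_mem (add_mem (Submodule.smul_mem _ _ hv) (Submodule.smul_mem _ _ hw)) p.2.2.2⟩
  have := S.finite
  refine le_of_eq_of_le (by simp) (Nat.card_le_card_of_injective f fun p q e => ?_)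
  have e1 : p.1.1 • v + p.1.2 • w + p.2 = q.1.1 • v + q.1.2 • w + q.2 := congrArg Subtype.val e
  have e2 := congrArg (S.b w) e1
  have e3 := congrArg (S.b v) e1
  simp only [map_add, map_smul, S.alt, S.b_fix_im hw p.2.2.1, S.b_fix_im hw q.2.2.1, S.b_fix_im hv p.2.2.1,
    S.b_fix_im hv q.2.2.1, smul_eq_mul, mul_zero, add_zero, zero_add, S.swap w v] at e2 e3
  have k : ∀ c a b : F3, c ≠ 0 → (a * c = b * c → a = b) ∧ (a * -c = b * -c → a = b) := by decide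
  have e4 := (k _ _ _ n).1 e2
  have e5 := (k _ _ _ n).2 e3
  rw [e4, e5] at e1
  exact Prod.ext (Prod.ext e4 e5) (Subtype.ext (add_left_cancel e1))

namespace FA

theorem exists_j (L : LF B V) (D : FA G S) :
    ∃ j, j * j = 1 ∧ Commute j D.z ∧ ∀ v l, j * D.η v l * j⁻¹ = D.η (-v) l := by
  obtain ⟨i, hi⟩ := L.neg
  obtain ⟨s, h1, h2, rfl⟩ := D.exists_inv (b := i) (S.faith _ fun v => by rw [mul_smul, hi, hi, neg_neg])
  obtain ⟨q, hq, e⟩ := D.exists_lin h2 fun v hv => by rw [eq_zero_of_eq_neg (hv.symm.trans (hi v)), D.lam_zero h2]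
  have h3 := ((D.Q_z hq).mul_left h2).mul_left (D.Q_z hq).inv_left
  exact ⟨q * s * q⁻¹, by rw [conj_mul, h1, mul_one, mul_inv_cancel], h3, fun v l => by
    rw [D.conj _ h3, e, add_zero, D.ρ_conj (D.Q_z hq) h2, D.ρ_Q hq, one_mul, inv_one, mul_one, hi]⟩

theorem Far.lin_false [Finite G] (L : LF B V) {D D' : FA G S} (h : D.Far D') (h2 : ∀ v, D.lam D'.z v = 0) :
    False := by
  obtain ⟨j, j1, j2, j3⟩ := D.exists_j L
  have j4 : Commute j D'.z := D.commute_of_sq j1 j2 (D.cent_Q fun v => by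
    have e := D.conj _ h.com ((D.ρ D'.z)⁻¹ • v) 0
    have e1 := D.conj _ h.com (-((D.ρ D'.z)⁻¹ • v)) 0
    rw [h2, add_zero] at e e1
    rw [smul_neg, smul_inv_smul] at e1
    rw [smul_inv_smul] at e
    have e2 := j3 (-v) 0
    rw [neg_neg, ← e1, ← j3, inv_eq_of_mul_eq_one_right j1] at e2
    rw [Commute, SemiconjBy, ← mul_inv_eq_iff_eq_mul, inv_eq_of_mul_eq_one_right j1]
    nth_rewrite 1 [← e]
    rw [← e2, mul_inv_rev, mul_inv_rev, mul_inv_rev, inv_eq_of_mul_eq_one_right j1]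
    group)
  have a1 : D.pre (Fix V (D.ρ D'.z)) ≤ D'.H := by
    rintro _ ⟨v, hv, l, rfl⟩
    exact D'.mem_H.2 ((D.commute_η h.com).2 ⟨hv, h2 v⟩).symm
  have a2 := D'.card_ρ a1
  have hU : D.pre (Fix V (D.ρ D'.z)) ⊓ D'.Q ≤ D.Q := inf_le_left.trans (D.pre_le _)
  rw [D.card_pre, D.card_of_nz hU fun c => h.n2 c.2] at a2
  have a3 : D.vS (D.pre (Fix V (D.ρ D'.z)) ⊓ D'.Q) ≤ Im V (D.ρ D'.z) ⊓ Fix V (D.ρ D'.z) := fun w ⟨l, ⟨v, hv, _, e⟩, c⟩ =>
    ⟨S.perp_Fix _ ▸ fun u hu => D.comm_iff.1 (commutatorElement_eq_one_iff_commute.1 (h.inf_Z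
      (D.comm_mem_Z (D.η_mem u 0) (D.η_mem w l)) (D.comm_mem D' (D.η_mem u 0) (D'.mem_H.1 (a1 ⟨u, hu, 0, rfl⟩)) c
        (D.η_z w l)).2)), (D.inj e).1 ▸ hv⟩
  have a4 : ∀ u, u - D.ρ D'.z • u ∈ D.vS (D.pre (Fix V (D.ρ D'.z)) ⊓ D'.Q) → S.b u (D.ρ D'.z • u) = 0 →
      u - D.ρ D'.z • u = 0 := fun u ⟨l, _, c⟩ e => by
    have e1 := D.comm_η h.com u
    have e2 := mul_mem c (D'.conj_mem j4 c)
    rw [j3, D.mul, add_neg_cancel, map_neg, S.alt, neg_zero, add_zero] at e2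
    have e3 : l = 0 := eq_zero_of_eq_neg (V := F3) (by
      linear_combination (D.η_eq_one.1 (h.inf_Z (D.η_mem_Z.2 rfl) e2)).2)
    rw [h2, e, neg_zero, sub_zero, ← e3] at e1
    exact (D.η_eq_one.1 (e1.symm.trans (h.eq_one (D.η_mem _ _) (e1 ▸ c)))).1
  have a5 := S.aniso (a3.trans inf_le_left) a4
  obtain ⟨b1, b2⟩ := S.card_TM h.ρ3
  have a6 := S.card_mul_le a3 b1 fun w hw hw' => by
    obtain ⟨u, hu, rfl⟩ := id hw'
    refine a4 u hw ?_
    have := S.b_fix_im (b1 hw').2 hu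
    rw [TM_apply, map_sub, LinearMap.sub_apply, S.alt, S.swap, zero_sub, neg_neg] at this
    exact this
  have k : ∀ a ∈ ((D.pre (Fix V (D.ρ D'.z))).subgroupOf D'.H).map D'.ρH, a ^ 3 = 1 := by
    rintro _ ⟨a, ha, rfl⟩
    rw [← map_pow, show a ^ 3 = 1 from Subtype.ext (D.Q_cube (D.pre_le _ ha)), map_one]
  have a7 := L.e27 _ k
  have p1 := S.card_pos (D.vS (D.pre (Fix V (D.ρ D'.z)) ⊓ D'.Q))
  by_cases c : Fix V (D.ρ D'.z) ≤ Im V (D.ρ D'.z)
  · have a8 : Nat.card (((D.pre (Fix V (D.ρ D'.z))).subgroupOf D'.H).map D'.ρH) ≠ 27 := fun e => by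
      refine L.j2 _ ⟨?_, k, e⟩ (D'.ρ j) _ ⟨⟨_, a1 (D.z_pre _)⟩, D.z_pre _, rfl⟩ ?_
      · rintro _ ⟨⟨_, a⟩, ⟨v, hv, l, rfl⟩, rfl⟩ _ ⟨⟨_, b⟩, ⟨w, hw, l', rfl⟩, rfl⟩
        exact Commute.map (show Commute (⟨_, a⟩ : D'.H) ⟨_, b⟩ from Subtype.ext (D.comm_iff.2 (S.b_fix_im hv (c hw)))) _
      · rintro _ ⟨⟨_, a⟩, ⟨v, hv, l, rfl⟩, rfl⟩
        obtain ⟨n, e⟩ : j * D.η v l * j⁻¹ * D.η v l ∈ D.Z := by rw [j3, D.mul, D.η_mem_Z, neg_add_cancel]
        refine ⟨n, (map_zpow D'.ρH _ n).symm.trans ?_⟩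
        rw [show D'.ρ j = D'.ρH ⟨j, D'.mem_H.2 j4⟩ from rfl, ← map_inv, ← map_mul, ← map_mul, ← map_mul]
        exact congrArg _ (Subtype.ext e)
    have : Fact (Nat.Prime 3) := ⟨Nat.prime_three⟩
    have : Finite (((D.pre (Fix V (D.ρ D'.z))).subgroupOf D'.H).map D'.ρH) := .of_surjective _ (D'.ρH.subgroupMap_surjective _)
    obtain ⟨n, e⟩ := IsPGroup.iff_card.1 (show IsPGroup 3 (((D.pre (Fix V (D.ρ D'.z))).subgroupOf D'.H).map D'.ρH) from
      fun a => ⟨1, Subtype.ext (k _ a.2)⟩)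
    rw [e] at a2 a7 a8
    have a9 : 3 ^ n ≤ 9 := Nat.pow_le_pow_right (n := 3) (by decide) (show n ≤ 2 from by_contra fun c => by
      have := Nat.pow_le_pow_right (n := 3) (by decide) (show 3 ≤ n by omega)
      omega)
    rw [inf_eq_right.2 c] at a6 b2
    generalize Nat.card (Fix V (D.ρ D'.z)) = f at *
    generalize Nat.card (D.vS (D.pre (Fix V (D.ρ D'.z)) ⊓ D'.Q)) = u at *
    generalize Nat.card ((Im V (D.ρ D'.z)).map (TM V (D.ρ D'.z))) = c at *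
    have c1 : f ≤ 3 * u := by nlinarith
    have c2 : c ≤ 3 := by nlinarith
    have := Nat.mul_le_mul (Nat.mul_le_mul c2 (show f ≤ 27 by omega)) (show f ≤ 27 by omega)
    omega
  · have a8 := S.nine_le c
    generalize Nat.card (Fix V (D.ρ D'.z)) = f at *
    generalize Nat.card (D.vS (D.pre (Fix V (D.ρ D'.z)) ⊓ D'.Q)) = u at *
    generalize Nat.card ((Im V (D.ρ D'.z)).map (TM V (D.ρ D'.z))) = c at *
    generalize Nat.card ↥(Im V (D.ρ D'.z) ⊓ Fix V (D.ρ D'.z)) = b at *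
    have c1 : f ≤ 9 * u := by nlinarith
    have c2 : c ≤ 1 := by nlinarith
    have := Nat.mul_le_mul (Nat.mul_le_mul c2 (show b ≤ 9 by omega)) (show f ≤ 81 by omega)
    omega

end FA

end Cfsg.Lib.C23
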