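import Cfsg.Agent.Recog.C23Api

/-!
The first step in the recognition of `Fi₂₃`: the nonlinear case.
-/

set_option autoImplicit false

namespace Cfsg.Lib.C23

open Cfsg Subgroup Cfsg.Lib.Recog.P43 Cfsg.Lib.C22
open scoped commutatorElement

variable {B : Type*} [Group B] {V : Type*} [AddCommGroup V] [Module F3 V] [DistribMulAction B V] {S : SP B V}
variable {G : Type*} [Group G]

theorem SP.card_TM (S : SP B V) {g : B} (h : g ^ 3 = 1) : (Im V g).map (TM V g) ≤ Im V g ⊓ Fix V g ∧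
    Nat.card ((Im V g).map (TM V g)) * Nat.card ↥(Im V g ⊓ Fix V g) * Nat.card (Fix V g) = 6561 := by
  refine ⟨?_, by rw [← ker_TM, ← S.card_map, ker_TM, S.card_Im]⟩
  rintro _ ⟨_, ⟨u, rfl⟩, rfl⟩
  exact ⟨⟨_, rfl⟩, ker_TM (V := V) g ▸ TM_cube h u⟩

theorem card_span (v : V) : Nat.card (Submodule.span F3 {v}) ≤ 3 :=
  (Nat.card_le_card_of_surjective (fun k : F3 => (⟨k • v, Submodule.mem_span_singleton.2 ⟨k, rfl⟩⟩ :
    Submodule.span F3 {v})) fun x => let ⟨k, e⟩ := Submodule.mem_span_singleton.1 x.2; ⟨k, Subtype.ext e⟩).trans_eq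
    (Nat.card_zmod 3)

namespace FA

/-- The preimage of a subspace. -/
def pre (D : FA G S) (M : Submodule F3 V) : Subgroup G where
  carrier := {q | ∃ v ∈ M, ∃ l, q = D.η v l}
  mul_mem' := by
    rintro _ _ ⟨v, h, l, rfl⟩ ⟨w, h', k, rfl⟩
    exact ⟨_, add_mem h h', _, D.mul _ _ _ _⟩
  one_mem' := ⟨0, zero_mem M, 0, D.zero.symm⟩
  inv_mem' := by
    rintro _ ⟨v, h, l, rfl⟩
    exact ⟨_, neg_mem h, _, D.inv _ _⟩

theorem pre_le (D : FA G S) (M : Submodule F3 V) : D.pre M ≤ D.Q := fun _ ⟨v, _, l, e⟩ => ⟨v, l, e⟩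
theorem z_pre (D : FA G S) (M : Submodule F3 V) : D.z ∈ D.pre M := ⟨0, zero_mem M, 1, D.hz.symm⟩
theorem card_pre (D : FA G S) (M : Submodule F3 V) : Nat.card (D.pre M) = 3 * Nat.card M := by
  rw [D.card_of_z (D.pre_le M) (D.z_pre M), show D.vS (D.pre M) = M from Submodule.ext fun v =>
    ⟨fun ⟨_, _, h, _, e⟩ => (D.inj e).1 ▸ h, fun h => ⟨0, v, h, 0, rfl⟩⟩]

theorem comm_η (D : FA G S) {y : G} (hy : Commute y D.z) (u : V) : D.η u 0 * y * (D.η u 0)⁻¹ * y⁻¹ =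
    D.η (u - D.ρ y • u) (-D.lam y u - S.b u (D.ρ y • u)) := by
  rw [show D.η u 0 * y * (D.η u 0)⁻¹ * y⁻¹ = D.η u 0 * (y * D.η u 0 * y⁻¹)⁻¹ by group, D.conj y hy, D.inv, D.mul,
    map_neg]
  exact D.congr (sub_eq_add_neg _ _).symm (by ring)

theorem Far.ρ3 {D D' : FA G S} (h : D.Far D') : D.ρ D'.z ^ 3 = 1 := by rw [← D.ρ_pow h.com, D'.z3, D.ρ_one]
theorem Far.ρ1 {D D' : FA G S} (h : D.Far D') : D.ρ D'.z ≠ 1 := mt (D.ρ_eq_one h.com).1 h.n1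

theorem Far.nl_im {D D' : FA G S} (h : D.Far D') (hv : ∃ v, D.ρ D'.z • v = v ∧ D.lam D'.z v ≠ 0) {w : V} {l : F3}
    (h1 : D.η w l ∈ D'.Q) (h2 : w ∈ Im V (D.ρ D'.z)) : w = 0 := by
  obtain ⟨v, hv, hl⟩ := hv
  obtain ⟨u, rfl⟩ := h2
  obtain ⟨k, hk⟩ : ∃ k : F3, k * D.lam D'.z v = -D.lam D'.z u - S.b u (D.ρ D'.z • u) - l :=
    (by decide : ∀ a : F3, a ≠ 0 → ∀ c, ∃ k, k * a = c) _ hl _
  have e1 : S.b v (D.ρ D'.z • u) = -S.b u v := by rw [← S.swap, ← S.pres (D.ρ D'.z) v u, hv]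
  have e := (D.comm_η h.com (u + k • v)).trans (D.congr (w := u - D.ρ D'.z • u) (k := l) (by rw [smul_add, smul_comm3, hv]; abel) (by
    simp only [smul_add, smul_comm3, hv, D.lam_add h.com, D.lam_smul h.com, map_add, map_smul, LinearMap.add_apply,
      LinearMap.smul_apply, smul_eq_mul, S.alt, e1]
    linear_combination -hk))
  exact (D.η_eq_one.1 (e.symm.trans (h.eq_one (D.η_mem _ _) (e ▸ h1)))).1

theorem Far.nl_sub (L : LF B V) {D D' : FA G S} (h : D.Far D') (hv : ∃ v, D.ρ D'.z • v = v ∧ D.lam D'.z v ≠ 0) :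
    ∃ N ≤ D.Q, N ≤ D'.H ∧ D.z ∈ N ∧ (∀ a ∈ N, ∀ b ∈ N, Commute a b) ∧ N ⊓ D'.Q = ⊥ ∧ 27 ≤ Nat.card N := by
  obtain ⟨u, e⟩ := D.exists_lam h.com
  obtain ⟨v, -, hl⟩ := id hv
  refine ⟨D.pre (Im V (D.ρ D'.z) ⊓ Fix V (D.ρ D'.z) ⊓ LinearMap.ker ((S.b u).smulRight v)), D.pre_le _, ?_,
    D.z_pre _, ?_, eq_bot_iff.2 ?_, ?_⟩
  · rintro _ ⟨w, ⟨⟨-, h1⟩, h2⟩, l, rfl⟩
    refine D'.mem_H.2 ((D.commute_η h.com).2 ⟨h1, by_contra fun n => hl ?_⟩).symm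
    have : v = 0 := (smul_eq_zero_iff_right (e w ▸ n)).1 h2
    rw [this, D.lam_zero h.com]
  · rintro _ ⟨w, ⟨⟨-, h1⟩, -⟩, l, rfl⟩ _ ⟨w', ⟨⟨h2, -⟩, -⟩, l', rfl⟩
    exact D.comm_iff.2 (S.b_fix_im h1 h2)
  · rintro _ ⟨⟨w, ⟨⟨h1, -⟩, -⟩, l, rfl⟩, h2⟩
    exact h.inf_Z (D.η_mem_Z.2 (h.nl_im hv h2 h1)) h2
  obtain ⟨h1, h2⟩ := S.card_TM h.ρ3
  have h3 := S.card_map (Im V (D.ρ D'.z) ⊓ Fix V (D.ρ D'.z)) ((S.b u).smulRight v)
  have h4 : Nat.card ((Im V (D.ρ D'.z) ⊓ Fix V (D.ρ D'.z)).map ((S.b u).smulRight v)) ≤ 3 :=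
    (S.card_le (Submodule.map_le_iff_le_comap.2 fun w _ => Submodule.mem_span_singleton.2 ⟨_, rfl⟩)).trans
      (card_span v)
  have h5 := S.card_le (le_inf h1 (show _ ≤ LinearMap.ker ((S.b u).smulRight v) from ?_))
  · have h6 := L.fx _ h.ρ3 h.ρ1
    obtain ⟨n, h7⟩ := S.card_pow ((Im V (D.ρ D'.z) ⊓ Fix V (D.ρ D'.z) ⊓ LinearMap.ker ((S.b u).smulRight v)))
    rw [D.card_pre]
    rw [h3] at h2
    rw [h7] at h2 h5 ⊢
    by_contra! c0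
    have : 3 ^ n ≤ 3 := (Nat.pow_le_pow_right (n := 3) (by decide) (show n ≤ 1 from by_contra fun c => by
      have := Nat.pow_le_pow_right (n := 3) (by decide) (show 2 ≤ n by omega)
      omega))
    have := Nat.mul_le_mul (Nat.mul_le_mul (h5.trans this) (Nat.mul_le_mul h4 this)) h6
    omega
  rintro _ ⟨_, ⟨x, rfl⟩, rfl⟩
  have e1 := D.lam_mul h.com (h.com.mul_left h.com) x
  rw [← pow_three, D'.z3, D.lam_mul h.com h.com, D.ρ_mul h.com h.com, mul_smul,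
    ((D.commute_η (Commute.one_left _)).1 (Commute.one_left (D.η x 0))).2, e, e, e] at e1
  rw [LinearMap.mem_ker, LinearMap.smulRight_apply, TM_apply, smul_sub, map_sub, map_sub, map_sub,
    show S.b u x - S.b u (D.ρ D'.z • x) - (S.b u (D.ρ D'.z • x) - S.b u (D.ρ D'.z • D.ρ D'.z • x)) = 0 by
      linear_combination -e1 - S.b u (D.ρ D'.z • x) * three_eq, zero_smul]

theorem j27 [Finite G] (L : LF B V) (D : FA G S) {N : Subgroup G} (h1 : N ≤ D.H) (h2 : ∀ a ∈ N, a ^ 3 = 1)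
    (h3 : ∀ a ∈ N, ∀ b ∈ N, ⁅a, b⁆ ∈ D.Q) (h4 : 27 * Nat.card ↥(N ⊓ D.Q) ≤ Nat.card N) :
    J27 ((N.subgroupOf D.H).map D.ρH) := by
  have k : ∀ a ∈ (N.subgroupOf D.H).map D.ρH, a ^ 3 = 1 := by
    rintro _ ⟨a, ha, rfl⟩
    rw [← map_pow, show a ^ 3 = 1 from Subtype.ext (h2 a ha), map_one]
  refine ⟨?_, k, (L.e27 _ k).antisymm (Nat.le_of_mul_le_mul_right (h4.trans_eq (D.card_ρ h1)) Nat.card_pos)⟩
  rintro _ ⟨a, ha, rfl⟩ _ ⟨b, hb, rfl⟩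
  rw [← commutatorElement_eq_one_iff_commute, ← map_commutatorElement]
  exact D.ρ_Q (h3 a ha b hb)

theorem fixS (D : FA G S) {N : Subgroup G} {v : V} {l : F3} (h : ∀ a ∈ N, Commute a (D.η v l)) :
    v ∈ FixS V ((N.subgroupOf D.H).map D.ρH) := by
  rintro _ ⟨a, ha, rfl⟩
  exact ((D.commute_η (D.mem_H.1 a.2)).1 (h a ha)).1

theorem comm_mem (D D' : FA G S) {a b : G} (h1 : a ∈ D.Q) (h2 : Commute a D'.z) (h3 : b ∈ D'.Q) (h4 : Commute b D.z) :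
    ⁅a, b⁆ ∈ D.Q ⊓ D'.Q :=
  mem_inf.2 ⟨by simpa [commutatorElement_def, mul_assoc] using mul_mem h1 (D.conj_mem h4 (inv_mem h1)),
    mul_mem (D'.conj_mem h2 h3) (inv_mem h3)⟩

theorem Far.nl_false [Finite G] (L : LF B V) {D D' : FA G S} (h : D.Far D') (h' : D'.Far D)
    (hv : ∃ v, D.ρ D'.z • v = v ∧ D.lam D'.z v ≠ 0) (hv' : ∃ v, D'.ρ D.z • v = v ∧ D'.lam D.z v ≠ 0) :
    False := by
  obtain ⟨N, a1, a2, a3, a4, a5, a6⟩ := h.nl_sub L hv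
  obtain ⟨N', b1, b2, -, -, -, b6⟩ := h'.nl_sub L hv'
  have hJ := D'.j27 L a2 (fun a ha => D.Q_cube (a1 ha))
    (fun a ha b hb => (a4 a ha b hb).commutator_eq ▸ one_mem _) (by rwa [a5, card_bot, mul_one])
  have hU : ∀ u ∈ D.Q ⊓ D'.Q, u = 1 := by
    rintro _ ⟨h1, w, l, rfl⟩
    refine h'.inf_Z (D'.η_mem_Z.2 (h'.nl_im hv' h1 (L.j1' _ hJ _ ⟨⟨_, a2 a3⟩, a3, rfl⟩ h'.ρ1
      (D'.fixS (N := N) (l := l) fun a ha => commutatorElement_eq_one_iff_commute.1 ?_)))) h1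
    exact h.inf_Z (D.comm_mem_Z (a1 ha) h1) (D.comm_mem D' (a1 ha) (D'.mem_H.1 (a2 ha)) (D'.η_mem w l) (D.Q_z h1)).2
  have h1 := S.card_le (U := D'.vS N') fun w ⟨l, hw⟩ => D'.fixS (N := N) fun a ha => commutatorElement_eq_one_iff_commute.1
    (hU _ (D.comm_mem D' (a1 ha) (D'.mem_H.1 (a2 ha)) (b1 hw) (D.mem_H.1 (b2 hw))))
  have h2 := L.j1 _ hJ
  have h3 := D'.card_le_vS b1
  omega

end FA

end Cfsg.Lib.C23
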