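import Cfsg.Agent.Recog.C23G2

/-!
The second step in the recognition of `Fi₂₃`: a conjugate of the centre inside the extraspecial group.
-/

set_option autoImplicit false

namespace Cfsg.Lib.C23

open Cfsg Subgroup Cfsg.Lib.Recog.P43 Cfsg.Lib.C22
open scoped commutatorElement

variable {B : Type*} [Group B] {V : Type*} [AddCommGroup V] [Module F3 V] [DistribMulAction B V] {S : SP B V}
variable {G : Type*} [Group G] [Finite G]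

theorem FA.pr (L : LF B V) {D D' : FA G S} (h : D'.z ∈ D.Q) (hZ : D'.z ∉ D.Z) :
    ∃ s, s * s = 1 ∧ Commute s D.z ∧ Commute s D'.z ∧ TT V (D.ρ s) ∧ TT V (D'.ρ s) := by
  have a1 := D'.card_ρ (Y := D.Q ⊓ D'.H) inf_le_right
  rw [D.card_cent h hZ, inf_assoc, inf_eq_right.2 D'.Q_le_H] at a1
  have a2 := L.e27 (((D.Q ⊓ D'.H).subgroupOf D'.H).map D'.ρH) (by
    rintro _ ⟨a, ha, rfl⟩
    rw [← map_pow, show a ^ 3 = 1 from Subtype.ext (D.Q_cube ha.1), map_one])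
  have hZ' : D.z ∉ D'.Z := fun c => hZ (FA.Z_symm c)
  have ab : (∀ x ∈ D.Z, x ∈ D'.Z → x = 1) → ∀ a ∈ D.Q ⊓ D'.Q, ∀ b ∈ D.Q ⊓ D'.Q, Commute a b := fun k a ha b hb =>
    commutatorElement_eq_one_iff_commute.1 (k _ (D.comm_mem_Z ha.1 hb.1) (D'.comm_mem_Z ha.2 hb.2))
  have ab := ab fun x h1 h2 => by
    rcases D.mem_Z'.1 h1 with e | e | e
    exacts [e, absurd (e ▸ h2) hZ', absurd (inv_mem_iff.1 (e ▸ h2)) hZ']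
  have h' : D.z ∈ D'.Q := by_contra fun n => by
    have := D.ab81 inf_le_left (fun c => n c.2) ab
    nlinarith
  have a3 := D.ab243 inf_le_left ab
  have hJ := D.j27 L (N := D'.Q ⊓ D.H) inf_le_right (fun a ha => D'.Q_cube ha.1)
    (fun a ha b hb => zpowers_le.2 h (D'.comm_mem_Z ha.1 hb.1)) (by
      rw [D'.card_cent h' hZ', inf_assoc, inf_eq_right.2 D.Q_le_H, inf_comm]; omega)
  obtain ⟨v, l, e⟩ := id h
  obtain ⟨d, hd, hv⟩ := L.j3 _ hJ v (D.fixS (l := l) fun a ha => e ▸ D'.Q_z ha.1)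
  obtain ⟨s, s1, s2, rfl⟩ := D.exists_inv hd.sq
  have s3 : Commute s D'.z := e ▸ (D.inv_η s1 s2).2 hv
  refine ⟨s, s1, s2, s3, hd, by rw [← D'.ρ_mul s3 s3, s1, D'.ρ_one], fun c => hd.ne ?_, ?_⟩
  · rw [eq_one_of_sq_cube s1 (D'.Q_cube ((D'.ρ_eq_one s3).1 c)), D.ρ_one]
  have b0 : ∀ v ∈ D.vS (D.Q ⊓ D'.Q), ∀ w ∈ D.vS (D.Q ⊓ D'.Q), S.b v w = 0 := fun v ⟨_, hv⟩ w ⟨_, hw⟩ =>
    D.comm_iff.1 (ab _ hv _ hw)
  have b1 := S.card_map (D.vS (D.Q ⊓ D'.Q)) (TM V (D.ρ s))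
  have b2 : (D.vS (D.Q ⊓ D'.Q)).map (TM V (D.ρ s)) ≤ D.vS (D.Q ⊓ D'.Q) := by
    rintro _ ⟨w, ⟨k, hw⟩, rfl⟩
    exact sub_mem ⟨k, hw⟩ ⟨_, D.conj s s2 w k ▸ mem_inf.2 ⟨D.conj_mem s2 hw.1, D'.conj_mem s3 hw.2⟩⟩
  have b3 := S.iso_ng (U := (D.vS (D.Q ⊓ D'.Q)).map (TM V (D.ρ s))) (d := D.ρ s)
    (by rintro _ ⟨w, -, rfl⟩; exact Im_eq_Ng (V := V) hd.sq ▸ ⟨w, rfl⟩) fun v hv w hw => b0 v (b2 hv) w (b2 hw)
  have b4 := D.card_of_z (A := D.Q ⊓ D'.Q) inf_le_left ⟨D.z_mem, h'⟩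
  have b5 := D.card_of_z (A := D.Q ⊓ D'.Q ⊓ centralizer {s}) (inf_le_left.trans inf_le_left)
    ⟨⟨D.z_mem, h'⟩, mem_centralizer_singleton_iff.2 s2.symm⟩
  have b6 := S.card_le (U := D.vS (D.Q ⊓ D'.Q) ⊓ LinearMap.ker (TM V (D.ρ s)))
    (U' := D.vS (D.Q ⊓ D'.Q ⊓ centralizer {s})) fun w ⟨⟨k, hw⟩, hw'⟩ =>
      ⟨k, hw, mem_centralizer_singleton_iff.2 ((D.inv_η s1 s2).2 (ker_TM (V := V) (D.ρ s) ▸ hw' : w ∈ Fix V _)).symm⟩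
  have b7 := D'.card_le_vS (A := D.Q ⊓ D'.Q ⊓ centralizer {s}) (inf_le_left.trans inf_le_right)
  have b8 := S.iso_fix (d := D'.ρ s) (by rw [← D'.ρ_mul s3 s3, s1, D'.ρ_one])
    (U := D'.vS (D.Q ⊓ D'.Q ⊓ centralizer {s}))
    (fun w ⟨k, hw⟩ => (D'.inv_η s1 s3).1 (Commute.symm (mem_centralizer_singleton_iff.1 hw.2)))
    fun v ⟨_, hv⟩ w ⟨_, hw⟩ => D'.comm_iff.1 (ab _ hv.1 _ hw.1)
  rw [L.t0 _ hd] at b3
  generalize Nat.card ((D.vS (D.Q ⊓ D'.Q)).map (TM V (D.ρ s))) = m at b1 b3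
  have c1 : m ≤ 3 := by nlinarith
  have c2 := Nat.mul_le_mul c1 b6
  have c3 := Nat.mul_le_mul_right (Nat.card ↥(D.Q ⊓ D'.Q)) a2
  nlinarith

end Cfsg.Lib.C23
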