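import Cfsg.Agent.Recog.C23Api

/-!
The frame induced on the centralizer of an involution modulo the involution.
-/

set_option autoImplicit false

namespace Cfsg.Lib.C23

open Cfsg Subgroup Cfsg.Lib.Recog.P43 Cfsg.Lib.C22
open scoped commutatorElement

variable {B : Type*} [Group B] {V : Type*} [AddCommGroup V] [Module F3 V] [DistribMulAction B V] {S : SP B V}
variable {G : Type*} [Group G]

namespace FA

variable (D : FA G S) {d : B} {e : C22.V →ₗ[F3] V} {dd : Fin 3 → B} {ρ : B → W} {s : G}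

theorem card_inv (hs : s * s = 1) (hz : Commute s D.z) :
    Nat.card ↥(D.Q ⊓ centralizer {s}) = 3 * Nat.card (Fix V (D.ρ s)) := by
  rw [D.card_of_z inf_le_left ⟨D.z_mem, mem_centralizer_singleton_iff.2 hz.symm⟩]
  rw [show D.vS (D.Q ⊓ centralizer {s}) = Fix V (D.ρ s) from Submodule.ext fun v => ⟨fun ⟨l, h⟩ =>
    (D.inv_η hs hz).1 (Commute.symm (mem_centralizer_singleton_iff.1 h.2)),
    fun h => ⟨0, D.η_mem _ _, mem_centralizer_singleton_iff.2 ((D.inv_η hs hz).2 h).symm⟩⟩]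

theorem eq_one_of_sq {q : G} (h : q ∈ D.Q) (h2 : q * q = 1) : q = 1 := by
  have := D.Q_cube h
  rwa [pow_three, h2, mul_one] at this

theorem ρ_comm {g h : G} (hg : Commute g D.z) (hh : Commute h D.z) (c : Commute g h) :
    Commute (D.ρ g) (D.ρ h) := by
  rw [Commute, SemiconjBy, ← D.ρ_mul hg hh, c.eq, D.ρ_mul hh hg]

theorem exists_r (hB : BL S d e dd ρ) (hs : s * s = 1) (hz : Commute s D.z) (hd : D.ρ s = d) (i : Fin 3) :
    ∃ r, r * r = 1 ∧ Commute r D.z ∧ Commute r s ∧ D.ρ r = dd i ∧ ∀ w, D.lam r (e w) = 0 := by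
  obtain ⟨h, h1, h2, h3⟩ := D.lift hs hz (g := dd i) (hd ▸ hB.ddc i)
  have a1 : h ^ 3 * h ^ 3 = 1 := by
    rw [← (Commute.refl h).mul_pow, D.Q_cube ((D.ρ_eq_one (h1.mul_left h1)).1
      (by rw [D.ρ_mul h1 h1, h3, (hB.ddt i).sq]))]
  have a2 : D.ρ (h ^ 3) = dd i := by rw [D.ρ_pow h1, h3, pow_three, (hB.ddt i).sq, mul_one]
  have a3 := h1.pow_left 3
  have a4 := h2.pow_left 3
  generalize h ^ 3 = r at a1 a2 a3 a4
  obtain ⟨u, hu⟩ := exists_bf (fun w => D.lam r (e w)) fun v w => by rw [map_add, D.lam_add a3]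
  have b1 := D.η_z (e u) 0
  have b2 : Commute (D.η (e u) 0) s := ((D.inv_η hs hz).2 (hd ▸ (hB.rng _).2 ⟨u, rfl⟩)).symm
  refine ⟨D.η (e u) 0 * r * (D.η (e u) 0)⁻¹, by rw [conj_mul, a1, mul_one, mul_inv_cancel],
    (b1.mul_left a3).mul_left b1.inv_left, (b2.mul_left a4).mul_left b2.inv_left,
    by rw [D.ρ_conj b1 a3, D.ρ_η, a2, one_mul, inv_one, mul_one], fun w => ?_⟩
  have c1 := D.lam_fix a1 a3 (v := e w + dd i • e w) (by
    rw [a2, smul_add, smul_smul, (hB.ddt i).sq, one_smul, add_comm])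
  rw [D.lam_add a3, hB.act _ (hB.ddc i), hu, hu] at c1
  rw [D.lam_conj_η a3, a2, hB.act _ (hB.ddc i), hB.form, hB.form, hu]
  linear_combination -c1 + bf u w * three_eq

theorem nz_r (hB : BL S d e dd ρ) (hs : s * s = 1) (hz : Commute s D.z) (hd : D.ρ s = d) {n : G}
    (n1 : Commute n s) (n2 : n * D.z * n⁻¹ = D.z⁻¹) :
    ∃ σ : Equiv.Perm (Fin 3), ∀ i a l, ∃ a' l',
      n * D.η (e (sg i a)) l * n⁻¹ = D.η (e (sg (σ i) a')) l' := by
  choose r r1 r2 r3 r4 r5 using D.exists_r hB hs hz hd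
  have nZ : n * D.z * n⁻¹ ∈ D.Z := n2 ▸ inv_mem (mem_zpowers _)
  have t1 : ∀ i, n * r i * n⁻¹ * (n * r i * n⁻¹) = 1 := fun i => by
    rw [conj_mul, r1, mul_one, mul_inv_cancel]
  have t2' : ∀ i, Commute (n * r i * n⁻¹) (n * D.z * n⁻¹) := fun i => (Commute.conj_iff n).2 (r2 i)
  have t2 : ∀ i, Commute (n * r i * n⁻¹) D.z := fun i => by
    simpa only [n2, Commute.inv_right_iff] using t2' i
  have t3 : ∀ i, Commute (n * r i * n⁻¹) s := fun i => (n1.mul_left (r3 i)).mul_left n1.inv_left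
  have t4 : ∀ i, ∃ j, D.ρ (n * r i * n⁻¹) = dd j := fun i => by
    refine (hB.tt _ ⟨by rw [← D.ρ_mul (t2 i) (t2 i), t1, D.ρ_one], fun c => ?_, ?_⟩
      (hd ▸ D.ρ_comm (t2 i) hz (t3 i))).resolve_left fun c => ?_
    · have := conj_eq_one_iff.1 (D.eq_one_of_sq ((D.ρ_eq_one (t2 i)).1 c) (t1 i))
      exact (hB.ddt i).ne (by rw [← r4, this, D.ρ_one])
    · have c1 := D.card_inv (t1 i) (t2 i)
      have c2 := (D.cj n).card_inv (t1 i) (t2' i)
      rw [D.cj_Q nZ, cj_ρ, show n⁻¹ * (n * r i * n⁻¹) * n = r i by group, r4, c1] at c2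
      have := (hB.ddt i).lt
      omega
    · have c1 := D.eq_one_of_sq ((D.ρ_eq_one ((t2 i).mul_left hz)).1
        (by rw [D.ρ_mul (t2 i) hz, c, hd, hB.td.sq]))
        (by rw [(t3 i).symm.mul_mul_mul_comm, t1, hs, mul_one])
      have c2 : r i = s := by
        have := mul_right_cancel (c1.trans hs.symm)
        rw [mul_inv_eq_iff_eq_mul, ← n1.eq] at this
        exact mul_left_cancel this
      have c3 := hB.act _ (hB.ddc i) (sg i (1, 0))
      rw [hB.ddρ, ← r4, c2, hd, (hB.rng _).2 ⟨_, rfl⟩] at c3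
      have c4 := congrFun (hB.inj c3) i
      rw [ng_act] at c4
      simp only [sg, if_true] at c4
      exact absurd c4 (by decide)
  choose σ hσ using t4
  have inj : Function.Injective σ := fun i k c => by
    have c1 := (D.ρ_eq_one ((t2 i).mul_left (t2 k))).1
      (by rw [D.ρ_mul (t2 i) (t2 k), hσ, hσ, c, (hB.ddt _).sq])
    have c2 := D.ρ_Q (D.conj_mem' (D.inv_nz nZ) c1)
    rw [show n⁻¹ * (n * r i * n⁻¹ * (n * r k * n⁻¹)) * n⁻¹⁻¹ = r i * r k by group,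
      D.ρ_mul (r2 i) (r2 k), r4, r4] at c2
    have c3 := congrArg ρ (mul_right_cancel (c2.trans (hB.ddt k).sq.symm))
    rw [hB.ddρ, hB.ddρ] at c3
    by_contra c4
    have c5 := congrFun (congrArg W.g c3) i
    simp only [W.ng, if_true, if_neg c4] at c5
    exact absurd c5 (by decide)
  refine ⟨Equiv.ofBijective σ (Finite.injective_iff_bijective.1 inj), fun i a l => ?_⟩
  obtain ⟨v, l', hv⟩ := D.conj_mem' nZ (D.η_mem (e (sg i a)) l)
  have b2 : Commute (D.η (e (sg i a)) l) s := ((D.inv_η hs hz).2 (hd ▸ (hB.rng _).2 ⟨_, rfl⟩)).symm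
  obtain ⟨w, rfl⟩ := (hB.rng v).1 (hd ▸ (D.inv_η hs hz).1
    (hv ▸ ((n1.mul_left b2).mul_left n1.inv_left).symm))
  have c1 : r i * D.η (e (sg i a)) l * (r i)⁻¹ * D.η (e (sg i a)) l ∈ D.Z := by
    rw [D.conj _ (r2 i), D.mul, η_mem_Z, r4, hB.act _ (hB.ddc i), hB.ddρ, ← map_add]
    refine (congrArg e (funext fun j => ?_)).trans (map_zero e)
    rw [Pi.add_apply, ng_act]
    by_cases c : j = i <;> simp [sg, c]
  have c2 := D.conj_Z nZ c1
  rw [← conj_mul, ← conj_mul, ← conj_mul, ← _root_.conj_inv, hv, D.conj _ (t2 i), D.mul, η_mem_Z, hσ,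
    hB.act _ (hB.ddc _), hB.ddρ, ← map_add] at c2
  have c3 := hB.inj (c2.trans (map_zero e).symm)
  refine ⟨w (σ i), l', hv.trans (D.congr (congrArg e (funext fun j => ?_)) rfl)⟩
  have c4 := congrFun c3 j
  rw [Pi.add_apply, ng_act] at c4
  by_cases c : j = σ i
  · simp [sg, c]
  · rw [if_neg c] at c4
    simp only [sg, Equiv.ofBijective_apply, if_neg c]
    exact eq_zero_of_eq_neg (eq_neg_of_add_eq_zero_left c4)

end FA

theorem FA.exists_FD [Finite G] (D : FA G S) {d : B} {e : C22.V →ₗ[F3] V} {dd : Fin 3 → B} {ρ : B → W}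
    (hB : BL S d e dd ρ) {s : G} (hs : s * s = 1) (hz : Commute s D.z) (hd : D.ρ s = d) {Y : Type*} [Group Y]
    (φ : centralizer ({s} : Set G) →* Y) (h1 : Function.Surjective φ) (h2 : ∀ x, φ x = 1 ↔ x.1 = 1 ∨ x.1 = s) :
    ∃ D₀ : FD Y, (∀ x, x.1 = D.z → φ x = D₀.z) ∧ ∀ x, x.1 ∈ D.Q → φ x ∈ D₀.Q := by
  have cs : ∀ x : centralizer ({s} : Set G), Commute x.1 s := fun x => mem_centralizer_singleton_iff.1 x.2
  have eq2 : ∀ a b, φ a = φ b → a.1 = b.1 ∨ a.1 = b.1 * s := fun a b h =>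
    ((h2 (b⁻¹ * a)).1 (by rw [map_mul, map_inv, h, inv_mul_cancel])).imp
      (fun c => (inv_mul_eq_one.1 c).symm) fun c => inv_mul_eq_iff_eq_mul.1 c
  have cj : ∀ h a b, a.1 ^ 3 = 1 → b.1 ^ 3 = 1 → φ h * φ a * (φ h)⁻¹ = φ b →
      h.1 * a.1 * h.1⁻¹ = b.1 := fun h a b a3 b3 c => by
    rw [← map_inv, ← map_mul, ← map_mul] at c
    refine (eq2 _ _ c).resolve_right fun c1 => hB.td.ne ?_
    have c2 := congrArg (· ^ 3) c1
    simp only [coe_mul, coe_inv, conj_pow, a3, (cs b).mul_pow, b3, pow_three s, hs, mul_one, one_mul,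
      mul_inv_cancel] at c2
    rw [← hd, ← c2, D.ρ_one]
  obtain ⟨E, hE⟩ : ∃ E : C22.V → F3 → centralizer ({s} : Set G), ∀ w l, (E w l).1 = D.η (e w) l :=
    ⟨fun w l => ⟨D.η (e w) l, mem_centralizer_singleton_iff.2
      ((D.inv_η hs hz).2 (hd ▸ (hB.rng _).2 ⟨w, rfl⟩)).symm⟩, fun _ _ => rfl⟩
  have E3 : ∀ w l, (E w l).1 ^ 3 = 1 := fun w l => hE w l ▸ D.cube _ _
  have Ez : (E 0 1).1 = D.z := by rw [hE, map_zero, D.hz]
  have QC : ∀ x : centralizer ({s} : Set G), x.1 ∈ D.Q → ∃ w l, x = E w l := fun x ⟨v, l, c⟩ => by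
    obtain ⟨w, rfl⟩ := (hB.rng v).1 (hd ▸ (D.inv_η hs hz).1 (c ▸ (cs x).symm))
    exact ⟨w, l, Subtype.ext (c.trans (hE w l).symm)⟩
  have cd : ∀ h : centralizer ({s} : Set G), Commute h.1 D.z → Commute (D.ρ h.1) d := fun h c =>
    hd ▸ D.ρ_comm c hz (cs h)
  have hc : ∀ h : centralizer ({s} : Set G), Commute h.1 D.z → ∀ v l, φ h * φ (E v l) * (φ h)⁻¹ =
      φ (E ((ρ (D.ρ h.1)).act v) (l + D.lam h.1 (e v))) := fun h c v l => by
    rw [← map_inv, ← map_mul, ← map_mul]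
    refine congrArg φ (Subtype.ext ?_)
    rw [coe_mul, coe_mul, coe_inv, hE, hE, D.conj _ c, hB.act _ (cd h c)]
  choose sec hsec using h1
  have cm : ∀ y a, a.1 ^ 3 = 1 → Commute y (φ a) → Commute (sec y).1 a.1 := fun y a a3 c =>
    mul_inv_eq_iff_eq_mul.1 (cj _ a a a3 a3 (by rw [hsec, c.eq, mul_inv_cancel_right]))
  choose r r1 r2 r3 r4 r5 using D.exists_r hB hs hz hd
  refine ⟨⟨φ (E 0 1), fun w l => φ (E w l), fun i => φ ⟨r i, mem_centralizer_singleton_iff.2 (r3 i)⟩,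
    fun y => ρ (D.ρ (sec y).1), fun y w => D.lam (sec y).1 (e w), fun v l w k => ?_, fun l c => ?_, rfl,
    fun y c v l => ?_, fun y c => ?_, fun i => ?_, fun i v l => ?_, ?_, fun y c => ?_⟩,
    fun x c => congrArg φ (Subtype.ext (c.trans Ez.symm)), fun x c => ?_⟩
  · rw [← map_mul]
    refine congrArg φ (Subtype.ext ?_)
    rw [coe_mul, hE, hE, hE, D.mul, map_add, hB.form]
  · have := cj 1 (E 0 l) 1 (E3 _ _) (one_pow 3) (by simp [c])
    simp only [coe_one, one_mul, inv_one, mul_one, hE, map_zero] at this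
    exact D.inj₀ l this
  · rw [← hc _ (Ez ▸ cm y _ (E3 _ _) c), hsec]
  · have a1 : ∀ v, Commute (sec y).1 (D.η (e v) 0) := fun v => hE v 0 ▸ cm y _ (E3 _ _) (c v)
    have a2 : Commute (sec y).1 D.z := by
      have := D.commutator (e (sg 0 (0, 1))) 0 (e (sg 0 (1, 0))) 0
      rw [hB.form, show -bf (sg 0 (0, 1)) (sg 0 (1, 0)) = 1 by decide, D.hz] at this
      rw [← this, commutatorElement_def]
      exact (((a1 _).mul_right (a1 _)).mul_right (a1 _).inv_right).mul_right (a1 _).inv_right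
    rcases hB.ker _ (cd _ a2) fun v => ((D.commute_η a2).1 (a1 v)).1 with a3 | a3
    · obtain ⟨w, l, a4⟩ := QC _ ((D.ρ_eq_one a2).1 a3)
      exact ⟨w, l, by rw [← a4, hsec]⟩
    · obtain ⟨w, l, a4⟩ := QC (sec y * ⟨s, mem_centralizer_singleton_iff.2 rfl⟩)
        ((D.ρ_eq_one (a2.mul_left hz)).1 (by rw [D.ρ_mul a2 hz, a3, hd, hB.td.sq]))
      exact ⟨w, l, by rw [← a4, map_mul, hsec, (h2 _).2 (.inr rfl), mul_one]⟩
  · rw [← map_mul]
    exact (h2 _).2 (.inl (r1 i))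
  · rw [hc _ (r2 i), r4, r5, hB.ddρ, add_zero]
  · obtain ⟨B', b1, b2⟩ := hB.wb
    refine ⟨B', b1, fun w => (b2 w).trans ⟨fun ⟨g, g1, g2⟩ => ?_,
      fun ⟨y, c, g2⟩ => ⟨_, cd _ (Ez ▸ cm y _ (E3 _ _) c), g2⟩⟩⟩
    obtain ⟨h, a1, a2, rfl⟩ := D.lift hs hz (g := g) (hd ▸ g1)
    have a3 : Commute (φ ⟨h, mem_centralizer_singleton_iff.2 a2⟩) (φ (E 0 1)) :=
      Commute.map (Subtype.ext (by rw [coe_mul, coe_mul, Ez]; exact a1)) φ
    refine ⟨_, a3, (W.act_ext fun v => hB.inj ?_).trans g2⟩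
    rw [← hB.act _ (cd _ (Ez ▸ cm _ _ (E3 _ _) a3)), ← hB.act _ g1]
    rcases eq2 _ _ (hsec (φ ⟨h, mem_centralizer_singleton_iff.2 a2⟩)) with c | c <;> rw [c]
    rw [D.ρ_mul a1 hz, mul_smul, hd, (hB.rng _).2 ⟨v, rfl⟩]
  · have a1 := cj (sec y) (E 0 1) (E 0 1)⁻¹ (E3 _ _) (by rw [coe_inv, inv_pow, E3, inv_one])
      (by rw [hsec, c, map_inv])
    rw [coe_inv, Ez] at a1
    obtain ⟨σ, hσ⟩ := D.nz_r hB hs hz hd (cs _) a1
    refine ⟨σ, fun i a l => ?_⟩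
    obtain ⟨a', l', c1⟩ := hσ i a l
    refine ⟨a', l', ?_⟩
    rw [← hsec y, ← map_inv, ← map_mul, ← map_mul]
    refine congrArg φ (Subtype.ext ?_)
    rw [coe_mul, coe_mul, coe_inv, hE, hE, c1]
  · obtain ⟨w, l, rfl⟩ := QC x c
    exact ⟨w, l, rfl⟩

end Cfsg.Lib.C23
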