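import Cfsg.Agent.Recog.O8Cb

/-!
Four commuting quaternion groups in the centralizer of the involution.
-/

set_option autoImplicit false

namespace Cfsg.Lib.O8

open Cfsg Subgroup _root_.Cfsg.Lib.Trans Cfsg.Lib.Recog.P43 Kb
open Cfsg.Lib.Odd3 (conj_mem_of_norm conj_mem_of_norm' mem_norm_of_conj)

namespace OD

variable {G : Type*} [Group G] [Finite G] (D : OD G) {H : Subgroup G}

theorem kb_ps_comm (hH : D.HD H) {i k : Fin 4} (h : i ≠ k) {x y : G} (hx : x ∈ D.PS i)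
    (hy : y ∈ D.PS k) : x * y = y * x := by
  obtain ⟨e, c, he, h1, h2⟩ := mv_pair i k h
  obtain ⟨r, r1, r2⟩ := D.kb_mv he c
  have := (D.kb_core hH (W := ⊤) fun _ _ => mem_top _).1 _
    (D.kb_ps_conj r1 (fun v => r2 (0, v)) h1 hx) _ (D.kb_ps_conj r1 (fun v => r2 (0, v)) h2 hy)
  rwa [conj_mul, conj_mul, mul_left_inj, mul_right_inj] at this

theorem kb_norm0 {n : G} (h1 : n ∈ normalizer (D.J : Set G)) (h2 : n * D.t = D.t * n) (v : V3) :
    ∃ w, n * D.j (0, v) * n⁻¹ = D.j (0, w) := by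
  obtain ⟨w, hw⟩ := (D.mem_J _).1 (conj_mem_of_norm h1 (D.kb_mem (0, v)))
  refine ⟨w.2, ?_⟩
  rw [← D.kb_of_t (v := w) (by
    rw [hw]
    exact ((show Commute n _ from h2).mul_left (D.kb_t0 v)).mul_left
      (show Commute n _ from h2).inv_left), hw]

theorem kb_cent (hH : D.HD H) {P : Fin 4 → Subgroup G} (hP : ∀ i x, x ∈ P i ↔ x ∈ D.PS i)
    {v : V3} (h0 : v ≠ 0) (h1 : q3 v ≠ 1) {g : G} (hg : g * D.t = D.t * g)
    (h : g * D.j (0, v) = D.j (0, v) * g) :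
    ∃ m ∈ ⨆ i, P i, m⁻¹ * g ∈ normalizer (D.J : Set G) := by
  let B : Subgroup G := normalizer (D.J : Set G) ⊓ centralizer {D.t}
  have hB : ∀ n, (∀ v, ∃ w, n * D.j v * n⁻¹ = D.j w) → n * D.t = D.t * n → n ∈ B := fun n a b =>
    ⟨mem_norm_of_conj fun u hu => by
      obtain ⟨v, rfl⟩ := (D.mem_J u).1 hu
      obtain ⟨w, e⟩ := a v
      rw [e]; exact D.kb_mem w, mem_centralizer_singleton_iff.2 b⟩
  have hW : (⨆ i, P i) ≤ centralizer {D.t} := iSup_le fun i x hx =>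
    mem_centralizer_singleton_iff.2 ((hP i x).1 hx).1
  have hn : B ≤ normalizer ((⨆ i, P i : Subgroup G) : Set G) := fun n hn => mem_norm_of_conj (by
    have a := mem_centralizer_singleton_iff.1 hn.2
    have : (⨆ i, P i) ≤ cj n⁻¹ (⨆ i, P i) := iSup_le fun i x hx => by
      obtain ⟨k, hk⟩ := D.kb_ps_norm a (D.kb_norm0 hn.1 a) i
      exact mem_cj_inv.2 (le_iSup P k ((hP k _).2 (hk x ((hP i x).1 hx))))
    exact fun x hx => mem_cj_inv.1 (this hx))
  have c0 : ∀ g ∈ H, g * D.t = D.t * g → g ∈ (⨆ i, P i) ⊔ B := fun g a b => by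
    obtain ⟨m, m1, m2⟩ := (D.kb_core hH (W := ⨆ i, P i) fun x hx =>
      hx.elim (fun c => le_iSup P 0 ((hP _ _).2 c)) fun c => le_iSup P 1 ((hP _ _).2 c)).2 g a b
    rw [← mul_inv_cancel_left m g]
    exact mul_mem (mem_sup_left m1) (mem_sup_right (mem_inf.2 ⟨m2,
      mul_mem (inv_mem (hW m1)) (mem_centralizer_singleton_iff.2 b)⟩))
  have c1 : ∀ g, g * D.j va = D.j va * g → g * D.t = D.t * g → g ∈ (⨆ i, P i) ⊔ B := fun g a b => by
    by_cases c : g ∈ H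
    · exact c0 g c b
    · obtain ⟨n, n1, n2, n3, n4⟩ := hH.ext g a c
      exact (mul_mem_cancel_right (mem_sup_right
        (mem_inf.2 ⟨n1, mem_centralizer_singleton_iff.2 n2⟩))).1
        (c0 _ (hH.idx g n a n3 c n4) ((show Commute g _ from b).mul_left n2))
  have c2 : ∀ g, g * D.j vz = D.j vz * g → g * D.t = D.t * g → g ∈ (⨆ i, P i) ⊔ B := fun g a b => by
    obtain ⟨i, hi⟩ := D.cz g a
    have b1 : D.b ^ i ∈ B := B.pow_mem (hB _ (fun v => ⟨_, D.b_j v⟩) D.kb_bt) i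
    have b2 : D.b ^ i * g * D.t = D.t * (D.b ^ i * g) :=
      (show Commute _ _ from mem_centralizer_singleton_iff.1 b1.2).mul_left b
    refine (mul_mem_cancel_left (mem_sup_right b1)).1 ?_
    generalize D.b ^ i * g = y at hi b2
    rcases hi with e | e
    · exact c1 y (mul_inv_eq_iff_eq_mul.1 e) b2
    · obtain ⟨r, -, r1, r2⟩ := D.kb_sg ⊤ (mem_top _) (e := (1, 2, 2)) (by decide)
      refine (mul_mem_cancel_left (mem_sup_right (hB r (fun v => ⟨_, r2 v⟩) r1))).1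
        (c1 _ (mul_inv_eq_iff_eq_mul.1 ?_) ((show Commute r _ from r1).mul_left b2))
      calc _ = r * (y * D.j va * y⁻¹) * r⁻¹ := by group
        _ = _ := by rw [e, r2]; rfl
  have c3 : g ∈ (⨆ i, P i) ⊔ B := by
    obtain ⟨e, c, he, h2⟩ := mv_vec v h0 h1
    obtain ⟨r, r1, r2⟩ := D.kb_mv he c
    have r3 : r ∈ (⨆ i, P i) ⊔ B := mem_sup_right (hB r (fun v => ⟨_, r2 v⟩) r1)
    have a1 : r * g * r⁻¹ * D.t = D.t * (r * g * r⁻¹) :=
      ((show Commute r _ from r1).mul_left hg).mul_left (show Commute r _ from r1).inv_left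
    have a2 : r * g * r⁻¹ * D.j (0, mv e c v) = D.j (0, mv e c v) * (r * g * r⁻¹) := by
      rw [← r2 (0, v), conj_mul, conj_mul, h]
    rw [← mul_mem_cancel_left r3, ← mul_mem_cancel_right (inv_mem r3)]
    rcases h2 with e | e <;> rw [e] at a2
    exacts [c1 _ a2 a1, c2 _ a2 a1]
  have c4 : g ∈ (((⨆ i, P i) ⊔ B : Subgroup G) : Set G) := c3
  rw [coe_mul_of_right_le_normalizer_left _ _ hn] at c4
  obtain ⟨m, m1, n, n1, rfl⟩ := c4
  exact ⟨m, m1, by simpa using n1.1⟩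

end OD

variable {G : Type*} [Group G] [Finite G]

theorem OD.kb (D : OD G) {H : Subgroup G} (hH : D.HD H) (N : Subgroup G) [N.Normal] (ht : D.t ∈ N)
    {K : Type*} [Group K] (f : K →* G) (hf : Function.Injective f)
    (hr : ∀ g, g ∈ f.range ↔ g ∈ N ∧ g * D.t = D.t * g) :
    ∃ (t : K) (J : Subgroup K) (j : V3 → K) (P : Fin 4 → Subgroup K), KB t J j P ∧ f t = D.t ∧
      (∀ v, f (j v) = D.j (0, v)) ∧ ∀ i x, x ∈ P i ↔ f x ∈ D.PS i := by
  have : Finite K := Finite.of_injective f hf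
  obtain ⟨t, et⟩ := (hr D.t).2 ⟨ht, rfl⟩
  choose j ej using fun v : V3 => (hr (D.j (0, v))).2 ⟨D.kb_le N ht _, D.kb_t0 v⟩
  choose S s1 s2 s3 s4 using D.kb_ps
  have hc : ∀ g, f g * D.t = D.t * f g := fun g => ((hr _).1 ⟨g, rfl⟩).2
  have hS : ∀ i, S i ≤ f.range := fun i x hx =>
    (hr x).2 ⟨s4 i N inferInstance ht hx, ((s1 i x).1 hx).1⟩
  have hJ : ∀ g, g ∈ D.J.comap f ↔ ∃ v, j v = g := fun g => by
    refine ⟨fun h => ?_, ?_⟩
    · obtain ⟨v, e⟩ := (D.mem_J _).1 h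
      exact ⟨v.2, hf (by rw [ej, ← e, ← D.kb_of_t (v := v) (by rw [e]; exact hc g)])⟩
    · rintro ⟨v, rfl⟩
      rw [mem_comap, ej]; exact D.kb_mem _
  have hP : ∀ i x, x ∈ (S i).comap f ↔ f x ∈ D.PS i := fun i x => s1 i _
  have hcj : ∀ g v w, g * j v * g⁻¹ = j w ↔ f g * D.j (0, v) * (f g)⁻¹ = D.j (0, w) := fun g v w => by
    rw [← hf.eq_iff, map_mul, map_mul, map_inv, ej, ej]
  have hcm : ∀ g v, g * j v = j v * g ↔ f g * D.j (0, v) = D.j (0, v) * f g := fun g v => by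
    rw [← hf.eq_iff, map_mul, map_mul, ej]
  refine ⟨t, D.J.comap f, j, fun i => (S i).comap f, ⟨?_, ?_, fun g => ?_, fun v w => ?_,
    fun v w e => ?_, hJ, fun i => ?_, fun i => ?_, fun i x hx => ?_, fun i k h x hx y hy => ?_,
    fun i v x hx => ?_, fun i v x hx => ?_, fun g hg => ?_, fun n hn i => ?_, fun g v w e => ?_,
    fun e he => ?_, fun v h0 h1 g hg => ?_⟩, et, ej, hP⟩
  · exact hf (by rw [map_mul, et, D.kb_t2, map_one])
  · exact fun e => D.kb_t1 (by rw [← et, e, map_one])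
  · exact hf (by rw [map_mul, map_mul, et, hc])
  · exact hf (by rw [map_mul, ej, ej, ej, ← D.add]; rfl)
  · exact congrArg Prod.snd (D.jinj (0, v) (0, w) (by rw [← ej, ← ej, e]))
  · rw [← card_map_of_injective hf, map_comap_eq_self (hS i), s2]
  · rw [hP, et]
    exact ⟨rfl, by rw [show 4 = 2 * 2 from rfl, pow_mul, pow_two D.t, D.kb_t2, one_pow],
      fun v _ => (D.kb_t0 v).symm⟩
  · simp only [← hf.eq_iff, map_mul, map_one, et]
    exact s3 i _ hx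
  · exact hf (by rw [map_mul, map_mul, D.kb_ps_comm hH h ((hP _ _).1 hx) ((hP _ _).1 hy)])
  · rw [hP, map_mul, map_mul, map_inv, ej]
    exact D.kb_ps_conj (L := id) (D.kb_t0 v) (fun w => by rw [D.kb_comm, mul_inv_cancel_right]; rfl)
      (fun w a => ⟨w, a, rfl⟩) ((hP _ _).1 hx)
  · rw [eq_comm, hcm]
    simp only [← hf.eq_iff, map_one, et]
    refine ⟨fun h => or_iff_not_imp_left.2 (D.kb_cP ((hP _ _).1 hx) h.symm), ?_⟩
    rintro (h | h | h)
    · exact ((hP _ _).1 hx).2.2 v h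
    · rw [h, one_mul, mul_one]
    · rw [h, D.kb_t0]
  · obtain ⟨v, e⟩ := D.kb_cJ (hc g) fun v => (hcm g v).1 (hg v)
    exact ⟨v, by simpa only [← hf.eq_iff, map_mul, ej, et] using e⟩
  · obtain ⟨k, hk⟩ := D.kb_ps_norm (hc n) (fun v => by
      obtain ⟨w, e⟩ := (hJ _).1 (conj_mem_of_norm hn ((hJ _).2 ⟨v, rfl⟩))
      exact ⟨w, (hcj _ _ _).1 e.symm⟩) i
    exact ⟨k, fun x hx => (hP _ _).2 (by
      rw [map_mul, map_mul, map_inv]; exact hk _ ((hP _ _).1 hx))⟩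
  · simpa [q4] using D.iso _ _ _ ((hcj _ _ _).1 e)
  · obtain ⟨r, r1, r2, r3⟩ := D.kb_sg N ht he
    obtain ⟨n, rfl⟩ := (hr r).2 ⟨r1, r2⟩
    exact ⟨n, fun v => (hcj _ _ _).2 (r3 _)⟩
  · obtain ⟨m, m1, m2⟩ := D.kb_cent hH s1 h0 h1 (hc g) ((hcm _ _).1 hg)
    obtain ⟨m, m3, rfl⟩ := (iSup_le fun i => (map_comap_eq_self (hS i)).ge.trans
      (map_mono (le_iSup (fun i => (S i).comap f) i)) :
        (⨆ i, S i) ≤ (⨆ i, (S i).comap f).map f) m1
    rw [← mul_inv_cancel_left m g]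
    refine mul_mem (mem_sup_left m3) (mem_sup_right (mem_norm_of_conj fun u hu => ?_))
    rw [mem_comap, map_mul, map_mul, map_inv, map_mul, map_inv]
    exact conj_mem_of_norm m2 hu

end Cfsg.Lib.O8
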