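import Cfsg.Agent.Recog.O8Ia
import Cfsg.Agent.Recog.O8Ka
import Cfsg.Agent.Local.KleinDich

/-!
The additional involution lies outside a subgroup of index two.
-/

set_option autoImplicit false
set_option synthInstance.maxSize 2000

namespace Cfsg.Lib.O8

open Cfsg Subgroup _root_.Cfsg.Lib.Trans Cfsg.Lib.Recog.P43
open Cfsg.Lib.Odd3 (conj_mem_of_norm conj_mem_of_norm' mem_norm_of_conj)

theorem vI_diag : ∀ (c : F3) (e : V3), c ≠ 0 → IsSg e → e = (2, 2, 2) ∨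
    (∃ f, q4 f = 1 ∧ ∀ v, dgI c e v = -rfI 1 f v) ∨
    ∃ v', q4 v' = 2 ∧ dgI c e v' = v' ∧ ∃ f, (f = 0 ∨ q4 f = 1) ∧ b4 f v' = 0 ∧
      ∃ f', (f' = 0 ∨ q4 f' = 1) ∧ b4 f' v' = 0 ∧ ∀ v, dgI c e v = rfI 1 f (rfI 1 f' v) := by
  decide +kernel

theorem vI_sing : ∀ v' f : V4, q4 v' = 2 → (f = 0 ∨ q4 f = 1) → b4 f v' = 0 →
    ∃ v, v ≠ 0 ∧ q4 v = 0 ∧ b4 v v' = 0 ∧ rfI 1 f v = v ∧ rfI 1 f v' = v' := by decide +kernel

theorem vI_short : ∀ ρ, q4 ρ = 2 → b4 ρ va = 0 →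
    ∃ f, q4 f = 1 ∧ b4 f va = 0 ∧ rfI 1 f (rfI 2 ρ vz) = -vz := by decide +kernel

theorem vI_two : ∀ i k, i ≠ k → ∃ v' : V3, q4 (0, v') = 2 ∧ ch i v' = 0 ∧ ch k v' = 0 := by
  decide +kernel

theorem vI_one : ∀ i v', q4 (0, v') = 2 → ch i v' = 0 →
    ∃ s : V3, ((0, s) : V4) ≠ 0 ∧ q4 (0, s) = 0 ∧ b4 (0, s) (0, v') = 0 ∧ ch i s = 0 := by
  decide +kernel

theorem qI_facts : (∀ g : Q, g ^ 4 = 1 → Q.chi g = 0) ∧
    (∀ g : Q, g ^ 3 = 1 → (g * Q.s) ^ 3 = 1 → ∃ v, X.ell g = X.jv v ∧ (emb v).1 = 0) ∧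
    (∀ k : F3, (emb (k, k, k)).1 = 0) ∧ (emb (1, 0, 0)).1 = 0 := by decide +kernel

namespace OD

variable {G : Type*} [Group G] [Finite G] {D : OD G} {u : G} (hu : D.CaseB u)

include hu

theorem CaseB.not_conj_bI {w : G} {v : V4} (hv : ch 0 v.2 = 0)
    (h : D.b * D.j v * w = w * (D.b * D.j v)) : ¬ IsConj u w := fun hw => by
  obtain ⟨g, rfl⟩ := isConj_iff.1 hw
  obtain ⟨c, v', -, e⟩ := hu.conj_threeI (x := g⁻¹ * (D.b * D.j v) * g) (by
      calc _ = g⁻¹ * (D.b * D.j v * (g * u * g⁻¹)) * g := by group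
        _ = _ := by rw [h]; group) (by
      rw [← inv_inv g, inv_inv g⁻¹, conj_pow, D.bj_cubeI, hv, zero_smul, D.zeroI]; group)
  exact D.nb v hv _ (isConj_iff.2 ⟨c * g⁻¹, by rw [← e]; group⟩)

theorem CaseB.not_conj_invI {w : G} {c : F3} (h : D.ActI w (dgI c (2, 2, 2))) :
    ¬ IsConj u w := fun hw => by
  have w2 : w * w = 1 := by
    obtain ⟨g, rfl⟩ := isConj_iff.1 hw
    rw [conj_mul, hu.u2]; group
  obtain ⟨x, hx⟩ := (h.conj (R := fun v => (v.1, rot v.2)) D.b_j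
    ((by decide +kernel : ∀ (c : F3) (v : V4), dgI c (2, 2, 2) (v.1, rot v.2) =
      ((dgI c (2, 2, 2) v).1, rot (dgI c (2, 2, 2) v).2)) c)).eq D.b_j
  have e1 : ch 0 x.2 • vz = 0 := D.eq_zeroI (by
    rw [← D.bj_cubeI, ← hx, conj_pow, D.b3]; group)
  have e2 : x + dgI c (2, 2, 2) x = 0 := D.eq_zeroI (by
    have : w * (w * D.b * w⁻¹) * w⁻¹ = D.b := by
      calc _ = w * w * D.b * (w * w)⁻¹ := by group
        _ = _ := by rw [w2]; group
    rw [hx, ← conj_mul, hx, h, mul_assoc, ← D.add] at this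
    exact mul_eq_left.1 this)
  refine hu.not_conj_bI (v := -x) ((by decide +kernel : ∀ x : V3, ch 0 x • vz = 0 → ch 0 (-x) = 0) _ e1)
    (mul_inv_eq_iff_eq_mul.1 ?_).symm hw
  rw [← conj_mul, hx, h, mul_assoc, ← D.add, h.neg, eq_neg_of_add_eq_zero_right e2, neg_neg,
    (by decide +kernel : ∀ x : V4, x + x = -x)]

variable {H : Subgroup G} (hH : D.HD H)

include hH

omit hu [Finite G] in
theorem HD.refl_memI {r : G} {f : V4} (h : D.ActI r (rfI 1 f)) (h1 : f = 0 ∨ q4 f = 1)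
    (h2 : b4 f va = 0) : r ∈ H := by
  obtain ⟨v, a1, a2, a3, a4, a5⟩ := vI_sing va f (by decide) h1 h2
  exact hH.cz r v (h.fix.2 a5) a1 a2 a3 (h.fix.2 a4)

theorem CaseB.not_conj_HI {w : G} (h : w ∈ H) : ¬ IsConj u w := fun hw => by
  obtain ⟨g, rfl⟩ := isConj_iff.1 hw
  obtain ⟨c, v, c1, e⟩ := hu.conj_threeI (x := g⁻¹ * D.j va * g) (by
      calc _ = g⁻¹ * (D.j va * (g * u * g⁻¹)) * g := by group
        _ = _ := by rw [← hH.le _ h]; group) (by
      rw [← inv_inv g, inv_inv g⁻¹, conj_pow, D.cubeI]; group)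
  have e1 : c * g⁻¹ * D.j va * (c * g⁻¹)⁻¹ = D.j (emb v) := by rw [← e]; group
  have e2 := D.iso _ _ _ e1
  obtain ⟨n, L, hL, e3⟩ := D.exists_act_conjI (v := emb v) (w := va)
    (by intro e; rw [e] at e2; exact absurd e2 (by decide)) (by decide) e2.symm
  have hI : Local.IdxLeTwo H (centralizer {D.j va}) := fun x hx y hy =>
    hH.idx x y (mem_centralizer_singleton_iff.1 hx) (mem_centralizer_singleton_iff.1 hy)
  have e4 := hI.conj_mem (s := n * (c * g⁻¹)) (mem_centralizer_singleton_iff.2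
    (mul_inv_eq_iff_eq_mul.1 (by
      calc _ = n * (c * g⁻¹ * D.j va * (c * g⁻¹)⁻¹) * n⁻¹ := by group
        _ = _ := by rw [e1, hL, e3]))) (mem_centralizer_singleton_iff.2 (hH.le _ h)) h
  have e5 : n * (c * g⁻¹) * (g * u * g⁻¹) * (n * (c * g⁻¹))⁻¹ = n * u * n⁻¹ := by
    calc _ = n * (c * u) * c⁻¹ * n⁻¹ := by group
      _ = _ := by rw [c1]; group
  rw [e5] at e4
  obtain ⟨f, a1, a2, a3⟩ := vI_short (L va) (hL.q _) (by
    conv_lhs => arg 2; rw [← e3]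
    rw [hL.bil]
    exact (by decide +kernel : ∀ v, b4 va (emb v) = 0) v)
  obtain ⟨r, -, hr⟩ := D.exists_reflI a1
  refine hH.ninv _ (mul_mem (hH.refl_memI hr (Or.inr a1) a2) e4) ?_
  exact (hr.mul (hL.conj hu.actI (hL.rf 2 va)) vz).trans (congrArg _ a3)

theorem CaseB.exists_HI {v' : V4} (h : q4 v' = 2) : ∃ H' : Subgroup G,
    (∀ g v, g * D.j v' = D.j v' * g → v ≠ 0 → q4 v = 0 → b4 v v' = 0 → g * D.j v = D.j v * g →
      g ∈ H') ∧ ∀ w ∈ H', ¬ IsConj u w := by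
  obtain ⟨n, L, hL, e⟩ := D.exists_act_conjI (v := v') (w := va)
    (by rintro rfl; exact absurd h (by decide)) (by decide) h
  have c : ∀ {g v}, g * D.j v = D.j v * g → n * g * n⁻¹ * D.j (L v) = D.j (L v) * (n * g * n⁻¹) :=
    fun h => by rw [← hL, conj_mul, conj_mul, h]
  refine ⟨cj n⁻¹ H, fun g v a1 a2 a3 a4 a5 => mem_cj_inv.2 (hH.cz _ (L v) (e ▸ c a1)
    (fun e => a2 (hL.inj (e.trans ?_))) ((hL.q v).trans a3) (by rw [← e, hL.bil, a4]) (c a5)),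
    fun w hw hc => hu.not_conj_HI hH (mem_cj_inv.1 hw) (hc.trans (isConj_iff.2 ⟨n, rfl⟩))⟩
  rw [← zero_smul F3 v, hL.smul, zero_smul, zero_smul]

theorem CaseB.not_conj_PSI {i k : Fin 4} (h : i ≠ k) {x y : G} (hx : x ∈ D.PS i) (hy : y ∈ D.PS k) :
    ¬ IsConj u (x * y) := by
  obtain ⟨v', a1, a2, a3⟩ := vI_two i k h
  obtain ⟨H', b1, b2⟩ := hu.exists_HI hH a1
  have key : ∀ i, ch i v' = 0 → ∀ x ∈ D.PS i, x ∈ H' := fun i e x hx => by
    obtain ⟨s, c1, c2, c3, c4⟩ := vI_one i v' a1 e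
    exact b1 x _ (hx.2.2 _ e) c1 c2 c3 (hx.2.2 _ c4)
  exact b2 _ (mul_mem (key i a2 x hx) (key k a3 y hy))

variable (hy : ∀ v, q4 v = 1 → ∀ g, g * D.j v = D.j v * g → g ∈ normalizer (D.J : Set G))

include hy

theorem CaseB.not_conj_diagI {w : G} {e : V3} (he : IsSg e) (h1 : w * D.t = D.t * w)
    (h2 : ∀ v, w * D.j (0, v) * w⁻¹ = D.j (0, sg e v)) : ¬ IsConj u w := by
  obtain ⟨n, hn, e1⟩ := D.fus w {D.j (0, 1, 0, 0)} (by
    rintro _ rfl
    rw [h2]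
    exact ⟨D.memI _, D.memI _⟩)
  have hw : w ∈ normalizer (D.J : Set G) := by
    have := hy (0, 1, 0, 0) (by decide) (n⁻¹ * w) (mul_inv_eq_iff_eq_mul.1 (by
      calc _ = n⁻¹ * (w * D.j (0, 1, 0, 0) * w⁻¹) * n := by group
        _ = _ := by rw [← e1 _ rfl]; group))
    rwa [mul_mem_cancel_left (inv_mem hn)] at this
  obtain ⟨L, hL⟩ := D.exists_actI hw
  obtain ⟨c, c1, c2⟩ := (by decide +kernel : ∀ x : V4, q4 x = 1 → rfI 1 v1 x = -x →
      ∃ c : F3, c ≠ 0 ∧ x = c • v1) (L v1) (hL.q _) (D.jinj _ _ (by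
    rw [← D.t_actI, ← hL.neg, ← hL, ← hL, show -v1 = rfI 1 v1 v1 by decide, ← D.t_actI]
    calc _ = D.t * w * D.j v1 * (D.t * w)⁻¹ := by group
      _ = _ := by rw [← h1]; group))
  have hd : D.ActI w (dgI c e) := fun v => by
    have a1 : L (0, v.2) = (0, sg e v.2) := D.jinj _ _ ((hL _).symm.trans (h2 _))
    rw [hL]
    conv_lhs => rw [(by decide +kernel : ∀ v : V4, v = v.1 • v1 + (0, v.2)) v, hL.add, hL.smul, a1, c2]
    exact congrArg _ ((by decide +kernel : ∀ (a c : F3) (x : V3),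
      a • c • v1 + ((0, x) : V4) = (c * a, x)) _ _ _)
  rcases vI_diag c e c1 he with rfl | ⟨f, a1, a2⟩ | ⟨v', a1, -, f, a2, a3, f', a4, a5, a6⟩
  · exact hu.not_conj_invI hd
  · obtain ⟨n, L', hL', e2⟩ := D.exists_act_conjI (v := f) (w := v1)
      (by rintro rfl; exact absurd a1 (by decide)) (by decide) a1
    refine fun hc => hu.not_conj_invI (c := 1) (hL'.conj hd fun v => ?_)
      (hc.trans (isConj_iff.2 ⟨n, rfl⟩))
    rw [a2, hL'.neg, hL'.rf, e2]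
    exact (by decide +kernel : ∀ x, -rfI 1 v1 x = dgI 1 (2, 2, 2) x) _
  · obtain ⟨H', b1, b2⟩ := hu.exists_HI hH a1
    have key : ∀ f, (f = 0 ∨ q4 f = 1) → b4 f v' = 0 → ∃ r ∈ H', D.ActI r (rfI 1 f) := by
      intro f d1 d2
      obtain ⟨v, d3, d4, d5, d6, d7⟩ := vI_sing v' f a1 d1 d2
      rcases d1 with rfl | d1
      · exact ⟨1, one_mem _, fun v => by simp [rfI]⟩
      · obtain ⟨r, -, hr⟩ := D.exists_reflI d1
        exact ⟨r, b1 r v (hr.fix.2 d7) d3 d4 d5 (hr.fix.2 d6), hr⟩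
    obtain ⟨r, r1, r2⟩ := key f a2 a3
    obtain ⟨r', r3, r4⟩ := key f' a4 a5
    obtain ⟨x, rfl⟩ := hd.eq (funext a6 ▸ r2.mul r4)
    obtain ⟨v, d3, d4, d5, -⟩ := vI_sing v' 0 a1 (Or.inl rfl) (by simp [b4])
    exact b2 _ (mul_mem (mul_mem r1 r3) (b1 _ v (D.commI _ _) d3 d4 d5 (D.commI _ _)))

omit hu hH hy [Finite G] in
theorem mem_of_threeI {P : Subgroup G} (hP : IsPGroup 3 P) (h1 : ∀ v, D.j (0, v) ∈ P) (hb : D.b ∈ P)
    {y : G} (hy : y ∈ P) (ht : y * D.t = D.t * y) (hz : y * D.j vz = D.j vz * y) :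
    ∃ (i : ℕ) (v : V3), D.b ^ i * y = D.j (0, v) := by
  obtain ⟨-, q2, q3, q4⟩ := qI_facts
  have h0 : ∀ v : V4, v.1 = 0 → D.j v ∈ P := fun v e => by
    rw [show v = (0, v.2) from Prod.ext e rfl]; exact h1 _
  obtain ⟨i, h⟩ := D.cz y hz
  have a1 : D.b ^ i * y ∈ P := mul_mem (pow_mem hb i) hy
  have a2 : D.b ^ i * y * D.j va = D.j va * (D.b ^ i * y) := by
    rcases h with h | h
    · exact mul_inv_eq_iff_eq_mul.1 h
    · obtain ⟨k, hk⟩ := hP ⟨_, a1⟩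
      exact comm_of_invI (congrArg Subtype.val hk) (h.trans (D.negI _))
  obtain ⟨p, k, e⟩ := D.cza _ (((show Commute _ _ from D.b_zI).pow_left i).mul_left hz) a2
  have a3 : Commute (D.φ p * D.j (k • va)) D.t :=
    e ▸ ((show Commute _ _ from D.b_tI).pow_left i).mul_left ht
  have a4 : Commute (D.j (k • va)) D.t := (D.comm_smulI (D.a_comm _) k).symm
  obtain ⟨l, g, rfl⟩ := X.cent_t p (D.inj (by
    have := a3.mul_left a4.inv_left
    rw [mul_inv_cancel_right] at this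
    rw [map_mul, map_mul]; exact this))
  have a5 : (k • va).1 = 0 := by simp [va]
  have a6 : D.φ (X.ell g) ∈ P := by
    rwa [e, mul_mem_cancel_right (h0 _ a5), map_mul, ← D.j_emb,
      mul_mem_cancel_left (h0 _ (q3 l))] at a1
  have a7 : ∀ g : Q, D.φ (X.ell g) ∈ P → g ^ 3 = 1 := fun g hg => by
    obtain ⟨k, hk⟩ := hP ⟨_, hg⟩
    have b1 : g ^ 3 ^ k = 1 := congrArg X.g (D.inj (by
      rw [map_pow, map_pow, map_one, map_one]
      exact congrArg Subtype.val hk) : X.ell (g ^ 3 ^ k) = X.ell 1)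
    rw [← orderOf_dvd_iff_pow_eq_one] at b1 ⊢
    refine Nat.Coprime.dvd_of_dvd_mul_left ?_
      (show _ ∣ 4 * 3 from orderOf_dvd_of_pow_eq_one (Q.facts.1 g))
    exact Nat.Coprime.coprime_dvd_left b1 (Nat.Coprime.pow_left k (by norm_num))
  obtain ⟨v, b1, b2⟩ := q2 g (a7 g a6) (a7 _ (by
    rw [map_mul, map_mul, X.a_facts.2.2.2.2.1, ← D.j_emb]
    exact mul_mem a6 (h0 _ q4)))
  refine ⟨i, (emb (l, l, l) + emb v + k • va).2, ?_⟩
  rw [e, map_mul, b1, ← D.j_emb, ← D.j_emb, ← D.add, ← D.add]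
  exact congrArg _ (Prod.ext (by simp [q3, b2, a5]) rfl)

omit hu hH in
theorem bxI {t : centralizer {D.t}} {J : Subgroup (centralizer {D.t})} {j : V3 → centralizer {D.t}}
    {P : Fin 4 → Subgroup (centralizer {D.t})} (h : KB t J j P)
    (hj : ∀ v, (j v : G) = D.j (0, v)) (hP : ∀ i x, x ∈ P i ↔ (x : G) ∈ D.PS i) :
    BX J j P ⟨D.b, mem_centralizer_singleton_iff.2 D.b_tI⟩ := by
  obtain ⟨b, hb⟩ : ∃ b : centralizer {D.t}, b = ⟨D.b, mem_centralizer_singleton_iff.2 D.b_tI⟩ :=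
    ⟨_, rfl⟩
  have hb' : (b : G) = D.b := by rw [hb]
  rw [← hb]
  have bj : ∀ v, b * j v * b⁻¹ = j (rot v) := fun v => Subtype.ext (by
    simp only [coe_mul, coe_inv, hj, hb', D.b_j])
  refine ⟨Subtype.ext (hb' ▸ D.b3 :), bj, fun x hx => Subtype.ext ?_, ?_, fun v hv w hc => ?_,
    fun v hv g hg => mem_norm_of_conj fun x hx => ?_⟩
  · obtain ⟨-, a1, a2⟩ := (hP 0 x).1 hx
    obtain ⟨p, k, e⟩ := D.cza x (a2 (1, 1, 1) (by decide)) (a2 (0, 1, 2) (by decide))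
    have a3 : D.φ (p ^ 4)⁻¹ = D.j (k • va) := by
      rw [e, (show Commute _ _ from D.comm_smulI (D.a_comm p) k).mul_pow, pow_succ (D.j _), D.cubeI,
        one_mul, ← map_pow] at a1
      rw [map_inv, inv_eq_of_mul_eq_one_right a1]
    obtain rfl := D.eq_zero_of_φI a3
    rw [zero_smul, D.zeroI] at a3 e
    have a4 : p ^ 4 = 1 := inv_eq_one.1 (D.inj (a3.trans (map_one _).symm))
    rw [coe_mul, coe_mul, hb', e, mul_one]
    exact D.b_comm p (qI_facts.1 _ (by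
      change X.gHom p ^ 4 = 1
      rw [← map_pow, a4, map_one]))
  · have hR : IsPGroup 3 (J ⊔ zpowers b : Subgroup _) :=
      (D.syl.isPGroup.comap_subtype (K := centralizer {D.t})).to_le (sup_le (fun x hx => by
        obtain ⟨v, rfl⟩ := (h.mem _).1 hx
        exact (hj v ▸ D.J_le_SI _ :)) (zpowers_le.2 (hb' ▸ D.b_mem_SI :)))
    refine isSylowIn_of_maximal le_top hR fun Q hQ hle _ => ?_
    by_contra hn
    have h4 := lt_inf_normalizer hQ (lt_of_le_not_ge hle hn)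
    refine h4.not_ge fun y hy => ?_
    have c1 : J ⊔ zpowers b ≤ centralizer {j (1, 1, 1)} := sup_le (fun x hx => by
      obtain ⟨v, rfl⟩ := (h.mem _).1 hx
      exact mem_centralizer_singleton_iff.2 (h.j_comm _ _)) (zpowers_le.2
        (mem_centralizer_singleton_iff.2 (mul_inv_eq_iff_eq_mul.1 (bj _))))
    have c2 : ∀ x ∈ J ⊔ zpowers b, y * j (1, 1, 1) * y⁻¹ * x = x * (y * j (1, 1, 1) * y⁻¹) :=
      fun x hx => by
        have := mem_centralizer_singleton_iff.1 (c1 (conj_mem_of_norm' hy.2 hx))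
        calc _ = y * (j (1, 1, 1) * (y⁻¹ * x * y)) * y⁻¹ := by group
          _ = _ := by rw [← this]; group
    have c3 : y * j (1, 1, 1) = j (1, 1, 1) * y := by
      obtain ⟨v, e | e⟩ := h.cJ _ fun v => c2 _ (mem_sup_left (h.j_mem v))
      · have c4 := c2 b (mem_sup_right (mem_zpowers b))
        rw [e, eq_comm, ← mul_inv_eq_iff_eq_mul, bj] at c4
        rcases (by decide : ∀ v : V3, rot v = v → v = 0 ∨ v = (1, 1, 1) ∨ v = -(1, 1, 1)) v
          (h.inj _ _ c4) with rfl | rfl | rfl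
        · rw [h.j0, conj_eq_one_iff, ← h.j0] at e
          exact absurd (h.inj _ _ e) (by decide)
        · exact mul_inv_eq_iff_eq_mul.1 e
        · obtain ⟨k, hk⟩ := hQ ⟨y, hy.1⟩
          exact comm_of_invI (congrArg Subtype.val hk) (e.trans (h.j_neg _))
      · exact absurd e (h.cube_ne (by rw [conj_pow, h.j_cube]; group) (h.j_cube v))
    obtain ⟨i, v, e⟩ := mem_of_threeI (D := D) (hQ.map (centralizer {D.t}).subtype)
      (fun v => ⟨j v, hle (mem_sup_left (h.j_mem v)), hj v⟩)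
      ⟨b, hle (mem_sup_right (mem_zpowers b)), hb'⟩ ⟨y, hy.1, rfl⟩
      (mem_centralizer_singleton_iff.1 y.2) (by
        have := congrArg Subtype.val c3
        rwa [coe_mul, coe_mul, hj] at this)
    have e2 : b ^ i * y = j v := Subtype.ext (by rw [coe_mul, coe_pow, hb', hj]; exact e)
    rw [← mul_mem_cancel_left (mem_sup_right (pow_mem (mem_zpowers b) i)), e2]
    exact mem_sup_left (h.j_mem v)
  · have := (centralizer {D.t}).subtype.map_isConj hc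
    simp only [coe_subtype, coe_mul, hj, hb'] at this
    exact D.nb (0, v) hv _ this
  · obtain ⟨w, rfl⟩ := (h.mem _).1 hx
    have a1 := congrArg Subtype.val hg
    rw [coe_mul, coe_mul, hj] at a1
    obtain ⟨w', e⟩ := (D.mem_J _).1 (conj_mem_of_norm (hy (0, v) (by simpa [q4] using hv) g a1)
      (D.memI (0, w)))
    have a2 := mem_centralizer_singleton_iff.1 (g * j w * g⁻¹).2
    rw [coe_mul, coe_mul, coe_inv, hj, ← e, eq_comm, D.t_actI.fix] at a2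
    refine (h.mem _).2 ⟨w'.2, Subtype.ext ?_⟩
    rw [coe_mul, coe_mul, coe_inv, hj, hj, ← e,
      (by decide +kernel : ∀ x : V4, rfI 1 v1 x = x → (0, x.2) = x) _ a2]

theorem index_two'
    (hkb : ∃ (t : centralizer {D.t}) (J : Subgroup (centralizer {D.t})) (j : V3 → centralizer {D.t})
      (P : Fin 4 → Subgroup (centralizer {D.t})), KB t J j P ∧ (t : G) = D.t ∧
      (∀ v, (j v : G) = D.j (0, v)) ∧ ∀ i x, x ∈ P i ↔ (x : G) ∈ D.PS i)
    (hcB : ∀ {t b u : centralizer {D.t}} {J : Subgroup (centralizer {D.t})}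
      {j : V3 → centralizer {D.t}} {P : Fin 4 → Subgroup (centralizer {D.t})}, KB t J j P →
      BX J j P b → u * u = 1 → (∀ v, u * j v * u⁻¹ = j (swp v)) →
      ∃ T T₀ : Subgroup (centralizer {D.t}), IsSylowIn 2 T ⊤ ∧ u ∈ T ∧ t ∈ T ∧
      (∀ g, (∀ x ∈ T, g * x = x * g) → g = 1 ∨ g = t) ∧ T₀ ≤ T ∧ Nat.card T = Nat.card T₀ * 2 ∧
      ∀ w ∈ T₀, w * w = 1 → w = 1 ∨ w = t ∨
        (∃ i k, i ≠ k ∧ ∃ x ∈ P i, ∃ y ∈ P k, w = x * y) ∨
        (∃ v, ch 0 v = 0 ∧ b * j v * w = w * (b * j v)) ∨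
        ∃ m e, IsSg e ∧ ∀ v, m * w * m⁻¹ * j v * (m * w * m⁻¹)⁻¹ = j (sg e v)) :
    ∃ M : Subgroup G, M.index = 2 ∧ u ∉ M := by
  obtain ⟨t, J, j, P, h, ht, hj, hP⟩ := hkb
  obtain ⟨T, T₀, a1, -, a3, a4, a5, a6, a7⟩ := hcB
    (u := ⟨u, mem_centralizer_singleton_iff.2 (hu.comm _)⟩) h (bxI hy h hj hP) (Subtype.ext hu.u2)
    fun v => Subtype.ext (by
      simp only [coe_mul, coe_inv, hj, hu.actI (0, v)]
      exact congrArg _ ((by decide +kernel : ∀ v : V3, rfI 2 va (0, v) = (0, swp v)) v))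
  have b1 := a1.map (centralizer {D.t}).subtype
  rw [← MonoidHom.range_eq_map, range_subtype] at b1
  have b2 : IsSylowIn 2 (T.map (centralizer {D.t}).subtype) ⊤ := by
    refine isSylowIn_of_maximal le_top b1.isPGroup fun Q hQ hle _ => ?_
    by_contra hn
    have h4 := lt_inf_normalizer hQ (lt_of_le_not_ge hle hn)
    refine h4.ne' (b1.eq_of_le (hQ.to_le inf_le_left) h4.le fun n hn => ?_)
    obtain ⟨x, -, hx⟩ := conj_mem_of_norm hn.2 (mem_map_of_mem _ a3)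
    replace hx : (x : G) = n * D.t * n⁻¹ := hx.trans (by rw [coe_subtype, ht])
    rcases a4 x (fun y hy => Subtype.ext (by
      obtain ⟨z, -, hz⟩ := conj_mem_of_norm' hn.2 (mem_map_of_mem _ hy)
      replace hz : (z : G) = n⁻¹ * y * n := hz
      rw [coe_mul, coe_mul, hx]
      calc _ = n * (D.t * (n⁻¹ * y * n)) * n⁻¹ := by group
        _ = _ := by rw [← hz, ← mem_centralizer_singleton_iff.1 z.2, hz]; group)) with rfl | rfl
    · exact absurd (conj_eq_one_iff.1 hx.symm) D.t_neI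
    · exact mem_centralizer_singleton_iff.2 (mul_inv_eq_iff_eq_mul.1 (hx.symm.trans ht))
  obtain ⟨S, hS⟩ := b2.exists_sylow_eq
  have u1 : u ≠ 1 := map_one D.φ ▸ hu.ne_φI 1
  refine (Local.thompson_or S (M := T₀.map (centralizer {D.t}).subtype)
    (Local.idxLeTwo_of_relIndex ?_) (Local.orderOf_two_of_mul_self hu.u2 u1) ⊥ IsPGroup.of_bot
    (by simp)).resolve_right ?_
  · rw [hS, relIndex_map_map_of_injective _ _ (subtype_injective _)]
    exact Nat.eq_of_mul_eq_mul_left Nat.card_pos ((card_mul_relIndex a5).trans a6)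
  rintro ⟨g, -, ⟨w, hw, e⟩, -⟩
  have hc : IsConj u (w : G) := isConj_iff.2 ⟨g, e.symm⟩
  rcases a7 w hw (Subtype.ext (by
    rw [coe_mul, show (w : G) = _ from e, conj_mul, hu.u2, coe_one]; group)) with
    rfl | rfl | ⟨i, k, c1, x, hx, y, hy', rfl⟩ | ⟨v, c1, c2⟩ | ⟨m, e, c1, c2⟩
  · exact u1 (isConj_one_left.1 hc)
  · refine hu.not_conj_diagI hH hy (e := (1, 1, 1)) (by decide) (by rw [ht]) (fun v => ?_) hc
    rw [ht, D.t_actI]
    exact congrArg _ ((by decide +kernel : ∀ v : V3, rfI 1 v1 (0, v) = (0, sg (1, 1, 1) v)) v)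
  · exact hu.not_conj_PSI hH c1 ((hP _ _).1 hx) ((hP _ _).1 hy') hc
  · refine hu.not_conj_bI (v := (0, v)) c1 ?_ hc
    have := congrArg Subtype.val c2
    simpa only [coe_mul, hj] using this
  · refine hu.not_conj_diagI hH hy c1 (mem_centralizer_singleton_iff.1 (m * w * m⁻¹).2) (fun v => ?_)
      (hc.trans (isConj_iff.2 ⟨m, rfl⟩))
    have := congrArg Subtype.val (c2 v)
    simpa only [coe_mul, coe_inv, hj] using this

end OD

end Cfsg.Lib.O8
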