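import Cfsg.Agent.Recog.L43Defs
import Cfsg.Agent.Recog.Mc3H
import Cfsg.Agent.Solv.SectionAut
import Cfsg.Prelude.Def_Solvable
import Cfsg.Prelude.Def_CaseTheorems
import Cfsg.Prelude.Def_Transfer

/-! The local data `LS` from the hypotheses on the chief factors. -/

set_option autoImplicit false

namespace Cfsg.Lib.L43

open Subgroup Matrix Cfsg.Lib.Solv
open scoped commutatorElement

namespace LSA

/-- A generator of `SL₂(3)`. -/
def ga : SL23 := ⟨!![1, 1; 0, 1], by decide +kernel⟩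
/-- A generator of `SL₂(3)`. -/
def gb : SL23 := ⟨!![1, 0; 1, 1], by decide +kernel⟩

theorem rels : ga ^ 3 = 1 ∧ gb ^ 3 = 1 ∧ (ga * gb) ^ 2 = -1 ∧ (ga * gb) ^ 4 = 1 := by
  decide +kernel

theorem eq_top {H : Subgroup SL23} (ha : ga ∈ H) (hb : gb ∈ H) : H = ⊤ := by
  refine eq_top_iff.2 fun g _ => ?_
  obtain ⟨i, j, k, l, rfl⟩ := (by decide +kernel : ∀ g : SL23, ∃ i j k l : Fin 3,
    ga ^ i.1 * gb ^ j.1 * ga ^ k.1 * gb ^ l.1 = g) g
  exact mul_mem (mul_mem (mul_mem (pow_mem ha _) (pow_mem hb _)) (pow_mem ha _)) (pow_mem hb _)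

theorem mat : ∀ x : Matrix (Fin 2) (Fin 2) F3, x * x * x = 1 → ∀ y : Matrix (Fin 2) (Fin 2) F3,
    y * y * y = 1 → x * y * (x * y) * (x * y * (x * y)) = 1 →
    (∃ v, v ≠ 0 ∧ x *ᵥ v = v ∧ y *ᵥ v = v) ∨ x * y * (x * y) = -1 := by
  decide +kernel

theorem irr {W : Type*} [Group W] [Finite W] [ElemAb 3 W] (ψ : SL23 →* MulAut W)
    (h1 : ∀ H : Subgroup W, (∀ a, ∀ x ∈ H, ψ a x ∈ H) → H = ⊥ ∨ H = ⊤) (h2 : ψ.ker ≠ ⊤) :
    9 ≤ Nat.card W ∧ (Nat.card W = 9 → ∀ w, ψ (-1) w = w⁻¹) := by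
  have : Fact (Nat.Prime 3) := ⟨Nat.prime_three⟩
  obtain ⟨r1, r2, r3, r4⟩ := rels
  constructor
  · by_contra hc
    obtain ⟨n, hn⟩ := (ElemAb.isPGroup 3 W).exists_card_eq
    have h3 : Nat.card (MulAut W) ∣ 2 := by
      rw [Vec.card_mulAut hn]
      have : n < 2 := (Nat.pow_lt_pow_iff_right (a := 3) (by norm_num)).1 (by omega)
      interval_cases n <;> simp
    have k : ∀ g : SL23, g ^ 3 = 1 → g ∈ ψ.ker := fun g hg => by
      have e : ψ g ^ 2 = 1 := orderOf_dvd_iff_pow_eq_one.1 ((_root_.orderOf_dvd_natCard _).trans h3)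
      have e' : ψ g ^ 3 = 1 := by rw [← map_pow, hg, map_one]
      rwa [pow_succ, e, one_mul] at e'
    exact h2 (eq_top (k _ r1) (k _ r2))
  intro hc w
  let b := Module.finBasisOfFinrankEq (ZMod 3) (Vec 3 W) (Vec.finrank_eq_of_card (n := 2) hc)
  let T : SL23 →* Matrix (Fin 2) (Fin 2) F3 :=
    (LinearMap.toMatrixAlgEquiv b).toMulEquiv.toMonoidHom.comp (Vec.rep 3 ψ)
  have hT : ∀ g (x : W), T g *ᵥ b.repr (Vec.ofMul 3 x) = b.repr (Vec.ofMul 3 (ψ g x)) :=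
    fun g x => LinearMap.toMatrix_mulVec_repr b b (Vec.rep 3 ψ g) _
  have inj : ∀ {x y : W}, (b.repr (Vec.ofMul 3 x) : Fin 2 → F3) = b.repr (Vec.ofMul 3 y) → x = y :=
    fun e => (Vec.ofMul 3).injective (b.repr.injective (DFunLike.coe_injective e))
  rcases mat (T ga) (by rw [← pow_three', ← map_pow, r1, map_one]) (T gb)
    (by rw [← pow_three', ← map_pow, r2, map_one]) (by
      rw [← map_mul, ← pow_two, ← pow_two, ← pow_mul, ← map_pow, r4, map_one]) with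
    ⟨v, v0, e1, e2⟩ | e
  · obtain ⟨x, rfl⟩ : ∃ x : W, (b.repr (Vec.ofMul 3 x) : Fin 2 → F3) = v :=
      ⟨Vec.toMul (b.equivFun.symm v), b.equivFun.apply_symm_apply v⟩
    rw [hT] at e1 e2
    have e3 : (MulAction.stabilizer (MulAut W) x).comap ψ = ⊤ := eq_top (inj e1) (inj e2)
    have e4 : ∀ g, ψ g x = x := fun g => e3.ge (mem_top g)
    rcases h1 (zpowers x) (by
      rintro a _ ⟨i, rfl⟩
      exact ⟨i, by simp [e4]⟩) with e5 | e5
    · exact absurd (by simp [zpowers_eq_bot.1 e5]) v0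
    · refine absurd (eq_top_iff.2 fun g _ => MulEquiv.ext fun y => ?_) h2
      obtain ⟨i, rfl⟩ := e5.ge (mem_top y)
      simp [e4]
  · rw [← map_mul, ← pow_two, ← map_pow, r3] at e
    refine inj ?_
    rw [← hT, e, Vec.ofMul_inv, map_neg, neg_mulVec, one_mulVec, Finsupp.coe_neg]

variable {G : Type*} [Group G] [Finite G]

theorem factor {C Q X Y : Subgroup G} (π : C →* SL23) (hπ : Function.Surjective π)
    (hk : ∀ c : C, π c = 1 → (c : G) ∈ Q) (h3 : ∀ q ∈ Q, q ^ 3 = 1)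
    (hc : ∀ a ∈ Q, ∀ b ∈ Q, ⁅a, b⁆ ∈ X) (hXY : X ≤ Y) (hY : Y ≤ Q)
    (nX : ∀ k ∈ C, ∀ a ∈ X, k * a * k⁻¹ ∈ X) (nY : ∀ k ∈ C, ∀ a ∈ Y, k * a * k⁻¹ ∈ Y)
    (hm : ∀ B, X < B → B < Y → ∃ k ∈ C, ∃ b ∈ B, k * b * k⁻¹ ∉ B)
    (hn : ∃ k ∈ C, ∃ a ∈ Y, k * a * k⁻¹ * a⁻¹ ∉ X) :
    Nat.card X * 9 ≤ Nat.card Y ∧ (Nat.card Y = Nat.card X * 9 →
      ∀ t : C, π t = -1 → ∀ y ∈ Y, t * y * (t : G)⁻¹ * y ∈ X) := by
  have nX' : C ≤ normalizer (X : Set G) := fun k hk => mem_normalizer_fintype (nX k hk)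
  have nY' : C ≤ normalizer (Y : Set G) := fun k hk => mem_normalizer_fintype (nY k hk)
  have cY : ⁅Y, Y⁆ ≤ X := commutator_le.2 fun a ha b hb => hc a (hY ha) b (hY hb)
  have := normal_subgroupOf_of_le_normalizer (Coprime.le_normalizer_of_commutator_le hXY cY)
  have := Coprime.isMulCommutative_section cY
  have : ElemAb 3 (Y ⧸ X.subgroupOf Y) := ElemAb.of_isMulCommutative fun a => by
    obtain ⟨a, rfl⟩ := QuotientGroup.mk_surjective a
    rw [← QuotientGroup.mk_pow, show a ^ 3 = 1 from Subtype.ext (h3 _ (hY a.2)),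
      QuotientGroup.mk_one]
  let ψ := π.liftOfSurjective hπ ⟨Coprime.sectionAut nY' nX', fun c e =>
    (Coprime.mem_ker_sectionAut nY' nX' c).2 fun x hx => hc _ (hk c e) x (hY hx)⟩
  have hψ : ∀ c, ψ (π c) = Coprime.sectionAut nY' nX' c := fun c =>
    π.liftOfRightInverse_comp_apply _ _ _ c
  obtain ⟨h1, h2⟩ := irr ψ (fun H hH => Coprime.sectionAut_irreducible nY' nX' hXY
    (fun L l1 l2 l3 => by
      by_contra! e
      obtain ⟨k, hk, b, hb, e1⟩ := hm L (lt_of_le_of_ne l1 e.1.symm) (lt_of_le_of_ne l2 e.2)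
      exact e1 ((mem_normalizer_iff.1 (l3 hk) b).1 hb)) H fun a => hψ a ▸ hH (π a)) fun e => by
    obtain ⟨k, hk, a, ha, e1⟩ := hn
    exact e1 ((Coprime.mem_ker_sectionAut nY' nX' ⟨k, hk⟩).1
      ((hψ _).symm.trans (e.ge (mem_top _))) a ha)
  have e := Trans.card_mul_relIndex hXY
  change 9 ≤ X.relIndex Y at h1
  refine ⟨e ▸ Nat.mul_le_mul_left _ h1, fun e1 t ht y hy => ?_⟩
  have e2 := h2 (Nat.eq_of_mul_eq_mul_left Nat.card_pos (e.trans e1)) (QuotientGroup.mk ⟨y, hy⟩)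
  rw [← ht, hψ, Coprime.sectionAut_mk, eq_inv_iff_mul_eq_one, ← QuotientGroup.mk_mul,
    QuotientGroup.eq_one_iff] at e2
  exact e2

end LSA

open LSA

variable {G : Type*} [Group G] [Finite G]

theorem exists_LS (S : Sylow 3 G) (Z : Subgroup G)
    (hZ : Z = (S : Subgroup G) ⊓ Subgroup.centralizer ((S : Subgroup G) : Set G))
    (C : Subgroup G) (hCZ : C = Subgroup.centralizer (Z : Set G))
    (Q : Subgroup G) (hQ : Q = (Cfsg.pCore 3 C).map C.subtype)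
    (hQex : Cfsg.IsExtraspecial 3 Q) (hQcard : Nat.card Q = 3 ^ 5) (hQexp : ∀ a ∈ Q, a ^ 3 = 1)
    (hCQ : Subgroup.centralizer (Q : Set G) ≤ Q)
    (hZQ : ∃ x : G, Z.map (MulAut.conj x).toMonoidHom ≤ Q ∧ Z.map (MulAut.conj x).toMonoidHom ≠ Z)
    (K : Subgroup G) (hK : K = ((Cfsg.pResidual 2 (C ⧸ Cfsg.pCore 3 C)).comap
      (QuotientGroup.mk' (Cfsg.pCore 3 C))).map C.subtype)
    (r : ℕ) (A : Fin (r + 1) → Subgroup G) (hA0 : A 0 = Z) (hAr : A (Fin.last r) = Q)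
    (hmono : ∀ i : Fin r, A i.castSucc < A i.succ)
    (hinv : ∀ i : Fin (r + 1), ∀ k ∈ K, ∀ a ∈ A i, k * a * k⁻¹ ∈ A i)
    (hmax : ∀ i : Fin r, ∀ B : Subgroup G, A i.castSucc < B → B < A i.succ →
      ∃ k ∈ K, ∃ b ∈ B, k * b * k⁻¹ ∉ B)
    (e : C ⧸ Cfsg.pCore 3 C ≃* Matrix.SpecialLinearGroup (Fin 2) (ZMod 3))
    (htwo : ∃ i j : Fin r, i ≠ j ∧ (∃ k ∈ K, ∃ a ∈ A i.succ, k * a * k⁻¹ * a⁻¹ ∉ A i.castSucc) ∧
      (∃ k ∈ K, ∃ a ∈ A j.succ, k * a * k⁻¹ * a⁻¹ ∉ A j.castSucc) ∧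
      ∀ l : Fin r, (∃ k ∈ K, ∃ a ∈ A l.succ, k * a * k⁻¹ * a⁻¹ ∉ A l.castSucc) → l = i ∨ l = j) :
    ∃ (z : G) (p : G → SL23), LS Q z p := by
  clear hZ
  obtain ⟨g, hg1, hg2⟩ := hZQ
  have hQC : Q ≤ C := hQ ▸ map_subtype_le _
  have hZQ : Z ≤ Q := (le_centralizer_iff.1 (hCZ ▸ hQC)).trans hCQ
  have hZ3 : Nat.card Z = 3 := by
    have h1 : Z ≤ (center Q).map Q.subtype := fun x hx =>
      ⟨⟨x, hZQ hx⟩, mem_center_iff.2 fun q => Subtype.ext ((hCZ ▸ hQC) q.2 x hx).symm, rfl⟩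
    have h2 := card_dvd_of_le h1
    rw [card_map_of_injective (subtype_injective Q), hQex.2] at h2
    refine ((Nat.dvd_prime Nat.prime_three).1 h2).resolve_left fun e => hg2 ?_
    rw [card_eq_one.1 e, Subgroup.map_bot]
  obtain ⟨z, rfl⟩ : ∃ z, zpowers z = Z := by
    have : Fact (Nat.Prime 3) := ⟨Nat.prime_three⟩
    have := isCyclic_of_prime_card hZ3
    exact (Subgroup.isCyclic_iff_exists_zpowers_eq_top Z).1 inferInstance
  have z3 : orderOf z = 3 := by rw [← Nat.card_zpowers, hZ3]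
  have hC : ∀ {a}, a ∈ C ↔ a * z = z * a := by
    rw [hCZ, zpowers_eq_closure, centralizer_closure]
    exact mem_centralizer_singleton_iff
  have hzQ := hZQ (mem_zpowers z)
  obtain ⟨-, h2, h3⟩ := Mc3.extraspecial_facts z3 hzQ (fun q hq => hC.1 (hQC hq)) hQex
  let π : C →* SL23 := e.toMonoidHom.comp (QuotientGroup.mk' _)
  have hπ : Function.Surjective π := e.surjective.comp (QuotientGroup.mk'_surjective _)
  have hk : ∀ x : C, π x = 1 ↔ (x : G) ∈ Q := fun x => by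
    rw [hQ]
    exact (e.map_eq_one_iff.trans (QuotientGroup.eq_one_iff x)).trans
      (mem_map_iff_mem (subtype_injective C)).symm
  obtain ⟨p, p1, p2, p3⟩ := Mc3.exists_proj hQC π hk
  obtain rfl : K = C := by
    have k : ∀ x : SL23, x ^ 3 = 1 → x ∈ (pResidual 2 (C ⧸ pCore 3 C)).comap e.symm.toMonoidHom :=
      fun x hx => subset_closure (Nat.Coprime.coprime_dvd_left (orderOf_dvd_of_pow_eq_one
        (n := 3) (by rw [← map_pow, hx, map_one])) (by norm_num))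
    have : pResidual 2 (C ⧸ pCore 3 C) = ⊤ := eq_top_iff.2 fun x _ => by
      simpa using (eq_top (k _ rels.1) (k _ rels.2.1)).ge (mem_top (e x))
    rw [hK, this, comap_top, ← MonoidHom.range_eq_map, range_subtype]
  refine ⟨z, p, z3, hzQ, fun q hq => hC.1 (hQC hq), hQexp, h2, hQcard, (h3 hCQ).2, (h3 hCQ).1,
    fun n hn q hq => ?_, fun a ha b hb => p1 a (hC.2 ha) b (hC.2 hb), fun a ha => p2 a (hC.2 ha),
    fun x => ?_, fun t ht e1 q hq => ?_, g, hg1 ⟨z, mem_zpowers z, rfl⟩, fun e1 => hg2 ?_⟩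
  · have : n ∈ normalizer (Q : Set G) := hQ ▸ Solv.normalizer_le_normalizer_map_pCore 3 _
      (hCZ ▸ Trans.normalizer_le_normalizer_centralizer _ hn)
    exact (mem_normalizer_iff.1 this q).1 hq
  · obtain ⟨a, rfl⟩ := hπ x
    exact ⟨a, hC.1 a.2, p3 a⟩
  · have mo := (Fin.strictMono_iff_lt_succ.2 hmono).monotone
    have l0 : ∀ i, zpowers z ≤ A i := fun i => hA0 ▸ mo (Fin.zero_le i)
    have l1 : ∀ i, A i ≤ Q := fun i => hAr ▸ mo (Fin.le_last i)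
    have F := fun i : Fin r => factor π hπ (fun c => (hk c).1) hQexp
      (fun a ha b hb => l0 i.castSucc (h2 a ha b hb)) (hmono i).le (l1 _) (hinv _) (hinv _) (hmax i)
    obtain ⟨i, j, hij, hi, hj⟩ : ∃ i j : Fin r, i < j ∧
        (∃ k ∈ K, ∃ a ∈ A i.succ, k * a * k⁻¹ * a⁻¹ ∉ A i.castSucc) ∧
        ∃ k ∈ K, ∃ a ∈ A j.succ, k * a * k⁻¹ * a⁻¹ ∉ A j.castSucc := by
      obtain ⟨i, j, hij, hi, hj, -⟩ := htwo
      exact (lt_or_gt_of_ne hij).elim (fun h => ⟨i, j, h, hi, hj⟩) fun h => ⟨j, i, h, hj, hi⟩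
    obtain ⟨a1, a2⟩ := F i hi
    obtain ⟨b1, b2⟩ := F j hj
    have l2 : A i.succ ≤ A j.castSucc := mo (Fin.succ_le_castSucc_iff.2 hij)
    have c0 := Trans.card_le_of_le (l0 i.castSucc)
    have c1 := Trans.card_le_of_le (l1 j.succ)
    have c2 := Trans.card_le_of_le l2
    have m1 := b2 (by omega) ⟨t, hC.2 ht⟩ ((p3 _).symm.trans e1) q
      ((eq_of_le_of_card_ge (l1 j.succ) (by omega)).ge hq)
    rw [← eq_of_le_of_card_ge l2 (by omega)] at m1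
    have m2 := a2 (by omega) ⟨t, hC.2 ht⟩ ((p3 _).symm.trans e1) _ m1
    rw [← eq_of_le_of_card_ge (l0 i.castSucc) (by omega)] at m2
    have hs : t * t ∈ Q := (p2 _ (mul_mem (hC.2 ht) (hC.2 ht))).1 (by
      rw [p1 t (hC.2 ht) t (hC.2 ht), e1, neg_mul_neg, one_mul])
    have hu : t * q * t⁻¹ ∈ Q := hAr ▸ hinv _ t (hC.2 ht) q (hAr ▸ hq)
    have m3 := mul_mem (mul_mem (h2 _ hu q hq) (inv_mem (h2 _ hs q hq))) m2
    have m4 := hQexp _ (mul_mem hu hq)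
    rw [pow_three, mul_eq_one_iff_eq_inv] at m4
    rw [m4, inv_mem_iff]
    convert m3 using 1
    simp only [commutatorElement_def]
    group
  · rw [MonoidHom.map_zpowers]
    exact eq_of_le_of_card_ge (zpowers_le.2 e1) (by
      rw [← MonoidHom.map_zpowers, card_map_of_injective (MulAut.conj g).injective])

end Cfsg.Lib.L43
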