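import Cfsg.Agent.Recog.L43Lin
import Cfsg.Agent.Recog.Mc3H
import Cfsg.Agent.Base.Rigid

/-!
The symplectic space `Q / ⟨z⟩`.
-/

set_option autoImplicit false
set_option linter.unusedSectionVars false
set_option linter.style.haveILetI false

namespace Cfsg.Lib.L43

open Subgroup Matrix Cfsg.Lib.Perm Cfsg.Lib.Mc3
open scoped commutatorElement

variable {G : Type*} [Group G]

theorem pw_add {g : G} (h : g ^ 3 = 1) (a b : F3) : g ^ (a + b).val = g ^ a.val * g ^ b.val := by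
  rw [← pow_add, ZMod.val_add, ← pow_eq_pow_mod _ h]

theorem pw_inj {g : G} (h : orderOf g = 3) {a b : F3} (e : g ^ a.val = g ^ b.val) : a = b := by
  rw [pow_eq_pow_iff_modEq, h] at e
  revert a b
  decide

theorem exists_pw {g : G} (h : orderOf g = 3) {x : G} (hx : x ∈ zpowers g) :
    ∃ c : F3, x = g ^ c.val := by
  rcases (mem_zp3 h).1 hx with rfl | rfl | rfl
  · exact ⟨0, by simp⟩
  · exact ⟨1, (pow_one _).symm⟩
  · refine ⟨2, ?_⟩
    rw [inv_eq_iff_mul_eq_one, ← pow_succ', ← pow_orderOf_eq_one g, h]; rfl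

theorem pw_neg {g : G} (h : g ^ 3 = 1) (a : F3) : g ^ (-a).val = (g ^ a.val)⁻¹ := by
  rw [eq_inv_iff_mul_eq_one, ← pw_add h, neg_add_cancel]; simp

namespace LS

variable {Q : Subgroup G} {z : G} {p : G → SL23} (h : LS Q z p)
include h

theorem z_cube : z ^ 3 = 1 := h.cube z h.zQ

theorem z_ne : z ≠ 1 := fun e => by simpa [e] using h.z3

theorem ZQ : zpowers z ≤ Q := zpowers_le.2 h.zQ

theorem p_one : p 1 = 1 := (h.ker 1 (by simp)).2 Q.one_mem

omit h in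
theorem c_mul {a b : G} (ha : a * z = z * a) (hb : b * z = z * b) : a * b * z = z * (a * b) :=
  (show Commute a z from ha).mul_left hb

omit h in
theorem c_inv {a : G} (ha : a * z = z * a) : a⁻¹ * z = z * a⁻¹ :=
  (show Commute a z from ha).inv_left

theorem p_inv {a : G} (ha : a * z = z * a) : p a⁻¹ = (p a)⁻¹ := by
  rw [eq_inv_iff_mul_eq_one, ← h.map_mul _ (c_inv ha) _ ha, inv_mul_cancel, h.p_one]

theorem p_pow {a : G} (ha : a * z = z * a) (n : ℕ) : p (a ^ n) = p a ^ n := by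
  induction n with
  | zero => simp [h.p_one]
  | succ n ih => rw [pow_succ, h.map_mul _ ((show Commute a z from ha).pow_left n) _ ha, ih, pow_succ]

theorem p_Q {q : G} (hq : q ∈ Q) : p q = 1 := (h.ker q (h.Qz q hq)).2 hq

theorem p_mul_Q {a q : G} (ha : a * z = z * a) (hq : q ∈ Q) : p (a * q) = p a := by
  rw [h.map_mul _ ha _ (h.Qz q hq), h.p_Q hq, mul_one]

theorem conjp (c : SL23) : LS Q z fun a => c * p a * c⁻¹ :=
  { h with
    map_mul := fun a ha b hb => by rw [h.map_mul a ha b hb]; group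
    ker := fun a ha => by rw [← h.ker a ha, conj_eq_one_iff]
    surj := fun x => by
      obtain ⟨a, ha, e⟩ := h.surj (c⁻¹ * x * c)
      exact ⟨a, ha, by rw [e]; group⟩
    inv := fun a ha e => h.inv a ha (by
      rw [mul_inv_eq_iff_eq_mul, neg_one_mul, ← mul_neg_one c] at e
      exact mul_left_cancel e) }

theorem map (f : G ≃* G) : LS (Q.map f.toMonoidHom) (f z) fun a => p (f.symm a) := by
  have hm : ∀ {x}, f x ∈ Q.map f.toMonoidHom ↔ x ∈ Q := fun {x} =>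
    mem_map_iff_mem (f := f.toMonoidHom) f.injective
  have hz : ∀ {x}, f x ∈ zpowers (f z) ↔ x ∈ zpowers z := fun {x} => by
    rw [← mem_map_iff_mem (f := f.toMonoidHom) (K := zpowers z) f.injective, MonoidHom.map_zpowers]
    rfl
  have hc : ∀ {x y}, f x * f y = f y * f x ↔ x * y = y * x := fun {x y} => by
    rw [← _root_.map_mul, ← _root_.map_mul, f.apply_eq_iff_eq]
  have hs := f.surjective
  refine ⟨by rw [f.orderOf_eq, h.z3], hm.2 h.zQ, hs.forall.2 fun q hq => hc.2 (h.Qz q (hm.1 hq)),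
    hs.forall.2 fun q hq => by rw [← map_pow, h.cube q (hm.1 hq), map_one],
    hs.forall.2 fun a ha => hs.forall.2 fun b hb => ?_, ?_, hs.forall.2 fun g hg => ?_,
    hs.forall.2 fun g hg => ?_, hs.forall.2 fun n hn => hs.forall.2 fun q hq => ?_,
    hs.forall.2 fun a ha => hs.forall.2 fun b hb => ?_, hs.forall.2 fun a ha => ?_, fun x => ?_,
    hs.forall.2 fun a ha e => hs.forall.2 fun q hq => ?_, ?_⟩
  · rw [← map_commutatorElement, hz]; exact h.comm a (hm.1 ha) b (hm.1 hb)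
  · rw [card_map_of_injective f.injective, h.cardQ]
  · exact hz.2 (h.cent g fun q hq => hc.1 (hg _ (hm.2 hq)))
  · exact hm.2 (h.inner g fun q hq => hz.1 (by rw [map_commutatorElement]; exact hg _ (hm.2 hq)))
  · rw [← map_inv, ← _root_.map_mul, ← _root_.map_mul, hm]
    refine h.nQ n (mem_normalizer_iff.2 fun x => ?_) q (hm.1 hq)
    rw [← hz, mem_normalizer_iff.1 hn, ← map_inv, ← _root_.map_mul, ← _root_.map_mul]
    exact hz
  · simp only [_root_.map_mul, MulEquiv.symm_apply_apply]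
    exact h.map_mul a (hc.1 ha) b (hc.1 hb)
  · rw [MulEquiv.symm_apply_apply, hm]; exact h.ker a (hc.1 ha)
  · obtain ⟨a, ha, e⟩ := h.surj x
    exact ⟨f a, hc.2 ha, by rw [MulEquiv.symm_apply_apply, e]⟩
  · rw [← map_inv, ← _root_.map_mul, ← _root_.map_mul, ← _root_.map_mul, hz]
    exact h.inv a (hc.1 ha) (by simpa using e) q (hm.1 hq)
  · obtain ⟨g, h1, h2⟩ := h.conj
    refine ⟨f g, ?_⟩
    rw [← map_inv, ← _root_.map_mul, ← _root_.map_mul, hm, hz]
    exact ⟨h1, h2⟩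

variable [Finite G]

theorem nz {c : G} (hc : c * z = z * c) : c ∈ normalizer (zpowers z : Set G) := mem_nz_of_comm hc

theorem conjQ {c q : G} (hc : c * z = z * c) (hq : q ∈ Q) : c * q * c⁻¹ ∈ Q := h.nQ c (h.nz hc) q hq

theorem card_ab {A : Subgroup G} (hAQ : A ≤ Q) (hA : ∀ a ∈ A, ∀ b ∈ A, a * b = b * a) :
    Nat.card A ≤ 27 :=
  card_le_of_extraspecial h.z3 h.comm h.cardQ (fun g _ => h.cent g) hAQ hA

theorem cent_max {V : Subgroup G} (hV : V ≤ Q) (hc : ∀ a ∈ V, ∀ b ∈ V, a * b = b * a)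
    (card : Nat.card V = 27) {g : G} (hg : g ∈ Q) (h1 : ∀ v ∈ V, g * v = v * g) : g ∈ V := by
  have h2 : V ⊔ zpowers g ≤ centralizer (V : Set G) := sup_le (fun a ha b hb => hc b hb a ha)
    (zpowers_le.2 fun b hb => (h1 b hb).symm)
  have h3 : V ⊔ zpowers g ≤ centralizer {g} := sup_le
    (fun a ha => mem_centralizer_singleton_iff.2 (h1 a ha).symm)
    (zpowers_le.2 (mem_centralizer_singleton_iff.2 rfl))
  have h4 := h.card_ab (sup_le hV (zpowers_le.2 hg)) fun a ha b hb => by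
    have : V ⊔ zpowers g ≤ centralizer {a} := sup_le
      (fun v hv => mem_centralizer_singleton_iff.2 (h2 ha v hv))
      (zpowers_le.2 (mem_centralizer_singleton_iff.2 (mem_centralizer_singleton_iff.1 (h3 ha)).symm))
    exact (mem_centralizer_singleton_iff.1 (this hb)).symm
  rw [eq_of_le_of_card_ge (le_sup_left : V ≤ V ⊔ zpowers g) (card ▸ h4)]
  exact mem_sup_right (mem_zpowers g)

theorem conj_coset {y w : G} (hy : y ∈ Q) (hyz : y ∉ zpowers z) (hw : w ∈ zpowers z) :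
    ∃ q ∈ Q, q * y * q⁻¹ = w * y := by
  obtain ⟨q, hq, hne⟩ : ∃ q ∈ Q, y * q ≠ q * y := by
    by_contra! hc
    exact hyz (h.cent y hc)
  have h1 : ∀ q ∈ Q, q * y * q⁻¹ = ⁅q, y⁆ * y := fun q _ => by
    rw [commutatorElement_def]; group
  have h2 : ⁅q⁻¹, y⁆ = ⁅q, y⁆⁻¹ := by
    rw [← conj_zp_eq (c_inv (h.Qz q hq)) (inv_mem (h.comm q hq y hy))]
    simp only [commutatorElement_def]; group
  have h3 : ⁅q, y⁆ ≠ 1 := fun e => hne (commutatorElement_eq_one_iff_mul_comm.1 e).symm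
  have h4 := (mem_zp3 h.z3).1 (h.comm q hq y hy)
  rcases (mem_zp3 h.z3).1 hw with rfl | rfl | rfl
  · exact ⟨1, Q.one_mem, by simp⟩
  · rcases h4.resolve_left h3 with e | e
    · exact ⟨q, hq, by rw [h1 q hq, e]⟩
    · exact ⟨q⁻¹, Q.inv_mem hq, by rw [h1 _ (Q.inv_mem hq), h2, e, inv_inv]⟩
  · rcases h4.resolve_left h3 with e | e
    · exact ⟨q⁻¹, Q.inv_mem hq, by rw [h1 _ (Q.inv_mem hq), h2, e]⟩
    · exact ⟨q, hq, by rw [h1 q hq, e]⟩

end LS

/-- The projection onto the space. -/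
structure Pj (Q : Subgroup G) (z : G) (π : G → M4) : Prop where
  mul : ∀ x ∈ Q, ∀ y ∈ Q, π (x * y) = π x + π y
  surj : ∀ v, ∃ x ∈ Q, π x = v
  ker : ∀ x ∈ Q, π x = 0 ↔ x ∈ zpowers z

namespace Pj

variable {Q : Subgroup G} {z : G} {π : G → M4} (h : Pj Q z π)
include h

theorem one : π 1 = 0 := (h.ker 1 Q.one_mem).2 (one_mem _)

theorem inv {x : G} (hx : x ∈ Q) : π x⁻¹ = -π x := by
  rw [eq_neg_iff_add_eq_zero, ← h.mul _ (Q.inv_mem hx) _ hx, inv_mul_cancel, h.one]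

theorem pw {x : G} (hx : x ∈ Q) (c : F3) : π (x ^ c.val) = c • π x := by
  have : ∀ n : ℕ, π (x ^ n) = n • π x := fun n => by
    induction n with
    | zero => simp [h.one]
    | succ n ih => rw [pow_succ, h.mul _ (Q.pow_mem hx n) _ hx, ih, succ_nsmul]
  rw [this, ← Nat.cast_smul_eq_nsmul F3, ZMod.natCast_zmod_val]

theorem eq {x y : G} (hx : x ∈ Q) (hy : y ∈ Q) (e : π x = π y) : x * y⁻¹ ∈ zpowers z := by
  rw [← h.ker _ (Q.mul_mem hx (Q.inv_mem hy)), h.mul _ hx _ (Q.inv_mem hy), h.inv hy, e,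
    add_neg_cancel]

theorem desc {N : Type*} [AddCommGroup N] [Module F3 N] (F : G → N)
    (h1 : ∀ x ∈ Q, ∀ y ∈ Q, F (x * y) = F x + F y) (h2 : ∀ x ∈ Q, x ∈ zpowers z → F x = 0) :
    ∃ L : M4 →ₗ[F3] N, ∀ x ∈ Q, L (π x) = F x := by
  choose s hs hs' using h.surj
  have wd : ∀ x ∈ Q, ∀ y ∈ Q, π x = π y → F x = F y := fun x hx y hy e => by
    have hm := Q.mul_mem hx (Q.inv_mem hy)
    rw [← inv_mul_cancel_right x y, h1 _ hm _ hy, h2 _ hm (h.eq hx hy e), zero_add]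
  exact ⟨(AddMonoidHom.mk' (fun v => F (s v)) fun u v => by
    rw [← h1 _ (hs u) _ (hs v)]
    exact wd _ (hs _) _ (Q.mul_mem (hs u) (hs v)) (by rw [h.mul _ (hs u) _ (hs v), hs', hs', hs'])
    ).toZModLinearMap 3, fun x hx => wd _ (hs _) _ hx (hs' _)⟩

theorem ext {N : Type*} [AddCommGroup N] [Module F3 N] {L L' : M4 →ₗ[F3] N}
    (e : ∀ x ∈ Q, L (π x) = L' (π x)) : L = L' := LinearMap.ext fun v => by
  obtain ⟨x, hx, rfl⟩ := h.surj v
  exact e x hx

end Pj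

variable [Finite G] {Q : Subgroup G} {z : G} {p : G → SL23}

theorem LS.exists_pj (h : LS Q z p) : ∃ π, Pj Q z π := by
  classical
  haveI hn : ((zpowers z).subgroupOf Q).Normal := ⟨fun n hn g => by
    rw [mem_subgroupOf] at hn ⊢
    exact conj_zp (h.nz (h.Qz g g.2)) hn⟩
  letI : CommGroup (Q ⧸ (zpowers z).subgroupOf Q) :=
    { (inferInstance : Group _) with
      mul_comm := fun a b => by
        obtain ⟨x, rfl⟩ := QuotientGroup.mk_surjective a
        obtain ⟨y, rfl⟩ := QuotientGroup.mk_surjective b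
        rw [← QuotientGroup.mk_mul, ← QuotientGroup.mk_mul, QuotientGroup.eq, mem_subgroupOf]
        convert h.comm _ (Q.inv_mem y.2) _ (Q.inv_mem x.2) using 1
        simp only [coe_mul, coe_inv, commutatorElement_def]; group }
  haveI : Fact (Nat.Prime 3) := ⟨Nat.prime_three⟩
  obtain ⟨d, ⟨e⟩, hd⟩ := Base.exists_coords (Ω := Additive (Q ⧸ (zpowers z).subgroupOf Q)) (r := 3)
    fun v => by
      obtain ⟨x, hx⟩ := QuotientGroup.mk_surjective (Additive.toMul v)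
      change Additive.ofMul (Additive.toMul v ^ 3) = Additive.ofMul 1
      rw [← hx, ← QuotientGroup.mk_pow, show x ^ 3 = 1 from Subtype.ext (h.cube x x.2)]
      rfl
  have h1 := card_eq_card_quotient_mul_card_subgroup ((zpowers z).subgroupOf Q)
  rw [Nat.card_congr (subgroupOfEquivOfLe h.ZQ).toEquiv, Nat.card_zpowers, h.z3, h.cardQ] at h1
  obtain rfl : d = 4 := Nat.pow_right_injective (a := 3) (by norm_num) (by
    change 3 ^ d = 3 ^ 4
    rw [← hd]
    change Nat.card (Q ⧸ (zpowers z).subgroupOf Q) = _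
    omega)
  refine ⟨fun x => if hx : x ∈ Q then e (Additive.ofMul (QuotientGroup.mk ⟨x, hx⟩)) else 0,
    fun x hx y hy => ?_, fun v => ?_, fun x hx => ?_⟩
  · simp only [dif_pos hx, dif_pos hy, dif_pos (Q.mul_mem hx hy)]
    rw [← map_add]; rfl
  · obtain ⟨x, hx⟩ := QuotientGroup.mk_surjective (Additive.toMul (e.symm v))
    exact ⟨x, x.2, by simp only [dif_pos x.2]; rw [hx]; simp⟩
  · simp only [dif_pos hx]
    rw [map_eq_zero_iff _ e.injective, ofMul_eq_zero, QuotientGroup.eq_one_iff, mem_subgroupOf]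

/-- The linear model of `Q / ⟨z⟩`. -/
structure Sh (Q : Subgroup G) (z : G) (p : G → SL23) (π : G → M4) (B : M4 →ₗ[F3] M4 →ₗ[F3] F3)
    (ρ : G → Module.End F3 M4) (σ : SL23 →* Module.End F3 M4) : Prop where
  pj : Pj Q z π
  lin : Lin B σ
  B_π : ∀ x ∈ Q, ∀ y ∈ Q, ⁅x, y⁆ = z ^ (B (π x) (π y)).val
  ρ_π : ∀ g ∈ normalizer (zpowers z : Set G), ∀ x ∈ Q, ρ g (π x) = π (g * x * g⁻¹)
  σ_π : ∀ c, c * z = z * c → ∀ x ∈ Q, σ (p c) (π x) = π (c * x * c⁻¹)

theorem LS.exists_sh (h : LS Q z p) : ∃ π B ρ σ, Sh Q z p π B ρ σ := by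
  classical
  obtain ⟨π, hπ⟩ := h.exists_pj
  have hlg : ∀ x y : G, ∃ c : F3, x ∈ Q → y ∈ Q → ⁅x, y⁆ = z ^ c.val := fun x y => by
    by_cases hx : x ∈ Q ∧ y ∈ Q
    · obtain ⟨c, hc⟩ := exists_pw h.z3 (h.comm x hx.1 y hx.2)
      exact ⟨c, fun _ _ => hc⟩
    · exact ⟨0, fun h1 h2 => absurd ⟨h1, h2⟩ hx⟩
  choose lg hlg using hlg
  have hz0 : ∀ {x y}, x ∈ Q → y ∈ Q → x * y = y * x → lg x y = 0 := fun hx hy e =>
    pw_inj h.z3 (by rw [← hlg _ _ hx hy, commutatorElement_eq_one_iff_mul_comm.2 e]; simp)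
  have h1 : ∀ x, ∃ L : M4 →ₗ[F3] F3, x ∈ Q → ∀ y ∈ Q, L (π y) = lg x y := fun x => by
    by_cases hx : x ∈ Q
    · obtain ⟨L, hL⟩ := hπ.desc (lg x) (fun a ha b hb => pw_inj h.z3 (by
        rw [pw_add h.z_cube, ← hlg _ _ hx (Q.mul_mem ha hb), ← hlg _ _ hx ha, ← hlg _ _ hx hb,
          comm_mul_right, conj_zp_eq (h.Qz a ha) (h.comm x hx b hb)]))
        (fun y hy hz => hz0 hx hy (comm_zp (h.Qz x hx) hz))
      exact ⟨L, fun _ => hL⟩
    · exact ⟨0, fun h1 => absurd h1 hx⟩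
  choose L hL using h1
  obtain ⟨B, hB⟩ := hπ.desc L (fun a ha b hb => hπ.ext fun y hy => by
    rw [LinearMap.add_apply, hL _ (Q.mul_mem ha hb) y hy, hL _ ha y hy, hL _ hb y hy, add_comm]
    exact pw_inj h.z3 (by
      rw [pw_add h.z_cube, ← hlg _ _ (Q.mul_mem ha hb) hy, ← hlg _ _ ha hy, ← hlg _ _ hb hy,
        comm_mul_left, conj_zp_eq (h.Qz a ha) (h.comm b hb y hy)]))
    (fun x hx hz => hπ.ext fun y hy => by
      rw [hL _ hx y hy, hz0 hx hy (comm_zp (h.Qz y hy) hz).symm]; rfl)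
  have hBπ : ∀ x ∈ Q, ∀ y ∈ Q, ⁅x, y⁆ = z ^ (B (π x) (π y)).val := fun x hx y hy => by
    rw [hB x hx, hL x hx y hy, hlg x y hx hy]
  have h2 : ∀ g, ∃ R : Module.End F3 M4, g ∈ normalizer (zpowers z : Set G) →
      ∀ x ∈ Q, R (π x) = π (g * x * g⁻¹) := fun g => by
    by_cases hg : g ∈ normalizer (zpowers z : Set G)
    · obtain ⟨R, hR⟩ := hπ.desc (fun x => π (g * x * g⁻¹)) (fun a ha b hb => by
        rw [← hπ.mul _ (h.nQ g hg a ha) _ (h.nQ g hg b hb), conj_mul])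
        (fun x hx hz => (hπ.ker _ (h.nQ g hg x hx)).2 (conj_zp hg hz))
      exact ⟨R, fun _ => hR⟩
    · exact ⟨0, fun h1 => absurd h1 hg⟩
  choose ρ hρ using h2
  choose s hs hs' using h.surj
  have key : ∀ c, c * z = z * c → ∀ x ∈ Q, ρ (s (p c)) (π x) = π (c * x * c⁻¹) := fun c hc x hx => by
    rw [hρ _ (h.nz (hs _)) x hx]
    have hq : c⁻¹ * s (p c) ∈ Q := (h.ker _ (LS.c_mul (LS.c_inv hc) (hs _))).1 (by
      rw [h.map_mul _ (LS.c_inv hc) _ (hs _), hs', h.p_inv hc, inv_mul_cancel])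
    generalize s (p c) = d at hq
    have e : d * x * d⁻¹ = c * ⁅c⁻¹ * d, x⁆ * c⁻¹ * (c * x * c⁻¹) := by
      rw [commutatorElement_def]; group
    have hz := conj_zp (h.nz hc) (h.comm _ hq x hx)
    rw [e, hπ.mul _ (h.ZQ hz) _ (h.conjQ hc hx), (hπ.ker _ (h.ZQ hz)).2 hz, zero_add]
  let σ : SL23 →* Module.End F3 M4 :=
    { toFun := fun g => ρ (s g)
      map_one' := hπ.ext fun x hx => by rw [← h.p_one, key 1 (by simp) x hx]; simp
      map_mul' := fun a b => hπ.ext fun x hx => by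
        have := key _ (LS.c_mul (hs a) (hs b)) x hx
        rw [h.map_mul _ (hs a) _ (hs b), hs', hs'] at this
        rw [this, Module.End.mul_apply, hρ _ (h.nz (hs b)) x hx,
          hρ _ (h.nz (hs a)) _ (h.conjQ (hs b) hx)]
        congr 1
        group }
  refine ⟨π, B, ρ, σ, hπ, ⟨fun v => ?_, fun v hv => ?_, fun g v w => ?_, hπ.ext fun x hx => ?_⟩,
    hBπ, hρ, key⟩
  · obtain ⟨x, hx, rfl⟩ := hπ.surj v
    rw [hB x hx, hL x hx x hx, hz0 hx hx rfl]
  · obtain ⟨x, hx, rfl⟩ := hπ.surj v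
    refine (hπ.ker x hx).2 (h.cent x fun q hq => commutatorElement_eq_one_iff_mul_comm.1 ?_)
    rw [hBπ x hx q hq, hv]; simp
  · obtain ⟨x, hx, rfl⟩ := hπ.surj v
    obtain ⟨y, hy, rfl⟩ := hπ.surj w
    change B (ρ (s g) _) (ρ (s g) _) = _
    rw [hρ _ (h.nz (hs g)) x hx, hρ _ (h.nz (hs g)) y hy]
    refine pw_inj h.z3 ?_
    rw [← hBπ _ (h.conjQ (hs g) hx) _ (h.conjQ (hs g) hy), ← hBπ x hx y hy, ← conj_comm,
      conj_zp_eq (hs g) (h.comm x hx y hy)]
  · change ρ (s (-1)) _ = -π x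
    rw [hρ _ (h.nz (hs _)) x hx, eq_neg_iff_add_eq_zero, ← hπ.mul _ (h.conjQ (hs _) hx) _ hx]
    exact (hπ.ker _ (Q.mul_mem (h.conjQ (hs _) hx) hx)).2 (h.inv _ (hs _) (hs' _) x hx)

end Cfsg.Lib.L43
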