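import Cfsg.Agent.Recog.O8Tc
import Cfsg.Agent.SporChar.HeGen

/-! Four four-groups normalized by a group of order `27`: the product is normal. -/

set_option autoImplicit false

namespace Cfsg.Lib.O8

open Cfsg Subgroup _root_.Cfsg.Lib.Trans Cfsg.Lib.Recog.P43
open Cfsg.Lib.Odd3 (conj_mem_of_norm conj_mem_of_norm' mem_norm_of_conj)

theorem bl_neg : ∀ i, bl (-1) i = i := by decide

theorem bl_third : ∀ e, IsSg e → e ≠ 1 → e ≠ -1 → bl e 0 ≠ 0 ∧ ∃ d, IsSg d ∧ IsSg (-d) ∧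
    d * -d = -1 ∧ ∀ c, c = d ∨ c = -d → bl c 0 ≠ 0 ∧ bl c (bl e 0) ≠ 0 := by decide +kernel

theorem ch_three : ∀ i k : Fin 4, i ≠ k → ∃ l, ∀ u, ch i u = 0 → ch k u = 0 → ch l u = 0 → u = 0 := by
  decide +kernel

theorem ch_e1 : ∀ i, ch i (1, 0, 0) ≠ 0 := by decide

theorem inv_pow_invol {G : Type*} [Group G] {s d : G} (s2 : s * s = 1) (d2 : d * d = 1) (n : ℕ) :
    s * (s * d) ^ n = ((s * d) ^ n)⁻¹ * s := by
  rw [← inv_pow, ← mul_inv_eq_iff_eq_mul, ← conj_pow, ← mul_assoc, s2, one_mul, mul_inv_rev,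
    inv_eq_of_mul_eq_one_right d2]

theorem dih_even {G : Type*} [Group G] [Finite G] {s d : G} (s2 : s * s = 1) (d2 : d * d = 1)
    (h : Even (orderOf (s * d))) : ∃ c, c ≠ 1 ∧ c * s = s * c ∧ d * c = c * d ∧
      ∃ t, s * c = t * s * t⁻¹ ∨ s * c = t * d * t⁻¹ := by
  obtain ⟨m, hm⟩ := h
  have m0 := orderOf_pos (s * d)
  have c2 : s * (s * d) ^ m = (s * d) ^ m * s := by
    rw [inv_pow_invol s2 d2, inv_eq_of_mul_eq_one_right (by rw [← pow_add, ← hm, pow_orderOf_eq_one])]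
  have e1 : s * (s * d) = d := by rw [← mul_assoc, s2, one_mul]
  have c3 := ((show Commute s _ from c2).mul_left (Commute.self_pow _ m)).eq
  refine ⟨(s * d) ^ m, pow_ne_one_of_lt_orderOf (by omega) (by omega), c2.symm, by rwa [e1] at c3, ?_⟩
  obtain ⟨r, rfl | rfl⟩ := m.even_or_odd'
  · exact ⟨((s * d) ^ r)⁻¹, .inl (by rw [two_mul, pow_add, ← mul_assoc, inv_pow_invol s2 d2 r, inv_inv])⟩
  · refine ⟨((s * d) ^ r)⁻¹, .inr ?_⟩
    rw [show 2 * r + 1 = r + (1 + r) by omega, pow_add, pow_add, pow_one, ← mul_assoc,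
      inv_pow_invol s2 d2 r, inv_inv, ← mul_assoc, mul_assoc _ s, e1]

theorem dih_odd {G : Type*} [Group G] {s d : G} (s2 : s * s = 1) (d2 : d * d = 1)
    (h : Odd (orderOf (s * d))) : ∃ e, e * e = 1 ∧ e * d * e⁻¹ = s := by
  obtain ⟨r, hr⟩ := h
  have e0 := inv_pow_invol s2 d2 r
  have e1 : (s * d) ^ r * s * ((s * d) ^ r * s) = 1 := by
    rw [mul_assoc, ← mul_assoc s, e0, mul_assoc, s2]; group
  refine ⟨_, e1, ?_⟩
  rw [inv_eq_of_mul_eq_one_right e1, mul_assoc _ s, ← pow_succ, ← mul_assoc, ← pow_add,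
    show r + 1 + r = orderOf (s * d) by omega, pow_orderOf_eq_one, one_mul]

theorem comm_cancel {G : Type*} [Group G] {x u z : G} (a : Commute x z) (b : Commute (x * u) z) :
    Commute u z := by simpa using a.inv_left.mul_left b

namespace TC

variable {X : Type*} [Group X] [Finite X] {J : Subgroup X} {j : V3 → X} {P : Fin 4 → Subgroup X}
  {β : V3 → X} (h : TC J j P β)
include h

omit [Finite X] in
theorem move {i : Fin 4} {x : X} (hx : x ∈ P i) (x1 : x ≠ 1) :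
    j (1, 0, 0) * x * (j (1, 0, 0))⁻¹ ≠ x := fun e =>
  ((h.cP i _ x hx).1 (mul_inv_eq_iff_eq_mul.1 e)).elim (ch_e1 i) x1

omit [Finite X] in
theorem mul_ne {x y : X} (hy : y ∈ ⨆ i, P i) (e : x ≠ y) : x * y ≠ 1 := fun a =>
  e (mul_right_cancel (a.trans (h.sqV hy).symm))

omit [Finite X] in
theorem ind2 {i k l m : Fin 4} {a b c d : X} (ha : a ∈ P i) (hb : b ∈ P k) (hc : c ∈ P l)
    (hd : d ∈ P m) (h1 : k ≠ i) (h2 : l ≠ i) (h3 : m ≠ i) (e : c * d = a * b) : a = 1 :=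
  h.ind ha hb (inv_mem hd) (inv_mem hc) h1 h3 h2 (by rw [← mul_assoc, ← e]; group)

theorem conj_b {i : Fin 4} {s g : X} (hs : s ∈ P i) (s1 : s ≠ 1) {e : V3} (he : IsSg e) (e1 : e ≠ 1)
    (hg : g⁻¹ * s * g⁻¹⁻¹ = β e) : g ∈ MM J P := by
  by_contra hM
  let A : X → Prop := fun x => Sg j P β (g * x * g⁻¹) 1
  have ha : ∀ x y, Commute x (β e) → Commute y (β e) → ¬ A x → ¬ A y → A (x * y) := by
    have : ∀ x, Commute x (β e) → ¬ A x → Sg j P β (g * x * g⁻¹) (-1) := fun x hx a => by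
      have c : g * x * g⁻¹ * s = s * (g * x * g⁻¹) := by
        calc _ = g * (x * (g⁻¹ * s * g⁻¹⁻¹)) * g⁻¹ := by group
          _ = _ := by rw [hg, hx.eq, ← hg]; group
      obtain ⟨d, hd⟩ := h.sgn (h.cent_s hs s1 c)
      rcases h.pm hd hs s1 (by rwa [c, mul_inv_cancel_right]) with rfl | rfl
      exacts [absurd hd a, hd]
    intro x y hx hy a b
    have := h.sg_mul (this x hx a) (this y hy b)
    rwa [conj_mul, neg_one_mul, neg_neg] at this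
  have hb : ∀ x y, A x → A y → x ^ 4 = 1 → y ^ 4 = 1 → Commute x y := fun x y a b c d => by
    have := h.comV (h.two a (by rw [conj_pow, c]; group)) (h.two b (by rw [conj_pow, d]; group))
    rwa [conj_mul, conj_mul, mul_left_inj, mul_right_inj] at this
  have v4 : ∀ x ∈ ⨆ i, P i, x ^ 4 = 1 := fun x hx => by
    rw [pow_succ, pow_three', h.sqV hx, one_mul, h.sqV hx]
  have b4 : ∀ d, IsSg d → ∀ x ∈ ⨆ i, P i, (x * β d) ^ 4 = 1 := fun d hd x hx => by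
    rw [show 4 = 2 * 2 from rfl, pow_mul, pow_two, pow_two, show x * β d * (x * β d) =
      x * (β d * x * (β d)⁻¹) * (β d * β d) by group, h.b2 hd, mul_one]
    exact h.sqV (mul_mem hx (h.cV (h.sgM (h.sgB hd)) hx))
  have b4' : ∀ d, IsSg d → β d ^ 4 = 1 := fun d hd => one_mul (β d) ▸ b4 d hd 1 (one_mem _)
  have tr : ∀ l, ∀ x ∈ P l, Commute (x * (β e * x * (β e)⁻¹)) (β e) := fun l x hx => by
    calc x * (β e * x * (β e)⁻¹) * β e = β e * x * (β e)⁻¹ * x * β e := by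
          rw [h.comV (PV hx) (PV (h.blk (h.sgB he) hx))]
      _ = β e * x * (β e)⁻¹ * (β e * β e) * x * (β e * (β e * β e)⁻¹) := by rw [h.b2 he]; group
      _ = β e * (x * (β e * x * (β e)⁻¹)) := by group
  by_cases e2 : e = -1
  · subst e2
    have k : ∀ l, ∃ x ∈ P l, x ≠ 1 ∧ Commute x (β (-1)) ∧ ¬ A x := fun l => by
      obtain ⟨x, hx, x1, c⟩ : ∃ x ∈ P l, x ≠ 1 ∧ Commute x (β (-1)) := by
        obtain ⟨x, hx, x1⟩ := h.exists_ne l
        have := bl_neg l ▸ h.blk (h.sgB he) hx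
        by_cases c : x = β (-1) * x * (β (-1))⁻¹
        exacts [⟨x, hx, x1, eq_mul_inv_iff_mul_eq.1 c⟩,
          ⟨_, mul_mem hx this, h.mul_ne (PV this) c, tr l x hx⟩]
      refine ⟨x, hx, x1, c, fun a => hM (inv_mem_iff.1 (h.wc (cj_le_iff.2 fun y hy =>
        h.cent_s hx x1 ?_)))⟩
      calc _ = g⁻¹ * (y * (g * x * g⁻¹)) * g := by group
        _ = _ := by rw [h.comV hy (h.two a (by rw [conj_pow, v4 x (PV hx)]; group))]; group
    obtain ⟨x, hx, x1, c, a⟩ := k 0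
    obtain ⟨y, hy, -, d, b⟩ := k 2
    have hd : IsSg (-1, 1, 1) := by decide
    have xy := mul_mem (PV hx) (PV hy)
    have : Commute (β (-1, 1, 1)) (x * y) := by
      by_cases u : A (β (-1, 1, 1))
      · exact hb _ _ u (ha x y c d a b) (b4' _ hd) (v4 _ xy)
      · exact comm_cancel (h.comV (PV hx) xy)
          (hb _ _ (ha x _ c (h.bc hd he) a u) (ha x y c d a b) (b4 _ hd x (PV hx)) (v4 _ xy))
    exact x1 (h.ind2 hx hy (h.blk (h.sgB hd) hx) (h.blk (h.sgB hd) hy) (by decide) (by decide)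
      (by decide) (by rw [conj_mul, this.eq, mul_inv_cancel_right]))
  obtain ⟨k0, d, hd, hd', dd, hc⟩ := bl_third e he e1 e2
  let f : X → X := fun x => x * (β e * x * (β e)⁻¹)
  have fV : ∀ x ∈ P 0, f x ∈ ⨆ i, P i := fun x hx => mul_mem (PV hx) (PV (h.blk (h.sgB he) hx))
  obtain ⟨x, hx, x1⟩ := h.exists_ne 0
  have hy := h.nP 0 (1, 0, 0) x hx
  obtain ⟨z, hz, z1, az⟩ : ∃ z ∈ P 0, z ≠ 1 ∧ A (f z) := by
    by_contra! c
    refine c _ (mul_mem hy hx) (h.mul_ne (PV hx) (h.move hx x1)) ?_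
    convert ha _ _ (tr 0 _ hy) (tr 0 _ hx) (c _ hy (mt conj_eq_one_iff.1 x1)) (c _ hx x1) using 1
    simp only [f]
    rw [← conj_mul (b := β e), mul_assoc _ x, mul_assoc _ (β e * _ * _) (x * _), ← mul_assoc x,
      h.comV (PV hx) (PV (h.blk (h.sgB he) hy)), mul_assoc (β e * _ * _) x]
  have nA : ∀ c, c = d ∨ c = -d → ∀ w ∈ ⨆ i, P i, ¬ A (w * β c) := fun c c1 w hw a => by
    have c2 : IsSg c := c1.elim (· ▸ hd) (· ▸ hd')
    have := comm_cancel (h.comV hw (fV z hz))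
      (hb _ _ a az (b4 c c2 w hw) (v4 _ (fV z hz)))
    have a1 := h.blk (h.sgB he) hz
    exact z1 (h.ind2 hz a1 (h.blk (h.sgB c2) hz) (h.blk (h.sgB c2) a1) k0 (hc c c1).1 (hc c c1).2
      (by rw [conj_mul, this.eq, mul_inv_cancel_right]))
  have nA' : ∀ c, c = d ∨ c = -d → ¬ A (β c) := fun c c1 => one_mul (β c) ▸ nA c c1 1 (one_mem _)
  have hm : IsSg (-1) := by decide
  have a1 := ha _ _ (h.bc hd he) (h.bc hd' he) (nA' d (.inl rfl)) (nA' _ (.inr rfl))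
  rw [← h.bm _ _ hd hd', dd] at a1
  have cm : ∀ x ∈ P 0, β (-1) * x * (β (-1))⁻¹ = x := fun x hx => by
    have a2 := hb _ _ a1 (by_contra fun c => nA d (.inl rfl) _ (fV x hx)
      (ha _ _ (tr 0 x hx) (h.bc hd he) c (nA' d (.inl rfl)))) (b4' _ hm) (v4 _ (fV x hx))
    have a3 := h.blk (h.sgB he) hx
    have a4 := bl_neg 0 ▸ h.blk (h.sgB hm) hx
    have a5 := bl_neg _ ▸ h.blk (h.sgB hm) a3
    refine (inv_mul_eq_one.1 (h.ind2 (mul_mem (inv_mem hx) a4) a5 a3 (one_mem (P 1)) k0 k0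
      (by decide) ?_)).symm
    rw [mul_assoc x⁻¹, conj_mul, a2.eq, mul_inv_cancel_right, inv_mul_cancel_left, mul_one]
  have := cm _ hy
  rw [← conj_mul, ← conj_mul, cm x hx, ← conj_inv, h.bj _ hm] at this
  refine ((h.cP 0 (1, 0, 0) x hx).1 ?_).elim (ch_e1 0) x1
  rw [show ((1, 0, 0) : V3) = -(1, 0, 0) + -1 * (1, 0, 0) by decide, h.add, h.jneg, mul_assoc,
    mul_inv_eq_iff_eq_mul.1 this]
  group

theorem conj_s {i : Fin 4} {s g : X} (hs : s ∈ P i) (s1 : s ≠ 1) (hg : g * s * g⁻¹ ∈ MM J P) :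
    g ∈ MM J P := by
  have p2 : g * s * g⁻¹ * (g * s * g⁻¹) = 1 := by rw [conj_mul, h.sq i s hs]; group
  obtain ⟨e, he⟩ := h.sgn hg
  by_cases e1 : e = 1
  · have := h.two (e1 ▸ he) (by rw [pow_succ, pow_three', p2, one_mul, p2])
    refine inv_mem_iff.1 (h.wc (cj_le_iff.2 fun y hy => h.cent_s hs s1 ?_))
    calc _ = g⁻¹ * (y * (g * s * g⁻¹)) * g := by group
      _ = _ := by rw [h.comV hy this]; group
  · obtain ⟨m, hm, a⟩ := h.invol he e1 p2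
    have := h.conj_b hs s1 he.1 e1 (g := g⁻¹ * m) (by
      rw [← mul_left_inj m⁻¹, ← mul_right_inj m, ← mul_assoc m (β e), ← a]; group)
    rwa [mul_mem_cancel_right hm, inv_mem_iff] at this

omit [Finite X] in
theorem two_term {i k l m : Fin 4} {a b c d : X} (ha : a ∈ P i) (hb : b ∈ P k) (hc : c ∈ P l)
    (hd : d ∈ P m) (ik : i ≠ k) (lm : l ≠ m) (c1 : c ≠ 1) (e : a * b = c * d) : c = a ∨ c = b := by
  by_cases li : l = i
  · subst li
    exact .inl (inv_mul_eq_one.1 (h.ind (mul_mem (inv_mem ha) hc) hd (inv_mem hb) (one_mem (P k))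
      lm.symm ik.symm ik.symm (by rw [mul_assoc a⁻¹, ← mul_assoc c, ← e]; group))).symm
  by_cases lk : l = k
  · subst lk
    exact .inr (inv_mul_eq_one.1 (h.ind (mul_mem (inv_mem hb) hc) hd (inv_mem ha) (one_mem (P i))
      lm.symm ik ik (by rw [mul_assoc b⁻¹, ← mul_assoc c, ← e, h.comm _ _ a ha b hb]; group))).symm
  exact absurd (h.ind2 hc hd ha hb lm.symm (Ne.symm li) (Ne.symm lk) e) c1

theorem cent_w {i k : Fin 4} {a b : X} (ha : a ∈ P i) (hb : b ∈ P k) (ik : i ≠ k) (a1 : a ≠ 1)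
    (b1 : b ≠ 1) {g : X} (hg : g * (a * b) = a * b * g) : g ∈ MM J P := by
  have : Fact (Nat.Prime 2) := ⟨Nat.prime_two⟩
  have ab := mul_mem (PV ha) (PV hb)
  have hC : ∀ g, g ∈ centralizer {a * b} ↔ g * (a * b) = a * b * g := fun g =>
    mem_centralizer_singleton_iff
  have hV : ⨆ i, P i ≤ centralizer {a * b} := fun x hx => (hC x).2 (h.comV hx ab)
  obtain ⟨S, hS, h1⟩ := exists_isSylowIn_ge (IsPGroup.of_card (p := 2) (n := 8) h.cardV) hV
  have h2 : S ≤ MM J P := by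
    by_contra c
    obtain ⟨y, hy, hy'⟩ := SetLike.exists_of_lt (lt_inf_normalizer hS.isPGroup (inf_lt_left.2 c))
    exact hy' ⟨hy.1, h.wc (cj_le_iff.2 fun x hx =>
      (conj_mem_of_norm hy.2 ⟨h1 hx, mem_sup_left hx⟩).2)⟩
  have h3 : ∀ c ∈ centralizer {a * b}, c ∈ MM J P → c * a * c⁻¹ = a ∨ c * a * c⁻¹ = b := fun c hc hM => by
    obtain ⟨e, he⟩ := h.sgn hM
    exact h.two_term ha hb (h.blk he ha) (h.blk he hb) ik (fun x => ik (bl_inj e i k he.1 x))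
      (mt conj_eq_one_iff.1 a1) (by rw [conj_mul, (hC c).1 hc, mul_inv_cancel_right])
  have e1 : a * (a * b) = b := by rw [← mul_assoc, h.sq i a ha, one_mul]
  obtain ⟨l, hl⟩ := ch_three i k ik
  have h4 : ∀ x ∈ P l, x ≠ 1 → ∀ n ∈ centralizer {a * b}, x * n = n * x → ∃ t, n ^ 2 ^ t = 1 :=
    fun x hx x1 n hn e => by
      obtain ⟨d, hd⟩ := h.sgn (h.cent_s hx x1 e.symm)
      obtain ⟨-, v, hv, u, e2⟩ := h.sg_mul hd hd
      rw [hd.1.sq, h.b1, mul_one, ← inv_mul_eq_iff_eq_mul] at e2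
      have c1 : j u ∈ centralizer {a * b} := e2 ▸ mul_mem (inv_mem (hV hv)) (mul_mem hn hn)
      have c2 := (h3 _ c1 (h.jM u)).resolve_right fun c => b1 (h.disj ik (c ▸ h.nP i u a ha) hb)
      have c3 := (hC _).1 c1
      rw [← mul_assoc, mul_inv_eq_iff_eq_mul.1 c2, mul_assoc, mul_assoc, mul_right_inj] at c3
      rw [hl u (((h.cP i u a ha).1 (mul_inv_eq_iff_eq_mul.1 c2)).resolve_right a1)
        (((h.cP k u b hb).1 c3).resolve_right b1) (((h.cP l u x hx).1 (e2 ▸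
          ((show Commute v x from h.comV hv (PV hx)).inv_left.mul_left
            ((show Commute n x from e.symm).mul_left e.symm)).eq)).resolve_right x1), h.jz,
        inv_mul_eq_one] at e2
      exact ⟨2, by rw [pow_two 2, pow_mul, pow_two, pow_two, ← e2, h.sqV hv]⟩
  obtain ⟨x, hx, x1⟩ := h.exists_ne l
  have hy := h.nP l (1, 0, 0) x hx
  have := SporChar.He.zstar_mod hS (h1 ab) (fun c => (hC c).1) (h.sqV ab) (h1 (PV ha)) (h.sq i a ha)
    a1 (fun e => b1 (left_eq_mul.1 e)) (fun c hc e => e1.symm ▸ h3 c hc (h.conj_s ha a1 (h2 e)))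
    (hV (PV hy)) (hV (PV hx)) (h.sq l _ hy) (h.sq l x hx) (fun n hn e => e.elim
      (h4 _ hy (mt conj_eq_one_iff.1 x1) n hn) fun e => e.elim (h4 x hx x1 n hn)
        (h4 _ (mul_mem hy hx) (h.mul_ne (PV hx) (h.move hx x1)) n hn)) ((hC g).2 hg)
  exact h.conj_s ha a1 (this.elim (fun e => by rw [e]; exact PM ha) fun e => by rw [e, e1]; exact PM hb)

theorem odd_ord {i k : Fin 4} {s x g : X} (hs : s ∈ P i) (s1 : s ≠ 1) (hx : x ∈ P k) (x1 : x ≠ 1)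
    (hg : g ∉ MM J P) : Odd (orderOf (s * (g * x * g⁻¹))) := by
  refine Nat.not_even_iff_odd.1 fun a => hg (h.conj_s hx x1 ?_)
  obtain ⟨c, c1, c2, c3, t, e1⟩ := dih_even (h.sq i s hs) (by rw [conj_mul, h.sq k x hx]; group) a
  obtain ⟨l, y, hy, y1, t, e2⟩ : ∃ l, ∃ y ∈ P l, y ≠ 1 ∧ ∃ t, s * c = t * y * t⁻¹ :=
    e1.elim (fun e => ⟨i, s, hs, s1, t, e⟩) fun e => ⟨k, x, hx, x1, t * g, by rw [e]; group⟩
  obtain ⟨e, he⟩ := h.sgn (h.conj_s hy y1 (e2 ▸ mul_mem (PM hs) (h.cent_s hs s1 c2)))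
  have c5 := e2 ▸ h.blk he hy
  have c6 : s * (s * c) = c := by rw [← mul_assoc, h.sq i s hs, one_mul]
  by_cases b : i = bl e l
  · exact h.cent_s (c6 ▸ mul_mem hs (b ▸ c5) : c ∈ P i) c1 c3
  · exact h.cent_w hs c5 b s1 (e2 ▸ mt conj_eq_one_iff.1 y1) (by rwa [c6])

theorem mem_M (g : X) : g ∈ MM J P := by
  by_contra hg
  obtain ⟨s, hs, s1⟩ := h.exists_ne 0
  have k1 : ∀ x ∈ P 0, x ≠ 1 → ∃ m ∈ MM J P, m * x * m⁻¹ = s ∧ m * g⁻¹ * (m * g⁻¹) = 1 :=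
    fun x hx x1 => by
      obtain ⟨e, e1, e2⟩ := dih_odd (h.sq 0 s hs) (by rw [conj_mul, h.sq 0 x hx]; group)
        (h.odd_ord hs s1 hx x1 hg)
      have e3 : e * g * x * (e * g)⁻¹ = s := by rw [← e2]; group
      exact ⟨e * g, h.conj_s hx x1 (e3.symm ▸ PM hs), e3, by rwa [mul_inv_cancel_right]⟩
  have k2 : ∀ x y m n, x ∈ P 0 → y ∈ P 0 → x ≠ 1 → x ≠ y → m ∈ MM J P → n ∈ MM J P →
      m * x * m⁻¹ = s → n * y * n⁻¹ = s → m * g⁻¹ * (m * g⁻¹) = 1 → n * g⁻¹ * (n * g⁻¹) = 1 →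
      Sg j P β (n⁻¹ * m) (-1) := fun x y m n hx hy x1 xy hm hn a b c d => by
    obtain ⟨e, he⟩ := h.sgn (mul_mem (inv_mem hn) hm)
    have e1 : n⁻¹ * m * x * (n⁻¹ * m)⁻¹ = y := by
      rw [show n⁻¹ * m * x * (n⁻¹ * m)⁻¹ = n⁻¹ * (m * x * m⁻¹) * n by group, a, ← b]; group
    rcases h.pm he hx x1 (e1.symm ▸ hy) with rfl | rfl
    · have e2 : g * (n⁻¹ * m) * g⁻¹ ∈ MM J P := by
        rw [show g * (n⁻¹ * m) * g⁻¹ = (n * g⁻¹)⁻¹ * (m * g⁻¹)⁻¹⁻¹ by group,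
          inv_eq_of_mul_eq_one_right c, inv_eq_of_mul_eq_one_right d]
        simpa [mul_assoc] using mul_mem hn (inv_mem hm)
      have e3 : (n⁻¹ * m) ^ 2 = 1 := by_contra fun c => hg (h.ti (pow_mem (h.sgM he) 2) (by
        rw [pow_right_comm, pow_two, h.sqV (h.cube he)]) c (by rw [← conj_pow]; exact pow_mem e2 2))
      rw [h.comV (h.two he (by rw [show 4 = 2 * 2 from rfl, pow_mul, e3, one_pow])) (PV hx),
        mul_inv_cancel_right] at e1
      exact absurd e1 xy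
    · exact he
  have hy := h.nP 0 (1, 0, 0) s hs
  have y1 := h.move hs s1
  have z1 := h.mul_ne (PV hs) y1
  obtain ⟨m, hm, a, b⟩ := k1 s hs s1
  obtain ⟨n, hn, c, d⟩ := k1 _ hy (mt conj_eq_one_iff.1 s1)
  obtain ⟨p, hp, e, f⟩ := k1 _ (mul_mem hy hs) z1
  have a1 := h.sg_mul (k2 _ _ n p hy (mul_mem hy hs) (mt conj_eq_one_iff.1 s1) (by simpa using s1)
    hn hp c e d f) (k2 _ _ m n hs hy s1 y1.symm hm hn a c b d)
  rw [mul_assoc, mul_inv_cancel_left] at a1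
  exact absurd (h.uniq a1 (k2 _ _ m p hs (mul_mem hy hs) s1 (by simpa using s1) hm hp a e b f))
    (by decide)

end TC

theorem TB.normal {X : Type*} [Group X] [Finite X] {J : Subgroup X} {j : V3 → X}
    {P : Fin 4 → Subgroup X} (h : TB J j P) (syl : IsSylowIn 3 J ⊤)
    (diag : ∀ n ∈ normalizer (J : Set X), ∃ e, IsSg e ∧ ∀ v, n * j v * n⁻¹ = j (sg e v)) :
    (⨆ i, P i).Normal ∧ (⨆ i, P i) ⊔ normalizer (J : Set X) = ⊤ := by
  obtain ⟨β, k⟩ := h.exists_tc syl diag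
  exact ⟨normalizer_eq_top_iff.1 (eq_top_iff.2 fun g _ => h.M_le (k.mem_M g)),
    eq_top_iff.2 fun g _ => k.mem_M g⟩

end Cfsg.Lib.O8
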