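import Cfsg.Agent.Recog.Mc3J

/-!
The centraliser of `y = z z'` normalises `J`.
-/

set_option autoImplicit false
set_option linter.unusedSectionVars false
set_option linter.unusedVariables false
set_option linter.style.haveILetI false

namespace Cfsg.Lib.Mc3

open Subgroup Cfsg.Lib.Perm Cfsg.Lib.Block Equiv.Perm Cfsg.Lib.Block.Tri Cfsg.Lib.Block.Mon
  Cfsg.Lib.Known Cfsg.Lib.Known.GTab
open scoped commutatorElement

variable {G : Type*} [Group G] [Finite G] {S : Sylow 3 G} {Q L : Subgroup G} {z : G}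
  {pL : G → SL25} {J M : Subgroup G} {pM : G → S6} {t f u : G}

/-- The frame with a lift of the 3-cycle. -/
structure Cd (S : Sylow 3 G) (Q L : Subgroup G) (z : G) (pL : G → SL25) (J M : Subgroup G)
    (pM : G → S6) (t f u μ y v : G) : Prop extends Fr S Q L z pL J M pM t f u where
  mM : μ ∈ M
  mm : pM μ = a1
  hy : y = z * (u * z * u⁻¹)
  hv : v = z * (u * z * u⁻¹)⁻¹

theorem conj_inv' {a b c : G} (e : a * b * a⁻¹ = c) : a * b⁻¹ * a⁻¹ = c⁻¹ := by rw [← e]; group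

namespace Cd

variable {μ y v : G} (h : Cd S Q L z pL J M pM t f u μ y v)
include h

local notation "ψ" => psi v μ

theorem my : μ * y = y * μ := h.hy ▸ (h.a1_y h.mM h.mm).2

theorem ty' : t * y = y * t := h.hy ▸ h.ty

theorem uy' : u * y = y * u := h.hy ▸ h.uy

theorem yJ' : y ∈ J := h.hy ▸ h.yJ

theorem y_ne' : y ≠ 1 := h.hy ▸ h.y_ne

theorem m3 : μ ^ 3 ∈ J := (h.a1_y h.mM h.mm).1

theorem m_notMem : μ ∉ J := fun e => r0_ok.2.2.1 (h.mm ▸ (h.m.ker μ h.mM).mpr e)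

theorem vJ : v ∈ J := h.hv ▸ mul_mem h.zJ (inv_mem h.z'J)

theorem v2J : μ * v * μ⁻¹ ∈ J := h.m.conj_J h.mM h.vJ

theorem v3J : μ * μ * v * (μ * μ)⁻¹ ∈ J := h.m.conj_J (mul_mem h.mM h.mM) h.vJ

theorem ψJ (a : tK.El) : ψ a ∈ J :=
  mul_mem (mul_mem (pow_mem h.vJ _) (pow_mem h.v2J _)) (pow_mem h.v3J _)

theorem v_ne : v ≠ 1 := fun e => h.z'_notMem (mul_inv_eq_one.mp (h.hv ▸ e) ▸ mem_zpowers z)

theorem mul : Mu ψ := ⟨fun a ha b hb => by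
  obtain ⟨e1, e2, e3⟩ := dig_J0 a ha b hb
  have c : ∀ a ∈ J, ∀ b ∈ J, ∀ i k : ℕ, Commute (a ^ i) (b ^ k) := fun a ha b hb i k =>
    h.m.comm _ (pow_mem ha i) _ (pow_mem hb k)
  simp only [psi]
  rw [e1, e2, e3, ← pow_eq_pow_mod _ (h.m.cube _ h.vJ), ← pow_eq_pow_mod _ (h.m.cube _ h.v2J),
    ← pow_eq_pow_mod _ (h.m.cube _ h.v3J), pow_add, pow_add, pow_add,
    (c _ h.vJ _ h.v2J _ _).mul_mul_mul_comm, Commute.mul_mul_mul_comm
      ((c _ h.vJ _ h.v3J _ _).mul_left (c _ h.v2J _ h.v3J _ _))]⟩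

theorem act_J {j : G} (hj : j ∈ J) : Act ψ j 1 := fun a _ => by
  rw [h.m.comm j hj _ (h.ψJ a)]; simp

theorem tv : t * v * t⁻¹ = v :=
  h.hv ▸ mul_inv_eq_iff_eq_mul.mpr (Commute.mul_right h.tz (Commute.inv_right h.tz'))

theorem uv : u * v * u⁻¹ = v⁻¹ := by
  rw [h.hv, ← conj_mul, conj_inv' h.uz', mul_inv_rev z, inv_inv]

theorem tuv : t * u * v * (t * u)⁻¹ = v⁻¹ := by
  calc _ = t * (u * v * u⁻¹) * t⁻¹ := by group
    _ = _ := by rw [h.uv, conj_inv' h.tv]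

theorem conj_v {a b n w : G} (ha : a ∈ M) (hb : b ∈ M) (hn : n ∈ M)
    (e : (pM n)⁻¹ * pM a * pM n = pM b) (hw : b * v * b⁻¹ = w) :
    a * (n * v * n⁻¹) * a⁻¹ = n * w * n⁻¹ := by
  rw [← hw, ← h.m.conj_congr (mul_mem (mul_mem (inv_mem hn) ha) hn) hb
    (by rw [h.m.map_conj' hn ha, e]) h.vJ]
  group

theorem pm_tu : pM (t * u) = t0 * w0 := by rw [h.m.map_mul _ h.tM _ h.uM, h.mt, h.mu]

theorem pm_mm : pM (μ * μ) = a1 * a1 := by rw [h.m.map_mul _ h.mM _ h.mM, h.mm]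

theorem act_t : Act ψ t (ek 27) := by
  obtain ⟨p1, p2, p3, -⟩ := psi_gens v μ
  obtain ⟨⟨a1, a2, a3⟩, -⟩ := act_tab
  refine h.mul.act_of_gens ?_ ?_ ?_
  · rw [a1, p1, h.tv]
  · rw [a2, h.mul.map_inv gens_J0.2.1, p2, h.conj_v h.tM h.uM h.mM
      (by rw [h.mm, h.mt, h.mu, r0_ok.2.2.2.2.1]) h.uv, conj_inv]
  · rw [a3, h.mul.map_inv gens_J0.2.2, p3, h.conj_v h.tM (mul_mem h.tM h.uM) (mul_mem h.mM h.mM)
      (by rw [h.pm_mm, h.mt, h.pm_tu, r0_ok.2.2.2.2.2.2.1]) h.tuv, conj_inv]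

theorem act_u : Act ψ u (ek 81) := by
  obtain ⟨p1, p2, p3, -⟩ := psi_gens v μ
  obtain ⟨-, ⟨a1, a2, a3⟩, -⟩ := act_tab
  refine h.mul.act_of_gens ?_ ?_ ?_
  · rw [a1, h.mul.map_inv gens_J0.1, p1, h.uv]
  · rw [a2, h.mul.map_inv gens_J0.2.1, p2, h.conj_v h.uM (mul_mem h.tM h.uM) h.mM
      (by rw [h.mm, h.pm_tu, h.mu, r0_ok.2.2.2.2.2.1]) h.tuv, conj_inv]
  · rw [a3, p3, h.conj_v h.uM h.tM (mul_mem h.mM h.mM)
      (by rw [h.pm_mm, h.mt, h.mu, r0_ok.2.2.2.2.2.2.2]) h.tv]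

theorem act_m : Act ψ μ (ek 324) := by
  obtain ⟨p1, p2, p3, -⟩ := psi_gens v μ
  obtain ⟨-, -, ⟨a1, a2, a3⟩, -⟩ := act_tab
  refine h.mul.act_of_gens ?_ ?_ ?_
  · rw [a1, p1, p2]
  · rw [a2, p2, p3]; simp [mul_assoc]
  · rw [a3, p1, p3]
    calc _ = μ ^ 3 * v * (μ ^ 3)⁻¹ := by simp [pow_three, mul_assoc]
      _ = _ := by rw [h.m.comm _ h.m3 _ h.vJ, mul_inv_cancel_right]

theorem act_wk (i j : Fin 2) (k : Fin 3) : Act ψ (t ^ i.1 * u ^ j.1 * μ ^ k.1) (wk i j k) :=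
  ((h.act_t.pow _).mul (h.act_u.pow _)).mul (h.act_m.pow _)

theorem eq_one {a : tK.El} (ha : a ∈ J0) (e : ψ a ∈ zpowers y) : a = 1 := by
  by_contra ha1
  obtain ⟨i, hi⟩ := proj_J0 a ha ha1
  have h1 := conj_J0 ha (ek 324 ^ i.1)
  have h2 := mul_mem (conj_J0 h1 (ek 27 * ek 81)) (inv_mem h1)
  have h3 : ψ (ek 27 * ek 81 * (ek 324 ^ i.1 * a * (ek 324 ^ i.1)⁻¹) * (ek 27 * ek 81)⁻¹ *
      (ek 324 ^ i.1 * a * (ek 324 ^ i.1)⁻¹)⁻¹) = 1 := by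
    rw [h.mul.mul _ (conj_J0 h1 _) _ (inv_mem h1), h.mul.map_inv h1, ← h.act_t.mul h.act_u _ h1,
      ← h.act_m.pow _ a ha, conj_zp_eq (Commute.pow_left h.my _) e,
      conj_zp_eq (Commute.mul_left h.ty' h.uy') e, mul_inv_cancel]
  have h4 := h.mul.mul _ (conj_J0 h2 (ek 81)) _ (inv_mem h2)
  rw [h.mul.map_inv h2, ← h.act_u _ h2, h3] at h4
  rcases hi _ rfl _ rfl with e | e <;> rw [e] at h4
  · exact h.v_ne (by simpa [(psi_gens v μ).1] using h4)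
  · rw [h.mul.map_inv gens_J0.1, (psi_gens v μ).1] at h4
    exact h.v_ne (by simpa using h4)

theorem exists_co : ∃ A, Co ψ A :=
  ⟨{ carrier := {x | ∃ a ∈ J0, ψ a = x}
     one_mem' := ⟨1, one_mem _, h.mul.map_one⟩
     mul_mem' := by
      rintro _ _ ⟨a, ha, rfl⟩ ⟨b, hb, rfl⟩
      exact ⟨_, mul_mem ha hb, h.mul.mul a ha b hb⟩
     inv_mem' := by
      rintro _ ⟨a, ha, rfl⟩
      exact ⟨_, inv_mem ha, h.mul.map_inv ha⟩ }, h.mul,
    fun a ha e => h.eq_one ha (e ▸ one_mem _), fun _ => Iff.rfl⟩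

theorem J_dec' {x : G} (hx : x ∈ J) : ∃ w ∈ zpowers y, ∃ a ∈ J0, x = ψ a * w := by
  obtain ⟨A, c⟩ := h.exists_co
  have h1 : A ≤ J := fun x hx => by
    obtain ⟨a, -, rfl⟩ := (c.mem x).mp hx
    exact h.ψJ a
  have h2 : A ⊔ zpowers y ≤ J := sup_le h1 (zpowers_le.mpr h.yJ')
  have h3 := card_lt_of_lt (left_lt_sup.mpr fun e : zpowers y ≤ A => by
    obtain ⟨a, ha, e⟩ := (c.mem _).mp (e (mem_zpowers _))
    rw [h.eq_one ha (e ▸ mem_zpowers _), c.map_one] at e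
    exact h.y_ne' e.symm)
  have h4 := card_dvd_of_le h2
  rw [h.m.cardJ] at h4
  rw [c.card] at h3
  have h5 := card_dvd_243 (h4.trans (by norm_num))
  have h6 : x ∈ ((A ⊔ zpowers y : Subgroup G) : Set G) :=
    (eq_of_le_of_card_ge h2 (by rw [h.m.cardJ]; omega)).ge hx
  rw [coe_mul_of_right_le_normalizer_left _ _ (zpowers_le.mpr (mem_normalizer_fintype
    fun a ha => by rw [h.m.comm _ h.yJ' _ (h1 ha), mul_inv_cancel_right]; exact ha))] at h6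
  obtain ⟨_, ha, w, hw, e⟩ := h6
  obtain ⟨a, ha', rfl⟩ := (c.mem _).mp ha
  exact ⟨w, hw, a, ha', e.symm⟩

theorem W0_coord {x : G} (hx : x ∈ h.W0) :
    ∃ a ∈ J0, x = ψ a ∧ ek 27 * a * (ek 27)⁻¹ * a = 1 := by
  obtain ⟨w, hw, a, ha, rfl⟩ := h.J_dec' hx.1
  have hwJ := zpowers_le.mpr h.yJ' hw
  have h1 : ψ (ek 27 * a * (ek 27)⁻¹ * a) * (w * w) = 1 := by
    rw [h.mul.mul _ (conj_J0 ha _) _ ha, ← h.act_t a ha, mul_assoc _ (ψ a), ← mul_assoc (ψ a),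
      h.m.comm _ (mul_mem (h.ψJ a) hwJ) w hwJ, ← mul_assoc, mul_eq_one_iff_eq_inv, ← hx.2,
      ← conj_mul, conj_zp_eq h.ty' hw]
  have h2 := h.eq_one (mul_mem (conj_J0 ha _) ha)
    (eq_inv_of_mul_eq_one_left h1 ▸ inv_mem (mul_mem hw hw))
  rw [h2, h.mul.map_one, one_mul] at h1
  exact ⟨a, ha, by rw [h.eq_one_of_inv hwJ (eq_inv_of_mul_eq_one_left h1), mul_one], h2⟩

theorem act_D {c : G} (hz : c * z = z * c) (hz' : c * (u * z * u⁻¹) = u * z * u⁻¹ * c)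
    (ht : c * t = t * c) : ∃ k, Act ψ c k := by
  rcases h.CD_cases hz hz' ht with e | e | e
  · exact ⟨_, h.act_J e⟩
  · exact ⟨_, by simpa using (h.act_J e).mul h.act_t.inv⟩
  obtain ⟨A, co⟩ := h.exists_co
  obtain ⟨⟨a1, a2, a3⟩, -, -, ⟨b1, b2, b3⟩, -⟩ := act_tab
  obtain ⟨g1, g3, g9⟩ := gens_J0
  have hc := h.NS_le_NJ (h.mem_NS_of_comm (mem_nz_of_comm hz) h.z'J h.z'_notMem hz')
  have w9 : ψ (ek 9) ∈ h.W0 := ⟨h.ψJ _, by rw [h.act_t _ g9, a3, co.map_inv g9]⟩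
  have n9 : ψ (ek 9) ≠ 1 := fun e => absurd (co.inj _ g9 e) (by decide +kernel)
  obtain ⟨a, ha, e1, e2⟩ := h.W0_coord (h.conj_W0 hc ht w9)
  have e3 : c * ψ a * c⁻¹ = (ψ (ek 9))⁻¹ := by rw [← e1, ← e _ w9]; simp [mul_assoc]
  have key : ∀ s ∈ M, ∀ k, Act ψ s k → pM (c * u * c⁻¹) = pM s → k * a * k⁻¹ = a :=
    fun s hs k hk e => by
      refine co.eq_of (conj_J0 ha k) ha ?_
      rw [← hk a ha, ← h.m.conj_congr (h.m.nM c hc u h.uM) hs e (h.ψJ a), ← e1]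
      calc _ = c * (u * ψ (ek 9) * u⁻¹) * c⁻¹ := by group
        _ = _ := by rw [h.act_u _ g9, act_tab.2.1.2.2]
  obtain ⟨h1, h2⟩ := W0_J0 a ha (fun e => n9 (by simpa [e, co.map_one] using e1)) e2
  have h0 : c * ψ (ek 1) * c⁻¹ = ψ (ek 1) := by
    rw [(psi_gens v μ).1, h.hv]
    exact mul_inv_eq_iff_eq_mul.mpr (Commute.mul_right hz (Commute.inv_right hz'))
  have fin : ∀ d, d * ψ (ek 1) * d⁻¹ = ψ (ek 1) → d * ψ (ek 9) * d⁻¹ = (ψ (ek 3))⁻¹ →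
      d * (ψ (ek 3))⁻¹ * d⁻¹ = (ψ (ek 9))⁻¹ → Act ψ d (ek 108) := fun d e1 e2 e3 =>
    co.act_of_gens (by rw [b1, e1]) (by rw [b2, ← inv_inj, ← e3, conj_inv])
      (by rw [b3, co.map_inv g3, e2])
  rcases (h.invol_cases hc (Commute.mul_right hz hz') h.uM h.u_notMem h.uu h.uy).1 with e4 | e4 | e4
  · have := (h.m.eq_iff (h.m.nM c hc u h.uM) h.tM).mp (e4.trans h.mt.symm)
    rw [show c * u * c⁻¹ * t⁻¹ = c * (u * t⁻¹) * c⁻¹ by
      rw [← conj_mul, conj_inv' (mul_inv_eq_iff_eq_mul.mpr ht)], ← mem_normalizer_iff.mp hc,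
      ← h.m.eq_iff h.uM h.tM, h.mu, h.mt] at this
    exact absurd this g0_ok.2.2.2.2.2.2
  · refine absurd (h.eq_one_of_inv w9.1 ?_) n9
    rcases h1 (key u h.uM _ h.act_u (e4.trans h.mu.symm)) with rfl | rfl
    · exact e1.symm.trans e3
    · rw [co.map_inv g9] at e1 e3
      rw [conj_inv' e1, inv_inv] at e3
      exact e3
  · rcases h2 (key _ (mul_mem h.tM h.uM) _ (h.act_t.mul h.act_u) (e4.trans h.pm_tu.symm)) with
      rfl | rfl
    · have key : ∀ x, c * t * x * (c * t)⁻¹ = c * (t * x * t⁻¹) * c⁻¹ := fun x => by group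
      exact ⟨_, by simpa using (fin (c * t) (by rw [key, h.act_t _ g1, a1, h0])
        (by rw [key, w9.2, conj_inv' e1]) (by
          rw [key, conj_inv' (h.act_t _ g3), a2, co.map_inv g3, inv_inv, e3])).mul h.act_t.inv⟩
    · rw [co.map_inv g3] at e1 e3
      exact ⟨_, fin c h0 e1 e3⟩

theorem act_Ct {c : G} (hc : c ∈ normalizer (J : Set G)) (hy : c * y = y * c)
    (ht : c * t = t * c) : ∃ k, Act ψ c k := by
  have hz := (mem_normalizer_iff.mp hc z).mp h.zJ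
  have h1 : c * (u * z * u⁻¹) * c⁻¹ = (c * z * c⁻¹)⁻¹ * (z * (u * z * u⁻¹)) := by
    rw [eq_inv_mul_iff_mul_eq, conj_mul, ← h.hy, hy, mul_inv_cancel_right]
  have h2 : IsConj z (c * (u * z * u⁻¹) * c⁻¹) := isConj_iff.mpr ⟨c * u, by group⟩
  have h3 : c * z * c⁻¹ ≠ 1 := by simpa using h.l.z_ne
  have z2 : z * z ≠ 1 := fun e => h.l.z_ne (h.eq_one_of_inv h.zJ (eq_inv_of_mul_eq_one_left e))
  have j2 : u * z * u⁻¹ * (u * z * u⁻¹) ≠ 1 := fun e =>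
    h.z'_ne (h.eq_one_of_inv h.z'J (eq_inv_of_mul_eq_one_left e))
  rcases h.conj_in_D hz (Commute.mul_left (Commute.mul_left ht h.tz.symm) (Commute.inv_left ht))
    (isConj_iff.mpr ⟨c, rfl⟩) with e | e
  · rcases (mem_zp3 h.l.z3).mp e with e | e | e
    · exact absurd e h3
    · rw [e, inv_mul_cancel_left] at h1
      exact h.act_D (mul_inv_eq_iff_eq_mul.mp e) (mul_inv_eq_iff_eq_mul.mp h1) ht
    · rw [h1, e, inv_inv, ← mul_assoc] at h2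
      exact absurd h2 (h.not_conj_mul (mul_mem (mem_zpowers z) (mem_zpowers z)) z2 (mem_zpowers _)
        h.z'_ne)
  · rcases (mem_zp3 h.z'3).mp e with e | e | e
    · exact absurd e h3
    · rw [e, h.m.comm _ h.zJ _ h.z'J, inv_mul_cancel_left] at h1
      obtain ⟨k, hk⟩ := h.act_D (c := u * c) (mul_inv_eq_iff_eq_mul.mp (by
        calc _ = u * (c * z * c⁻¹) * u⁻¹ := by group
          _ = _ := by rw [e, h.uz'])) (mul_inv_eq_iff_eq_mul.mp (by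
        calc _ = u * (c * (u * z * u⁻¹) * c⁻¹) * u⁻¹ := by group
          _ = _ := by rw [h1])) (Commute.mul_left h.ut ht)
      exact ⟨_, by simpa using h.act_u.inv.mul hk⟩
    · rw [h1, e, inv_inv, h.m.comm _ h.z'J _ h.yJ, mul_assoc z] at h2
      exact absurd h2 (h.not_conj_mul (mem_zpowers z) h.l.z_ne
        (mul_mem (mem_zpowers _) (mem_zpowers _)) j2)

theorem act_H {c : G} (hc : c ∈ normalizer (J : Set G)) (hy : c * y = y * c) : ∃ k, Act ψ c k := by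
  obtain ⟨i, hi⟩ := (h.invol_cases hc (h.hy ▸ hy) h.tM h.t_notMem h.tt h.ty).2
  have h1 := pow_mem h.mM i.1
  have h2 := h.m.nM c hc t h.tM
  have h3 := (h.m.eq_iff (h.m.nM _ (h.m.MN h1) _ h2) h.tM).mp (by
    rw [h.m.map_conj h1 h2, h.m.map_pow h.mM, h.mm, hi, h.mt])
  obtain ⟨k, hk⟩ := h.act_Ct (mul_mem (h.m.MN (h.m.JM h3)) (mul_mem (h.m.MN h1) hc))
    (Commute.mul_left (h.m.comm _ h3 _ h.yJ') (Commute.mul_left (Commute.pow_left h.my _) hy))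
    (adjust h.tt (h.m.cube _ h3) (by group))
  exact ⟨_, by simpa only [inv_mul_cancel_left] using (h.act_m.pow i.1).inv.mul ((h.act_J h3).inv.mul hk)⟩

theorem norm_eq {r q : G} (hr : r ∈ M) (hr0 : pM r = r0) (hq : q ∈ Q) (hq0 : pM q = a0) :
    r * v * r⁻¹ * (q * (r * v * r⁻¹) * q⁻¹) * (q * q * (r * v * r⁻¹) * (q * q)⁻¹) =
      r * ψ (ek 13) * r⁻¹ := by
  have h1 := h.m.nM r (h.m.MN hr) μ h.mM
  have h2 : pM q = pM (r * μ * r⁻¹) := by rw [h.m.map_conj hr h.mM, hr0, h.mm, hq0, r0_ok.2.1]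
  have hqM := h.QM hq
  have h3 := h.m.conj_J hr h.vJ
  rw [(psi_gens v μ).2.2.2, h.m.conj_congr hqM h1 h2 h3,
    h.m.conj_congr (mul_mem hqM hqM) (mul_mem h1 h1)
      (by rw [h.m.map_mul _ hqM _ hqM, h.m.map_mul _ h1 _ h1, h2]) h3]
  simp [mul_assoc]

theorem ψ13_ne : ψ (ek 13) ≠ 1 := fun e =>
  act_tab.2.2.2.2.2.2.2.2.2 (h.eq_one act_tab.2.2.2.2.2.2.2.2.1 (e ▸ one_mem _))

theorem isConj_13 : IsConj z (ψ (ek 13)) := by
  obtain ⟨r, hr, hr0⟩ := h.m.surj r0 r0_ok.1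
  obtain ⟨q, hq, hq0⟩ := h.exists_lift_Q inP_gens.1
  have h1 := h.norm_mem hq (h.m.conj_J hr h.vJ)
  rw [h.norm_eq hr hr0 hq hq0] at h1
  rcases (mem_zp3 h.l.z3).mp h1 with e | e | e
  · exact absurd (by simpa using e) h.ψ13_ne
  · exact (isConj_iff.mpr ⟨r, e⟩).symm
  · exact h.isConj_inv (isConj_iff.mpr ⟨r, by rw [conj_inv' e, inv_inv]⟩).symm

theorem not_isConj {x : G} (hx : x ∈ M) (e : pM x = a1) : ¬ IsConj z x := fun hc => by
  obtain ⟨r, hr, hr0⟩ := h.m.surj r0 r0_ok.1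
  obtain ⟨q, hq, hq0⟩ := h.exists_lift_Q inP_gens.1
  have hqM := h.QM hq
  have h1 := h.m.nM r (h.m.MN hr) x hx
  have h2 : pM (r * x * r⁻¹) = a0 := by rw [h.m.map_conj hr hx, hr0, e, r0_ok.2.1]
  have h3 := (h.m.eq_iff h1 hqM).mp (h2.trans hq0.symm)
  have hc' : IsConj z (r * x * r⁻¹) := hc.trans (isConj_iff.mpr ⟨r, rfl⟩)
  have h4 : ∀ a, (a * q) ^ 3 = 1 → a * (q * a * q⁻¹) * (q * q * a * (q * q)⁻¹) = 1 := fun a ha => by
    calc _ = (a * q) ^ 3 * (q ^ 3)⁻¹ := by simp [pow_three, mul_assoc]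
      _ = 1 := by rw [ha, h.l.cube q hq]; simp
  let K : Subgroup G :=
    { carrier := {a | a ∈ J ∧ a * (q * a * q⁻¹) * (q * q * a * (q * q)⁻¹) = 1}
      one_mem' := ⟨one_mem _, by simp⟩
      mul_mem' := by
        rintro a b ⟨ha, ha'⟩ ⟨hb, hb'⟩
        have c1 : Commute b (q * a * q⁻¹) := h.m.comm _ hb _ (h.m.conj_J hqM ha)
        have c2 : Commute (b * (q * b * q⁻¹)) (q * q * a * (q * q)⁻¹) :=
          h.m.comm _ (mul_mem hb (h.m.conj_J hqM hb)) _ (h.m.conj_J (mul_mem hqM hqM) ha)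
        refine ⟨mul_mem ha hb, ?_⟩
        rw [← conj_mul, ← conj_mul, c1.mul_mul_mul_comm, c2.mul_mul_mul_comm, ha', hb', one_mul]
      inv_mem' := by
        rintro a ⟨ha, ha'⟩
        refine ⟨inv_mem ha, ?_⟩
        rw [← conj_inv, ← conj_inv, ← mul_inv_rev, ← mul_inv_rev, inv_eq_one,
          h.m.comm _ (h.m.conj_J hqM ha) _ ha, h.m.comm _ (h.m.conj_J (mul_mem hqM hqM) ha) _
            (mul_mem ha (h.m.conj_J hqM ha)), ha'] }
  have h5 : ∀ w ∈ J, w ∈ Q → w ∈ K := fun w hw hw' => ⟨hw, h4 w (h.l.cube _ (mul_mem hw' hq))⟩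
  have h6 : r * x * r⁻¹ * q⁻¹ ∈ K := ⟨h3, h4 _ (by
    obtain ⟨g, hg⟩ := isConj_iff.mp hc'
    rw [inv_mul_cancel_right, ← hg, conj_pow, h.m.cube z h.zJ]; simp)⟩
  by_cases h7 : r * x * r⁻¹ * q⁻¹ ∈ Q
  · refine h.not_isConj_of_mem_Q (by simpa using mul_mem h7 hq) (fun e => inP_gens.2.2.2.1 ?_) hc'
    rw [← h2, (h.m.ker _ h1).mpr (h.ZJ e)]
  · have h8 := h.m.conj_J hr h.vJ
    have h9 : r * v * r⁻¹ ∈ K := by
      rcases h.l.S_cases (h.m.JS h3) h7 (h.m.JS h8) with e | e | e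
      · exact h5 _ h8 e
      · simpa only [inv_mul_cancel_right] using mul_mem (h5 _ (mul_mem h8 (inv_mem h3)) e) h6
      · simpa only [mul_inv_cancel_right] using mul_mem (h5 _ (mul_mem h8 h3) e) (inv_mem h6)
    exact h.ψ13_ne (by simpa using (h.norm_eq hr hr0 hq hq0).symm.trans h9.2)

theorem cent_ztype {c x : G} (hy : c * y = y * c) (hx : x ∈ J) (hz : IsConj z x)
    (hc : c * x = x * c) : c ∈ normalizer (J : Set G) := by
  obtain ⟨n, hn, rfl⟩ := h.exists_M_of_isConj hx hz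
  have h1 := h.NS_le_NJ (h.mem_NS_of_comm (c := n⁻¹ * c * n) (x := n⁻¹ * y * n⁻¹⁻¹)
    (mem_nz_of_comm (by
      calc _ = n⁻¹ * (c * (n * z * n⁻¹)) * n := by group
        _ = _ := by rw [hc]; group)) (h.m.conj_J (inv_mem hn) h.yJ') (fun e => by
      refine h.not_isConj_y (h.hy ▸ ?_)
      rcases (mem_zp3 h.l.z3).mp e with e | e | e
      · exact absurd (conj_eq_one_iff.mp e) h.y_ne'
      · exact (isConj_iff.mpr ⟨_, e⟩).symm
      · exact h.isConj_inv (isConj_iff.mpr ⟨_, by rw [conj_inv' e, inv_inv]⟩).symm) (by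
      calc _ = n⁻¹ * (c * y) * n := by group
        _ = _ := by rw [hy]; group))
  simpa [mul_assoc] using mul_mem (mul_mem (h.m.MN hn) h1) (inv_mem (h.m.MN hn))

theorem mem_nJ {g : G} (hg : ∀ x ∈ J, IsConj z x → g * x * g⁻¹ ∈ J) : g ∈ normalizer (J : Set G) := by
  let K := J.comap (MulAut.conj g).toMonoidHom
  have h1 : ∀ n ∈ M, n * z * n⁻¹ ∈ K := fun n hn =>
    hg _ (h.m.conj_J hn h.zJ) (isConj_iff.mpr ⟨n, rfl⟩)
  have h2 : ∀ n ∈ M, n * v * n⁻¹ ∈ K := fun n hn => by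
    have := mul_mem (h1 n hn) (inv_mem (h1 _ (mul_mem hn h.uM)))
    rw [h.hv]
    convert this using 1
    group
  refine mem_normalizer_fintype fun x hx => (?_ : x ∈ K)
  obtain ⟨w, hw, a, -, rfl⟩ := h.J_dec' hx
  refine mul_mem (mul_mem (mul_mem (pow_mem ?_ _) (pow_mem (h2 μ h.mM) _))
    (pow_mem (h2 _ (mul_mem h.mM h.mM)) _)) (zpowers_le.mpr ?_ hw)
  · simpa using h2 1 (one_mem _)
  · simpa [h.hy] using mul_mem (h1 1 (one_mem _)) (h1 u h.uM)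

theorem wc {R : Subgroup G} (hR : IsPGroup 3 R) (hRy : R ≤ centralizer {y}) {g x : G}
    (hg : ∀ j ∈ J, g * j * g⁻¹ ∈ R) (hx : x ∈ R) (hz : IsConj z x) : g⁻¹ * x * g ∈ J := by
  haveI : Fact (Nat.Prime 3) := ⟨Nat.prime_three⟩
  obtain ⟨d, -, hd⟩ := (h.isSylowIn_y h.mM h.m3 h.m_notMem (h.hy ▸ h.my)).1.exists_conj_le hR
    (h.hy ▸ hRy)
  have key : ∀ x ∈ R, IsConj z x → d * x * d⁻¹ ∈ J := fun x hx hz => by
    obtain ⟨h1, i, hi⟩ := (h.sup_facts h.mM h.m3).2 _ (hd ⟨x, hx, rfl⟩)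
    have h2 : IsConj z (d * x * d⁻¹) := hz.trans (isConj_iff.mpr ⟨d, rfl⟩)
    change d * x * d⁻¹ ∈ M at h1
    change pM (d * x * d⁻¹) = _ at hi
    rw [h.mm] at hi
    fin_cases i
    · exact (h.m.ker _ h1).mp hi
    · exact absurd h2 (h.not_isConj h1 hi)
    · exact absurd (h.isConj_inv (by rwa [inv_inv])) (h.not_isConj (inv_mem h1) (by
        rw [h.m.map_inv h1, hi]; exact r0_ok.2.2.2.1))
  have h1 := h.mem_nJ (g := d * g) fun j hj hz => by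
    simpa [mul_assoc] using key _ (hg j hj) (hz.trans (isConj_iff.mpr ⟨g, rfl⟩))
  simpa [mul_assoc] using (mem_normalizer_iff.mp (inv_mem h1) _).mp (key x hx hz)

theorem JC : J ≤ centralizer {y} := fun j hj => mem_Ct (h.m.comm j hj _ h.yJ')

theorem map_JC {g : G} (hg : g * y = y * g) :
    J.map (MulAut.conj g).toMonoidHom ≤ centralizer {y} := by
  rintro _ ⟨j, hj, rfl⟩
  exact mul_mem (mul_mem (mem_Ct hg) (h.JC hj)) (inv_mem (mem_Ct hg))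

theorem nJ_of_le {g : G} (hg : g * y = y * g)
    (h1 : ∀ j ∈ J, g * j * g⁻¹ ∈ normalizer (J : Set G)) : g ∈ normalizer (J : Set G) := by
  haveI : Fact (Nat.Prime 3) := ⟨Nat.prime_three⟩
  have hJ := S.isPGroup'.to_le h.m.JS
  refine h.mem_nJ fun x hx hz => ?_
  simpa using h.wc (g := 1) (hJ.to_sup_of_normal_left' (hJ.map (MulAut.conj g).toMonoidHom) (by
    rintro _ ⟨j, hj, rfl⟩
    exact h1 j hj)) (sup_le h.JC (h.map_JC hg)) (fun j hj => by simpa using mem_sup_left hj)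
    (mem_sup_right ⟨x, hx, rfl⟩) (hz.trans (isConj_iff.mpr ⟨g, rfl⟩))

theorem sc {g j : G} (hg : g * y = y * g) (hj : j ∈ J)
    (hx : g * j * g⁻¹ ∈ normalizer (J : Set G)) : g * j * g⁻¹ ∈ J := by
  haveI : Fact (Nat.Prime 3) := ⟨Nat.prime_three⟩
  set x := g * j * g⁻¹ with hxe
  have hJ := S.isPGroup'.to_le h.m.JS
  obtain ⟨A, co⟩ := h.exists_co
  obtain ⟨k, hk⟩ := h.act_H hx (comm_Ct ⟨x, h.map_JC hg ⟨j, hj, rfl⟩⟩)
  have h1 := hk.pow 3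
  rw [hxe, conj_pow, h.m.cube j hj, mul_one, mul_inv_cancel] at h1
  obtain ⟨i, l, hi⟩ := fix_three k (by simpa using co.unique act_one h1)
  have g13 := act_tab.2.2.2.2.2.2.2.2.1
  have h2 := hk _ (conj_J0 g13 (wk i l 0))
  rw [hi _ rfl] at h2
  have h3 : IsConj z (ψ (wk i l 0 * ek 13 * (wk i l 0)⁻¹)) :=
    h.isConj_13.trans (isConj_iff.mpr ⟨_, h.act_wk i l 0 _ g13⟩)
  have h4 := h.ψJ (wk i l 0 * ek 13 * (wk i l 0)⁻¹)
  generalize ψ (wk i l 0 * ek 13 * (wk i l 0)⁻¹) = ζ at h2 h3 h4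
  obtain ⟨R, hR, hJR⟩ := exists_isSylowIn_ge (hJ.map (MulAut.conj g).toMonoidHom)
    (le_inf (h.map_JC hg) (show _ ≤ centralizer {x} by
      rintro _ ⟨a, ha, rfl⟩
      refine mem_Ct ?_
      change g * a * g⁻¹ * x = x * (g * a * g⁻¹)
      rw [hxe, conj_mul, conj_mul, h.m.comm a ha j hj]))
  obtain ⟨c, ⟨hc1, hc2⟩, hc⟩ := hR.exists_conj_le (hJ.to_le (zpowers_le.mpr h4))
    (zpowers_le.mpr ⟨h.JC h4, mem_Ct (mul_inv_eq_iff_eq_mul.mp h2).symm⟩)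
  have h5 := h.wc hR.isPGroup (hR.le.trans inf_le_left) (fun a ha => hJR ⟨a, ha, rfl⟩)
    (hc ⟨ζ, mem_zpowers _, rfl⟩) (h3.trans (isConj_iff.mpr ⟨c, rfl⟩))
  have h6 : c⁻¹ * g * y = y * (c⁻¹ * g) := comm_Ct ⟨_, mul_mem (inv_mem hc1) (mem_Ct hg)⟩
  have h7 := h.nJ_of_le h6 fun a ha => h.cent_ztype (comm_Ct ⟨_, h.map_JC h6 ⟨a, ha, rfl⟩⟩) h4 h3 (by
    have := h.m.comm a ha _ h5
    change a * (g⁻¹ * (c * ζ * c⁻¹) * g) = g⁻¹ * (c * ζ * c⁻¹) * g * a at this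
    calc _ = c⁻¹ * g * (a * (g⁻¹ * (c * ζ * c⁻¹) * g)) * (c⁻¹ * g)⁻¹ := by group
      _ = _ := by rw [this]; group)
  have h8 := (mem_normalizer_iff.mp h7 j).mp hj
  rwa [show c⁻¹ * g * j * (c⁻¹ * g)⁻¹ = c⁻¹ * (x * c) by rw [hxe]; group, ← comm_Ct ⟨c, hc2⟩,
    inv_mul_cancel_left] at h8

theorem cent_good {a : tK.El} (ha : good a) {c : G} (hy : c * y = y * c)
    (hc : c * ψ a = ψ a * c) : c ∈ normalizer (J : Set G) := by
  obtain ⟨i, j, k, e⟩ := good_orb a ha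
  have g13 := act_tab.2.2.2.2.2.2.2.2.1
  have h1 : IsConj z (ψ (wk i j k * ek 13 * (wk i j k)⁻¹)) :=
    h.isConj_13.trans (isConj_iff.mpr ⟨_, h.act_wk i j k _ g13⟩)
  rcases e with e | e | e
  · refine h.cent_ztype hy (mul_mem h.yJ' (h.ψJ a)) (IsConj.trans (b := y * v) ?_
      (isConj_iff.mpr ⟨t ^ i.1 * u ^ j.1 * μ ^ k.1, ?_⟩)) (Commute.mul_right hy hc)
    · refine h.isConj_inv ?_
      rw [h.hy, h.hv, mul_assoc z, ← mul_assoc _ z, h.m.comm _ h.z'J _ h.zJ, mul_inv_cancel_right,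
        inv_eq_of_mul_eq_one_left (by rw [← pow_three, h.m.cube z h.zJ])]
    · rw [← conj_mul, e, ← h.act_wk i j k _ gens_J0.1, (psi_gens v μ).1,
        (((Commute.pow_left h.ty' _).mul_left (Commute.pow_left h.uy' _)).mul_left
          (Commute.pow_left h.my _)).eq, mul_inv_cancel_right]
  · exact h.cent_ztype hy (h.ψJ a) (e ▸ h1) hc
  · exact h.cent_ztype hy (h.ψJ a) (h.isConj_inv (by
      rwa [← e, h.mul.map_inv (good_J0 a ha).1] at h1)) hc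

theorem hy_weak {c : G} (hc : c * y = y * c) : c ∈ normalizer (J : Set G) := by
  let C := centralizer ({y} : Set G)
  let N := (zpowers y).subgroupOf C
  haveI : N.Normal := ⟨fun c hc g => conj_zp (mem_nz_of_comm (comm_Ct g)) hc⟩
  let π := QuotientGroup.mk' N
  let φ : tK.El → C ⧸ N := fun a => π ⟨ψ a, h.JC (h.ψJ a)⟩
  let A := (J.subgroupOf C).map π
  have hA : ∀ c : C, π c ∈ A ↔ (c : G) ∈ J := fun c => by
    refine ⟨fun ⟨d, hd, e⟩ => ?_, fun hc => ⟨c, hc, rfl⟩⟩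
    have : d⁻¹ * c ∈ N := QuotientGroup.eq.mp e
    simpa using mul_mem (show (d : G) ∈ J from hd)
      (zpowers_le.mpr h.yJ' (show (d : G)⁻¹ * c ∈ zpowers y from this))
  have hN : ∀ c : C, π c ∈ normalizer (A : Set (C ⧸ N)) ↔ (c : G) ∈ normalizer (J : Set G) :=
    fun c => ⟨fun hc => mem_normalizer_fintype fun x hx => (hA (c * ⟨x, h.JC hx⟩ * c⁻¹)).mp
      ((mem_normalizer_iff.mp hc _).mp ((hA ⟨x, h.JC hx⟩).mpr hx)), fun hc =>
      mem_normalizer_fintype (by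
        rintro _ ⟨x, hx, rfl⟩
        exact (hA (c * x * c⁻¹)).mpr ((mem_normalizer_iff.mp hc _).mp hx))⟩
  have hact : ∀ (c : C) k, Act ψ c k → Act φ (π c) k := fun c k hk a ha => by
    rw [← map_inv, ← map_mul, ← map_mul]
    exact congrArg π (Subtype.ext (hk a ha))
  have co : Co φ A := ⟨⟨fun a ha b hb => by
      rw [← map_mul]; exact congrArg π (Subtype.ext (h.mul.mul a ha b hb))⟩,
    fun a ha e => h.eq_one ha ((QuotientGroup.eq_one_iff (N := N) _).mp e), fun x => ⟨by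
      rintro ⟨x, hx, rfl⟩
      obtain ⟨w, hw, a, ha, e⟩ := h.J_dec' (show (x : G) ∈ J from hx)
      refine ⟨a, ha, QuotientGroup.eq.mpr ?_⟩
      change (ψ a)⁻¹ * x ∈ zpowers y
      rwa [e, inv_mul_cancel_left], by
      rintro ⟨a, -, rfl⟩
      exact (hA _).mpr (h.ψJ a)⟩⟩
  let tt : C := ⟨t, mem_Ct h.ty'⟩
  let uu : C := ⟨u, mem_Ct h.uy'⟩
  refine (hN ⟨c, mem_Ct hc⟩).mp (HP.top (φ := φ) (t := π tt) (u := π uu) (m := π ⟨μ, mem_Ct h.my⟩)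
    ⟨co, fun x hx => ?_, by rw [← map_mul, show tt * tt = 1 from Subtype.ext h.tt, map_one],
      by rw [← map_mul, show uu * uu = 1 from Subtype.ext h.uu, map_one],
      by rw [← map_mul, ← map_mul, show tt * uu = uu * tt from Subtype.ext h.ut.symm],
      hact _ _ h.act_t, hact _ _ h.act_u, hact _ _ h.act_m, fun x hx => ?_, fun a ha x hx => ?_,
      fun a ha g hg => ?_⟩ _)
  · obtain ⟨x, rfl⟩ := QuotientGroup.mk'_surjective N x
    obtain ⟨k, hk⟩ := h.act_H ((hN x).mp (co.mem_normalizer hx)) (comm_Ct x)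
    have h1 := hk.congr (co.unique (hact _ _ hk) hx)
    refine (hA x).mpr (h.cent_J fun j hj => ?_)
    obtain ⟨w, hw, a, ha, rfl⟩ := h.J_dec' hj
    exact Commute.mul_right (mul_inv_eq_iff_eq_mul.mp (by simpa using h1 a ha))
      (comm_zp (comm_Ct x) hw)
  · obtain ⟨x, rfl⟩ := QuotientGroup.mk'_surjective N x
    exact (h.act_H ((hN x).mp hx) (comm_Ct x)).imp fun k hk => hact _ _ hk
  · obtain ⟨x, rfl⟩ := QuotientGroup.mk'_surjective N x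
    have h1 : (x : G) * ψ a * (x : G)⁻¹ ∈ J := (hA (x * ⟨ψ a, h.JC (h.ψJ a)⟩ * x⁻¹)).mp (by
      rw [map_mul, map_mul, map_inv]
      exact (mul_inv_eq_iff_eq_mul.mpr hx).symm ▸ co.memA (good_J0 a ha).1)
    refine (hN x).mpr (inv_mem_iff.mp (h.nJ_of_le (comm_Ct x⁻¹) fun j hj =>
      h.cent_good ha (comm_Ct (x⁻¹ * ⟨j, h.JC hj⟩ * x⁻¹⁻¹)) ?_))
    calc _ = (x : G)⁻¹ * (j * (x * ψ a * (x : G)⁻¹)) * x := by group
      _ = _ := by rw [h.m.comm j hj _ h1]; group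
  · obtain ⟨g, rfl⟩ := QuotientGroup.mk'_surjective N g
    obtain ⟨a, ha, rfl⟩ := ha
    exact (hA (g * a * g⁻¹)).mpr (h.sc (comm_Ct g) ha ((hN (g * a * g⁻¹)).mp hg))

end Cd

theorem Fr.hy_weak (h : Fr S Q L z pL J M pM t f u) {c : G}
    (hc : c * (z * (u * z * u⁻¹)) = z * (u * z * u⁻¹) * c) : c ∈ normalizer (J : Set G) := by
  obtain ⟨m, hm, e⟩ := h.m.surj a1 sign_gens.2.2.2.2.1
  exact Cd.hy_weak ⟨h, hm, e, rfl, rfl⟩ hc

end Cfsg.Lib.Mc3
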