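import Cfsg.Agent.Recog.U6SDa

/-!
Conjugates of the `3`-central element: the action of the centralizer on its frame.
-/

set_option autoImplicit false

namespace Cfsg.Lib.U6

open Cfsg Subgroup Cfsg.Lib.Recog.P43

namespace SDa

variable {G : Type*} [Group G]

/-- `h` acts as `P`. -/
def Ac (f f' : X → G) (h : G) (P : X) : Prop := ∀ u, C0 u → h * f u * h⁻¹ = f' (P * u * P⁻¹)

section

variable {f₁ f₂ f₃ : X → G} {h k : G} {P R : X}

theorem Ac.mul (a : Ac f₂ f₃ h P) (b : Ac f₁ f₂ k R) : Ac f₁ f₃ (h * k) (P * R) := fun u hu => by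
  rw [show h * k * f₁ u * (h * k)⁻¹ = h * (k * f₁ u * k⁻¹) * h⁻¹ by group, b u hu, a _ (hu.conj R)]
  congr 1; group

theorem Ac.inv (a : Ac f₁ f₂ h P) : Ac f₂ f₁ h⁻¹ P⁻¹ := fun u hu => by
  have := a _ (hu.conj P⁻¹)
  rw [show P * (P⁻¹ * u * P⁻¹⁻¹) * P⁻¹ = u by group] at this
  rw [← this]; group

theorem ac_one : Ac f₁ f₁ 1 1 := fun u _ => by simp

theorem Ac.pow (a : Ac f₁ f₁ h P) (n : ℕ) : Ac f₁ f₁ (h ^ n) (P ^ n) := by
  induction n with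
  | zero => simpa using ac_one
  | succ n ih => rw [pow_succ, pow_succ]; exact ih.mul a

theorem Ac.cn (a : Ac f₁ f₂ h P) (c : Cn R) : Ac f₁ f₂ h (P * R) := fun u hu => by
  rw [a u hu, show P * R * u * (P * R)⁻¹ = P * (R * u * R⁻¹) * P⁻¹ by group, cn_comm c,
    mul_inv_cancel_right]

end

/-- The frame with the two factors interchanged. -/
def flp (D : FU G) : FU G where
  z := D.z
  φ := D.ψ
  ψ := D.φ
  φmul := D.ψmul
  ψmul := D.φmul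
  φinj := D.ψinj
  ψinj := D.φinj
  φa := D.ψa
  ψa := D.φa
  comm p q hp hq := (D.comm q p hq hp).symm
  dec h hh := by
    obtain ⟨p, q, c, g₁, g₂, hp, hq, e, h⟩ := D.dec h hh
    exact ⟨q, p, c, g₂, g₁, hq, hp, by rw [e, D.comm p q (c0_g hp) (c0_g hq)],
      h.imp And.symm And.symm⟩
  lin1 c a b := D.lin1 c b a
  wc g p q hp hq e := D.wc g q p hq hp (by rw [e, D.comm q p (c0_g hq) (c0_g hp)])
  nwc := D.nwc

theorem mem_zp_conj {g x z : G} : g * x * g⁻¹ ∈ zpowers (g * z * g⁻¹) ↔ x ∈ zpowers z := by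
  rw [← Trans.cj_zpowers, Trans.conj_mem_cj]

/-- The conjugate frame. -/
def cjf (D : FU G) (g : G) : FU G where
  z := g * D.z * g⁻¹
  φ p := g * D.φ p * g⁻¹
  ψ p := g * D.ψ p * g⁻¹
  φmul p q hp hq := by rw [D.φmul p q hp hq]; group
  ψmul p q hp hq := by rw [D.ψmul p q hp hq]; group
  φinj p hp e := D.φinj p hp (by simpa using e)
  ψinj p hp e := D.ψinj p hp (by simpa using e)
  φa := by rw [D.φa]
  ψa := by rw [D.ψa]
  comm p q hp hq := by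
    rw [conj_mul, conj_mul, D.comm p q hp hq]
  dec h hh := by
    obtain ⟨p, q, c, g₁, g₂, hp, hq, e, h⟩ := D.dec (g⁻¹ * h * g) (by
      calc _ = g⁻¹ * (h * (g * D.z * g⁻¹)) * g := by group
        _ = _ := by rw [hh]; group)
    have t : ∀ {f f' : X → G} {k : Q}, Tw f f' c k →
        Tw (fun p => g * f p * g⁻¹) (fun p => g * f' p * g⁻¹) (g * c * g⁻¹) k := fun t p hp => by
      beta_reduce
      rw [← t p hp]; group
    exact ⟨p, q, g * c * g⁻¹, g₁, g₂, hp, hq, by rw [conj_mul, conj_mul, ← e]; group,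
      h.imp (And.imp t t) (And.imp t t)⟩
  lin1 c a b := by
    have t : ∀ {f : X → G}, Tw (fun p => g * f p * g⁻¹) (fun p => g * f p * g⁻¹) c 1 →
        Tw f f (g⁻¹ * c * g) 1 := fun {f} t p hp => by
      calc _ = g⁻¹ * (c * (g * f p * g⁻¹) * c⁻¹) * g := by group
        _ = _ := by rw [t p hp]; group
    have := mem_zp_conj (g := g).2 (D.lin1 _ (t a) (t b))
    rwa [show g * (g⁻¹ * c * g) * g⁻¹ = c by group] at this
  wc k p q hp hq e := by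
    have := mem_zp_conj (g := g).2 (D.wc (g⁻¹ * k * g) p q hp hq (by
      calc _ = g⁻¹ * (k * (g * D.z * g⁻¹) * k⁻¹) * g := by group
        _ = _ := by rw [e]; group))
    rwa [show g * (g⁻¹ * k * g * D.z * (g⁻¹ * k * g)⁻¹) * g⁻¹ = k * (g * D.z * g⁻¹) * k⁻¹ by
      group] at this
  nwc := by
    obtain ⟨k, a, b⟩ := D.nwc
    refine ⟨g * k * g⁻¹, ?_, ?_⟩ <;>
      rw [show g * k * g⁻¹ * (g * D.z * g⁻¹) * (g * k * g⁻¹)⁻¹ = g * (k * D.z * k⁻¹) * g⁻¹ by group]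
    · rw [conj_mul, conj_mul, a]
    · exact mt mem_zp_conj.1 b

variable (D : FU G)

/-- Elements preserving the factors. -/
def NS (h : G) (P P' : X) : Prop := Ac D.φ D.φ h P ∧ Ac D.ψ D.ψ h P'

/-- Elements interchanging the factors. -/
def SW (h : G) (P P' : X) : Prop := Ac D.φ D.ψ h P ∧ Ac D.ψ D.φ h P'

/-- The extraspecial group. -/
def InQ (x : G) : Prop := ∃ p q : X, p.g = 1 ∧ q.g = 1 ∧ x = D.φ p * D.ψ q

theorem φ_one : D.φ 1 = 1 := by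
  have := D.φmul 1 1 c0_one c0_one
  rw [one_mul] at this
  exact left_eq_mul.1 this

theorem ψ_one : D.ψ 1 = 1 := φ_one (flp D)

theorem φ_inv {p : X} (hp : C0 p) : D.φ p⁻¹ = (D.φ p)⁻¹ :=
  eq_inv_of_mul_eq_one_left (by rw [← D.φmul _ _ hp.inv hp, inv_mul_cancel, φ_one])

theorem ψ_inv {p : X} (hp : C0 p) : D.ψ p⁻¹ = (D.ψ p)⁻¹ := φ_inv (flp D) hp

theorem φ_eq {p q : X} (hp : C0 p) (hq : C0 q) (e : D.φ p = D.φ q) : p = q :=
  mul_inv_eq_one.1 (D.φinj _ (hp.mul hq.inv) (by rw [D.φmul _ _ hp hq.inv, φ_inv D hq, e,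
    mul_inv_cancel]))

theorem z_ne : D.z ≠ 1 := fun e => absurd (D.φinj _ (by decide) (D.φa.trans e)) X.a_facts.1

theorem z3 : D.z ^ 3 = 1 := by
  rw [pow_three', ← D.φa, ← D.φmul _ _ (by decide) (by decide),
    ← D.φmul _ _ (by decide) (by decide), X.a_facts.2.1, φ_one]

theorem cn_φ {p : X} (h : Cn p) : D.φ p = D.ψ p ∧ D.φ p ∈ zpowers D.z := by
  rcases cn_cases p h with rfl | rfl | rfl
  · rw [φ_one, ψ_one]; exact ⟨rfl, one_mem _⟩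
  · rw [D.φa, D.ψa]; exact ⟨rfl, mem_zpowers _⟩
  · rw [D.φmul _ _ (by decide) (by decide), D.ψmul _ _ (by decide) (by decide), D.φa, D.ψa]
    exact ⟨rfl, mul_mem (mem_zpowers _) (mem_zpowers _)⟩

theorem zp_cases {z x : G} (h3 : z ^ 3 = 1) (hx : x ∈ zpowers z) : x = 1 ∨ x = z ∨ x = z⁻¹ := by
  obtain ⟨k, rfl⟩ := hx
  have h0 : z ^ (3 : ℤ) = 1 := by exact_mod_cast h3
  have : ∃ j, k = 3 * j ∨ k = 3 * j + 1 ∨ k = 3 * j + -1 :=
    ⟨(k + 1) / 3, by omega⟩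
  obtain ⟨j, rfl | rfl | rfl⟩ := this <;> simp [zpow_add, zpow_mul, h0]

theorem zp_cn {x : G} (hx : x ∈ zpowers D.z) : ∃ k, Cn k ∧ x = D.φ k := by
  rcases zp_cases (z3 D) hx with rfl | rfl | rfl
  exacts [⟨1, by decide, (φ_one D).symm⟩, ⟨_, fC.2.2.1, D.φa.symm⟩,
    ⟨_, fC.2.2.2.1, by rw [φ_inv D (by decide), D.φa]⟩]

theorem ns_φ {p : X} (hp : C0 p) : NS D (D.φ p) p 1 :=
  ⟨fun u hu => by rw [D.φmul _ _ (hp.mul hu) hp.inv, D.φmul _ _ hp hu, φ_inv D hp],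
    fun u hu => by rw [D.comm p u hp hu]; simp⟩

theorem ns_ψ {p : X} (hp : C0 p) : NS D (D.ψ p) 1 p := (ns_φ (flp D) hp).symm

variable {D} {h k x y : G} {P P' R R' : X}

theorem NS.mul (a : NS D h P P') (b : NS D k R R') : NS D (h * k) (P * R) (P' * R') :=
  ⟨a.1.mul b.1, a.2.mul b.2⟩

theorem NS.inv (a : NS D h P P') : NS D h⁻¹ P⁻¹ P'⁻¹ := ⟨a.1.inv, a.2.inv⟩

theorem NS.pow (a : NS D h P P') (n : ℕ) : NS D (h ^ n) (P ^ n) (P' ^ n) := ⟨a.1.pow n, a.2.pow n⟩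

theorem ns_φψ {p q : X} (hp : C0 p) (hq : C0 q) : NS D (D.φ p * D.ψ q) p q := by
  simpa using (ns_φ D hp).mul (ns_ψ D hq)

theorem NS.comm (a : NS D h P P') : h * D.z = D.z * h := by
  have := a.1 X.a (by decide)
  rw [X.a_comm P, mul_inv_cancel_right, D.φa] at this
  exact mul_inv_eq_iff_eq_mul.1 this

theorem dec' (hh : h * D.z = D.z * h) : (∃ P P', NS D h P P') ∨ ∃ P P', SW D h P P' := by
  obtain ⟨p, q, c, g₁, g₂, hp, hq, rfl, h⟩ := D.dec h hh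
  have a := ns_φψ (D := D) (c0_g hp) (c0_g hq)
  exact h.imp (fun h => ⟨_, _, a.1.mul h.1, a.2.mul h.2⟩) fun h => ⟨_, _, a.2.mul h.1, a.1.mul h.2⟩

theorem cn_of_ac (a : Ac D.φ D.φ 1 P) : Cn P := by
  have : ∀ u, C0 u → P * u * P⁻¹ = u := fun u hu =>
    φ_eq D (hu.conj P) hu (by rw [← a u hu]; simp)
  exact cn_of_comm P (this _ (by decide)) (this _ (by decide)) (this _ (by decide))

theorem NS.cn (a : NS D 1 P P') : Cn P ∧ Cn P' := ⟨cn_of_ac a.1, cn_of_ac (D := flp D) a.2⟩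

theorem inter {p q : X} (hp : C0 p) (hq : C0 q) (e : D.φ p * D.ψ q = 1) :
    Cn p ∧ Cn q ∧ p * q = 1 := by
  have := (e ▸ ns_φψ hp hq : NS D 1 p q).cn
  refine ⟨this.1, this.2, D.φinj _ (hp.mul hq) ?_⟩
  rw [D.φmul _ _ hp hq, (cn_φ D this.2).1, e]

theorem SW.cn (a : SW D h P P') {u u' : X} (hu : C0 u) (hu' : C0 u')
    (e : h * D.φ u * h⁻¹ = D.φ u') : Cn u :=
  cn_conj (inter (D := D) hu'.inv (hu.conj P) (by rw [← a.1 u hu, e, φ_inv D hu', inv_mul_cancel])).2.1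

theorem ns_odd (hh : h * D.z = D.z * h) (h9 : h ^ 9 = 1) : ∃ P P', NS D h P P' :=
  (dec' hh).resolve_right fun ⟨P, P', a⟩ => by
    have b : NS D (h * h) _ _ := ⟨a.2.mul a.1, a.1.mul a.2⟩
    have c : SW D ((h * h) ^ 4 * h) _ _ := ⟨(b.pow 4).2.mul a.1, (b.pow 4).1.mul a.2⟩
    rw [show (h * h) ^ 4 * h = 1 by rw [← h9, ← pow_two, ← pow_mul, ← pow_succ]] at c
    exact fC.2.2.2.2.2.2.1 (c.cn (u' := yX) (by decide) (by decide) (by simp))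

theorem NS.g_pow (a : NS D h P P') {n : ℕ} (e : h ^ n = 1) : P.g ^ n = 1 ∧ P'.g ^ n = 1 := by
  have := (e ▸ a.pow n : NS D 1 _ _).cn
  exact ⟨(map_pow X.gHom P n).symm.trans this.1.2.2, (map_pow X.gHom P' n).symm.trans this.2.2.2⟩

theorem NS.zp (a : NS D h P P') (b : NS D k P P') : h * k⁻¹ ∈ zpowers D.z := by
  have := a.mul b.inv
  rw [mul_inv_cancel, mul_inv_cancel] at this
  exact D.lin1 _ (fun p hp => by rw [map_one]; exact this.1 p hp)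
    fun p hp => by rw [map_one]; exact this.2 p hp

theorem InQ.flp (a : InQ D x) : InQ (flp D) x := by
  obtain ⟨p, q, hp, hq, rfl⟩ := a
  exact ⟨q, p, hq, hp, D.comm p q (c0_g hp) (c0_g hq)⟩

theorem InQ.of_flp (a : InQ (SDa.flp D) x) : InQ D x := InQ.flp (D := SDa.flp D) a

theorem φψ_mul {p q p' q' : X} (hp : C0 p) (hq : C0 q) (hp' : C0 p') (hq' : C0 q') :
    D.φ p * D.ψ q * (D.φ p' * D.ψ q') = D.φ (p * p') * D.ψ (q * q') := by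
  rw [D.φmul _ _ hp hp', D.ψmul _ _ hq hq', mul_assoc, ← mul_assoc (D.ψ q), ← D.comm p' q hp' hq]
  group

theorem φψ_inv {p q : X} (hp : C0 p) (hq : C0 q) :
    (D.φ p * D.ψ q)⁻¹ = D.φ p⁻¹ * D.ψ q⁻¹ :=
  inv_eq_of_mul_eq_one_right (by
    rw [φψ_mul hp hq hp.inv hq.inv, mul_inv_cancel, mul_inv_cancel, φ_one, ψ_one, mul_one])

theorem φψ_cn {p q w : X} (hp : C0 p) (hq : C0 q) (hw : Cn w) :
    D.φ (p * w) * D.ψ (q * w⁻¹) = D.φ p * D.ψ q := by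
  have c := c0_g hw.2.2
  rw [D.φmul _ _ hp c, (cn_φ D hw).1, mul_assoc, ← D.ψmul _ _ c (hq.mul c.inv), ← mul_assoc,
    cn_comm hw, mul_inv_cancel_right]

theorem NS.conj (a : NS D h P P') {p q : X} (hp : C0 p) (hq : C0 q) :
    h * (D.φ p * D.ψ q) * h⁻¹ = D.φ (P * p * P⁻¹) * D.ψ (P' * q * P'⁻¹) := by
  rw [← conj_mul, a.1 p hp, a.2 q hq]

theorem InQ.mul (a : InQ D x) (b : InQ D y) : InQ D (x * y) := by
  obtain ⟨p, q, hp, hq, rfl⟩ := a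
  obtain ⟨p', q', hp', hq', rfl⟩ := b
  exact ⟨_, _, g_mul hp hp', g_mul hq hq', φψ_mul (c0_g hp) (c0_g hq) (c0_g hp') (c0_g hq')⟩

theorem InQ.inv (a : InQ D x) : InQ D x⁻¹ := by
  obtain ⟨p, q, hp, hq, rfl⟩ := a
  exact ⟨_, _, g_inv hp, g_inv hq, φψ_inv (c0_g hp) (c0_g hq)⟩

theorem inQ_φ {p : X} (hp : p.g = 1) : InQ D (D.φ p) := ⟨p, 1, hp, rfl, by rw [ψ_one, mul_one]⟩

theorem inQ_ψ {p : X} (hp : p.g = 1) : InQ D (D.ψ p) := ⟨1, p, rfl, hp, by rw [φ_one, one_mul]⟩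

theorem inQ_zp (hx : x ∈ zpowers D.z) : InQ D x := by
  obtain ⟨k, hk, rfl⟩ := zp_cn D hx
  exact inQ_φ hk.2.2

theorem InQ.conj (a : InQ D x) (hh : h * D.z = D.z * h) : InQ D (h * x * h⁻¹) := by
  obtain ⟨p, q, hp, hq, rfl⟩ := a
  rcases dec' hh with ⟨P, P', a⟩ | ⟨P, P', a⟩
  · exact ⟨_, _, g_conj hp P, g_conj hq P', a.conj (c0_g hp) (c0_g hq)⟩
  · rw [← conj_mul, a.1 p (c0_g hp), a.2 q (c0_g hq)]
    exact (inQ_ψ (g_conj hp P)).mul (inQ_φ (g_conj hq P'))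

theorem InQ.ns (a : InQ D x) : ∃ p q : X, p.g = 1 ∧ q.g = 1 ∧ NS D x p q := by
  obtain ⟨p, q, hp, hq, rfl⟩ := a
  exact ⟨p, q, hp, hq, ns_φψ (c0_g hp) (c0_g hq)⟩

theorem InQ.comm (a : InQ D x) : x * D.z = D.z * x := by
  obtain ⟨p, q, -, -, a⟩ := a.ns
  exact a.comm

theorem InQ.cube (a : InQ D x) : x ^ 3 = 1 := by
  obtain ⟨p, q, hp, hq, rfl⟩ := a
  have a := c0_g hp
  have b := c0_g hq
  rw [pow_three', φψ_mul a b a b, φψ_mul (a.mul a) (b.mul b) a b, X.cube_of_g p hp,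
    X.cube_of_g q hq, φ_one, ψ_one, mul_one]

theorem NS.inQ (a : NS D h P P') (e : P.g = 1) (e' : P'.g = 1) : InQ D h := by
  have := (inQ_zp (a.zp (ns_φψ (c0_g e) (c0_g e')))).mul ⟨P, P', e, e', rfl⟩
  rwa [inv_mul_cancel_right] at this

theorem NS.inQ' (a : NS D h P P') (h3 : h ^ 3 = 1) (e : C0 P) (e' : C0 P') : InQ D h :=
  a.inQ ((cube_Q _).2 (a.g_pow h3).1 e) ((cube_Q _).2 (a.g_pow h3).2 e')

theorem pow9 (h3 : h ^ 3 = 1) : h ^ 9 = 1 := by rw [show 9 = 3 * 3 from rfl, pow_mul, h3, one_pow]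

theorem star {D' : FU G} (hx : InQ D x) (hy : InQ D y) (cx : x * D'.z = D'.z * x)
    (cy : y * D'.z = D'.z * y) : InQ D' (x * y * x⁻¹ * y⁻¹) := by
  obtain ⟨P, P', a⟩ := ns_odd cx (pow9 hx.cube)
  obtain ⟨R, R', b⟩ := ns_odd cy (pow9 hy.cube)
  have a1 := a.g_pow hx.cube
  have a2 := b.g_pow hy.cube
  have a3 := (a.mul b).g_pow (hx.mul hy).cube
  have a4 := (a.mul b.inv).g_pow (hx.mul hy.inv).cube
  exact (((a.mul b).mul a.inv).mul b.inv).inQ (star_Q _ _ a1.1 a2.1 a3.1 a4.1)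
    (star_Q _ _ a1.2 a2.2 a3.2 a4.2)

theorem wc' (c : IsConj D.z x) (a : InQ D x) : x ∈ zpowers D.z := by
  obtain ⟨g, rfl⟩ := isConj_iff.1 c
  obtain ⟨p, q, hp, hq, e⟩ := a
  exact D.wc g p q hp hq e

theorem NS.comm_of (a : NS D h P P') {u v w : X} (hu : C0 u) (hv : C0 v) (hw : Cn w)
    (e : P * u * P⁻¹ = u * w) (e' : P' * v * P'⁻¹ = v * w⁻¹) :
    D.φ u * D.ψ v * h = h * (D.φ u * D.ψ v) :=
  (mul_inv_eq_iff_eq_mul.1 (by rw [a.conj hu hv, e, e', φψ_cn hu hv hw])).symm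

theorem NS.of_comm (a : NS D h P P') {u v : X} (hu : C0 u) (hv : C0 v)
    (e : D.φ u * D.ψ v * h = h * (D.φ u * D.ψ v)) :
    Cn (P * u * P⁻¹ * u⁻¹) ∧ Cn (P' * v * P'⁻¹ * v⁻¹) ∧
      P * u * P⁻¹ * u⁻¹ * (P' * v * P'⁻¹ * v⁻¹) = 1 :=
  inter (D := D) ((hu.conj P).mul hu.inv) ((hv.conj P').mul hv.inv) (by
    rw [← φψ_mul (hu.conj P) (hv.conj P') hu.inv hv.inv, ← a.conj hu hv, ← φψ_inv hu hv, ← e]
    group)

theorem NS.cls (a : NS D h P P') {u v : X} (hu : C0 u) (hv : C0 v) :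
    IsConj h (h * (D.φ (P⁻¹ * u * P * u⁻¹) * D.ψ (P'⁻¹ * v * P' * v⁻¹))) := by
  have := a.inv.conj hu hv
  rw [inv_inv, inv_inv, inv_inv] at this
  have b := hu.conj P⁻¹
  have c := hv.conj P'⁻¹
  rw [inv_inv] at b c
  rw [← φψ_mul b c hu.inv hv.inv, ← this, ← φψ_inv hu hv]
  exact isConj_iff.2 ⟨D.φ u * D.ψ v, by group⟩

end SDa

end Cfsg.Lib.U6
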