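import Cfsg.Agent.Recog.U6Main
import Cfsg.Agent.Recog.U6Nc

/-!
The `3`-local data of `U₆(2)` with the frame recorded.
-/

set_option autoImplicit false
set_option synthInstance.maxSize 2000

namespace Cfsg.Lib.U6

open Cfsg Subgroup _root_.Cfsg.Lib.Trans Cfsg.Lib.Recog.P43 Equiv

universe u

namespace CU0

open HU

variable {G : Type*} [Group G]

theorem hu_eq {D : FU G} {s : G} (h : D.SD s) :
    ∃ E : HU G, (∀ p, χ p = 0 → E.φ p = D.φ p) ∧ ∀ p, χ p = 0 → E.ψ p = D.ψ p := by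
  obtain ⟨φ, a1, a2⟩ := exists_ext D.φmul h.t1 h.s3
  obtain ⟨ψ, b1, b2⟩ := exists_ext D.ψmul h.t2 h.s3
  have hz : φ X.a = D.z := (a1 _ χ_facts.2.2.2).trans D.φa
  have cm : ∀ p q, χ p = 0 → χ q = 0 → φ p * ψ q = ψ q * φ p := fun p q hp hq => by
    rw [a1 p hp, b1 q hq, D.comm p q hp hq]
  have i1 : ∀ p, χ p = 0 → φ p = 1 → p = 1 := fun p hp e => D.φinj p hp (a1 p hp ▸ e)
  have i2 : ∀ p, χ p = 0 → ψ p = 1 → p = 1 := fun p hp e => D.ψinj p hp (b1 p hp ▸ e)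
  refine ⟨⟨φ, ψ, inj_of (b2.trans a2.symm) cm i1 i2,
    inj_of (a2.trans b2.symm) (fun p q hp hq => (cm q p hq hp).symm) i2 i1,
    ((b1 _ χ_facts.2.2.2).trans D.ψa).trans hz.symm, b2.trans a2.symm, cm, fun g hg => ?_,
    fun c h1 h2 => ?_, fun g h1 h2 => ?_, by rw [hz, a2]; exact h.cube, ?_⟩, a1, b1⟩
  · obtain ⟨p, q, c, g₁, g₂, hp, hq, e, hc⟩ := D.dec g (hz ▸ hg)
    have hp' : χ p = 0 := by rw [χ, hp]; exact χ_one
    have hq' : χ q = 0 := by rw [χ, hq]; exact χ_one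
    exact ⟨p, q, c, X.ell g₁, X.ell g₂, hp', hq', by rw [a1 p hp', b1 q hq', e], hc.imp
      (fun k => ⟨Ac.congr k.1 a1 a1, Ac.congr k.2 b1 b1⟩)
      fun k => ⟨Ac.congr k.1 a1 b1, Ac.congr k.2 b1 a1⟩⟩
  · rw [hz]
    refine D.lin1 c ?_ ?_
    · exact Ac.congr (x := X.ell 1) (by rwa [map_one]) (fun p hp => (a1 p hp).symm)
        fun p hp => (a1 p hp).symm
    · exact Ac.congr (x := X.ell 1) (by rwa [map_one]) (fun p hp => (b1 p hp).symm)
        fun p hp => (b1 p hp).symm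
  · rw [hz] at h1 h2 ⊢
    obtain ⟨p, q, hp, hq, e | e⟩ := h.typ g h1 h2
    · exact ⟨p, q, 1, hp, hq, one_ne_zero, by rw [a1 p hp, b1 q hq, e, L_one, a2]⟩
    · exact ⟨p, q, -1, hp, hq, by decide, by rw [a1 p hp, b1 q hq, e, L_neg, L_one, map_inv, a2]⟩
  · rw [hz, a2, a1 _ χ_facts.2.1, b1 _ χ_facts.2.1]
    exact h.mv

theorem HU.cu_eq [Finite G] (D : HU G) : ∃ E : CU G, E.φ = D.φ ∧ E.ψ = D.ψ := by
  obtain ⟨big, d, h⟩ := D.exists_dd
  refine ⟨⟨big, D.φ, D.ψ, d, D.J, D.φinj, D.ψinj, D.hz, D.hs, D.comm, h.d3, h.d1,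
    fun e => L_one ▸ dφ (h.ty e) h.ds, fun q hq => ?_, h.mem_J, fun g hg => ?_, fun g hg => ?_,
    h.om, ?_⟩, rfl, rfl⟩
  · obtain ⟨j, h1, -⟩ := h.td 1
    simpa [mul_inv_eq_iff_eq_mul] using h1.2 q hq
  · rcases cases hg with ⟨x, y, h1⟩ | ⟨x, y, h1⟩
    · obtain ⟨p, q, u, hu, h2, h3, h4⟩ := h.lin h1
      exact ⟨p, q, u, le_normalizer hu, h2, h3, h4, Or.inl hu⟩
    · obtain ⟨p, q, n, hn, h2, h3, h4, h5, h6, h7⟩ := swap h1
      exact ⟨p, q, n, hn, h2, h3, h4, Or.inr ⟨Or.inl h5, Or.inl h6, h7⟩⟩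
  · rw [show 72 = 2 * 36 from rfl]
    rcases cases hg with ⟨x, y, h1⟩ | ⟨x, y, h1⟩
    · rw [pow_mul', h1.pow36, one_pow]
    · rw [pow_mul, pow_two, Ty.pow36 ⟨h1.2.mul h1.1, h1.1.mul h1.2⟩]
  · obtain ⟨g, h1, h2⟩ := D.mv
    exact ⟨g, h.J_eq ▸ normalizer_le_normalizer_centralizer _
      (mem_normalizer_of_cj_le (cj_le_iff.2 h2)), h1⟩

end CU0

namespace CU

open U6Ca U6Cb U6Cc

variable {G : Type u} [Group G] [Finite G] (D : CU G) {w : G}

theorem ud_of_eq (hw : w ∈ D.J) (hk : D.big = true → ∀ (c : F3) x, w ^ c.val = D.j4 x → c = 0)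
    (hd : ∃ x, ok6 D.big x ∧ D.jw w x = D.d)
    (hφ : D.big = true → ∀ p, Commute (D.φ p) (D.jw w (ev 0))) (hψ : ∀ p, Commute (D.ψ p) w)
    (hs : ∀ a b, swap a b ∈ D.PJ w) : ∃ E : UD G, E.φ = D.φ ∧ E.ψ = D.ψ := by
  have ker : ∀ v, ok6 D.big v → (D.jw w v = 1 ↔ Cst v) := fun v hv => by
    refine ⟨fun h => ?_, fun h => by rw [jw_zero (sm6_cst h), D.j4_cst h]⟩
    have h0 : sm6 v = 0 := hv.elim (fun hv => hk hv _ (-(v - sm6 v • ev 1)) (by
      rw [O8.hm_neg D.j4_add]; exact eq_inv_of_mul_eq_one_right h)) id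
    rwa [jw_zero h0, D.j4_eq_one h0] at h
  have mem : ∀ g, g ∈ D.J ↔ ∃ v, ok6 D.big v ∧ D.jw w v = g := fun g => by
    refine ⟨fun h => ?_, fun ⟨v, _, h⟩ => h ▸ jw_mem hw v⟩
    obtain ⟨v, i, hv, rfl⟩ := D.mem_J'.1 h
    obtain ⟨x, hx, e⟩ := hd
    exact ⟨v + (i : F3) • x, hx.imp id fun hx => by rw [sm6_add, sm6_smul, hv, hx, mul_zero, add_zero], by
      rw [jw_add hw, O8.hm_smul (jw_add hw), e, pow_cast D.d3, jw_zero hv]⟩
  have sur : ∀ π, π ∈ D.PJ w := fun π => by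
    induction π using Perm.swap_induction_on with
    | one => exact one_mem _
    | swap_mul f x y _ ih => exact mul_mem (hs x y) ih
  have act1 : ∀ n ∈ normalizer (D.J : Set G), ∀ e, D.Act4 n e 1 → D.ActJ w n e 1 := fun n hn e h =>
    actJ_of hw h fun hb => by
      obtain ⟨u, -, hu⟩ := (mem _).1 (mem_normalizer_conj hn hw)
      have ok : ∀ v, ok6 D.big v := fun _ => .inl hb
      have key : Cst (u - pa e 1 (ev 1)) := cst_of fun a b => by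
        obtain ⟨τ, hτ, h1⟩ := hs a b
        have h2 : n * τ * n⁻¹ * τ⁻¹ ∈ D.J := D.cJ fun v hv => by
          have := (((actW_iff.2 h).mul (actW_iff.2 h1.act4)).mul (actW_iff.2 h).inv).mul (actW_iff.2 h1.act4).inv
          rw [one_mul, inv_one, mul_one, mul_inv_cancel,
            (by decide : ∀ e : Bool, (((e ^^ false) ^^ e) ^^ false) = false)] at this
          exact mul_inv_eq_iff_eq_mul.1 (actW_iff.1 this v hv)
        have h3 : sm6 (pa false (swap a b) (ev 1) - ev 1) = 0 := by clear h1 h2; revert a b; decide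
        have h4 : τ * w * τ⁻¹ = D.j4 (pa false (swap a b) (ev 1) - ev 1) * w := by
          have := h1 _ (ok (ev 1))
          rw [jw_one] at this
          rw [this, ← jw_zero (w := w) h3]
          conv_rhs => arg 2; rw [← jw_one (D := D) (w := w)]
          rw [← jw_add hw, sub_add_cancel]
        have h5 : D.jw w (pa false (swap a b) u) = D.jw w (pa e 1 (pa false (swap a b) (ev 1) - ev 1) + u) := by
          rw [jw_add hw, jw_zero (sm6_pa _ _ h3), ← h _ h3, ← h1 _ (ok u), hu]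
          have h6 := D.comm_J h2 (mem_normalizer_conj hτ (mem_normalizer_conj hn hw))
          calc _ = n * τ * n⁻¹ * τ⁻¹ * (τ * (n * w * n⁻¹) * τ⁻¹) * (n * τ * n⁻¹ * τ⁻¹)⁻¹ := by rw [h6]; group
            _ = n * (τ * w * τ⁻¹) * n⁻¹ := by group
            _ = _ := by rw [h4]; group
        have h6 := (ker _ (ok _)).1 ((O8.hm_sub (jw_add hw) _ _).trans (mul_inv_eq_one.2 h5))
        convert h6 using 1
        rw [pa_sub, pa_sub, pa_pa, pa_pa, one_mul, mul_one, Bool.xor_comm]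
        abel
      rw [← hu, ← sub_add_cancel u (pa e 1 (ev 1)), jw_add hw, (ker _ (ok _)).2 key, one_mul]
  refine ⟨⟨D.big, D.jw w, D.J, D.φ, D.ψ, jw_add hw, ker, mem, D.φinj, D.ψinj,
    fun v => (jw_zero (by revert v; decide +kernel)).trans (D.j4_φ v) |>.symm,
    fun v => (jw_zero (by revert v; decide +kernel)).trans (D.j4_ψ v) |>.symm, D.comm,
    fun p v _ hv h2 h3 => ?_, fun p v _ hv h2 h3 => ?_, fun h hh => ?_, D.ex,
    fun g h => D.cJ fun v hv => jw_zero (w := w) hv ▸ h v hv, fun n hn => ?_,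
    fun π => (sur π).imp fun _ h => h.2, D.fus⟩, rfl, rfl⟩
  · have h1 : ∀ v : V6, v 2 = v 1 → v 3 = v 1 → Commute (D.φ p) (D.j4 v) := fun v h2 h3 => by
      rw [j4, h2, h3, (by decide +kernel : ∀ c : F3, X.jv (c, c, c) = X.a ^ (-c).val)]
      exact (((show Commute p X.a from X.a_comm p).pow_right _).map _).mul_right (D.φ_ψj p (by simp [X.sm]))
    rcases hv with hv | hv
    · rw [jw_split hw v 0]
      exact (h1 _ (by simp [ev, h2]) (by simp [ev, h3])).mul_right ((hφ hv p).pow_right _)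
    · rw [jw_zero hv]
      exact h1 v h2 h3
  · have h1 : ∀ v : V6, sm6 v = 0 → v 4 = v 0 → v 5 = v 0 → Commute (D.ψ p) (D.j4 v) := fun v h h2 h3 => by
      rw [D.j4_eq2 h, h2, h3, (by decide +kernel : ∀ c : F3, X.jv (c, c, c) = X.a ^ (-c).val)]
      exact (((show Commute p X.a from X.a_comm p).pow_right _).map _).mul_right
        (D.φj_ψ (by simp [X.sm]) p).symm
    exact (h1 _ (sm6_red v 1) (by simp [ev, h2]) (by simp [ev, h3])).mul_right ((hψ p).pow_right _)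
  · obtain ⟨p, q, n, h1, h2, h3, h4, -⟩ := D.cz h hh
    exact ⟨p, q, n, h1, h2, h3, h4⟩
  · obtain ⟨e, π, h⟩ := D.act4 hn
    obtain ⟨k, hk, h1⟩ := sur π
    have h2 := (actW_iff.2 h1.act4).inv.mul (actW_iff.2 h)
    rw [inv_mul_cancel, Bool.false_xor] at h2
    have h3 := h1.mul (act1 _ (mul_mem (inv_mem hk) hn) e (actW_iff.1 h2))
    rw [mul_inv_cancel_left, mul_one, Bool.false_xor] at h3
    exact ⟨e, π, h3⟩

theorem ud_eq (D : CU G) : ∃ E : UD G, E.φ = D.φ ∧ E.ψ = D.ψ := by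
  rcases hb : D.big with _ | _
  · refine D.ud_of_eq (one_mem _) (by simp [hb]) ⟨0, .inr rfl, by
      rw [jw_zero rfl, O8.hm_zero D.j4_add, D.d1 hb]⟩ (by simp [hb]) (fun _ => Commute.one_right _) fun a b => ?_
    by_cases h : a = b
    · rw [h, swap_self]; exact one_mem _
    obtain ⟨n, hn, h1⟩ := D.exists_refl h
    exact ⟨_, mem_normalizer_conj (le_normalizer hn) D.σ_nm.2.2.2, actJ_of (one_mem _) h1 (by simp [hb])⟩
  obtain ⟨ρ, hρ, h1, m, h2⟩ := D.exists_fix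
  have hw : D.jj (m • z0) * D.d⁻¹ ∈ D.J := mul_mem (D.jj_mem _) (inv_mem D.d_mem)
  have hbb : D.bb = 1 := by rw [bb, hb]; rfl
  have hz : D.jj (m • z0) = D.φ X.a ^ m.val := by rw [O8.hm_smul D.jj_add, jj_z0]
  have zφ : ∀ p, Commute (D.φ p) (D.jj (m • z0)) := fun p =>
    hz ▸ ((show Commute p X.a from X.a_comm p).map _).pow_right _
  have hψ : ∀ p, Commute (D.ψ p) (D.jj (m • z0) * D.d⁻¹) := fun p => by
    refine Commute.mul_right ?_ (D.d_ψ p).symm.inv_right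
    rw [hz, ← D.hz]
    exact ((show Commute p X.a from X.a_comm p).map _).pow_right _
  have fix : ∀ {n π}, n ∈ normalizer (D.J : Set G) → D.Act4 n false π → Commute n (D.jj (m • z0) * D.d⁻¹) →
      pa false π (ev 1) = ev 1 → π ∈ D.PJ (D.jj (m • z0) * D.d⁻¹) := fun hn h1 h2 h3 =>
    ⟨_, hn, actJ_of hw h1 fun _ => by rw [h3, jw_one, h2.eq, mul_inv_cancel_right]⟩
  refine D.ud_of_eq hw (fun _ c x h => ?_) ⟨uu (m • z0) - ev 1, .inl hb, ?_⟩ (fun _ p => ?_) hψ ?_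
  · have h3 : D.d ^ c.val = D.j4 (c • uu (m • z0) - x) := by
      rw [O8.hm_sub D.j4_add, O8.hm_smul D.j4_add, ← jj_uu, ← h,
        (show Commute D.d⁻¹ _ from D.comm_J (inv_mem D.d_mem) (D.jj_mem _)).symm.eq,
        (show Commute D.d⁻¹ _ from D.comm_J (inv_mem D.d_mem) (D.jj_mem _)).mul_pow]
      group
    have h4 := D.dp_φ c.val X.σ
    rw [D.d_notMem h3, hbb, one_mul, inv_one, mul_one, mul_one, ZMod.natCast_zmod_val] at h4
    exact (by decide +kernel : ∀ c : F3, X.σ = X.jv (c, 0, 0) * X.σ * (X.jv (c, 0, 0))⁻¹ → c = 0) c (D.φinj h4)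
  · rw [O8.hm_sub (jw_add hw), jw_one, jw_zero (sm_uu _), ← jj_uu, D.comm_J (D.jj_mem _) (inv_mem D.d_mem)]
    group
  · have h3 : D.jw (D.jj (m • z0) * D.d⁻¹) (ev 0) = D.φ (X.jv (2, 1, 1)) * (D.jj (m • z0) * D.d⁻¹) := by
      rw [jw, sm6_ev, one_smul, ← D.jj_φ]
      exact congrArg₂ _ (congrArg D.jj (by decide : κ (ev 0 - ev 1) = _)) (pow_one _)
    have h4 : D.d * D.φ p * D.d⁻¹ = D.φ (X.jv (2, 1, 1)) * D.φ p * (D.φ (X.jv (2, 1, 1)))⁻¹ := by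
      rw [D.d_φ, hbb, ← map_inv, ← map_mul, ← map_mul]
      exact congrArg _ ((by decide +kernel : ∀ p : X, X.jv (1, 0, 0) * p * (X.jv (1, 0, 0))⁻¹ =
        X.jv (2, 1, 1) * p * (X.jv (2, 1, 1))⁻¹) p)
    rw [h3, ← mul_assoc, (zφ _).eq, mul_assoc, ← (D.d_φj _).inv_left.eq]
    refine (zφ p).mul_right ?_
    calc _ = D.d⁻¹ * (D.d * D.φ p * D.d⁻¹) * D.φ (X.jv (2, 1, 1)) := by group
      _ = _ := by rw [h4]; group
  have m0 : swap 0 2 ∈ D.PJ _ := fix hρ h1 h2 (by decide)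
  have m2 : swap 2 3 ∈ D.PJ _ := fix D.σ_nm.2.1 D.act_σ.2.1 ((zφ _).mul_right (Commute.inv_right (by
    have := D.d_φ X.t
    rw [hbb, (by decide +kernel : X.jv (1, 0, 0) * X.t * (X.jv (1, 0, 0))⁻¹ = X.t), mul_inv_eq_iff_eq_mul] at this
    exact this.symm))) (by decide)
  have m3 : swap 0 4 * swap 4 5 ∈ D.PJ _ := fix D.σ_nm.2.2.1 D.act_σ.2.2.1 (hψ _) (by decide)
  have m4 : swap 4 5 ∈ D.PJ _ := fix D.σ_nm.2.2.2 D.act_σ.2.2.2 (hψ _) (by decide)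
  have m1 : swap 1 2 * swap 2 3 ∈ D.PJ (D.jj (m • z0) * D.d⁻¹) := ⟨_, D.σ_nm.1, actJ_of hw D.act_σ.1 fun _ => by
    have h3 : D.jw (D.jj (m • z0) * D.d⁻¹) (pa false (swap 1 2 * swap 2 3) (ev 1)) =
        D.φ (X.jv (1, 2, 0)) * (D.jj (m • z0) * D.d⁻¹) := by
      rw [(by decide : pa false (swap 1 2 * swap 2 3) (ev 1) = (ev 2 : V6)), jw, sm6_ev, one_smul, ← D.jj_φ]
      exact congrArg₂ _ (congrArg D.jj (by decide : κ (ev 2 - ev 1) = _)) (pow_one _)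
    have h4 := D.d_φ X.σ
    rw [hbb, (by decide +kernel : X.jv (1, 0, 0) * X.σ * (X.jv (1, 0, 0))⁻¹ = X.jv (1, 2, 0) * X.σ), map_mul] at h4
    rw [h3, ← mul_assoc, (zφ _).eq, ← mul_assoc, (zφ _).eq, mul_assoc _ _ D.d⁻¹, mul_assoc _ _ D.d⁻¹, mul_assoc,
      ← (D.d_φj _).inv_left.eq]
    calc _ = D.jj (m • z0) * (D.d⁻¹ * (D.d * D.φ X.σ * D.d⁻¹) * (D.φ X.σ)⁻¹) := by group
      _ = _ := by rw [h4]; group⟩
  replace m1 := (mul_mem_cancel_right m2).1 m1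
  replace m3 := (mul_mem_cancel_right m4).1 m3
  generalize D.PJ _ = P at m0 m1 m2 m3 m4
  have tr : ∀ {a b c : Fin 6}, swap a b ∈ P → swap b c ∈ P → swap a c ∈ P := fun h h' =>
    SubmonoidClass.swap_mem_trans _ h h'
  have sy : ∀ {a b : Fin 6}, swap a b ∈ P → swap b a ∈ P := fun {a b} h => swap_comm a b ▸ h
  have b0 : ∀ a : Fin 6, swap 0 a ∈ P := fun a => by
    fin_cases a
    exacts [swap_self (0 : Fin 6) ▸ one_mem P, tr m0 (sy m1), m0, tr m0 m2, m3, tr m3 m4]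
  exact fun a b => tr (sy (b0 a)) (b0 b)

end CU

variable {G : Type u} [Group G] [Finite G]

theorem FU.exists_ud (D : FU G) : ∃ U : UD G, (∀ p : X, Q.chi p.g = 0 → U.φ p = D.φ p) ∧
    ∀ p : X, Q.chi p.g = 0 → U.ψ p = D.ψ p := by
  obtain ⟨s, h⟩ := D.exists_sd
  obtain ⟨A, a1, a2⟩ := CU0.hu_eq h
  obtain ⟨B, b1, b2⟩ := A.cu_eq
  obtain ⟨C, c1, c2⟩ := B.ud_eq
  exact ⟨C, fun p hp => by rw [c1, b1, a1 p hp], fun p hp => by rw [c2, b2, a2 p hp]⟩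

open KRa in
theorem UD.sigK_all (D : UD G) : D.SigK := fun K h1 h3 hn x hx => by
  have eV : (vk D.core' D.cy' (D.cx D.cyy)).V = im D.r D.Sg := (im_iSup P_le).symm
  have rS : D.r ∈ D.Sg := le_iSup D.P 0 (D.r_mem_P 0)
  refine im_mem D.r2 rS (x := ⟨x, h1 hx⟩) (eV ▸ (vk D.core' D.cy' (D.cx D.cyy)).sig (im D.r K)
    (h3.coprime_dvd_left ((card_map_dvd _ _).trans ?_)) (fun v _ _ => im_norm (hn ?_)) (mem_im hx))
  · exact (Nat.card_congr (subgroupOfEquivOfLe h1).toEquiv).dvd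
  · exact ⟨D.j_mem (ok_xt (ok_pr _ v)), (jK D v).2⟩

theorem UD.all (D : UD G) : D.Core ∧ D.CY ∧ D.CX ∧ D.KR ∧ D.SigK :=
  ⟨D.core', D.cy', D.cx D.cyy, D.kr_of fun E => E.normal_of_sc', D.sigK_all⟩

theorem UD.fin (D : UD G) : (∃ (F : Type) (_ : Field F) (_ : Fintype F), Fintype.card F = 4 ∧
      Nonempty (↥(Cfsg.generalizedFittingSubgroup G) ≃* Cfsg.PSU 6 F 2)) ∧
    Subgroup.centralizer ((Cfsg.generalizedFittingSubgroup G : Subgroup G) : Set G) = ⊥ :=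
  (D.kr_of fun E => E.normal_of_sc').fin D.core'

end Cfsg.Lib.U6
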