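import Cfsg.Agent.Chev.LaceSL
import Cfsg.Agent.Perm.FCAut
import Cfsg.Agent.Block.SylowIn

/-!
Definitions for the recognition of `L₄(3)` from the centralizer `3^{1+4}.SL₂(3)`: the matrix model
`SL₄(3)`, the local data `LS` and the embeddings `Md`, `Md2` of the model.
-/

set_option autoImplicit false
set_option linter.unusedSectionVars false
set_option linter.unusedVariables false

namespace Cfsg.Lib.L43

open Subgroup Matrix Cfsg.Lib.Block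
open scoped commutatorElement

/-- The field with three elements. -/
abbrev F3 := ZMod 3
/-- The model. -/
abbrev Γ := SpecialLinearGroup (Fin 4) F3
/-- `SL₂(3)`. -/
abbrev SL23 := SpecialLinearGroup (Fin 2) F3
/-- `SL₃(3)`. -/
abbrev SL33 := SpecialLinearGroup (Fin 3) F3

/-- The determinant of a `4 × 4` matrix in its entries. -/
def d16 (a00 a01 a02 a03 a10 a11 a12 a13 a20 a21 a22 a23 a30 a31 a32 a33 : F3) : F3 :=
  a00 * (a11 * (a22 * a33 - a23 * a32) -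
      a12 * (a21 * a33 - a23 * a31) + a13 * (a21 * a32 - a22 * a31))
    - a01 * (a10 * (a22 * a33 - a23 * a32) -
      a12 * (a20 * a33 - a23 * a30) + a13 * (a20 * a32 - a22 * a30))
    + a02 * (a10 * (a21 * a33 - a23 * a31) -
      a11 * (a20 * a33 - a23 * a30) + a13 * (a20 * a31 - a21 * a30))
    - a03 * (a10 * (a21 * a32 - a22 * a31) -
      a11 * (a20 * a32 - a22 * a30) + a12 * (a20 * a31 - a21 * a30))

theorem det16 (a00 a01 a02 a03 a10 a11 a12 a13 a20 a21 a22 a23 a30 a31 a32 a33 : F3) :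
    det !![a00, a01, a02, a03;
      a10, a11, a12, a13;
      a20, a21, a22, a23;
      a30, a31, a32, a33] =
    d16 a00 a01 a02 a03 a10 a11 a12 a13 a20 a21 a22 a23 a30 a31 a32 a33 := by
  simp [det_succ_row_zero, Fin.sum_univ_succ, d16, Fin.succAbove]
  ring

/-- A matrix of the model from its entries. -/
def mk (a00 a01 a02 a03 a10 a11 a12 a13 a20 a21 a22 a23 a30 a31 a32 a33 : F3)
    (h : d16 a00 a01 a02 a03 a10 a11 a12 a13 a20 a21 a22 a23 a30 a31 a32 a33 = 1) : Γ :=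
  ⟨!![a00, a01, a02, a03;
      a10, a11, a12, a13;
      a20, a21, a22, a23;
      a30, a31, a32, a33], by rw [det16, h]⟩

theorem eta16 (g : Matrix (Fin 4) (Fin 4) F3) : g = !![g 0 0, g 0 1, g 0 2, g 0 3;
      g 1 0, g 1 1, g 1 2, g 1 3;
      g 2 0, g 2 1, g 2 2, g 2 3;
      g 3 0, g 3 1, g 3 2, g 3 3] := by
  ext i j; fin_cases i <;> fin_cases j <;> rfl

theorem d16_ent (g : Γ) : d16 (g 0 0) (g 0 1) (g 0 2) (g 0 3) (g 1 0) (g 1 1) (g 1 2) (g 1 3) (g 2 0) (g 2 1) (g 2 2) (g 2 3) (g 3 0) (g 3 1) (g 3 2) (g 3 3) = 1 := by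
  rw [← det16]; exact (congrArg det (eta16 g.1).symm).trans g.2

theorem eq_mk (g : Γ) : g = mk (g 0 0) (g 0 1) (g 0 2) (g 0 3) (g 1 0) (g 1 1) (g 1 2) (g 1 3) (g 2 0) (g 2 1) (g 2 2) (g 2 3) (g 3 0) (g 3 1) (g 3 2) (g 3 3) (d16_ent g) :=
  Subtype.ext (eta16 g.1)

theorem forall_Γ {P : Γ → Prop} : (∀ g, P g) ↔ ∀ a00 a01 a02 a03 a10 a11 a12 a13 a20 a21 a22 a23 a30 a31 a32 a33 h,
    P (mk a00 a01 a02 a03 a10 a11 a12 a13 a20 a21 a22 a23 a30 a31 a32 a33 h) :=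
  ⟨fun h _ _ _ _ _ _ _ _ _ _ _ _ _ _ _ _ _ => h _, fun h g => by rw [eq_mk g]; exact h ..⟩

theorem mul16 (a00 a01 a02 a03 a10 a11 a12 a13 a20 a21 a22 a23 a30 a31 a32 a33 b00 b01 b02 b03 b10 b11 b12 b13 b20 b21 b22 b23 b30 b31 b32 b33 : F3) :
    !![a00, a01, a02, a03;
      a10, a11, a12, a13;
      a20, a21, a22, a23;
      a30, a31, a32, a33] * !![b00, b01, b02, b03;
      b10, b11, b12, b13;
      b20, b21, b22, b23;
      b30, b31, b32, b33] =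
    !![a00 * b00 + a01 * b10 + a02 * b20 + a03 * b30, a00 * b01 + a01 * b11 + a02 * b21 + a03 * b31, a00 * b02 + a01 * b12 + a02 * b22 + a03 * b32, a00 * b03 + a01 * b13 + a02 * b23 + a03 * b33;
      a10 * b00 + a11 * b10 + a12 * b20 + a13 * b30, a10 * b01 + a11 * b11 + a12 * b21 + a13 * b31, a10 * b02 + a11 * b12 + a12 * b22 + a13 * b32, a10 * b03 + a11 * b13 + a12 * b23 + a13 * b33;
      a20 * b00 + a21 * b10 + a22 * b20 + a23 * b30, a20 * b01 + a21 * b11 + a22 * b21 + a23 * b31, a20 * b02 + a21 * b12 + a22 * b22 + a23 * b32, a20 * b03 + a21 * b13 + a22 * b23 + a23 * b33;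
      a30 * b00 + a31 * b10 + a32 * b20 + a33 * b30, a30 * b01 + a31 * b11 + a32 * b21 + a33 * b31, a30 * b02 + a31 * b12 + a32 * b22 + a33 * b32, a30 * b03 + a31 * b13 + a32 * b23 + a33 * b33] := by
  ext i j; fin_cases i <;> fin_cases j <;> simp [Matrix.mul_apply, Fin.sum_univ_four]

theorem d16_mul {a00 a01 a02 a03 a10 a11 a12 a13 a20 a21 a22 a23 a30 a31 a32 a33 b00 b01 b02 b03 b10 b11 b12 b13 b20 b21 b22 b23 b30 b31 b32 b33 : F3}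
    (ha : d16 a00 a01 a02 a03 a10 a11 a12 a13 a20 a21 a22 a23 a30 a31 a32 a33 = 1)
    (hb : d16 b00 b01 b02 b03 b10 b11 b12 b13 b20 b21 b22 b23 b30 b31 b32 b33 = 1) :
    d16 (a00 * b00 + a01 * b10 + a02 * b20 + a03 * b30)
      (a00 * b01 + a01 * b11 + a02 * b21 + a03 * b31)
      (a00 * b02 + a01 * b12 + a02 * b22 + a03 * b32)
      (a00 * b03 + a01 * b13 + a02 * b23 + a03 * b33)
      (a10 * b00 + a11 * b10 + a12 * b20 + a13 * b30)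
      (a10 * b01 + a11 * b11 + a12 * b21 + a13 * b31)
      (a10 * b02 + a11 * b12 + a12 * b22 + a13 * b32)
      (a10 * b03 + a11 * b13 + a12 * b23 + a13 * b33)
      (a20 * b00 + a21 * b10 + a22 * b20 + a23 * b30)
      (a20 * b01 + a21 * b11 + a22 * b21 + a23 * b31)
      (a20 * b02 + a21 * b12 + a22 * b22 + a23 * b32)
      (a20 * b03 + a21 * b13 + a22 * b23 + a23 * b33)
      (a30 * b00 + a31 * b10 + a32 * b20 + a33 * b30)
      (a30 * b01 + a31 * b11 + a32 * b21 + a33 * b31)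
      (a30 * b02 + a31 * b12 + a32 * b22 + a33 * b32)
      (a30 * b03 + a31 * b13 + a32 * b23 + a33 * b33) = 1 := by
  rw [← det16, ← mul16, det_mul, det16, det16, ha, hb, mul_one]

theorem mk_mul (a00 a01 a02 a03 a10 a11 a12 a13 a20 a21 a22 a23 a30 a31 a32 a33 b00 b01 b02 b03 b10 b11 b12 b13 b20 b21 b22 b23 b30 b31 b32 b33 : F3) (ha hb) :
    mk a00 a01 a02 a03 a10 a11 a12 a13 a20 a21 a22 a23 a30 a31 a32 a33 ha * mk b00 b01 b02 b03 b10 b11 b12 b13 b20 b21 b22 b23 b30 b31 b32 b33 hb =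
    mk (a00 * b00 + a01 * b10 + a02 * b20 + a03 * b30)
      (a00 * b01 + a01 * b11 + a02 * b21 + a03 * b31)
      (a00 * b02 + a01 * b12 + a02 * b22 + a03 * b32)
      (a00 * b03 + a01 * b13 + a02 * b23 + a03 * b33)
      (a10 * b00 + a11 * b10 + a12 * b20 + a13 * b30)
      (a10 * b01 + a11 * b11 + a12 * b21 + a13 * b31)
      (a10 * b02 + a11 * b12 + a12 * b22 + a13 * b32)
      (a10 * b03 + a11 * b13 + a12 * b23 + a13 * b33)
      (a20 * b00 + a21 * b10 + a22 * b20 + a23 * b30)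
      (a20 * b01 + a21 * b11 + a22 * b21 + a23 * b31)
      (a20 * b02 + a21 * b12 + a22 * b22 + a23 * b32)
      (a20 * b03 + a21 * b13 + a22 * b23 + a23 * b33)
      (a30 * b00 + a31 * b10 + a32 * b20 + a33 * b30)
      (a30 * b01 + a31 * b11 + a32 * b21 + a33 * b31)
      (a30 * b02 + a31 * b12 + a32 * b22 + a33 * b32)
      (a30 * b03 + a31 * b13 + a32 * b23 + a33 * b33) (d16_mul ha hb) :=
  Subtype.ext (mul16 ..)

theorem mk_inj (a00 a01 a02 a03 a10 a11 a12 a13 a20 a21 a22 a23 a30 a31 a32 a33 b00 b01 b02 b03 b10 b11 b12 b13 b20 b21 b22 b23 b30 b31 b32 b33 : F3) (ha hb) :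
    mk a00 a01 a02 a03 a10 a11 a12 a13 a20 a21 a22 a23 a30 a31 a32 a33 ha = mk b00 b01 b02 b03 b10 b11 b12 b13 b20 b21 b22 b23 b30 b31 b32 b33 hb ↔
    a00 = b00 ∧ a01 = b01 ∧ a02 = b02 ∧ a03 = b03 ∧ a10 = b10 ∧ a11 = b11 ∧ a12 = b12 ∧ a13 = b13 ∧ a20 = b20 ∧ a21 = b21 ∧ a22 = b22 ∧ a23 = b23 ∧ a30 = b30 ∧ a31 = b31 ∧ a32 = b32 ∧ a33 = b33 := by
  constructor
  · intro h
    have e : ∀ i j, (mk a00 a01 a02 a03 a10 a11 a12 a13 a20 a21 a22 a23 a30 a31 a32 a33 ha).1 i j = (mk b00 b01 b02 b03 b10 b11 b12 b13 b20 b21 b22 b23 b30 b31 b32 b33 hb).1 i j := fun i j => by rw [h]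
    exact ⟨e 0 0, e 0 1, e 0 2, e 0 3, e 1 0, e 1 1, e 1 2, e 1 3, e 2 0, e 2 1, e 2 2, e 2 3,
      e 3 0, e 3 1, e 3 2, e 3 3⟩
  · rintro ⟨rfl, rfl, rfl, rfl, rfl, rfl, rfl, rfl, rfl, rfl, rfl, rfl, rfl, rfl, rfl, rfl⟩
    rfl

theorem one_eq_mk : (1 : Γ) = mk 1 0 0 0 0 1 0 0 0 0 1 0 0 0 0 1 (by decide) := by decide

theorem mk_apply (a00 a01 a02 a03 a10 a11 a12 a13 a20 a21 a22 a23 a30 a31 a32 a33 : F3) (h) (i j : Fin 4) :
    mk a00 a01 a02 a03 a10 a11 a12 a13 a20 a21 a22 a23 a30 a31 a32 a33 h i j = !![a00, a01, a02, a03;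
      a10, a11, a12, a13;
      a20, a21, a22, a23;
      a30, a31, a32, a33] i j := rfl

/-- Upper unitriangular matrices; the entries are those at `01, 02, 03, 12, 13, 23`. -/
def uu (a b c d e f : F3) : Γ := mk 1 a b c 0 1 d e 0 0 1 f 0 0 0 1 (by simp [d16])

theorem uu_mul (a b c d e f a' b' c' d' e' f' : F3) : uu a b c d e f * uu a' b' c' d' e' f' =
    uu (a + a') (b + b' + a * d') (c + c' + a * e' + b * f') (d + d') (e + e' + d * f') (f + f') := by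
  simp only [uu, mk_mul, mk_inj]
  refine ⟨?_, ?_, ?_, ?_, ?_, ?_, ?_, ?_, ?_, ?_, ?_, ?_, ?_, ?_, ?_, ?_⟩ <;> ring

theorem uu_inj (a b c d e f a' b' c' d' e' f' : F3) : uu a b c d e f = uu a' b' c' d' e' f' ↔
    a = a' ∧ b = b' ∧ c = c' ∧ d = d' ∧ e = e' ∧ f = f' := by
  simp [uu, mk_inj]

theorem uu_zero : uu 0 0 0 0 0 0 = 1 := one_eq_mk.symm

theorem uu_eq_one (a b c d e f : F3) :
    uu a b c d e f = 1 ↔ a = 0 ∧ b = 0 ∧ c = 0 ∧ d = 0 ∧ e = 0 ∧ f = 0 := by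
  rw [← uu_zero, uu_inj]

theorem uu_inv (a b c d e f : F3) : (uu a b c d e f)⁻¹ =
    uu (-a) (a * d - b) (a * e + b * f - a * d * f - c) (-d) (d * f - e) (-f) := by
  rw [inv_eq_iff_mul_eq_one, uu_mul, uu_eq_one]
  refine ⟨?_, ?_, ?_, ?_, ?_, ?_⟩ <;> ring

theorem uu_cube (a b c d e f : F3) : uu a b c d e f ^ 3 = uu 0 0 (a * d * f) 0 0 0 := by
  rw [pow_three', uu_mul, uu_mul, uu_inj]
  revert a b c d e f
  decide +kernel

/-- `-1`. -/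
def ng : Γ := mk (-1) 0 0 0 0 (-1) 0 0 0 0 (-1) 0 0 0 0 (-1) (by decide)
/-- The involution centralizing `z0` and inverting `Qm` modulo `z0`. -/
def t0 : Γ := mk 1 0 0 0 0 (-1) 0 0 0 0 (-1) 0 0 0 0 1 (by decide)
/-- The involution inverting `Jm`. -/
def τ0 : Γ := mk 1 0 0 0 0 1 0 0 0 0 (-1) 0 0 0 0 (-1) (by decide)
/-- `E₀₃(1)`. -/
def z0 : Γ := uu 0 0 1 0 0 0
/-- `E₁₂(1)`. -/
def x0 : Γ := uu 0 0 0 1 0 0
/-- `E₁₃(1)`. -/
def y0 : Γ := uu 0 0 0 0 1 0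
/-- `E₀₂(1) E₁₃(ε)`. -/
def u0 (ε : F3) : Γ := uu 0 1 0 0 ε 0

theorem ng_mul_ng : ng * ng = 1 := by decide +kernel
theorem ng_ne_one : ng ≠ 1 := by decide +kernel
theorem ng_inv : ng⁻¹ = ng := inv_eq_of_mul_eq_one_right ng_mul_ng
theorem t0_mul_t0 : t0 * t0 = 1 := by decide +kernel
theorem τ0_mul_τ0 : τ0 * τ0 = 1 := by decide +kernel
theorem t0_inv : t0⁻¹ = t0 := inv_eq_of_mul_eq_one_right t0_mul_t0
theorem τ0_inv : τ0⁻¹ = τ0 := inv_eq_of_mul_eq_one_right τ0_mul_τ0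
theorem t0_τ0 : t0 * τ0 = τ0 * t0 := by decide +kernel

theorem ng_comm (g : Γ) : ng * g = g * ng := by
  revert g
  rw [forall_Γ]
  intros
  simp [ng, mk_mul]

theorem uu_ne_ng_mul (a b c d e f a' b' c' d' e' f' : F3) :
    uu a b c d e f ≠ ng * uu a' b' c' d' e' f' := fun h => by
  simp only [uu, ng, mk_mul, mk_inj] at h
  exact absurd h.1 (by decide)

theorem t0_conj (a b c d e f : F3) :
    t0 * uu a b c d e f * t0⁻¹ = uu (-a) (-b) c d (-e) (-f) := by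
  rw [t0_inv]; simp [t0, uu, mk_mul]

theorem τ0_conj (a b c d e f : F3) :
    τ0 * uu a b c d e f * τ0⁻¹ = uu a (-b) (-c) (-d) (-e) f := by
  rw [τ0_inv]; simp [τ0, uu, mk_mul]

/-- A submonoid of a finite group as a subgroup. -/
def subOf {X : Type*} [Group X] [Finite X] (S : Submonoid X) : Subgroup X :=
  { S with
    inv_mem' := fun {x} hx => by
      obtain ⟨n, hn⟩ := mem_powers_iff_mem_zpowers.2 (inv_mem (mem_zpowers x))
      exact hn ▸ S.pow_mem hx n }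

/-- The stabilizer of the first coordinate line. -/
def Pt : Subgroup Γ := subOf
  { carrier := {g | g 1 0 = 0 ∧ g 2 0 = 0 ∧ g 3 0 = 0}
    one_mem' := by decide
    mul_mem' := fun {a b} ha hb => by
      obtain ⟨h1, h2, h3⟩ := ha
      obtain ⟨k1, k2, k3⟩ := hb
      simp [Matrix.mul_apply, Fin.sum_univ_four, h1, h2, h3, k1, k2, k3] }

theorem mem_Pt {g : Γ} : g ∈ Pt ↔ g 1 0 = 0 ∧ g 2 0 = 0 ∧ g 3 0 = 0 := Iff.rfl

/-- The stabilizer of the first coordinate plane, the normalizer of `Jm`. -/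
def NJ : Subgroup Γ := subOf
  { carrier := {g | g 2 0 = 0 ∧ g 2 1 = 0 ∧ g 3 0 = 0 ∧ g 3 1 = 0}
    one_mem' := by decide
    mul_mem' := fun {a b} ha hb => by
      obtain ⟨h1, h2, h3, h4⟩ := ha
      obtain ⟨k1, k2, k3, k4⟩ := hb
      simp [Matrix.mul_apply, Fin.sum_univ_four, h1, h2, h3, h4, k1, k2, k3, k4] }

theorem mem_NJ {g : Γ} : g ∈ NJ ↔ g 2 0 = 0 ∧ g 2 1 = 0 ∧ g 3 0 = 0 ∧ g 3 1 = 0 := Iff.rfl

/-- The unitriangular group. -/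
def Um : Subgroup Γ := subOf
  { carrier := {g | ∃ a b c d e f, g = uu a b c d e f}
    one_mem' := ⟨0, 0, 0, 0, 0, 0, uu_zero.symm⟩
    mul_mem' := by
      rintro _ _ ⟨a, b, c, d, e, f, rfl⟩ ⟨a', b', c', d', e', f', rfl⟩
      exact ⟨_, _, _, _, _, _, uu_mul ..⟩ }

/-- The extraspecial group. -/
def Qm : Subgroup Γ := subOf
  { carrier := {g | ∃ a b c e f, g = uu a b c 0 e f}
    one_mem' := ⟨0, 0, 0, 0, 0, uu_zero.symm⟩
    mul_mem' := by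
      rintro _ _ ⟨a, b, c, e, f, rfl⟩ ⟨a', b', c', e', f', rfl⟩
      exact ⟨_, _, _, _, _, by rw [uu_mul, add_zero]⟩ }

/-- The abelian subgroup of order `81`. -/
def Jm : Subgroup Γ := subOf
  { carrier := {g | ∃ b c d e, g = uu 0 b c d e 0}
    one_mem' := ⟨0, 0, 0, 0, uu_zero.symm⟩
    mul_mem' := by
      rintro _ _ ⟨b, c, d, e, rfl⟩ ⟨b', c', d', e', rfl⟩
      exact ⟨_, _, _, _, by rw [uu_mul, add_zero]⟩ }

/-- The unipotent radical of `Pt`. -/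
def V1 : Subgroup Γ := subOf
  { carrier := {g | ∃ a b c, g = uu a b c 0 0 0}
    one_mem' := ⟨0, 0, 0, uu_zero.symm⟩
    mul_mem' := by
      rintro _ _ ⟨a, b, c, rfl⟩ ⟨a', b', c', rfl⟩
      exact ⟨a + a', b + b', c + c', by simp [uu_mul]⟩ }

/-- The second normal subgroup of order `27`. -/
def V2 : Subgroup Γ := subOf
  { carrier := {g | ∃ c e f, g = uu 0 0 c 0 e f}
    one_mem' := ⟨0, 0, 0, uu_zero.symm⟩
    mul_mem' := by
      rintro _ _ ⟨c, e, f, rfl⟩ ⟨c', e', f', rfl⟩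
      exact ⟨c + c', e + e', f + f', by simp [uu_mul]⟩ }

theorem mem_Um {g : Γ} : g ∈ Um ↔ ∃ a b c d e f, g = uu a b c d e f := Iff.rfl
theorem mem_Qm {g : Γ} : g ∈ Qm ↔ ∃ a b c e f, g = uu a b c 0 e f := Iff.rfl
theorem mem_Jm {g : Γ} : g ∈ Jm ↔ ∃ b c d e, g = uu 0 b c d e 0 := Iff.rfl
theorem mem_V1 {g : Γ} : g ∈ V1 ↔ ∃ a b c, g = uu a b c 0 0 0 := Iff.rfl
theorem mem_V2 {g : Γ} : g ∈ V2 ↔ ∃ c e f, g = uu 0 0 c 0 e f := Iff.rfl

theorem uu_mem_Um (a b c d e f : F3) : uu a b c d e f ∈ Um := ⟨_, _, _, _, _, _, rfl⟩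
theorem uu_mem_Qm {a b c d e f : F3} : uu a b c d e f ∈ Qm ↔ d = 0 := by
  simp [mem_Qm, uu_inj]
theorem uu_mem_Jm {a b c d e f : F3} : uu a b c d e f ∈ Jm ↔ a = 0 ∧ f = 0 := by
  simp [mem_Jm, uu_inj]
theorem uu_mem_V1 {a b c d e f : F3} : uu a b c d e f ∈ V1 ↔ d = 0 ∧ e = 0 ∧ f = 0 := by
  simp [mem_V1, uu_inj]
theorem uu_mem_V2 {a b c d e f : F3} : uu a b c d e f ∈ V2 ↔ a = 0 ∧ b = 0 ∧ d = 0 := by
  simp [mem_V2, uu_inj]

theorem uu_mem_Pt (a b c d e f : F3) : uu a b c d e f ∈ Pt := ⟨rfl, rfl, rfl⟩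
theorem uu_mem_NJ (a b c d e f : F3) : uu a b c d e f ∈ NJ := ⟨rfl, rfl, rfl, rfl⟩
theorem ng_mem_Pt : ng ∈ Pt := ⟨rfl, rfl, rfl⟩
theorem t0_mem_Pt : t0 ∈ Pt := ⟨rfl, rfl, rfl⟩
theorem τ0_mem_Pt : τ0 ∈ Pt := ⟨rfl, rfl, rfl⟩
theorem Um_le_Pt : Um ≤ Pt := by rintro _ ⟨a, b, c, d, e, f, rfl⟩; exact uu_mem_Pt ..
theorem Um_le_NJ : Um ≤ NJ := by rintro _ ⟨a, b, c, d, e, f, rfl⟩; exact uu_mem_NJ ..
theorem Qm_le_Um : Qm ≤ Um := by rintro _ ⟨a, b, c, e, f, rfl⟩; exact uu_mem_Um ..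
theorem Jm_le_Um : Jm ≤ Um := by rintro _ ⟨b, c, d, e, rfl⟩; exact uu_mem_Um ..
theorem V1_le_Qm : V1 ≤ Qm := by rintro _ ⟨a, b, c, rfl⟩; exact uu_mem_Qm.2 rfl
theorem V2_le_Qm : V2 ≤ Qm := by rintro _ ⟨a, b, c, rfl⟩; exact uu_mem_Qm.2 rfl
theorem ng_notMem_Um : ng ∉ Um := by
  rintro ⟨a, b, c, d, e, f, h⟩
  exact uu_ne_ng_mul a b c d e f 0 0 0 0 0 0 (by rw [uu_zero, mul_one, h])

theorem conj_mem_Jm {a j : Γ} (ha : a ∈ NJ) (hj : j ∈ Jm) : a * j * a⁻¹ ∈ Jm := by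
  have hb := NJ.inv_mem ha
  have hab := mul_inv_cancel a
  generalize a⁻¹ = b at hb hab
  obtain ⟨c, d, e, f, rfl⟩ := hj
  rw [eq_mk a, eq_mk b] at hab ⊢
  obtain ⟨h1, h2, h3, h4⟩ := ha
  obtain ⟨k1, k2, k3, k4⟩ := hb
  simp only [h1, h2, h3, h4, k1, k2, k3, k4, one_eq_mk, mk_mul, mk_inj] at hab
  obtain ⟨e0, e1, -, -, e4, e5, -, -, -, -, e10, e11, -, -, e14, e15⟩ := hab
  simp only [mem_Jm, h1, h2, h3, h4, k1, k2, k3, k4, uu, mk_mul, mk_inj]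
  refine ⟨_, _, _, _, ?_, ?_, rfl, rfl, ?_, ?_, rfl, rfl, ?_, ?_, ?_, ?_, ?_, ?_, ?_, ?_⟩
  exacts [by linear_combination e0, by linear_combination e1, by linear_combination e4,
    by linear_combination e5, by ring, by ring, by linear_combination e10,
    by linear_combination e11, by ring, by ring, by linear_combination e14,
    by linear_combination e15]

theorem conj_mem_V1 {a j : Γ} (ha : a ∈ Pt) (hj : j ∈ V1) : a * j * a⁻¹ ∈ V1 := by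
  have hb := Pt.inv_mem ha
  have hab := mul_inv_cancel a
  generalize a⁻¹ = b at hb hab
  obtain ⟨c, d, e, rfl⟩ := hj
  rw [eq_mk a, eq_mk b] at hab ⊢
  obtain ⟨h1, h2, h3⟩ := ha
  obtain ⟨k1, k2, k3⟩ := hb
  simp only [h1, h2, h3, k1, k2, k3, one_eq_mk, mk_mul, mk_inj] at hab
  obtain ⟨e0, -, -, -, -, e5, e6, e7, -, e9, e10, e11, -, e13, e14, e15⟩ := hab
  simp only [mem_V1, h1, h2, h3, k1, k2, k3, uu, mk_mul, mk_inj]
  refine ⟨_, _, _, ?_, rfl, rfl, rfl, ?_, ?_, ?_, ?_, ?_, ?_, ?_, ?_, ?_, ?_, ?_, ?_⟩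
  exacts [by linear_combination e0, by ring, by linear_combination e5, by linear_combination e6,
    by linear_combination e7, by ring, by linear_combination e9, by linear_combination e10,
    by linear_combination e11, by ring, by linear_combination e13, by linear_combination e14,
    by linear_combination e15]

/-- The determinant on `Jm` is invariant under `NJ`. -/
theorem det_Jm {a : Γ} (ha : a ∈ NJ) {b c d e b' c' d' e' : F3}
    (h : a * uu 0 b c d e 0 * a⁻¹ = uu 0 b' c' d' e' 0) : b * e - c * d = b' * e' - c' * d' := by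
  rw [mul_inv_eq_iff_eq_mul, eq_mk a] at h
  have hd := d16_ent a
  obtain ⟨h1, h2, h3, h4⟩ := ha
  simp only [h1, h2, h3, h4, uu, mk_mul, mk_inj, d16] at h hd
  obtain ⟨-, -, e2, e3, -, -, e6, e7, -⟩ := h
  refine (by decide : ∀ p q m m' : F3, p * q = 1 → p * m = m' * q → m = m')
    (a 0 0 * a 1 1 - a 0 1 * a 1 0) (a 2 2 * a 3 3 - a 2 3 * a 3 2) _ _ (by linear_combination hd) ?_
  linear_combination (a 1 0 * c + a 1 1 * e) * e2 + (b' * a 2 2 + c' * a 3 2) * e7 -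
    (a 1 0 * b + a 1 1 * d) * e3 - (b' * a 2 3 + c' * a 3 3) * e6

theorem card_of_param {X ι : Type*} {s : Set X} (f : ι → X) (hf : Function.Injective f)
    (hs : ∀ x, x ∈ s ↔ ∃ i, x = f i) : Nat.card s = Nat.card ι := by
  have : s = Set.range f := Set.ext fun x => (hs x).trans ⟨fun ⟨i, h⟩ => ⟨i, h.symm⟩,
    fun ⟨i, h⟩ => ⟨i, h.symm⟩⟩
  rw [this]
  exact Nat.card_range_of_injective hf

theorem card_Um : Nat.card Um = 729 :=
  (card_of_param (s := (Um : Set Γ)) (fun p : F3 × F3 × F3 × F3 × F3 × F3 =>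
    uu p.1 p.2.1 p.2.2.1 p.2.2.2.1 p.2.2.2.2.1 p.2.2.2.2.2)
    (fun p q h => by simpa [uu_inj, Prod.ext_iff] using h) (fun x => by simp [mem_Um])).trans
    (by simp)

theorem card_Qm : Nat.card Qm = 243 :=
  (card_of_param (s := (Qm : Set Γ)) (fun p : F3 × F3 × F3 × F3 × F3 =>
    uu p.1 p.2.1 p.2.2.1 0 p.2.2.2.1 p.2.2.2.2)
    (fun p q h => by simpa [uu_inj, Prod.ext_iff] using h) (fun x => by simp [mem_Qm])).trans
    (by simp)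

theorem card_Jm : Nat.card Jm = 81 :=
  (card_of_param (s := (Jm : Set Γ)) (fun p : F3 × F3 × F3 × F3 =>
    uu 0 p.1 p.2.1 p.2.2.1 p.2.2.2 0)
    (fun p q h => by simpa [uu_inj, Prod.ext_iff] using h) (fun x => by simp [mem_Jm])).trans
    (by simp)

theorem card_V1 : Nat.card V1 = 27 :=
  (card_of_param (s := (V1 : Set Γ)) (fun p : F3 × F3 × F3 => uu p.1 p.2.1 p.2.2 0 0 0)
    (fun p q h => by simpa [uu_inj, Prod.ext_iff] using h) (fun x => by simp [mem_V1])).trans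
    (by simp)

theorem slE_eq_mk (a b : Fin 4) (h : a ≠ b) (c : F3) : (Chev.slE a b c : Γ).1 =
    Matrix.of fun i j => if i = j then 1 else if i = a ∧ j = b then c else 0 := by
  rw [Chev.coe_slE h]
  ext i j
  by_cases h1 : i = j
  · subst h1
    have : ¬ (a = i ∧ b = i) := fun e => h (e.1.trans e.2.symm)
    simp [Matrix.single, this]
  · simp [Matrix.single, h1, eq_comm]

variable {G : Type*} [Group G]

/-- The data given by the centralizer `3^{1+4}.SL₂(3)` of `z`. -/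
structure LS (Q : Subgroup G) (z : G) (p : G → SL23) : Prop where
  z3 : orderOf z = 3
  zQ : z ∈ Q
  Qz : ∀ q ∈ Q, q * z = z * q
  cube : ∀ q ∈ Q, q ^ 3 = 1
  comm : ∀ a ∈ Q, ∀ b ∈ Q, ⁅a, b⁆ ∈ zpowers z
  cardQ : Nat.card Q = 243
  cent : ∀ g, (∀ q ∈ Q, g * q = q * g) → g ∈ zpowers z
  inner : ∀ g, (∀ q ∈ Q, ⁅g, q⁆ ∈ zpowers z) → g ∈ Q
  nQ : ∀ n ∈ normalizer (zpowers z : Set G), ∀ q ∈ Q, n * q * n⁻¹ ∈ Q
  map_mul : ∀ a, a * z = z * a → ∀ b, b * z = z * b → p (a * b) = p a * p b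
  ker : ∀ a, a * z = z * a → (p a = 1 ↔ a ∈ Q)
  surj : ∀ x, ∃ a, a * z = z * a ∧ p a = x
  inv : ∀ a, a * z = z * a → p a = -1 → ∀ q ∈ Q, a * q * a⁻¹ * q ∈ zpowers z
  conj : ∃ g, g * z * g⁻¹ ∈ Q ∧ g * z * g⁻¹ ∉ zpowers z

/-- The model `Γ0 / ±1` inside `G`, where `Γ0` is the parabolic subgroup `Pt` or everything. -/
structure Md (φ : Γ → G) (Γ0 : Subgroup Γ) : Prop where
  mul : ∀ a ∈ Γ0, ∀ b ∈ Γ0, φ (a * b) = φ a * φ b
  ker : ∀ a ∈ Γ0, φ a = 1 ↔ a = 1 ∨ a = ng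
  le : Pt ≤ Γ0
  cz : ∀ g, g * φ z0 = φ z0 * g → ∃ a ∈ Pt, φ a = g
  zt : ∀ q ∈ Qm, IsConj (φ z0) (φ q) → q ∈ V1 ∨ q ∈ V2
  cases : Γ0 = Pt ∧ ¬ IsConj (φ z0) (φ y0) ∨ Γ0 = ⊤

namespace Md

variable {φ : Γ → G} {Γ0 : Subgroup Γ} (h : Md φ Γ0)
include h

theorem map_one : φ 1 = 1 := (h.ker 1 Γ0.one_mem).2 (Or.inl rfl)

theorem ng_mem : ng ∈ Γ0 := h.le ng_mem_Pt

theorem uu_mem (a b c d e f : F3) : uu a b c d e f ∈ Γ0 := h.le (uu_mem_Pt ..)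

theorem Um_le : Um ≤ Γ0 := Um_le_Pt.trans h.le

theorem map_ng : φ ng = 1 := (h.ker ng h.ng_mem).2 (Or.inr rfl)

/-- The homomorphism. -/
def hom : Γ0 →* G where
  toFun a := φ a
  map_one' := h.map_one
  map_mul' a b := h.mul a a.2 b b.2

theorem hom_apply (a : Γ0) : h.hom a = φ a := rfl

theorem map_inv {a : Γ} (ha : a ∈ Γ0) : φ a⁻¹ = (φ a)⁻¹ := h.hom.map_inv ⟨a, ha⟩

theorem map_pow {a : Γ} (ha : a ∈ Γ0) (n : ℕ) : φ (a ^ n) = φ a ^ n := h.hom.map_pow ⟨a, ha⟩ n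

theorem map_zpow {a : Γ} (ha : a ∈ Γ0) (n : ℤ) : φ (a ^ n) = φ a ^ n := h.hom.map_zpow ⟨a, ha⟩ n

theorem map_conj {a b : Γ} (ha : a ∈ Γ0) (hb : b ∈ Γ0) :
    φ (a * b * a⁻¹) = φ a * φ b * (φ a)⁻¹ := by
  rw [h.mul _ (mul_mem ha hb) _ (inv_mem ha), h.mul _ ha _ hb, h.map_inv ha]

theorem map_comm {a b : Γ} (ha : a ∈ Γ0) (hb : b ∈ Γ0) : φ ⁅a, b⁆ = ⁅φ a, φ b⁆ :=
  by rw [commutatorElement_def, commutatorElement_def, h.mul _ (mul_mem (mul_mem ha hb) (inv_mem ha)) _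
    (inv_mem hb), h.map_conj ha hb, h.map_inv hb]

theorem map_ng_mul {a : Γ} (ha : a ∈ Γ0) : φ (ng * a) = φ a := by
  rw [h.mul _ h.ng_mem _ ha, h.map_ng, one_mul]

theorem eq_iff {a b : Γ} (ha : a ∈ Γ0) (hb : b ∈ Γ0) : φ a = φ b ↔ a = b ∨ a = ng * b := by
  rw [← mul_inv_eq_one, ← h.map_inv hb, ← h.mul _ ha _ (inv_mem hb),
    h.ker _ (mul_mem ha (inv_mem hb)), mul_inv_eq_one, mul_inv_eq_iff_eq_mul]

theorem eq_iff_uu {a b : Γ} (ha : a ∈ Um) (hb : b ∈ Um) : φ a = φ b ↔ a = b := by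
  rw [h.eq_iff (h.Um_le ha) (h.Um_le hb), or_iff_left]
  obtain ⟨_, _, _, _, _, _, rfl⟩ := ha
  obtain ⟨_, _, _, _, _, _, rfl⟩ := hb
  exact uu_ne_ng_mul _ _ _ _ _ _ _ _ _ _ _ _

theorem eq_of_cube {a b : Γ} (ha : a ∈ Γ0) (hb : b ∈ Γ0) (a9 : a ^ 9 = 1) (b9 : b ^ 9 = 1)
    (e : φ a = φ b) : a = b := by
  refine ((h.eq_iff ha hb).1 e).resolve_right fun e' => ng_ne_one ?_
  have hc : Commute ng b := ng_comm b
  rw [e', hc.mul_pow, b9, mul_one] at a9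
  rw [← a9, show 9 = 2 * 4 + 1 from rfl, pow_succ, pow_mul, sq, ng_mul_ng, one_pow, one_mul]

theorem comm_iff {a b : Γ} (ha : a ∈ Γ0) (hb : b ∈ Um) :
    φ a * φ b = φ b * φ a ↔ a * b = b * a := by
  have hb' := h.Um_le hb
  have b9 : b ^ 9 = 1 := by
    obtain ⟨_, _, _, _, _, _, rfl⟩ := hb
    rw [show 9 = 3 * 3 from rfl, pow_mul, uu_cube, uu_cube]
    simp [uu_zero]
  rw [← mul_inv_eq_iff_eq_mul, ← h.map_conj ha hb', ← mul_inv_eq_iff_eq_mul]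
  exact ⟨h.eq_of_cube (mul_mem (mul_mem ha hb') (inv_mem ha)) hb'
    (by rw [conj_pow, b9]; group) b9, fun e => by rw [e]⟩

/-- The image of a subgroup of the model. -/
def im (H : Subgroup Γ) : Subgroup G := (H.subgroupOf Γ0).map h.hom

theorem mem_im {H : Subgroup Γ} (hH : H ≤ Γ0) {g : G} : g ∈ h.im H ↔ ∃ a ∈ H, φ a = g :=
  ⟨fun ⟨a, ha, e⟩ => ⟨a, ha, e⟩, fun ⟨a, ha, e⟩ => ⟨⟨a, hH ha⟩, ha, e⟩⟩

theorem mem_im_of {H : Subgroup Γ} (hH : H ≤ Γ0) {a : Γ} (ha : a ∈ H) : φ a ∈ h.im H :=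
  (h.mem_im hH).2 ⟨a, ha, rfl⟩

theorem mem_im_uu {H : Subgroup Γ} (hH : H ≤ Um) {a : Γ} (ha : a ∈ Um) :
    φ a ∈ h.im H ↔ a ∈ H := by
  rw [h.mem_im (hH.trans h.Um_le)]
  exact ⟨fun ⟨b, hb, e⟩ => (h.eq_iff_uu (hH hb) ha).1 e ▸ hb, fun hb => ⟨a, hb, rfl⟩⟩

theorem im_mono {H K : Subgroup Γ} (hH : H ≤ K) : h.im H ≤ h.im K :=
  map_mono fun _ hx => hH hx

theorem card_im {H : Subgroup Γ} (hH : H ≤ Um) : Nat.card (h.im H) = Nat.card H := by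
  refine (Nat.card_eq_of_bijective (fun a : H => (⟨φ a, h.mem_im_of (hH.trans h.Um_le) a.2⟩ :
    h.im H)) ⟨fun a b e => Subtype.ext ((h.eq_iff_uu (hH a.2) (hH b.2)).1
      (congrArg Subtype.val e)), ?_⟩).symm
  rintro ⟨g, hg⟩
  obtain ⟨a, ha, rfl⟩ := (h.mem_im (hH.trans h.Um_le)).1 hg
  exact ⟨⟨a, ha⟩, rfl⟩

end Md

/-- The model together with the facts on fusion. -/
structure Md2 (φ : Γ → G) (Γ0 : Subgroup Γ) : Prop where
  md : Md φ Γ0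
  syl : IsSylowIn 3 (md.im Um) ⊤
  nz : ∀ g, g * φ z0 * g⁻¹ ∈ zpowers (φ z0) → ∃ a ∈ Pt, φ a = g
  nJ : ∀ g ∈ normalizer (md.im Jm : Set G), ∃ a ∈ Γ0, a ∈ NJ ∧ φ a = g
  fusJ : ∀ j ∈ Jm, ∀ j' ∈ Jm, IsConj (φ j) (φ j') → ∃ a ∈ Γ0, a ∈ NJ ∧ a * j * a⁻¹ = j'
  sig : ∀ R : Subgroup G, (Nat.card R).Coprime 3 →
    (∀ j ∈ Jm, φ j ∈ normalizer (R : Set G)) → R = ⊥
  cty : ∀ a b c e f : F3, a * e + b * f ≠ 0 → ∀ j ∈ Jm, ¬ IsConj (φ (uu a b c 0 e f)) (φ j)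

end Cfsg.Lib.L43
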