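import Cfsg.Agent.Recog.L3Gen

/-! Three-local recognition of `A₈`: permutation models and finite facts. -/

set_option autoImplicit false
set_option maxRecDepth 100000
set_option linter.unusedSimpArgs false
set_option linter.unusedSectionVars false
set_option linter.unusedVariables false
set_option maxHeartbeats 1000000

namespace Cfsg.Lib.L3

open Subgroup Cfsg.Lib.Spor Cfsg.Lib.Spor.Bulk Cfsg.Lib.Spor.PK Cfsg.Lib.Spor.WF

variable {G : Type*} [Group G] {z x s u a b t a2 b2 c : G}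

/-- letters -/
def gML (z x s u a b : G) : ℕ → G := lf [1, z, z⁻¹, x, x⁻¹, s, u, a, b]

theorem gML_0 : gML z x s u a b 0 = 1 := rfl
theorem gML_1 : gML z x s u a b 1 = z := rfl
theorem gML_2 : gML z x s u a b 2 = z⁻¹ := rfl
theorem gML_3 : gML z x s u a b 3 = x := rfl
theorem gML_4 : gML z x s u a b 4 = x⁻¹ := rfl
theorem gML_5 : gML z x s u a b 5 = s := rfl
theorem gML_6 : gML z x s u a b 6 = u := rfl
theorem gML_7 : gML z x s u a b 7 = a := rfl
theorem gML_8 : gML z x s u a b 8 = b := rfl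

@[reducible] def ML : PM where
  w := 7
  n := 8
  cs := [27770475822416768,
    27770475822188295,
    27770475822301198,
    27769996679807872,
    27770233454560128,
    27770473958047751,
    23860610609677184,
    27739928150639488,
    27708425922380672]
  SW := [([[1],[3],[5],[6],[7],[8]],
    [⟨0, [128, 66], [[2, 5, 0], [2, 3, 0]]⟩,
     ⟨3, [384, 256, 449, 320], [[0, 1, 0, 1, 0, 0, 0], [1]]⟩,
     ⟨1, [128], [[0, 1], [0, 0]]⟩,
     ⟨4, [320, 449, 384], [[1, 0, 1]]⟩,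
     ⟨5, [448, 384], []⟩]),
   ([[1],[3]],
    [⟨0, [128, 64], [[1]]⟩,
     ⟨3, [320, 256], []⟩]),
   ([[7],[8]],
    [⟨3, [256, 321, 385], []⟩]),
   ([[6,7,6],[6,8,6]],
    [⟨3, [256, 449, 321], []⟩]),
   ([[7],[8],[5]],
    [⟨3, [256, 321, 385], [[0, 2]]⟩,
     ⟨0, [64], []⟩]),
   ([[3],[5]],
    [⟨3, [320, 257], [[1, 0]]⟩,
     ⟨0, [64], []⟩]),
   ([[1],[3],[5],[6]],
    [⟨0, [128, 66], [[3], [2, 1, 0]]⟩,
     ⟨3, [256, 321], [[1], [0, 1, 0, 1, 0]]⟩,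
     ⟨1, [128], [[1]]⟩,
     ⟨4, [320], []⟩])]

instance : NeZero ML.n := ⟨by decide⟩

theorem ML_ok : ML.ok = true := by decide +kernel

theorem ML_subs : ML.subsOK = true := by decide +kernel

theorem gML_s0 : sub (gML z x s u a b) (ML.W 0) = gen [z, x, s, u, a, b] := by
  change gen (List.map (wv _) [[1],[3],[5],[6],[7],[8]]) = _
  simp only [List.map_cons, List.map_nil, wv_cons, wv_nil, one_mul, gML_1, gML_2, gML_3, gML_4, gML_5, gML_6, gML_7, gML_8]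

theorem gML_s1 : sub (gML z x s u a b) (ML.W 1) = gen [z, x] := by
  change gen (List.map (wv _) [[1],[3]]) = _
  simp only [List.map_cons, List.map_nil, wv_cons, wv_nil, one_mul, gML_1, gML_2, gML_3, gML_4, gML_5, gML_6, gML_7, gML_8]

theorem gML_s2 : sub (gML z x s u a b) (ML.W 2) = gen [a, b] := by
  change gen (List.map (wv _) [[7],[8]]) = _
  simp only [List.map_cons, List.map_nil, wv_cons, wv_nil, one_mul, gML_1, gML_2, gML_3, gML_4, gML_5, gML_6, gML_7, gML_8]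

theorem gML_s3 : sub (gML z x s u a b) (ML.W 3) = gen [u * a * u, u * b * u] := by
  change gen (List.map (wv _) [[6,7,6],[6,8,6]]) = _
  simp only [List.map_cons, List.map_nil, wv_cons, wv_nil, one_mul, gML_1, gML_2, gML_3, gML_4, gML_5, gML_6, gML_7, gML_8]

theorem gML_s4 : sub (gML z x s u a b) (ML.W 4) = gen [a, b, s] := by
  change gen (List.map (wv _) [[7],[8],[5]]) = _
  simp only [List.map_cons, List.map_nil, wv_cons, wv_nil, one_mul, gML_1, gML_2, gML_3, gML_4, gML_5, gML_6, gML_7, gML_8]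

theorem gML_s5 : sub (gML z x s u a b) (ML.W 5) = gen [x, s] := by
  change gen (List.map (wv _) [[3],[5]]) = _
  simp only [List.map_cons, List.map_nil, wv_cons, wv_nil, one_mul, gML_1, gML_2, gML_3, gML_4, gML_5, gML_6, gML_7, gML_8]

theorem gML_s6 : sub (gML z x s u a b) (ML.W 6) = gen [z, x, s, u] := by
  change gen (List.map (wv _) [[1],[3],[5],[6]]) = _
  simp only [List.map_cons, List.map_nil, wv_cons, wv_nil, one_mul, gML_1, gML_2, gML_3, gML_4, gML_5, gML_6, gML_7, gML_8]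

/-- Standard generators of the normaliser of `⟨z⟩`. -/
structure NL (z x s u a b : G) : Prop where
  emb : Emb ML.m (gML z x s u a b)
  eN : gen [z, x, s, u, a, b] = normalizer (zpowers z : Set G)

theorem NL.rels (h : NL z x s u a b) :
    (s * s = 1 ∧ u * u = 1 ∧ a * a = 1 ∧ b * b = 1) ∧ (s * u * s * u = 1 ∧ s * a * s * a = 1 ∧ a * u * a
    * u * a * u = 1) ∧ z * z * z = 1 ∧ x * x * x = 1 ∧ z * x * z⁻¹ * x⁻¹ = 1 ∧ s * z * s * z = 1 ∧ s
    * x * s * x = 1 ∧ z * a * z⁻¹ * a = 1 ∧ z * b * z⁻¹ * b = 1 ∧ x * a * x⁻¹ * a * b = 1 ∧ x * b *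
    x⁻¹ * a = 1 ∧ s * a * s * a = 1 ∧ s * b * s * a * b = 1 ∧ a * b * a * b = 1 := by
  have := PM.holds ML_ok ML_subs h.emb (p := (.and (.and (.eq [5,5] []) (.and (.eq [6,6] []) (.and (.eq [7,7] []) (.eq [8,8] [])))) (.and (.and
      (.eq [6,5,6,5] []) (.and (.eq [7,5,7,5] []) (.eq [6,7,6,7,6,7] []))) (.and (.eq [1,1,1] [])
      (.and (.eq [3,3,3] []) (.and (.eq [4,2,3,1] []) (.and (.eq [1,5,1,5] []) (.and (.eq [3,5,3,5]
      []) (.and (.eq [7,2,7,1] []) (.and (.eq [8,2,8,1] []) (.and (.eq [8,7,4,7,3] []) (.and (.eq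
      [7,4,8,3] []) (.and (.eq [7,5,7,5] []) (.and (.eq [8,7,5,8,5] []) (.eq [8,7,8,7]
      []))))))))))))))) (by decide +kernel)
  simp only [Fm.sem, wv_cons, wv_nil, one_mul, upd_apply, Nat.reduceEqDiff, ↓reduceIte, gML_1, gML_2, gML_3, gML_4, gML_5, gML_6, gML_7, gML_8, gML_s0, gML_s1, gML_s2, gML_s3, gML_s4, gML_s5, gML_s6, exists_eq_right', h.eN] at this
  exact this

theorem NL.ne (h : NL z x s u a b) :
    ¬ z = 1 ∧ ¬ x = 1 ∧ ¬ s = 1 ∧ ¬ a = 1 ∧ ¬ b = 1 ∧ ¬ a * b = 1 ∧ ¬ z = x ∧ ¬ z * x = z⁻¹ * x⁻¹ ∧ ¬ z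
    * x = x⁻¹ * z⁻¹ ∧ ¬ a = b := by
  have := PM.holds ML_ok ML_subs h.emb (p := (.and (.not (.eq [1] [])) (.and (.not (.eq [3] [])) (.and (.not (.eq [5] [])) (.and (.not (.eq [7]
      [])) (.and (.not (.eq [8] [])) (.and (.not (.eq [8,7] [])) (.and (.not (.eq [1] [3])) (.and
      (.not (.eq [3,1] [4,2])) (.and (.not (.eq [3,1] [2,4])) (.not (.eq [7] [8])))))))))))) (by decide +kernel)
  simp only [Fm.sem, wv_cons, wv_nil, one_mul, upd_apply, Nat.reduceEqDiff, ↓reduceIte, gML_1, gML_2, gML_3, gML_4, gML_5, gML_6, gML_7, gML_8, gML_s0, gML_s1, gML_s2, gML_s3, gML_s4, gML_s5, gML_s6, exists_eq_right', h.eN] at this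
  exact this

theorem NL.eqs (h : NL z x s u a b) :
    z * x = x * z ∧ z * a = a * z ∧ z * b = b * z ∧ z * u = u * z ∧ a * b = b * a ∧ s * u = u * s ∧ s *
    a = a * s ∧ u * x = x⁻¹ * u ∧ s * z = z⁻¹ * s ∧ s * x = x⁻¹ * s ∧ x * a = a * b * x ∧ x * b = a
    * x ∧ x * a * b = b * x ∧ a * u * u * a = 1 := by
  have := PM.holds ML_ok ML_subs h.emb (p := (.and (.eq [3,1] [1,3]) (.and (.eq [7,1] [1,7]) (.and (.eq [8,1] [1,8]) (.and (.eq [6,1] [1,6])
      (.and (.eq [8,7] [7,8]) (.and (.eq [6,5] [5,6]) (.and (.eq [7,5] [5,7]) (.and (.eq [3,6]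
      [6,4]) (.and (.eq [1,5] [5,2]) (.and (.eq [3,5] [5,4]) (.and (.eq [7,3] [3,8,7]) (.and (.eq
      [8,3] [3,7]) (.and (.eq [8,7,3] [3,8]) (.eq [7,6,6,7] []))))))))))))))) (by decide +kernel)
  simp only [Fm.sem, wv_cons, wv_nil, one_mul, upd_apply, Nat.reduceEqDiff, ↓reduceIte, gML_1, gML_2, gML_3, gML_4, gML_5, gML_6, gML_7, gML_8, gML_s0, gML_s1, gML_s2, gML_s3, gML_s4, gML_s5, gML_s6, exists_eq_right', h.eN] at this
  exact this

theorem NL.cz1 (h : NL z x s u a b) :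
    ∀ i ∈ normalizer (zpowers z : Set G), i * z = z * i → i * i = 1 → (i = 1 ∨ (∃ n ∈ normalizer
    (zpowers z : Set G), n * z = z * n ∧ n * i = a * n)) := by
  have := PM.holds ML_ok ML_subs h.emb (p := (.all 0 20 (.imp (.eq [1,20] [20,1]) (.imp (.eq [20,20] []) (.or (.eq [20] []) (.ex 0 21 (.and (.eq
      [1,21] [21,1]) (.eq [20,21] [21,7])))))))) (by decide +kernel)
  simp only [Fm.sem, wv_cons, wv_nil, one_mul, upd_apply, Nat.reduceEqDiff, ↓reduceIte, gML_1, gML_2, gML_3, gML_4, gML_5, gML_6, gML_7, gML_8, gML_s0, gML_s1, gML_s2, gML_s3, gML_s4, gML_s5, gML_s6, exists_eq_right', h.eN] at this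
  exact this

theorem NL.inv (h : NL z x s u a b) :
    ∀ i ∈ normalizer (zpowers z : Set G), i * i = 1 → (i = 1 ∨ (∃ n ∈ normalizer (zpowers z : Set G), n
    * a = i * n ∨ n * s = i * n)) := by
  have := PM.holds ML_ok ML_subs h.emb (p := (.all 0 20 (.imp (.eq [20,20] []) (.or (.eq [20] []) (.ex 0 21 (.or (.eq [7,21] [21,20]) (.eq [5,21]
      [21,20]))))))) (by decide +kernel)
  simp only [Fm.sem, wv_cons, wv_nil, one_mul, upd_apply, Nat.reduceEqDiff, ↓reduceIte, gML_1, gML_2, gML_3, gML_4, gML_5, gML_6, gML_7, gML_8, gML_s0, gML_s1, gML_s2, gML_s3, gML_s4, gML_s5, gML_s6, exists_eq_right', h.eN] at this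
  exact this

theorem NL.cz4 (h : NL z x s u a b) :
    ∀ i ∈ normalizer (zpowers z : Set G), i * z = z * i → i * i * i * i = 1 → i * i = 1 := by
  have := PM.holds ML_ok ML_subs h.emb (p := (.all 0 20 (.imp (.eq [1,20] [20,1]) (.imp (.eq [20,20,20,20] []) (.eq [20,20] []))))) (by decide +kernel)
  simp only [Fm.sem, wv_cons, wv_nil, one_mul, upd_apply, Nat.reduceEqDiff, ↓reduceIte, gML_1, gML_2, gML_3, gML_4, gML_5, gML_6, gML_7, gML_8, gML_s0, gML_s1, gML_s2, gML_s3, gML_s4, gML_s5, gML_s6, exists_eq_right', h.eN] at this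
  exact this

theorem NL.wx (h : NL z x s u a b) :
    ∃ n ∈ normalizer (zpowers z : Set G), n * x = a * u * n := by
  have := PM.holds ML_ok ML_subs h.emb (p := (.ex 0 20 (.eq [3,20] [20,6,7]))) (by decide +kernel)
  simp only [Fm.sem, wv_cons, wv_nil, one_mul, upd_apply, Nat.reduceEqDiff, ↓reduceIte, gML_1, gML_2, gML_3, gML_4, gML_5, gML_6, gML_7, gML_8, gML_s0, gML_s1, gML_s2, gML_s3, gML_s4, gML_s5, gML_s6, exists_eq_right', h.eN] at this
  exact this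

theorem NL.cV (h : NL z x s u a b) :
    ∀ n ∈ normalizer (zpowers z : Set G), n * a = a * n → n * b = b * n → (n * z = z * n ∧ ((n = 1 ∨ n =
    z ∨ n = z⁻¹) ∨ (¬ n * n * n = 1 ∧ n * n * n * n * n * n = 1))) := by
  have := PM.holds ML_ok ML_subs h.emb (p := (.all 0 20 (.imp (.eq [7,20] [20,7]) (.imp (.eq [8,20] [20,8]) (.and (.eq [1,20] [20,1]) (.or (.or
      (.eq [20] []) (.or (.eq [20] [1]) (.eq [20] [2]))) (.and (.not (.eq [20,20,20] [])) (.eq
      [20,20,20,20,20,20] [])))))))) (by decide +kernel)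
  simp only [Fm.sem, wv_cons, wv_nil, one_mul, upd_apply, Nat.reduceEqDiff, ↓reduceIte, gML_1, gML_2, gML_3, gML_4, gML_5, gML_6, gML_7, gML_8, gML_s0, gML_s1, gML_s2, gML_s3, gML_s4, gML_s5, gML_s6, exists_eq_right', h.eN] at this
  exact this

theorem NL.jab (h : NL z x s u a b) :
    ∀ j ∈ normalizer (zpowers z : Set G), j * z = z * j → j * a = a * j → j * j = 1 → (j = 1 ∨ j = a ∨ j
    = b ∨ j = a * b) := by
  have := PM.holds ML_ok ML_subs h.emb (p := (.all 0 20 (.imp (.eq [1,20] [20,1]) (.imp (.eq [7,20] [20,7]) (.imp (.eq [20,20] []) (.or (.eq [20]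
      []) (.or (.eq [20] [7]) (.or (.eq [20] [8]) (.eq [20] [8,7]))))))))) (by decide +kernel)
  simp only [Fm.sem, wv_cons, wv_nil, one_mul, upd_apply, Nat.reduceEqDiff, ↓reduceIte, gML_1, gML_2, gML_3, gML_4, gML_5, gML_6, gML_7, gML_8, gML_s0, gML_s1, gML_s2, gML_s3, gML_s4, gML_s5, gML_s6, exists_eq_right', h.eN] at this
  exact this

theorem NL.sig (h : NL z x s u a b) :
    ∀ k ∈ normalizer (zpowers z : Set G), k * z = z * k → (k ∈ gen [a, b] ∨ k ∈ gen [u * a * u, u * b *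
    u] ∨ (k * x * k * x⁻¹ * k * x * k * x⁻¹ * x⁻¹ * k * x * k * x * k * x⁻¹ * k * x * k * x⁻¹ * x⁻¹
    * k * x * k * x * k * x⁻¹ * k * x * k * x⁻¹ * x⁻¹ * k * x = 1 ∧ ¬ k * x * k * x⁻¹ * k * x * k *
    x⁻¹ * x⁻¹ * k * x = 1) ∨ (k * x * k * x⁻¹ * k * x * k * x⁻¹ * k * x * k * x⁻¹ * k * x * k * x⁻¹
    * k * x * k * x⁻¹ * k * x * k * x⁻¹ = 1 ∧ ¬ k * x * k * x⁻¹ * k * x * k * x⁻¹ = 1) ∨ (k * k * x
    * k * x⁻¹ * k * k * x * k * x⁻¹ * k * k * x * k * x⁻¹ = 1 ∧ ¬ k * k * x * k * x⁻¹ = 1)) := by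
  have := PM.holds ML_ok ML_subs h.emb (p := (.all 0 20 (.imp (.eq [1,20] [20,1]) (.or (.ex 2 21 (.eq [20] [21])) (.or (.ex 3 21 (.eq [20] [21]))
      (.or (.and (.eq
      [3,20,4,4,20,3,20,4,20,3,20,3,20,4,4,20,3,20,4,20,3,20,3,20,4,4,20,3,20,4,20,3,20] []) (.not
      (.eq [3,20,4,4,20,3,20,4,20,3,20] []))) (.or (.and (.eq
      [4,20,3,20,4,20,3,20,4,20,3,20,4,20,3,20,4,20,3,20,4,20,3,20] []) (.not (.eq
      [4,20,3,20,4,20,3,20] []))) (.and (.eq [4,20,3,20,20,4,20,3,20,20,4,20,3,20,20] []) (.not (.eq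
      [4,20,3,20,20] [])))))))))) (by decide +kernel)
  simp only [Fm.sem, wv_cons, wv_nil, one_mul, upd_apply, Nat.reduceEqDiff, ↓reduceIte, gML_1, gML_2, gML_3, gML_4, gML_5, gML_6, gML_7, gML_8, gML_s0, gML_s1, gML_s2, gML_s3, gML_s4, gML_s5, gML_s6, exists_eq_right', h.eN] at this
  exact this

theorem NL.memV (h : NL z x s u a b) :
    ∀ v ∈ gen [a, b], v = 1 ∨ v = a ∨ v = b ∨ v = a * b := by
  have := PM.holds ML_ok ML_subs h.emb (p := (.all 2 20 (.or (.eq [20] []) (.or (.eq [20] [7]) (.or (.eq [20] [8]) (.eq [20] [8,7])))))) (by decide +kernel)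
  simp only [Fm.sem, wv_cons, wv_nil, one_mul, upd_apply, Nat.reduceEqDiff, ↓reduceIte, gML_1, gML_2, gML_3, gML_4, gML_5, gML_6, gML_7, gML_8, gML_s0, gML_s1, gML_s2, gML_s3, gML_s4, gML_s5, gML_s6, exists_eq_right', h.eN] at this
  exact this

theorem NL.conjV (h : NL z x s u a b) :
    (∀ v ∈ gen [a, b], v = 1 ∨ ((∃ d ∈ gen [z, x], d * v = a * d) ∧ (∃ d ∈ gen [z, x], d * v = b * d)))
    ∧ (∀ v ∈ gen [u * a * u, u * b * u], v = 1 ∨ ((∃ d ∈ gen [z, x], d * v = u * a * u * d) ∧ (∃ d ∈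
    gen [z, x], d * v = u * b * u * d))) := by
  have := PM.holds ML_ok ML_subs h.emb (p := (.and (.all 2 20 (.or (.eq [20] []) (.and (.ex 1 21 (.eq [20,21] [21,7])) (.ex 1 21 (.eq [20,21]
      [21,8]))))) (.all 3 20 (.or (.eq [20] []) (.and (.ex 1 21 (.eq [20,21] [21,6,7,6])) (.ex 1 21
      (.eq [20,21] [21,6,8,6]))))))) (by decide +kernel)
  simp only [Fm.sem, wv_cons, wv_nil, one_mul, upd_apply, Nat.reduceEqDiff, ↓reduceIte, gML_1, gML_2, gML_3, gML_4, gML_5, gML_6, gML_7, gML_8, gML_s0, gML_s1, gML_s2, gML_s3, gML_s4, gML_s5, gML_s6, exists_eq_right', h.eN] at this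
  exact this

theorem NL.autV (h : NL z x s u a b) :
    ∀ v ∈ gen [a, b], ∀ w ∈ gen [a, b], ¬ v = 1 → ¬ w = 1 → ¬ v = w → (∃ n ∈ gen [x, s], n * a = v * n ∧
    n * b = w * n) := by
  have := PM.holds ML_ok ML_subs h.emb (p := (.all 2 20 (.all 2 21 (.imp (.not (.eq [20] [])) (.imp (.not (.eq [21] [])) (.imp (.not (.eq [20]
      [21])) (.ex 5 22 (.and (.eq [7,22] [22,20]) (.eq [8,22] [22,21]))))))))) (by decide +kernel)
  simp only [Fm.sem, wv_cons, wv_nil, one_mul, upd_apply, Nat.reduceEqDiff, ↓reduceIte, gML_1, gML_2, gML_3, gML_4, gML_5, gML_6, gML_7, gML_8, gML_s0, gML_s1, gML_s2, gML_s3, gML_s4, gML_s5, gML_s6, exists_eq_right', h.eN] at this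
  exact this

theorem NL.normV (h : NL z x s u a b) :
    ∀ d ∈ gen [z, x], ∀ v ∈ gen [a, b], ∃ w ∈ gen [a, b], d * v = w * d := by
  have := PM.holds ML_ok ML_subs h.emb (p := (.all 1 20 (.all 2 21 (.ex 2 22 (.eq [21,20] [20,22]))))) (by decide +kernel)
  simp only [Fm.sem, wv_cons, wv_nil, one_mul, upd_apply, Nat.reduceEqDiff, ↓reduceIte, gML_1, gML_2, gML_3, gML_4, gML_5, gML_6, gML_7, gML_8, gML_s0, gML_s1, gML_s2, gML_s3, gML_s4, gML_s5, gML_s6, exists_eq_right', h.eN] at this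
  exact this

theorem NL.memP (h : NL z x s u a b) :
    ∀ i ∈ gen [a, b, s], i * i * i * i = 1 ∧ i * a = a * i ∧ (i * i = 1 → (i = 1 ∨ i = a ∨ i = b ∨ i = a
    * b ∨ i = s ∨ i = a * s)) := by
  have := PM.holds ML_ok ML_subs h.emb (p := (.all 4 20 (.and (.eq [20,20,20,20] []) (.and (.eq [7,20] [20,7]) (.imp (.eq [20,20] []) (.or (.eq
      [20] []) (.or (.eq [20] [7]) (.or (.eq [20] [8]) (.or (.eq [20] [8,7]) (.or (.eq [20] [5])
      (.eq [20] [5,7]))))))))))) (by decide +kernel)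
  simp only [Fm.sem, wv_cons, wv_nil, one_mul, upd_apply, Nat.reduceEqDiff, ↓reduceIte, gML_1, gML_2, gML_3, gML_4, gML_5, gML_6, gML_7, gML_8, gML_s0, gML_s1, gML_s2, gML_s3, gML_s4, gML_s5, gML_s6, exists_eq_right', h.eN] at this
  exact this

theorem NL.nP (h : NL z x s u a b) :
    ∀ n ∈ normalizer (zpowers z : Set G), n * a = a * n → (∃ r ∈ gen [a, b, s], n * s = r * n) → n ∈ gen
    [a, b, s] := by
  have := PM.holds ML_ok ML_subs h.emb (p := (.all 0 20 (.imp (.eq [7,20] [20,7]) (.imp (.ex 4 21 (.eq [5,20] [20,21])) (.ex 4 21 (.eq [20]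
      [21])))))) (by decide +kernel)
  simp only [Fm.sem, wv_cons, wv_nil, one_mul, upd_apply, Nat.reduceEqDiff, ↓reduceIte, gML_1, gML_2, gML_3, gML_4, gML_5, gML_6, gML_7, gML_8, gML_s0, gML_s1, gML_s2, gML_s3, gML_s4, gML_s5, gML_s6, exists_eq_right', h.eN] at this
  exact this

theorem NL.wus (h : NL z x s u a b) :
    ∃ n ∈ normalizer (zpowers z : Set G), n * u = a * n ∧ n * s = s * n := by
  have := PM.holds ML_ok ML_subs h.emb (p := (.ex 0 20 (.and (.eq [6,20] [20,7]) (.eq [5,20] [20,5])))) (by decide +kernel)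
  simp only [Fm.sem, wv_cons, wv_nil, one_mul, upd_apply, Nat.reduceEqDiff, ↓reduceIte, gML_1, gML_2, gML_3, gML_4, gML_5, gML_6, gML_7, gML_8, gML_s0, gML_s1, gML_s2, gML_s3, gML_s4, gML_s5, gML_s6, exists_eq_right', h.eN] at this
  exact this

theorem NL.memD (h : NL z x s u a b) :
    ∀ d ∈ gen [z, x], d * d * d = 1 ∧ d * z = z * d ∧ d * x = x * d ∧ (d = 1 ∨ d = z ∨ d = z⁻¹ ∨ d = x ∨
    d = x⁻¹ ∨ d = z * x ∨ d = z⁻¹ * x⁻¹ ∨ d = z * x⁻¹ ∨ d = z⁻¹ * x) := by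
  have := PM.holds ML_ok ML_subs h.emb (p := (.all 1 20 (.and (.eq [20,20,20] []) (.and (.eq [1,20] [20,1]) (.and (.eq [3,20] [20,3]) (.or (.eq
      [20] []) (.or (.eq [20] [1]) (.or (.eq [20] [2]) (.or (.eq [20] [3]) (.or (.eq [20] [4]) (.or
      (.eq [20] [3,1]) (.or (.eq [20] [4,2]) (.or (.eq [20] [4,1]) (.eq [20] [3,2])))))))))))))) (by decide +kernel)
  simp only [Fm.sem, wv_cons, wv_nil, one_mul, upd_apply, Nat.reduceEqDiff, ↓reduceIte, gML_1, gML_2, gML_3, gML_4, gML_5, gML_6, gML_7, gML_8, gML_s0, gML_s1, gML_s2, gML_s3, gML_s4, gML_s5, gML_s6, exists_eq_right', h.eN] at this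
  exact this

theorem NL.commD (h : NL z x s u a b) :
    ∀ d ∈ gen [z, x], ∀ f ∈ gen [z, x], d * f = f * d := by
  have := PM.holds ML_ok ML_subs h.emb (p := (.all 1 20 (.all 1 21 (.eq [21,20] [20,21])))) (by decide +kernel)
  simp only [Fm.sem, wv_cons, wv_nil, one_mul, upd_apply, Nat.reduceEqDiff, ↓reduceIte, gML_1, gML_2, gML_3, gML_4, gML_5, gML_6, gML_7, gML_8, gML_s0, gML_s1, gML_s2, gML_s3, gML_s4, gML_s5, gML_s6, exists_eq_right', h.eN] at this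
  exact this

theorem NL.cD (h : NL z x s u a b) :
    ∀ n ∈ normalizer (zpowers z : Set G), n * z = z * n → n * x = x * n → n ∈ gen [z, x] := by
  have := PM.holds ML_ok ML_subs h.emb (p := (.all 0 20 (.imp (.eq [1,20] [20,1]) (.imp (.eq [3,20] [20,3]) (.ex 1 21 (.eq [20] [21])))))) (by decide +kernel)
  simp only [Fm.sem, wv_cons, wv_nil, one_mul, upd_apply, Nat.reduceEqDiff, ↓reduceIte, gML_1, gML_2, gML_3, gML_4, gML_5, gML_6, gML_7, gML_8, gML_s0, gML_s1, gML_s2, gML_s3, gML_s4, gML_s5, gML_s6, exists_eq_right', h.eN] at this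
  exact this

theorem NL.cy (h : NL z x s u a b) :
    ∀ n ∈ normalizer (zpowers z : Set G), n * z * x = z * x * n → n ∈ gen [z, x] := by
  have := PM.holds ML_ok ML_subs h.emb (p := (.all 0 20 (.imp (.eq [3,1,20] [20,3,1]) (.ex 1 21 (.eq [20] [21]))))) (by decide +kernel)
  simp only [Fm.sem, wv_cons, wv_nil, one_mul, upd_apply, Nat.reduceEqDiff, ↓reduceIte, gML_1, gML_2, gML_3, gML_4, gML_5, gML_6, gML_7, gML_8, gML_s0, gML_s1, gML_s2, gML_s3, gML_s4, gML_s5, gML_s6, exists_eq_right', h.eN] at this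
  exact this

theorem NL.nD (h : NL z x s u a b) :
    ∀ n ∈ normalizer (zpowers z : Set G), (∃ d ∈ gen [z, x], n * x = d * n) → n ∈ gen [z, x, s, u] := by
  have := PM.holds ML_ok ML_subs h.emb (p := (.all 0 20 (.imp (.ex 1 21 (.eq [3,20] [20,21])) (.ex 6 21 (.eq [20] [21]))))) (by decide +kernel)
  simp only [Fm.sem, wv_cons, wv_nil, one_mul, upd_apply, Nat.reduceEqDiff, ↓reduceIte, gML_1, gML_2, gML_3, gML_4, gML_5, gML_6, gML_7, gML_8, gML_s0, gML_s1, gML_s2, gML_s3, gML_s4, gML_s5, gML_s6, exists_eq_right', h.eN] at this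
  exact this

theorem NL.nE (h : NL z x s u a b) :
    ∀ n ∈ gen [z, x, s, u], ∀ d ∈ gen [z, x], ∃ f ∈ gen [z, x], n * d = f * n := by
  have := PM.holds ML_ok ML_subs h.emb (p := (.all 6 20 (.all 1 21 (.ex 1 22 (.eq [21,20] [20,22]))))) (by decide +kernel)
  simp only [Fm.sem, wv_cons, wv_nil, one_mul, upd_apply, Nat.reduceEqDiff, ↓reduceIte, gML_1, gML_2, gML_3, gML_4, gML_5, gML_6, gML_7, gML_8, gML_s0, gML_s1, gML_s2, gML_s3, gML_s4, gML_s5, gML_s6, exists_eq_right', h.eN] at this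
  exact this

theorem NL.ud (h : NL z x s u a b) :
    ∀ d ∈ gen [z, x], (u * d = d * u ∨ u * d * u * d = 1) → (d = 1 ∨ d = z ∨ d = z⁻¹ ∨ d = x ∨ d = x⁻¹) := by
  have := PM.holds ML_ok ML_subs h.emb (p := (.all 1 20 (.imp (.or (.eq [20,6] [6,20]) (.eq [20,6,20,6] [])) (.or (.eq [20] []) (.or (.eq [20]
      [1]) (.or (.eq [20] [2]) (.or (.eq [20] [3]) (.eq [20] [4])))))))) (by decide +kernel)
  simp only [Fm.sem, wv_cons, wv_nil, one_mul, upd_apply, Nat.reduceEqDiff, ↓reduceIte, gML_1, gML_2, gML_3, gML_4, gML_5, gML_6, gML_7, gML_8, gML_s0, gML_s1, gML_s2, gML_s3, gML_s4, gML_s5, gML_s6, exists_eq_right', h.eN] at this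
  exact this

theorem NL.tu (h : NL z x s u a b) :
    ∀ v ∈ normalizer (zpowers z : Set G), v * x = x * v → v * z * v * z = 1 → v * s = s * v → v = u * s := by
  have := PM.holds ML_ok ML_subs h.emb (p := (.all 0 20 (.imp (.eq [3,20] [20,3]) (.imp (.eq [1,20,1,20] []) (.imp (.eq [5,20] [20,5]) (.eq [20]
      [5,6])))))) (by decide +kernel)
  simp only [Fm.sem, wv_cons, wv_nil, one_mul, upd_apply, Nat.reduceEqDiff, ↓reduceIte, gML_1, gML_2, gML_3, gML_4, gML_5, gML_6, gML_7, gML_8, gML_s0, gML_s1, gML_s2, gML_s3, gML_s4, gML_s5, gML_s6, exists_eq_right', h.eN] at this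
  exact this

theorem NL.sd (h : NL z x s u a b) :
    ∀ d ∈ gen [z, x], s * d * s * d = 1 := by
  have := PM.holds ML_ok ML_subs h.emb (p := (.all 1 20 (.eq [20,5,20,5] []))) (by decide +kernel)
  simp only [Fm.sem, wv_cons, wv_nil, one_mul, upd_apply, Nat.reduceEqDiff, ↓reduceIte, gML_1, gML_2, gML_3, gML_4, gML_5, gML_6, gML_7, gML_8, gML_s0, gML_s1, gML_s2, gML_s3, gML_s4, gML_s5, gML_s6, exists_eq_right', h.eN] at this
  exact this

theorem ML_zz (h : Emb ML.m (gML z x s u a b)) :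
    ∀ n ∈ gen [z, x, s, u, a, b], n * n * n = 1 → (a * n = n * a ∨ a * n * a * n = 1) → (b * n = n * b ∨
    b * n * b * n = 1) → (u * n = n * u ∨ u * n * u * n = 1) → (n = 1 ∨ n = z ∨ n = z⁻¹) := by
  have := PM.holds ML_ok ML_subs h (p := (.all 0 20 (.imp (.eq [20,20,20] []) (.imp (.or (.eq [20,7] [7,20]) (.eq [20,7,20,7] [])) (.imp (.or
      (.eq [20,8] [8,20]) (.eq [20,8,20,8] [])) (.imp (.or (.eq [20,6] [6,20]) (.eq [20,6,20,6] []))
      (.or (.eq [20] []) (.or (.eq [20] [1]) (.eq [20] [2]))))))))) (by decide +kernel)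
  simp only [Fm.sem, wv_cons, wv_nil, one_mul, upd_apply, Nat.reduceEqDiff, ↓reduceIte, gML_1, gML_2, gML_3, gML_4, gML_5, gML_6, gML_7, gML_8, gML_s0, gML_s1, gML_s2, gML_s3, gML_s4, gML_s5, gML_s6, exists_eq_right'] at this
  exact this

theorem ML_cardN (h : Emb ML.m (gML z x s u a b)) : Nat.card (gen [z, x, s, u, a, b]) = 360 := by
  rw [← gML_s0]; exact PM.card_of_emb ML_ok ML_subs h 0

theorem ML_cardD (h : Emb ML.m (gML z x s u a b)) : Nat.card (gen [z, x]) = 9 := by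
  rw [← gML_s1]; exact PM.card_of_emb ML_ok ML_subs h 1

theorem ML_cardE (h : Emb ML.m (gML z x s u a b)) : Nat.card (gen [z, x, s, u]) = 36 := by
  rw [← gML_s6]; exact PM.card_of_emb ML_ok ML_subs h 6

/-- letters -/
def gMB (s u a t : G) : ℕ → G := lf [1, s, u, a, t]

theorem gMB_0 : gMB s u a t 0 = 1 := rfl
theorem gMB_1 : gMB s u a t 1 = s := rfl
theorem gMB_2 : gMB s u a t 2 = u := rfl
theorem gMB_3 : gMB s u a t 3 = a := rfl
theorem gMB_4 : gMB s u a t 4 = t := rfl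

@[reducible] def MB : PM where
  w := 7
  n := 8
  cs := [27770475822416768,
    27770473958047751,
    23860610609677184,
    27739928150639488,
    23859885238701589]
  SW := [([[1],[2],[3],[4]],
    [⟨0, [64, 195, 259], [[2, 0, 3, 2, 3, 1], [2, 2, 2]]⟩,
     ⟨3, [256], [[0, 1], [0, 0]]⟩,
     ⟨5, [448, 129, 385], [[1, 0]]⟩,
     ⟨2, [448, 384], []⟩])]

instance : NeZero MB.n := ⟨by decide⟩

theorem MB_ok : MB.ok = true := by decide +kernel

theorem MB_subs : MB.subsOK = true := by decide +kernel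

theorem gMB_s0 : sub (gMB s u a t) (MB.W 0) = gen [s, u, a, t] := by
  change gen (List.map (wv _) [[1],[2],[3],[4]]) = _
  simp only [List.map_cons, List.map_nil, wv_cons, wv_nil, one_mul, gMB_1, gMB_2, gMB_3, gMB_4]

/-- inverse letters -/
noncomputable def MB_io (l : ℕ) : ℕ := PK.nth 0 [0,1,2,3,4] l

/-- relators -/
def MB_R : List (List ℕ) := [[2, 1, 2, 1], [3, 1, 3, 1], [2, 3, 2, 3, 2, 3], [4, 1, 4, 1], [2, 1, 4, 2, 4], [4, 3, 4, 3, 4, 3, 4, 3]]

/-- relations -/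
def MB_Rel (s u a t : G) : Prop :=
  (s * s = 1 ∧ u * u = 1 ∧ a * a = 1 ∧ t * t = 1) ∧
  s * u * s * u = 1 ∧
  s * a * s * a = 1 ∧
  a * u * a * u * a * u = 1 ∧
  s * t * s * t = 1 ∧
  t * u * t * s * u = 1 ∧
  a * t * a * t * a * t * a * t = 1

theorem MB_satG (h : MB_Rel s u a t) : Sat (gMB s u a t) 5 MB_io MB_R := by
  obtain ⟨⟨i1, i2, i3, i4⟩, h⟩ := h
  refine ⟨rfl, fun l hl => ?_, ?_⟩
  · interval_cases l
    exacts [inv_one.symm, eq_inv_of_mul_eq_one_left i1, eq_inv_of_mul_eq_one_left i2, eq_inv_of_mul_eq_one_left i3,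
      eq_inv_of_mul_eq_one_left i4]
  · simp only [MB_R, List.forall_mem_cons, wv_cons, wv_nil, one_mul, List.not_mem_nil, IsEmpty.forall_iff,
      implies_true, and_true, gMB_1, gMB_2, gMB_3, gMB_4]
    exact h

noncomputable def MB_tc0_C : SeqCert := ⟨nat_lit 4, nat_lit 9, nat_lit 5, nat_lit 0x4040303020201010000, (NT.leaf (nat_lit 0) (nat_lit 0x39b01ab037a017901680135012402b802a60295038402730362035102410330022001100000)), (NT.node (nat_lit 1) (NT.leaf (nat_lit 16384) (nat_lit 0x1020102)) (NT.node (nat_lit 2) (NT.leaf (nat_lit 16388) (nat_lit 0x1030103)) (NT.leaf (nat_lit 16392) (nat_lit 0x30203020302))))⟩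
noncomputable def MB_tc0_U : List (List ℕ) := []
noncomputable def MB_tc0_HL : List ℕ := []
theorem MB_tc0_head : MB_tc0_C.head 5 MB_io MB_R MB_tc0_U MB_tc0_HL 12 4 0 = true := by decide +kernel
noncomputable def MB_tc0_s0 : List ℕ := [nat_lit 0xb040100b0981404160e85406000a03008070781404120d83c0600080641a030082804070180410020280c0007]
theorem MB_tc0_ok0 : MB_tc0_C.StepsOK 12 19 := (SeqCert.StepsOK.refl _ 12).step (L := MB_tc0_s0) (by decide +kernel)
theorem MB_tc0_ok : MB_tc0_C.StepsOK (12 + 0) 19 := MB_tc0_ok0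
noncomputable def MB_tc0_r0 : List ℕ := [nat_lit 0x18c0840210, nat_lit 0x2941080301, nat_lit 0x3180a01942, nat_lit 0x1c01ce1b53, nat_lit 0x4201221824, nat_lit 0x2c42521a35, nat_lit 0x3482941d86, nat_lit 0x8681e61f97, nat_lit 0x4502d61c68, nat_lit 0x96c26a1e79, nat_lit 0x81c2ac23ba, nat_lit 0x9242f022ab]
theorem MB_tc0_final : MB_tc0_C.final 5 19 (nat_lit 0xfff) 12 [1,2,3] (MB_tc0_r0) = true := by decide +kernel
theorem MB_tc0 {G : Type*} [Group G] {g : ℕ → G} {H : Subgroup G} (hg : Sat g 5 MB_io MB_R)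
    (hU : ∀ u ∈ MB_tc0_U, wv g u ∈ H) (hL : ∀ l ∈ MB_tc0_HL, g l ∈ H) :
    IdxLe H (Subgroup.closure {x | ∃ l ∈ ([1,2,3] : List ℕ), g l = x}) 12 :=
  SeqCert.idxLe_of_final hg hU hL MB_tc0_head MB_tc0_ok MB_tc0_final

theorem MB_card0 {G : Type*} [Group G] {g : ℕ → G} (hg : Sat g 5 MB_io MB_R) :
    Finite (closure {x | ∃ l ∈ [1, 2, 3], g l = x}) ∧
      Nat.card (closure {x | ∃ l ∈ [1, 2, 3], g l = x}) ≤ 12 :=
  (MB_tc0 hg (H := ⊥) (by simp [MB_tc0_U]) (by simp [MB_tc0_HL])).card_le card_bot_le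

noncomputable def MB_tc1_C : SeqCert := ⟨nat_lit 3, nat_lit 9, nat_lit 5, nat_lit 0x4040303020201010000, (NT.leaf (nat_lit 0) (nat_lit 0xff02fc07f02d8076029406d0390064036c05b014808901240c0020004004f80f504ac12202680d10420000)), (NT.node (nat_lit 3) (NT.node (nat_lit 1) (NT.leaf (nat_lit 16396) (nat_lit 0x1040104)) (NT.node (nat_lit 2) (NT.leaf (nat_lit 49168) (nat_lit 0x204020104)) (NT.leaf (nat_lit 16388) (nat_lit 0x1030103)))) (NT.node (nat_lit 5) (NT.node (nat_lit 4) (NT.leaf (nat_lit 16384) (nat_lit 0x1020102)) (NT.leaf (nat_lit 16392) (nat_lit 0x30203020302))) (NT.node (nat_lit 6) (NT.leaf (nat_lit 16404) (nat_lit 0x304030403040304)) (NT.leaf (nat_lit 8) (nat_lit 0x20302030203)))))⟩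
noncomputable def MB_tc1_U : List (List ℕ) := []
noncomputable def MB_tc1_HL : List ℕ := [1,2,3]
theorem MB_tc1_head : MB_tc1_C.head 5 MB_io MB_R MB_tc1_U MB_tc1_HL 8 3 3 = true := by decide +kernel
noncomputable def MB_tc1_s0 : List ℕ := [nat_lit 0x1c0c05078160d0781c0a0e140a81e0400838500f018001827110981a0503030480d01808141c0302408010507016030002008020a00c0a0903814101a0480c0006020600a07028100c1a0380c06040b01406020104024030200404100180c000e]
theorem MB_tc1_ok0 : MB_tc1_C.StepsOK 11 25 := (SeqCert.StepsOK.refl _ 11).step (L := MB_tc1_s0) (by decide +kernel)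
theorem MB_tc1_ok : MB_tc1_C.StepsOK (8 + 3) 25 := MB_tc1_ok0
noncomputable def MB_tc1_r0 : List ℕ := [nat_lit 0x88500480400, nat_lit 0xc0110608589, nat_lit 0x220148198692, nat_lit 0x2a87981d071b, nat_lit 0x2508a09e8824, nat_lit 0x2d83309a092d, nat_lit 0x3b8368ab0a36, nat_lit 0x3f0c38bb8b3f]
theorem MB_tc1_final : MB_tc1_C.final 5 25 (nat_lit 0xff) 8 [1,2,3,4] (MB_tc1_r0) = true := by decide +kernel
theorem MB_tc1 {G : Type*} [Group G] {g : ℕ → G} {H : Subgroup G} (hg : Sat g 5 MB_io MB_R)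
    (hU : ∀ u ∈ MB_tc1_U, wv g u ∈ H) (hL : ∀ l ∈ MB_tc1_HL, g l ∈ H) :
    IdxLe H (Subgroup.closure {x | ∃ l ∈ ([1,2,3,4] : List ℕ), g l = x}) 8 :=
  SeqCert.idxLe_of_final hg hU hL MB_tc1_head MB_tc1_ok MB_tc1_final

theorem MB_card1 {G : Type*} [Group G] {g : ℕ → G} (hg : Sat g 5 MB_io MB_R) :
    Finite (closure {x | ∃ l ∈ [1, 2, 3, 4], g l = x}) ∧
      Nat.card (closure {x | ∃ l ∈ [1, 2, 3, 4], g l = x}) ≤ 96 :=
  (MB_tc1 hg (by simp [MB_tc1_U]) fun _ hl => letter_mem g hl).card_le (MB_card0 hg)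

theorem MB_sat : MB.satB 5 MB_io MB_R = true := by decide +kernel

theorem MB_hom (h : MB_Rel s u a t) :
    ∃ (hm : ∀ l, MB.m l ∈ sub MB.m (MB.W 0)) (φ : sub MB.m (MB.W 0) →* G),
      φ.range = sub (gMB s u a t) (MB.W 0) ∧ ∀ l, φ ⟨_, hm l⟩ = gMB s u a t l :=
  PM.exists_hom MB_ok MB_subs (PM.sat MB_ok MB_sat) (MB_satG h) rfl MB_card1
    (by decide +kernel)

theorem MB_main (h : MB_Rel s u a t) :
    ∃ f ∈ gen [s, u, a, t], ∃ k ∈ gen [s, u, a, t], t = f * k ∧ f * a * u = a * u * f ∧ f * f = 1 ∧ f *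
    s = s * f ∧ k * u = u * k ∧ k * f = f * k ∧ k * s = s * k ∧ k * k = 1 ∧ k * a * u * k * u * a *
    u * a * k * a * u = 1 := by
  have := pos_of_hom MB_ok MB_subs (MB_hom h) (p := (.ex 0 20 (.ex 0 21 (.and (.eq [4] [21,20]) (.and (.eq [2,3,20] [20,2,3]) (.and (.eq [20,20] [])
      (.and (.eq [1,20] [20,1]) (.and (.eq [2,21] [21,2]) (.and (.eq [20,21] [21,20]) (.and (.eq
      [1,21] [21,1]) (.and (.eq [21,21] []) (.eq [2,3,21,3,2,3,2,21,2,3,21] [])))))))))))) rfl (by decide +kernel)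
  simp only [Fm.sem, wv_cons, wv_nil, one_mul, upd_apply, Nat.reduceEqDiff, ↓reduceIte, gMB_1, gMB_2, gMB_3, gMB_4, gMB_s0, exists_eq_right'] at this
  exact this

/-- letters -/
def gMC (s u a t : G) : ℕ → G := lf [1, s, u, a, t]

theorem gMC_0 : gMC s u a t 0 = 1 := rfl
theorem gMC_1 : gMC s u a t 1 = s := rfl
theorem gMC_2 : gMC s u a t 2 = u := rfl
theorem gMC_3 : gMC s u a t 3 = a := rfl
theorem gMC_4 : gMC s u a t 4 = t := rfl

@[reducible] def MC : PM where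
  w := 10
  n := 48
  cs := [1434204597284861733261354389686816475992472245865444846089389463825540173301020143879283970489997830670382558422339279932167562204775794627061760,
    1403748513867089011508128235988035709357731695555039191164846536937791950043427983166588514181478588182697679793007434042476838469887826749030410,
    1312082317713999421718120654394622599003849986698548256303544142305536754288766200955823601483083674647555031386448322941805826216352731533189140,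
    1281388267155516054846979234820707232444596256935609919871433437945863526941474690299223154466155197288414069052773901574681009554666761696102430,
    1434204480649876607812921467467689811432651319063558916918625733982712414496157397789588525219918354300484148488349208618175054323421478891038720]
  SW := [([[1],[2],[3],[4]],
    [⟨0, [64, 129, 194, 257, 322, 386, 449, 515, 578, 641, 707, 769, 835, 899, 961, 1026, 1089, 1155, 1218, 1283,
    1345, 1410, 1474, 1538, 1601, 1667, 1730, 1793, 1859, 1922, 1986, 2049, 2115, 2177, 2243, 2305, 2371,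
    2435, 2497, 2562, 2625, 2691, 2754, 2819, 2881, 2946, 3010], [[3]]⟩,
     ⟨2, [256], []⟩])]

instance : NeZero MC.n := ⟨by decide⟩

theorem MC_ok : MC.ok = true := by decide +kernel

theorem MC_subs : MC.subsOK = true := by decide +kernel

theorem gMC_s0 : sub (gMC s u a t) (MC.W 0) = gen [s, u, a, t] := by
  change gen (List.map (wv _) [[1],[2],[3],[4]]) = _
  simp only [List.map_cons, List.map_nil, wv_cons, wv_nil, one_mul, gMC_1, gMC_2, gMC_3, gMC_4]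

/-- inverse letters -/
noncomputable def MC_io (l : ℕ) : ℕ := PK.nth 0 [0,1,2,3,4] l

/-- relators -/
def MC_R : List (List ℕ) := [[2, 1, 2, 1], [3, 1, 3, 1], [2, 3, 2, 3, 2, 3], [4, 1, 4, 1], [2, 1, 4, 2, 4], [4, 2, 3, 2, 4, 3, 4, 2, 3, 2,
    4, 3]]

/-- relations -/
def MC_Rel (s u a t : G) : Prop :=
  (s * s = 1 ∧ u * u = 1 ∧ a * a = 1 ∧ t * t = 1) ∧
  s * u * s * u = 1 ∧
  s * a * s * a = 1 ∧
  a * u * a * u * a * u = 1 ∧
  s * t * s * t = 1 ∧
  t * u * t * s * u = 1 ∧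
  a * t * u * a * u * t * a * t * u * a * u * t = 1

theorem MC_satG (h : MC_Rel s u a t) : Sat (gMC s u a t) 5 MC_io MC_R := by
  obtain ⟨⟨i1, i2, i3, i4⟩, h⟩ := h
  refine ⟨rfl, fun l hl => ?_, ?_⟩
  · interval_cases l
    exacts [inv_one.symm, eq_inv_of_mul_eq_one_left i1, eq_inv_of_mul_eq_one_left i2, eq_inv_of_mul_eq_one_left i3,
      eq_inv_of_mul_eq_one_left i4]
  · simp only [MC_R, List.forall_mem_cons, wv_cons, wv_nil, one_mul, List.not_mem_nil, IsEmpty.forall_iff,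
      implies_true, and_true, gMC_1, gMC_2, gMC_3, gMC_4]
    exact h

noncomputable def MC_tc0_C : SeqCert := ⟨nat_lit 4, nat_lit 9, nat_lit 5, nat_lit 0x4040303020201010000, (NT.leaf (nat_lit 0) (nat_lit 0x39b01ab037a017901680135012402b802a60295038402730362035102410330022001100000)), (NT.node (nat_lit 1) (NT.leaf (nat_lit 16384) (nat_lit 0x1020102)) (NT.node (nat_lit 2) (NT.leaf (nat_lit 16388) (nat_lit 0x1030103)) (NT.leaf (nat_lit 16392) (nat_lit 0x30203020302))))⟩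
noncomputable def MC_tc0_U : List (List ℕ) := []
noncomputable def MC_tc0_HL : List ℕ := []
theorem MC_tc0_head : MC_tc0_C.head 5 MC_io MC_R MC_tc0_U MC_tc0_HL 12 4 0 = true := by decide +kernel
noncomputable def MC_tc0_s0 : List ℕ := [nat_lit 0xb040100b0981404160e85406000a03008070781404120d83c0600080641a030082804070180410020280c0007]
theorem MC_tc0_ok0 : MC_tc0_C.StepsOK 12 19 := (SeqCert.StepsOK.refl _ 12).step (L := MC_tc0_s0) (by decide +kernel)
theorem MC_tc0_ok : MC_tc0_C.StepsOK (12 + 0) 19 := MC_tc0_ok0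
noncomputable def MC_tc0_r0 : List ℕ := [nat_lit 0x18c0840210, nat_lit 0x2941080301, nat_lit 0x3180a01942, nat_lit 0x1c01ce1b53, nat_lit 0x4201221824, nat_lit 0x2c42521a35, nat_lit 0x3482941d86, nat_lit 0x8681e61f97, nat_lit 0x4502d61c68, nat_lit 0x96c26a1e79, nat_lit 0x81c2ac23ba, nat_lit 0x9242f022ab]
theorem MC_tc0_final : MC_tc0_C.final 5 19 (nat_lit 0xfff) 12 [1,2,3] (MC_tc0_r0) = true := by decide +kernel
theorem MC_tc0 {G : Type*} [Group G] {g : ℕ → G} {H : Subgroup G} (hg : Sat g 5 MC_io MC_R)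
    (hU : ∀ u ∈ MC_tc0_U, wv g u ∈ H) (hL : ∀ l ∈ MC_tc0_HL, g l ∈ H) :
    IdxLe H (Subgroup.closure {x | ∃ l ∈ ([1,2,3] : List ℕ), g l = x}) 12 :=
  SeqCert.idxLe_of_final hg hU hL MC_tc0_head MC_tc0_ok MC_tc0_final

theorem MC_card0 {G : Type*} [Group G] {g : ℕ → G} (hg : Sat g 5 MC_io MC_R) :
    Finite (closure {x | ∃ l ∈ [1, 2, 3], g l = x}) ∧
      Nat.card (closure {x | ∃ l ∈ [1, 2, 3], g l = x}) ≤ 12 :=
  (MC_tc0 hg (H := ⊥) (by simp [MC_tc0_U]) (by simp [MC_tc0_HL])).card_le card_bot_le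

noncomputable def MC_tc1_C : SeqCert := ⟨nat_lit 3, nat_lit 9, nat_lit 5, nat_lit 0x4040303020201010000, (NT.leaf (nat_lit 0) (nat_lit 0xff02fc07f02d807603b40a501b4064036c05b014808901240c0020004004f80f404ac12202680d10420000)), (NT.node (nat_lit 4) (NT.node (nat_lit 2) (NT.node (nat_lit 1) (NT.leaf (nat_lit 16396) (nat_lit 0x1040104)) (NT.leaf (nat_lit 49168) (nat_lit 0x204020104))) (NT.node (nat_lit 3) (NT.leaf (nat_lit 16388) (nat_lit 0x1030103)) (NT.leaf (nat_lit 16384) (nat_lit 0x1020102)))) (NT.node (nat_lit 6) (NT.node (nat_lit 5) (NT.leaf (nat_lit 16392) (nat_lit 0x30203020302)) (NT.leaf (nat_lit 81940) (nat_lit 0x30402030204030402030204))) (NT.node (nat_lit 7) (NT.leaf (nat_lit 8) (nat_lit 0x20302030203)) (NT.leaf (nat_lit 32788) (nat_lit 0x30204030402030204030402)))))⟩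
noncomputable def MC_tc1_U : List (List ℕ) := []
noncomputable def MC_tc1_HL : List ℕ := [1,2,3]
theorem MC_tc1_head : MC_tc1_C.head 5 MC_io MC_R MC_tc1_U MC_tc1_HL 8 3 3 = true := by decide +kernel
noncomputable def MC_tc1_s0 : List ℕ := [nat_lit 0x5c0e060200e1e030241a0f1702c0e0e140a81e0400838500f018001824130941a0503030400d018081406020600414018600a070582c0a0a0e018120400828380b01800101a0480c0006020600a07028100c1a0380c06040b01406020104024030200404100180c000e]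
theorem MC_tc1_ok0 : MC_tc1_C.StepsOK 11 25 := (SeqCert.StepsOK.refl _ 11).step (L := MC_tc1_s0) (by decide +kernel)
theorem MC_tc1_ok : MC_tc1_C.StepsOK (8 + 3) 25 := MC_tc1_ok0
noncomputable def MC_tc1_r0 : List ℕ := [nat_lit 0x88500480400, nat_lit 0xc0110608589, nat_lit 0x220148198692, nat_lit 0x2a87981d071b, nat_lit 0x250330968824, nat_lit 0x2d89a89208ad, nat_lit 0x3b8360ab0a36, nat_lit 0x3f0c38bb8b3f]
theorem MC_tc1_final : MC_tc1_C.final 5 25 (nat_lit 0xff) 8 [1,2,3,4] (MC_tc1_r0) = true := by decide +kernel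
theorem MC_tc1 {G : Type*} [Group G] {g : ℕ → G} {H : Subgroup G} (hg : Sat g 5 MC_io MC_R)
    (hU : ∀ u ∈ MC_tc1_U, wv g u ∈ H) (hL : ∀ l ∈ MC_tc1_HL, g l ∈ H) :
    IdxLe H (Subgroup.closure {x | ∃ l ∈ ([1,2,3,4] : List ℕ), g l = x}) 8 :=
  SeqCert.idxLe_of_final hg hU hL MC_tc1_head MC_tc1_ok MC_tc1_final

theorem MC_card1 {G : Type*} [Group G] {g : ℕ → G} (hg : Sat g 5 MC_io MC_R) :
    Finite (closure {x | ∃ l ∈ [1, 2, 3, 4], g l = x}) ∧
      Nat.card (closure {x | ∃ l ∈ [1, 2, 3, 4], g l = x}) ≤ 96 :=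
  (MC_tc1 hg (by simp [MC_tc1_U]) fun _ hl => letter_mem g hl).card_le (MC_card0 hg)

theorem MC_sat : MC.satB 5 MC_io MC_R = true := by decide +kernel

theorem MC_hom (h : MC_Rel s u a t) :
    ∃ (hm : ∀ l, MC.m l ∈ sub MC.m (MC.W 0)) (φ : sub MC.m (MC.W 0) →* G),
      φ.range = sub (gMC s u a t) (MC.W 0) ∧ ∀ l, φ ⟨_, hm l⟩ = gMC s u a t l :=
  PM.exists_hom MC_ok MC_subs (PM.sat MC_ok MC_sat) (MC_satG h) rfl MC_card1
    (by decide +kernel)

theorem MC_main (h : MC_Rel s u a t) :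
    ∃ f ∈ gen [s, u, a, t], f * a * u = a * u * f ∧ f * f = s := by
  have := pos_of_hom MC_ok MC_subs (MC_hom h) (p := (.ex 0 20 (.and (.eq [2,3,20] [20,2,3]) (.eq [20,20] [1])))) rfl (by decide +kernel)
  simp only [Fm.sem, wv_cons, wv_nil, one_mul, upd_apply, Nat.reduceEqDiff, ↓reduceIte, gMC_1, gMC_2, gMC_3, gMC_4, gMC_s0, exists_eq_right'] at this
  exact this

/-- letters -/
def gMH (z x s a b t a2 b2 c : G) : ℕ → G := lf [1, z, z⁻¹, x, x⁻¹, s, a, b, t, a2, b2, c]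

theorem gMH_0 : gMH z x s a b t a2 b2 c 0 = 1 := rfl
theorem gMH_1 : gMH z x s a b t a2 b2 c 1 = z := rfl
theorem gMH_2 : gMH z x s a b t a2 b2 c 2 = z⁻¹ := rfl
theorem gMH_3 : gMH z x s a b t a2 b2 c 3 = x := rfl
theorem gMH_4 : gMH z x s a b t a2 b2 c 4 = x⁻¹ := rfl
theorem gMH_5 : gMH z x s a b t a2 b2 c 5 = s := rfl
theorem gMH_6 : gMH z x s a b t a2 b2 c 6 = a := rfl
theorem gMH_7 : gMH z x s a b t a2 b2 c 7 = b := rfl
theorem gMH_8 : gMH z x s a b t a2 b2 c 8 = t := rfl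
theorem gMH_9 : gMH z x s a b t a2 b2 c 9 = a2 := rfl
theorem gMH_10 : gMH z x s a b t a2 b2 c 10 = b2 := rfl
theorem gMH_11 : gMH z x s a b t a2 b2 c 11 = c := rfl

@[reducible] def MH : PM where
  w := 7
  n := 8
  cs := [27770475822416768,
    27770475822188295,
    27770475822301198,
    27769996679807872,
    27770233454560128,
    27770473958047751,
    27739928150639488,
    27708425922380672,
    23859885238701589,
    8067227453243399,
    4126577778497678,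
    8036679781466119]
  SW := [([[1],[2],[3],[4],[5],[6],[7],[8],[9],[10],[11]],
    [⟨0, [128, 65, 199, 327, 456, 263, 389], [[6, 1, 10], [1, 10, 0, 8, 4, 9, 0], [5, 0, 8, 2, 9, 0]]⟩,
     ⟨3, [384, 321, 258], [[0, 0], [1], [0, 1, 2, 0]]⟩,
     ⟨1, [128, 448], [[0, 0, 2, 1], [0, 1]]⟩,
     ⟨4, [384, 320], [[1]]⟩,
     ⟨2, [448], []⟩]),
   ([[1],[3]],
    [⟨0, [128, 64], [[1]]⟩,
     ⟨3, [320, 256], []⟩]),
   ([[7],[7,6],[10],[10,9]],
    [⟨3, [320, 385, 257], [[2], [3]]⟩,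
     ⟨0, [128, 449, 65], []⟩]),
   ([[6],[7],[5],[8]],
    [⟨3, [256, 321, 3, 385, 67, 131, 451], [[0, 2], [3, 1, 3]]⟩,
     ⟨0, [64, 129, 449], [[1, 0, 1]]⟩,
     ⟨2, [448], []⟩]),
   ([[6],[5],[8],[10,7]],
    [⟨3, [256, 2, 323, 66, 387, 131, 451], [[0, 1], [2, 0, 2]]⟩,
     ⟨0, [64], [[0, 1]]⟩,
     ⟨2, [448], []⟩])]

instance : NeZero MH.n := ⟨by decide⟩

theorem MH_ok : MH.ok = true := by decide +kernel

theorem MH_subs : MH.subsOK = true := by decide +kernel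

theorem gMH_s0 : sub (gMH z x s a b t a2 b2 c) (MH.W 0) = gen [z, z⁻¹, x, x⁻¹, s, a, b, t, a2, b2, c] := by
  change gen (List.map (wv _) [[1],[2],[3],[4],[5],[6],[7],[8],[9],[10],[11]]) = _
  simp only [List.map_cons, List.map_nil, wv_cons, wv_nil, one_mul, gMH_1, gMH_2, gMH_3, gMH_4, gMH_5, gMH_6, gMH_7, gMH_8, gMH_9, gMH_10, gMH_11]

theorem gMH_s1 : sub (gMH z x s a b t a2 b2 c) (MH.W 1) = gen [z, x] := by
  change gen (List.map (wv _) [[1],[3]]) = _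
  simp only [List.map_cons, List.map_nil, wv_cons, wv_nil, one_mul, gMH_1, gMH_2, gMH_3, gMH_4, gMH_5, gMH_6, gMH_7, gMH_8, gMH_9, gMH_10, gMH_11]

theorem gMH_s2 : sub (gMH z x s a b t a2 b2 c) (MH.W 2) = gen [b, a * b, b2, a2 * b2] := by
  change gen (List.map (wv _) [[7],[7,6],[10],[10,9]]) = _
  simp only [List.map_cons, List.map_nil, wv_cons, wv_nil, one_mul, gMH_1, gMH_2, gMH_3, gMH_4, gMH_5, gMH_6, gMH_7, gMH_8, gMH_9, gMH_10, gMH_11]

theorem gMH_s3 : sub (gMH z x s a b t a2 b2 c) (MH.W 3) = gen [a, b, s, t] := by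
  change gen (List.map (wv _) [[6],[7],[5],[8]]) = _
  simp only [List.map_cons, List.map_nil, wv_cons, wv_nil, one_mul, gMH_1, gMH_2, gMH_3, gMH_4, gMH_5, gMH_6, gMH_7, gMH_8, gMH_9, gMH_10, gMH_11]

theorem gMH_s4 : sub (gMH z x s a b t a2 b2 c) (MH.W 4) = gen [a, s, t, b * b2] := by
  change gen (List.map (wv _) [[6],[5],[8],[10,7]]) = _
  simp only [List.map_cons, List.map_nil, wv_cons, wv_nil, one_mul, gMH_1, gMH_2, gMH_3, gMH_4, gMH_5, gMH_6, gMH_7, gMH_8, gMH_9, gMH_10, gMH_11]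

/-- inverse letters -/
noncomputable def MH_io (l : ℕ) : ℕ := PK.nth 0 [0,2,1,4,3,5,6,7,8,9,10,11] l

/-- relators -/
def MH_R : List (List ℕ) := [[1, 1, 1], [3, 3, 3], [4, 2, 3, 1], [1, 5, 1, 5], [3, 5, 3, 5], [6, 2, 6, 1], [7, 2, 7, 1], [7, 6, 4, 6, 3],
    [6, 4, 7, 3], [6, 5, 6, 5], [7, 6, 5, 7, 5], [7, 6, 7, 6], [4, 8, 1, 8], [8, 5, 8, 5], [9, 8, 6, 8], [10,
    8, 7, 8], [11, 9, 6], [9, 6, 9, 6], [10, 6, 10, 6], [9, 7, 9, 7], [10, 7, 10, 7]]

/-- relations -/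
def MH_Rel (z x s a b t a2 b2 c : G) : Prop :=
  (s * s = 1 ∧ a * a = 1 ∧ b * b = 1 ∧ t * t = 1 ∧ a2 * a2 = 1 ∧ b2 * b2 = 1 ∧ c * c = 1) ∧
  z * z * z = 1 ∧
  x * x * x = 1 ∧
  z * x * z⁻¹ * x⁻¹ = 1 ∧
  s * z * s * z = 1 ∧
  s * x * s * x = 1 ∧
  z * a * z⁻¹ * a = 1 ∧
  z * b * z⁻¹ * b = 1 ∧
  x * a * x⁻¹ * a * b = 1 ∧
  x * b * x⁻¹ * a = 1 ∧
  s * a * s * a = 1 ∧
  s * b * s * a * b = 1 ∧
  a * b * a * b = 1 ∧
  t * z * t * x⁻¹ = 1 ∧
  s * t * s * t = 1 ∧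
  t * a * t * a2 = 1 ∧
  t * b * t * b2 = 1 ∧
  a * a2 * c = 1 ∧
  a * a2 * a * a2 = 1 ∧
  a * b2 * a * b2 = 1 ∧
  b * a2 * b * a2 = 1 ∧
  b * b2 * b * b2 = 1

theorem MH_satG (h : MH_Rel z x s a b t a2 b2 c) : Sat (gMH z x s a b t a2 b2 c) 12 MH_io MH_R := by
  obtain ⟨⟨i5, i6, i7, i8, i9, i10, i11⟩, h⟩ := h
  refine ⟨rfl, fun l hl => ?_, ?_⟩
  · interval_cases l
    exacts [inv_one.symm, rfl, (inv_inv _).symm, rfl, (inv_inv _).symm, eq_inv_of_mul_eq_one_left i5,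
      eq_inv_of_mul_eq_one_left i6, eq_inv_of_mul_eq_one_left i7, eq_inv_of_mul_eq_one_left i8,
      eq_inv_of_mul_eq_one_left i9, eq_inv_of_mul_eq_one_left i10, eq_inv_of_mul_eq_one_left i11]
  · simp only [MH_R, List.forall_mem_cons, wv_cons, wv_nil, one_mul, List.not_mem_nil, IsEmpty.forall_iff,
      implies_true, and_true, gMH_1, gMH_2, gMH_3, gMH_4, gMH_5, gMH_6, gMH_7, gMH_8, gMH_9, gMH_10, gMH_11]
    exact h

noncomputable def MH_tc0_C : SeqCert := ⟨nat_lit 5, nat_lit 9, nat_lit 12, nat_lit 0xb0b0a0a0909080807070606050503040403010202010000, (NT.leaf (nat_lit 0) (nat_lit 0x1eb706b5c1197039dc1616048d80e5603a541555046d41e54069d00db40574c0d93038c814f20764419b1065c01d50043c015af0453c18af0343c190e073b80d6e052300c8b0442810690332410a703198102205bac1ec906aa41688079981a46058941205077900dc40768c1983075881942054881d010638414c1072801880051801040030800000)), (NT.node (nat_lit 8) (NT.node (nat_lit 4) (NT.node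 (nat_lit 2) (NT.node (nat_lit 1) (NT.leaf (nat_lit 5) (nat_lit 0x40404)) (NT.leaf (nat_lit 16) (nat_lit 0x3050305))) (NT.node (nat_lit 3) (NT.leaf (nat_lit 16416) (nat_lit 0x4070306)) (NT.leaf (nat_lit 16401) (nat_lit 0x4050405)))) (NT.node (nat_lit 6) (NT.node (nat_lit 5) (NT.leaf (nat_lit 49184) (nat_lit 0x3060407)) (NT.leaf (nat_lit 16420) (nat_lit 0x5060506))) (NT.node (nat_lit 7) (NT.leaf (nat_lit 4) (nat_lit 0x30303)) (NT.leaf (nat_lit 28) (nat_lit 0x706040603))))) (NT.node (nat_lit 12) (NT.node (nat_lit 10) (NT.node (nat_lit 9) (NT.leaf (nat_lit 49181) (nat_lit 0x607040603)) (NT.leaf (nat_lit 16428) (nat_lit 0x6070607))) (NT.node (nat_lit 11) (NT.leaf (nat_lit 29) (nat_lit 0x406030607)) (NT.leaf (nat_lit 65576) (nat_lit 0x507060507)))) (NT.node (nat_lit 14) (NT.node (nat_lit 13) (NT.leaf (nat_lit 32800) (nat_lit 0x7030604)) (NT.leaf (nat_lit 49180) (nat_lit 0x603070604))) (NT.node (nat_lit 15)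 (NT.leaf (nat_lit 36) (nat_lit 0x6050605)) (NT.node (nat_lit 16) (NT.leaf (nat_lit 49192) (nat_lit 0x705070605)) (NT.leaf (nat_lit 65564) (nat_lit 0x307060406)))))))⟩
noncomputable def MH_tc0_U : List (List ℕ) := []
noncomputable def MH_tc0_HL : List ℕ := []
theorem MH_tc0_head : MH_tc0_C.head 12 MH_io MH_R MH_tc0_U MH_tc0_HL 24 5 0 = true := by decide +kernel
noncomputable def MH_tc0_s0 : List ℕ := [nat_lit 0x17148a2680203c5c523800c1c2e1e8f8060317100bc03008b0241528010162c1599ca804050b06e25018105437129900810150482a03028a8721b01808504421960080f14110bc03070a08c4d018044c0c07908080b130cc32030209066192b01020240603c0605111203c3e0203c44482680c1c2024078780406880904b018304034010003c3e0c06c080b0f0200a15020283c080580c121e0e91406040e02006110202038080183c08070e0f004060c01812030285808090181028310880c04120201c0603090c41a0300838040b0180818020380c0204018080025]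
theorem MH_tc0_ok0 : MH_tc0_C.StepsOK 24 61 := (SeqCert.StepsOK.refl _ 24).step (L := MH_tc0_s0) (by decide +kernel)
theorem MH_tc0_ok : MH_tc0_C.StepsOK (24 + 0) 61 := MH_tc0_ok0
noncomputable def MH_tc0_r0 : List ℕ := [nat_lit 0x28a082018604100820, nat_lit 0x4100e3830c0300c441, nat_lit 0x596145049230081402, nat_lit 0x69a18601c03330e523, nat_lit 0x79e0900fd83d5871c4, nat_lit 0x2c049788a22080d4e5, nat_lit 0x9a624903423748c866, nat_lit 0x10dc0f0966434293e07, nat_lit 0x4424570a284778ed48, nat_lit 0xb2c2aa84c43818d8c9, nat_lit 0x14601511a6a3a412dea, nat_lit 0x5c45380bae4170f08b, nat_lit 0x15e21918f885d99d6ec, nat_lit 0x6c6558935e61a19ead, nat_lit 0x108e44417e61d21016e, nat_lit 0x7c8482931a4a51190f, nat_lit 0x14145259c6c4e3884b0, nat_lit 0x159854688ca5b91bed1, nat_lit 0x1968253160e6db16a32, nat_lit 0x9cc63a179c73b97193, nat_lit 0x19246298a506ba981b4, nat_lit 0x1e6e2b49a146669aa95, nat_lit 0xb5277b9c206e89b256,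 nat_lit 0x1e2a76b0bd67461ca77]
theorem MH_tc0_final : MH_tc0_C.final 12 61 (nat_lit 0xffffff) 24 [3,4,5,6,7] (MH_tc0_r0) = true := by decide +kernel
theorem MH_tc0 {G : Type*} [Group G] {g : ℕ → G} {H : Subgroup G} (hg : Sat g 12 MH_io MH_R)
    (hU : ∀ u ∈ MH_tc0_U, wv g u ∈ H) (hL : ∀ l ∈ MH_tc0_HL, g l ∈ H) :
    IdxLe H (Subgroup.closure {x | ∃ l ∈ ([3,4,5,6,7] : List ℕ), g l = x}) 24 :=
  SeqCert.idxLe_of_final hg hU hL MH_tc0_head MH_tc0_ok MH_tc0_final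

theorem MH_card0 {G : Type*} [Group G] {g : ℕ → G} (hg : Sat g 12 MH_io MH_R) :
    Finite (closure {x | ∃ l ∈ [3, 4, 5, 6, 7], g l = x}) ∧
      Nat.card (closure {x | ∃ l ∈ [3, 4, 5, 6, 7], g l = x}) ≤ 24 :=
  (MH_tc0 hg (H := ⊥) (by simp [MH_tc0_U]) (by simp [MH_tc0_HL])).card_le card_bot_le

noncomputable def MH_tc1_C : SeqCert := ⟨nat_lit 2, nat_lit 9, nat_lit 12, nat_lit 0xb0b0a0a0909080807070606050503040403010202010000, (NT.leaf (nat_lit 0) (nat_lit 0x7a06a05603a026075065045070060050030028014000)), (NT.node (nat_lit 4) (NT.node (nat_lit 2) (NT.node (nat_lit 1) (NT.leaf (nat_lit 8) (nat_lit 0x4020301)) (NT.leaf (nat_lit 20) (nat_lit 0x6020601))) (NT.node (nat_lit 3) (NT.leaf (nat_lit 24) (nat_lit 0x7020701)) (NT.leaf (nat_lit 1) (nat_lit 0x20202)))) (NT.node (nat_lit 6) (NT.node (nat_lit 5) (NT.leaf (nat_lit 32776) (nat_lit 0x3010402)) (NT.leaf (nat_lit 13) (nat_lit 0x5020502))) (NT.node (nat_lit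 7) (NT.leaf (nat_lit 32788) (nat_lit 0x6010602)) (NT.leaf (nat_lit 32792) (nat_lit 0x7010702)))))⟩
noncomputable def MH_tc1_U : List (List ℕ) := []
noncomputable def MH_tc1_HL : List ℕ := [3,4,5,6,7]
theorem MH_tc1_head : MH_tc1_C.head 12 MH_io MH_R MH_tc1_U MH_tc1_HL 3 2 4 = true := by decide +kernel
noncomputable def MH_tc1_s0 : List ℕ := [nat_lit 0x20300a030381014050181808080180c0a040381406040200c04030103006030100814030180404060180c0008]
theorem MH_tc1_ok0 : MH_tc1_C.StepsOK 7 15 := (SeqCert.StepsOK.refl _ 7).step (L := MH_tc1_s0) (by decide +kernel)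
theorem MH_tc1_ok : MH_tc1_C.StepsOK (3 + 4) 15 := MH_tc1_ok0
noncomputable def MH_tc1_r0 : List ℕ := [nat_lit 0x300500800e018024024, nat_lit 0x490821981c83d018159, nat_lit 0x720d41842f05a0a2052]
theorem MH_tc1_final : MH_tc1_C.final 12 15 (nat_lit 0x7) 3 [1,2,3,4,5,6,7] (MH_tc1_r0) = true := by decide +kernel
theorem MH_tc1 {G : Type*} [Group G] {g : ℕ → G} {H : Subgroup G} (hg : Sat g 12 MH_io MH_R)
    (hU : ∀ u ∈ MH_tc1_U, wv g u ∈ H) (hL : ∀ l ∈ MH_tc1_HL, g l ∈ H) :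
    IdxLe H (Subgroup.closure {x | ∃ l ∈ ([1,2,3,4,5,6,7] : List ℕ), g l = x}) 3 :=
  SeqCert.idxLe_of_final hg hU hL MH_tc1_head MH_tc1_ok MH_tc1_final

theorem MH_card1 {G : Type*} [Group G] {g : ℕ → G} (hg : Sat g 12 MH_io MH_R) :
    Finite (closure {x | ∃ l ∈ [1, 2, 3, 4, 5, 6, 7], g l = x}) ∧
      Nat.card (closure {x | ∃ l ∈ [1, 2, 3, 4, 5, 6, 7], g l = x}) ≤ 72 :=
  (MH_tc1 hg (by simp [MH_tc1_U]) fun _ hl => letter_mem g hl).card_le (MH_card0 hg)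

noncomputable def MH_tc2_C : SeqCert := ⟨nat_lit 4, nat_lit 9, nat_lit 12, nat_lit 0xb0b0a0a0909080807070606050503040403010202010000, (NT.leaf (nat_lit 0) (nat_lit 0xb950a2600760a990b360936008609990659074908690559019903590b3807660666053604660136023203330a550955083503450255052203220a4408240544024409440b1407330633072206220b020a11091105110411011107000600050003000100039409830a720162075106410a30092008100000)), (NT.node (nat_lit 18) (NT.node (nat_lit 9) (NT.node (nat_lit 4) (NT.node (nat_lit 2) (NT.node (nat_lit 1) (NT.leaf (nat_lit 32816) (nat_lit 0x1080408)) (NT.leaf (nat_lit 48) (nat_lit 0x4080108))) (NT.node (nat_lit 3) (NT.leaf (nat_lit 16436) (nat_lit 0x5080508)) (NT.leaf (nat_lit 56) (nat_lit 0x9080608)))) (NT.node (nat_lit 6) (NT.node (nat_lit 5) (NT.leaf (nat_lit 60) (nat_lit 0xa080708)) (NT.leaf (nat_lit 32833) (nat_lit 0xb0609))) (NT.node (nat_lit 7) (NT.leaf (nat_lit 16452) (nat_lit 0x6090609))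 (NT.node (nat_lit 8) (NT.leaf (nat_lit 16460) (nat_lit 0x7090709)) (NT.leaf (nat_lit 16456) (nat_lit 0x60a060a)))))) (NT.node (nat_lit 13) (NT.node (nat_lit 11) (NT.node (nat_lit 10) (NT.leaf (nat_lit 16464) (nat_lit 0x70a070a)) (NT.leaf (nat_lit 64) (nat_lit 0xb0906))) (NT.node (nat_lit 12) (NT.leaf (nat_lit 16449) (nat_lit 0x90b06)) (NT.leaf (nat_lit 16404) (nat_lit 0x2060106)))) (NT.node (nat_lit 15) (NT.node (nat_lit 14) (NT.leaf (nat_lit 16420) (nat_lit 0x5060506)) (NT.leaf (nat_lit 49208) (nat_lit 0x8090806))) (NT.node (nat_lit 16) (NT.leaf (nat_lit 72) (nat_lit 0xa060a06)) (NT.node (nat_lit 17) (NT.leaf (nat_lit 49201) (nat_lit 0x3080208)) (NT.leaf (nat_lit 16408) (nat_lit 0x2070107))))))) (NT.node (nat_lit 27) (NT.node (nat_lit 22) (NT.node (nat_lit 20) (NT.node (nat_lit 19) (NT.leaf (nat_lit 49184) (nat_lit 0x3060407)) (NT.leaf (nat_lit 49212) (nat_lit 0x80a0807))) (NT.node (nat_lit 21) (NT.leaf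 (nat_lit 76) (nat_lit 0x9070907)) (NT.leaf (nat_lit 80) (nat_lit 0xa070a07)))) (NT.node (nat_lit 24) (NT.node (nat_lit 23) (NT.leaf (nat_lit 16433) (nat_lit 0x2080308)) (NT.leaf (nat_lit 0) (nat_lit 0x10101))) (NT.node (nat_lit 25) (NT.leaf (nat_lit 8) (nat_lit 0x4020301)) (NT.node (nat_lit 26) (NT.leaf (nat_lit 16396) (nat_lit 0x5010501)) (NT.leaf (nat_lit 20) (nat_lit 0x6020601)))))) (NT.node (nat_lit 32) (NT.node (nat_lit 29) (NT.node (nat_lit 28) (NT.leaf (nat_lit 24) (nat_lit 0x7020701)) (NT.leaf (nat_lit 4) (nat_lit 0x30303))) (NT.node (nat_lit 30) (NT.leaf (nat_lit 49160) (nat_lit 0x1040203)) (NT.node (nat_lit 31) (NT.leaf (nat_lit 16400) (nat_lit 0x5030503)) (NT.leaf (nat_lit 49) (nat_lit 0x8020803))))) (NT.node (nat_lit 34) (NT.node (nat_lit 33) (NT.leaf (nat_lit 28) (nat_lit 0x706040603)) (NT.leaf (nat_lit 49181) (nat_lit 0x607040603))) (NT.node (nat_lit 35) (NT.leaf (nat_lit 38) (nat_lit 0x909))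 (NT.node (nat_lit 36) (NT.leaf (nat_lit 46) (nat_lit 0xb0b)) (NT.leaf (nat_lit 42) (nat_lit 0xa0a))))))))⟩
noncomputable def MH_tc2_U : List (List ℕ) := []
noncomputable def MH_tc2_HL : List ℕ := [1,2,3,4,5,6,7]
theorem MH_tc2_head : MH_tc2_C.head 12 MH_io MH_R MH_tc2_U MH_tc2_HL 10 4 5 = true := by decide +kernel
noncomputable def MH_tc2_s0 : List ℕ := [nat_lit 0x331a0040a39838042431194760f02010c6583100c086b2d808466b0800844623391c22040198cac620180c24081002c082109020400902080243b0680c3e121c110061e090d826030e84888020e0405c0202830580d0186c182a0680c340c2013c0619060f81a030c0309e020b8e88847018588c422380c200a1302c06150509016030a02804070184c14200480c240a0f02c06111d0e07603010e86c3b0184010260480c1e0801014060e040881203068203c090183010320102c1024010280c1c0380c12060d01c0608020700a0303810340501818081a01014041c0180c08020d00c06030106006030100828030180404170180c002d]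
theorem MH_tc2_ok0 : MH_tc2_C.StepsOK 15 60 := (SeqCert.StepsOK.refl _ 15).step (L := MH_tc2_s0) (by decide +kernel)
theorem MH_tc2_ok : MH_tc2_C.StepsOK (10 + 5) 60 := MH_tc2_ok0
noncomputable def MH_tc2_r0 : List ℕ := [nat_lit 0xa480c604201087003401800b805802a01400, nat_lit 0xcd04c2241018029410822110088443e21e11, nat_lit 0xa00eac0501da0b085444021f90f889c60c62, nat_lit 0x1bd80e06d623a8c0c5c6556269930ca2c4f23, nat_lit 0xc847883441d1196412238422a84a46c83744, nat_lit 0x1da494a48523182c4cf26192ec911084a4355, nat_lit 0x1b8ce846c331c9618acc54329314d81a45036, nat_lit 0x1dd4e126893131910cca60509a1714bf25e99]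
theorem MH_tc2_final : MH_tc2_C.final 12 60 (nat_lit 0x27f) 8 [1,2,3,4,5,6,7,8,9,10,11] (MH_tc2_r0) = true := by decide +kernel
theorem MH_tc2 {G : Type*} [Group G] {g : ℕ → G} {H : Subgroup G} (hg : Sat g 12 MH_io MH_R)
    (hU : ∀ u ∈ MH_tc2_U, wv g u ∈ H) (hL : ∀ l ∈ MH_tc2_HL, g l ∈ H) :
    IdxLe H (Subgroup.closure {x | ∃ l ∈ ([1,2,3,4,5,6,7,8,9,10,11] : List ℕ), g l = x}) 8 :=
  SeqCert.idxLe_of_final hg hU hL MH_tc2_head MH_tc2_ok MH_tc2_final

theorem MH_card2 {G : Type*} [Group G] {g : ℕ → G} (hg : Sat g 12 MH_io MH_R) :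
    Finite (closure {x | ∃ l ∈ [1, 2, 3, 4, 5, 6, 7, 8, 9, 10, 11], g l = x}) ∧
      Nat.card (closure {x | ∃ l ∈ [1, 2, 3, 4, 5, 6, 7, 8, 9, 10, 11], g l = x}) ≤ 576 :=
  (MH_tc2 hg (by simp [MH_tc2_U]) fun _ hl => letter_mem g hl).card_le (MH_card1 hg)

theorem MH_sat : MH.satB 12 MH_io MH_R = true := by decide +kernel

theorem MH_hom (h : MH_Rel z x s a b t a2 b2 c) :
    ∃ (hm : ∀ l, MH.m l ∈ sub MH.m (MH.W 0)) (φ : sub MH.m (MH.W 0) →* G),
      φ.range = sub (gMH z x s a b t a2 b2 c) (MH.W 0) ∧ ∀ l, φ ⟨_, hm l⟩ = gMH z x s a b t a2 b2 c l :=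
  PM.exists_hom MH_ok MH_subs (PM.sat MH_ok MH_sat) (MH_satG h) rfl MH_card2
    (by decide +kernel)

theorem MH_emb (h : MH_Rel z x s a b t a2 b2 c) (h1 : a ≠ 1) (h2 : b ≠ 1) (h3 : a2 ≠ 1)
    (h4 : b2 ≠ 1) : Emb MH.m (gMH z x s a b t a2 b2 c) := by
  refine PM.emb_of_ker MH_ok MH_subs (MH_hom h) (v := 20) (K := (.ex 2 21 (.and (.ex 1 22 (.or (.eq [21,22] [22,21,6]) (.or (.eq [21,22] [22,21,7]) (.or (.eq
      [21,22] [22,21,9]) (.eq [21,22] [22,21,10]))))) (.or (.ex 2 22 (.eq [20,22] [22,20,21])) (.ex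
      1 22 (.eq [20,22] [22,20,21])))))) rfl (by decide +kernel) ?_
  simp only [Fm.sem, wv_cons, wv_nil, one_mul, mul_one, upd_apply, Nat.reduceEqDiff, ↓reduceIte, gMH_1, gMH_2, gMH_3, gMH_4, gMH_5, gMH_6, gMH_7, gMH_8, gMH_9, gMH_10, gMH_11, gMH_s0, gMH_s1, gMH_s2, gMH_s3, gMH_s4, exists_eq_right']
  rintro ⟨r, -, ⟨d, -, e⟩, e'⟩
  obtain rfl : r = 1 := by rcases e' with ⟨_, -, e'⟩ | ⟨_, -, e'⟩ <;> simpa using e'
  simp [h1, h2, h3, h4] at e

theorem EH.h1 (h : Emb MH.m (gMH z x s a b t a2 b2 c)) :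
    ∀ k ∈ gen [z, z⁻¹, x, x⁻¹, s, a, b, t, a2, b2, c], k * a = a * k → k * b = b * k → k * k = 1 → k * z
    * k * z⁻¹ * z⁻¹ * k * z = 1 → (k = 1 ∨ ((∃ n ∈ gen [z, z⁻¹, x, x⁻¹, s, a, b, t, a2, b2, c], n *
    c = b * k * n) ∧ (∃ n ∈ gen [z, z⁻¹, x, x⁻¹, s, a, b, t, a2, b2, c], n * c = a * b * k * n))) := by
  have := PM.holds MH_ok MH_subs h (p := (.all 0 20 (.imp (.eq [6,20] [20,6]) (.imp (.eq [7,20] [20,7]) (.imp (.eq [20,20] []) (.imp (.eq
      [1,20,2,2,20,1,20] []) (.or (.eq [20] []) (.and (.ex 0 21 (.eq [11,21] [21,20,7])) (.ex 0 21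
      (.eq [11,21] [21,20,7,6])))))))))) (by decide +kernel)
  simp only [Fm.sem, wv_cons, wv_nil, one_mul, upd_apply, Nat.reduceEqDiff, ↓reduceIte, gMH_1, gMH_2, gMH_3, gMH_4, gMH_5, gMH_6, gMH_7, gMH_8, gMH_9, gMH_10, gMH_11, gMH_s0, gMH_s1, gMH_s2, gMH_s3, gMH_s4, exists_eq_right'] at this
  exact this

theorem EH.h2 (h : Emb MH.m (gMH z x s a b t a2 b2 c)) :
    ∀ k ∈ gen [b, a * b, b2, a2 * b2], k = 1 ∨ (k = a ∨ k = b ∨ k = a * b ∨ k = a2 ∨ k = b2 ∨ k = a2 *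
    b2) ∨ (∃ n ∈ gen [z, x], n * c = k * n) := by
  have := PM.holds MH_ok MH_subs h (p := (.all 2 20 (.or (.eq [20] []) (.or (.or (.eq [20] [6]) (.or (.eq [20] [7]) (.or (.eq [20] [7,6])
      (.or (.eq [20] [9]) (.or (.eq [20] [10]) (.eq [20] [10,9])))))) (.ex 1 21 (.eq [11,21]
      [21,20])))))) (by decide +kernel)
  simp only [Fm.sem, wv_cons, wv_nil, one_mul, upd_apply, Nat.reduceEqDiff, ↓reduceIte, gMH_1, gMH_2, gMH_3, gMH_4, gMH_5, gMH_6, gMH_7, gMH_8, gMH_9, gMH_10, gMH_11, gMH_s0, gMH_s1, gMH_s2, gMH_s3, gMH_s4, exists_eq_right'] at this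
  exact this

theorem EH.h3 (h : Emb MH.m (gMH z x s a b t a2 b2 c)) :
    ∀ v ∈ gen [b, a * b, b2, a2 * b2], (v = a ∨ v = b ∨ v = a * b ∨ v = a2 ∨ v = b2 ∨ v = a2 * b2) → ∀ w
    ∈ gen [b, a * b, b2, a2 * b2], (w = a ∨ w = b ∨ w = a * b ∨ w = a2 ∨ w = b2 ∨ w = a2 * b2) → (v
    * w = a ∨ v * w = b ∨ v * w = a * b ∨ v * w = a2 ∨ v * w = b2 ∨ v * w = a2 * b2) → (∃ n ∈ gen
    [z, z⁻¹, x, x⁻¹, s, a, b, t, a2, b2, c], n * a = v * n ∧ n * b = w * n) := by
  have := PM.holds MH_ok MH_subs h (p := (.all 2 20 (.imp (.or (.eq [20] [6]) (.or (.eq [20] [7]) (.or (.eq [20] [7,6]) (.or (.eq [20] [9])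
      (.or (.eq [20] [10]) (.eq [20] [10,9])))))) (.all 2 21 (.imp (.or (.eq [21] [6]) (.or (.eq
      [21] [7]) (.or (.eq [21] [7,6]) (.or (.eq [21] [9]) (.or (.eq [21] [10]) (.eq [21]
      [10,9])))))) (.imp (.or (.eq [21,20] [6]) (.or (.eq [21,20] [7]) (.or (.eq [21,20] [7,6]) (.or
      (.eq [21,20] [9]) (.or (.eq [21,20] [10]) (.eq [21,20] [10,9])))))) (.ex 0 22 (.and (.eq
      [6,22] [22,20]) (.eq [7,22] [22,21]))))))))) (by decide +kernel)
  simp only [Fm.sem, wv_cons, wv_nil, one_mul, upd_apply, Nat.reduceEqDiff, ↓reduceIte, gMH_1, gMH_2, gMH_3, gMH_4, gMH_5, gMH_6, gMH_7, gMH_8, gMH_9, gMH_10, gMH_11, gMH_s0, gMH_s1, gMH_s2, gMH_s3, gMH_s4, exists_eq_right'] at this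
  exact this

theorem EH.h4 (h : Emb MH.m (gMH z x s a b t a2 b2 c)) :
    ∀ n ∈ gen [z, z⁻¹, x, x⁻¹, s, a, b, t, a2, b2, c], n * c = c * n → n ∈ gen [a, b, s, t] := by
  have := PM.holds MH_ok MH_subs h (p := (.all 0 20 (.imp (.eq [11,20] [20,11]) (.ex 3 21 (.eq [20] [21]))))) (by decide +kernel)
  simp only [Fm.sem, wv_cons, wv_nil, one_mul, upd_apply, Nat.reduceEqDiff, ↓reduceIte, gMH_1, gMH_2, gMH_3, gMH_4, gMH_5, gMH_6, gMH_7, gMH_8, gMH_9, gMH_10, gMH_11, gMH_s0, gMH_s1, gMH_s2, gMH_s3, gMH_s4, exists_eq_right'] at this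
  exact this

theorem EH.h5 (h : Emb MH.m (gMH z x s a b t a2 b2 c)) :
    ∀ i ∈ gen [a, b, s, t], i ∈ gen [b, a * b, b2, a2 * b2] ∨ (∃ j ∈ gen [a, b, s, t], i * j = j * i ∧ ¬
    j * j = 1) := by
  have := PM.holds MH_ok MH_subs h (p := (.all 3 20 (.or (.ex 2 21 (.eq [20] [21])) (.ex 3 21 (.and (.eq [21,20] [20,21]) (.not (.eq [21,21]
      []))))))) (by decide +kernel)
  simp only [Fm.sem, wv_cons, wv_nil, one_mul, upd_apply, Nat.reduceEqDiff, ↓reduceIte, gMH_1, gMH_2, gMH_3, gMH_4, gMH_5, gMH_6, gMH_7, gMH_8, gMH_9, gMH_10, gMH_11, gMH_s0, gMH_s1, gMH_s2, gMH_s3, gMH_s4, exists_eq_right'] at this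
  exact this

theorem EH.h6 (h : Emb MH.m (gMH z x s a b t a2 b2 c)) :
    ∀ j ∈ gen [a, b, s, t], (j * b = b * j ∨ j * a * b = a * b * j ∨ j * b2 = b2 * j ∨ j * a2 * b2 = a2
    * b2 * j) → j * j = 1 := by
  have := PM.holds MH_ok MH_subs h (p := (.all 3 20 (.imp (.or (.eq [7,20] [20,7]) (.or (.eq [7,6,20] [20,7,6]) (.or (.eq [10,20] [20,10])
      (.eq [10,9,20] [20,10,9])))) (.eq [20,20] [])))) (by decide +kernel)
  simp only [Fm.sem, wv_cons, wv_nil, one_mul, upd_apply, Nat.reduceEqDiff, ↓reduceIte, gMH_1, gMH_2, gMH_3, gMH_4, gMH_5, gMH_6, gMH_7, gMH_8, gMH_9, gMH_10, gMH_11, gMH_s0, gMH_s1, gMH_s2, gMH_s3, gMH_s4, exists_eq_right'] at this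
  exact this

theorem EH.h7 (h : Emb MH.m (gMH z x s a b t a2 b2 c)) :
    ∀ i ∈ gen [a, b, s, t], i * i = 1 → ((∃ n ∈ gen [z, z⁻¹, x, x⁻¹, s, a, b, t, a2, b2, c], n * c = i *
    n ∨ n * t = i * n ∨ n * s * t = i * n ∨ n * c = i * c * n) ∨ (i = 1 ∨ i = a ∨ i = a * c) ∨ (∀ p
    ∈ gen [a, b, s, t], (p * i = i * p ∨ p * i = c * i * p) → p ∈ gen [a, s, t, b * b2])) := by
  have := PM.holds MH_ok MH_subs h (p := (.all 3 20 (.imp (.eq [20,20] []) (.or (.ex 0 21 (.or (.eq [11,21] [21,20]) (.or (.eq [8,21]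
      [21,20]) (.or (.eq [8,5,21] [21,20]) (.eq [11,21] [21,11,20]))))) (.or (.or (.eq [20] []) (.or
      (.eq [20] [6]) (.eq [20] [11,6]))) (.all 3 21 (.imp (.or (.eq [20,21] [21,20]) (.eq [20,21]
      [21,20,11])) (.ex 4 22 (.eq [21] [22]))))))))) (by decide +kernel)
  simp only [Fm.sem, wv_cons, wv_nil, one_mul, upd_apply, Nat.reduceEqDiff, ↓reduceIte, gMH_1, gMH_2, gMH_3, gMH_4, gMH_5, gMH_6, gMH_7, gMH_8, gMH_9, gMH_10, gMH_11, gMH_s0, gMH_s1, gMH_s2, gMH_s3, gMH_s4, exists_eq_right'] at this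
  exact this

theorem EH.h8 (h : Emb MH.m (gMH z x s a b t a2 b2 c)) :
    ∀ p ∈ gen [a, b, s, t], p * p * p * p = 1 ∧ p * c = c * p ∧ (p * a = a * p ∨ p * a = c * a * p) := by
  have := PM.holds MH_ok MH_subs h (p := (.all 3 20 (.and (.eq [20,20,20,20] []) (.and (.eq [11,20] [20,11]) (.or (.eq [6,20] [20,6]) (.eq
      [6,20] [20,6,11])))))) (by decide +kernel)
  simp only [Fm.sem, wv_cons, wv_nil, one_mul, upd_apply, Nat.reduceEqDiff, ↓reduceIte, gMH_1, gMH_2, gMH_3, gMH_4, gMH_5, gMH_6, gMH_7, gMH_8, gMH_9, gMH_10, gMH_11, gMH_s0, gMH_s1, gMH_s2, gMH_s3, gMH_s4, exists_eq_right'] at this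
  exact this

theorem EH.h9 (h : Emb MH.m (gMH z x s a b t a2 b2 c)) :
    s * b * s * b = a ∧ ¬ (b ∈ gen [a, s, t, b * b2]) ∧ c ∈ gen [a, s, t, b * b2] ∧ a ∈ gen [b, a * b,
    b2, a2 * b2] ∧ ¬ t = c ∧ c * c = 1 ∧ ¬ c = 1 ∧ a * c = a2 ∧ ¬ a = c ∧ b2 ∈ gen [a, b, s, t] ∧ c
    ∈ gen [a, b, s, t] ∧ b * c = c * b ∧ t * a = a2 * t := by
  have := PM.holds MH_ok MH_subs h (p := (.and (.eq [7,5,7,5] [6]) (.and (.not (.ex 4 20 (.eq [7] [20]))) (.and (.ex 4 20 (.eq [11] [20]))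
      (.and (.ex 2 20 (.eq [6] [20])) (.and (.not (.eq [8] [11])) (.and (.eq [11,11] []) (.and (.not
      (.eq [11] [])) (.and (.eq [11,6] [9]) (.and (.not (.eq [6] [11])) (.and (.ex 3 20 (.eq [10]
      [20])) (.and (.ex 3 20 (.eq [11] [20])) (.and (.eq [11,7] [7,11]) (.eq [6,8]
      [8,9])))))))))))))) (by decide +kernel)
  simp only [Fm.sem, wv_cons, wv_nil, one_mul, upd_apply, Nat.reduceEqDiff, ↓reduceIte, gMH_1, gMH_2, gMH_3, gMH_4, gMH_5, gMH_6, gMH_7, gMH_8, gMH_9, gMH_10, gMH_11, gMH_s0, gMH_s1, gMH_s2, gMH_s3, gMH_s4, exists_eq_right'] at this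
  exact this

theorem EH.q1 (h : Emb MH.m (gMH z x s a b t a2 b2 c)) :
    ∀ q ∈ gen [a, s, t, b * b2], q ∈ gen [a, b, s, t] ∧ (q * q = 1 ∨ q * q = c) := by
  have := PM.holds MH_ok MH_subs h (p := (.all 4 20 (.and (.ex 3 21 (.eq [20] [21])) (.or (.eq [20,20] []) (.eq [20,20] [11]))))) (by decide +kernel)
  simp only [Fm.sem, wv_cons, wv_nil, one_mul, upd_apply, Nat.reduceEqDiff, ↓reduceIte, gMH_1, gMH_2, gMH_3, gMH_4, gMH_5, gMH_6, gMH_7, gMH_8, gMH_9, gMH_10, gMH_11, gMH_s0, gMH_s1, gMH_s2, gMH_s3, gMH_s4, exists_eq_right'] at this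
  exact this

theorem EH.q2 (h : Emb MH.m (gMH z x s a b t a2 b2 c)) :
    ∀ p ∈ gen [a, b, s, t], a * p = p * a → s * p = p * s → t * p = p * t → b * b2 * p = p * b * b2 → (p
    = 1 ∨ p = c) := by
  have := PM.holds MH_ok MH_subs h (p := (.all 3 20 (.imp (.eq [20,6] [6,20]) (.imp (.eq [20,5] [5,20]) (.imp (.eq [20,8] [8,20]) (.imp (.eq
      [20,10,7] [10,7,20]) (.or (.eq [20] []) (.eq [20] [11])))))))) (by decide +kernel)
  simp only [Fm.sem, wv_cons, wv_nil, one_mul, upd_apply, Nat.reduceEqDiff, ↓reduceIte, gMH_1, gMH_2, gMH_3, gMH_4, gMH_5, gMH_6, gMH_7, gMH_8, gMH_9, gMH_10, gMH_11, gMH_s0, gMH_s1, gMH_s2, gMH_s3, gMH_s4, exists_eq_right'] at this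
  exact this

theorem EH.cardT (h : Emb MH.m (gMH z x s a b t a2 b2 c)) : Nat.card (gen [a, b, s, t]) = 64 := by
  rw [← gMH_s3 (z := z) (x := x) (a2 := a2) (b2 := b2) (c := c)]; exact PM.card_of_emb MH_ok MH_subs h 3

theorem EH.cardQ (h : Emb MH.m (gMH z x s a b t a2 b2 c)) : Nat.card (gen [a, s, t, b * b2]) = 32 := by
  rw [← gMH_s4 (z := z) (x := x) (a2 := a2) (b2 := b2) (c := c)]; exact PM.card_of_emb MH_ok MH_subs h 4

end Cfsg.Lib.L3
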