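import Cfsg.Agent.Recog.A8TModel

/-!
# Computations in the Sylow 2-subgroup of `A₈`
-/

set_option autoImplicit false
set_option synthInstance.maxSize 2000

namespace Cfsg.Lib.Recog.A8T

open Cfsg.Lib.Recog.U42

namespace Sy

/-- A factor of a product selected by a bit. -/
def pw (n k : ℕ) (a : Sy) : Sy := cond (n.testBit k) a 1

/-- A product selected by bits. -/
def comb (n : ℕ) (a b c d f : Sy) : Sy := pw n 0 a * pw n 1 b * pw n 2 c * pw n 3 d * pw n 4 f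

/-- The linear map of the base group with given images of the generators. -/
def lin (a b c d s : Sy) : Sy := comb s.i.1 a b c d 1

/-- The map of `Q` with given images of the generators. -/
def ext (a b c d s : Sy) : Sy := comb
  (0xc801c00cc005a60600093801203700023a0100177000b0102004680d801e8000502be003f40a8000 >>>
    (5 * s.i.1) % 32) a b c d z

/-- Generators of the first quaternion factor. -/
def i1 : Sy := ⟨25⟩
/-- Generators of the first quaternion factor. -/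
def j1 : Sy := ⟨35⟩
/-- Generators of the second quaternion factor. -/
def i2 : Sy := ⟨26⟩
/-- Generators of the second quaternion factor. -/
def j2 : Sy := ⟨38⟩

/-- The first quaternion factor. -/
def In1 (s : Sy) : Prop := s ∈ Q ∧ s * i2 = i2 * s ∧ s * j2 = j2 * s
/-- The second quaternion factor. -/
def In2 (s : Sy) : Prop := s ∈ Q ∧ s * i1 = i1 * s ∧ s * j1 = j1 * s

instance : DecidablePred In1 := fun _ => by unfold In1; infer_instance
instance : DecidablePred In2 := fun _ => by unfold In2; infer_instance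

/-- The elements of even weight of the base group. -/
def I : Subgroup Sy := A ⊓ Q

instance : DecidablePred (· ∈ I) := fun s => inferInstanceAs (Decidable (s ∈ A ∧ s ∈ Q))

/-- The automorphisms of `Q` of order three. -/
def M (i j : Fin 3) (s : Sy) : Sy := ⟨Fin.ofNat 64
  (0x821a298a3aab925b2d9a7baf7de5d675c5546da4d2658450c31e39cb3ebbd35f3ddb7fbf3ce1c634c1442ca0c2248040277a15623c0723fb176a7e062abd162eff146f380467b90531d35fca6ea2b75a7d4024833ce79cbaadbec799614d10404c2a3cee331e443b34ce735ce47b56c46a546e627e662236a8bb8ac9ae985f557d1611253ceaefe3041275fff7824040d885298991b1f895ad99b1f9a8b5f5b8a57dc9a161e9812570d78c9f38fbd2cf280d10933ce75faefff7e3082441204041151561971d49359769b79fc31d35e39f3dcb3db7ebbfbfbeeaea9e68e2b6ca689648603ce2ca1c60c234c24814404016453ced9bcb1205b4cdbaca31db7535fa7dca6402ea24831b81f09da8d85ec568fc8dc93cec7979c961baa4d1dbe0400d2f698ba7cd090d6d9b274c1b85ec1f05689dafc88d8dc92ab2ef6f367bd16f148049053cebaac794d179cdbe961040944f5563a2ae845d576b22ea70dd2c78cf289f30d18fb093e47c466e6662b56a5427e2363cee3075f824aef412ff7040ffef7cefae78df6d74cf2c70beeb6caeaa689e69648e28607de75c6da6585d65544d24503ce34c2ca2481c61440c2040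 >>>
    (6 * (64 * (3 * i.1 + j.1) + s.i.1)))⟩

/-- The elements of order three of `W` inducing `M`. -/
def YW (i j : Fin 3) : W := ⟨![0, 4, 9] i, ![0, 4, 9] j, false⟩

theorem lin_e : ∀ a ∈ A, lin (e 0) (e 1) (e 2) (e 3) a = a := by decide +kernel
theorem ext_g : ∀ q ∈ Q, ext i1 j1 i2 j2 q = q := by decide +kernel
theorem ext_1 : ∀ q, In1 q → ext i1 j1 i1 j1 q = q := by decide +kernel
theorem ext_2 : ∀ q, In2 q → ext i2 j2 i2 j2 q = q := by decide +kernel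
theorem ext_M : ∀ i j, ∀ q ∈ Q, ext (M i j i1) (M i j j1) (M i j i2) (M i j j2) q = M i j q := by
  decide +kernel
theorem M_mem : ∀ i j, ∀ q ∈ Q, M i j q ∈ Q := by decide +kernel
theorem M_add : ∀ q ∈ Q, ∀ i j k l, M i j (M k l q) = M (i + k) (j + l) q := by decide +kernel
theorem M_zero : ∀ q, M 0 0 q = q := by decide +kernel
theorem M_beta : ∀ q ∈ Q, ∀ i j, β * M i j (β * q * β) * β = M j i q := by decide +kernel
theorem M_out : ∀ s ∉ Q, s * β ∈ Q ∧ ∀ i j, M i j s = M i j (s * β) * β := by decide +kernel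
theorem M_inj : ∀ i j s, s * M i j i1 * s⁻¹ = i1 → s * M i j i2 * s⁻¹ = i2 → i = 0 ∧ j = 0 := by
  decide +kernel
theorem M_I : ∀ u ∉ A, u * u = 1 → u ∈ Q ∧ ∀ i, M i i u ∉ A := by decide +kernel
theorem M_E : ∀ m, ∀ u ∈ E m, u ∈ Q ∧ ∀ i, M i (i + i) u ∈ E m := by decide +kernel
theorem M_sigma : ∀ m, ∃ s, s * M 1 2 (t m) * s⁻¹ = x m := by decide +kernel
theorem M_rho : M 1 1 (t 0) = t 1 ∧ M 1 1 (t 1) = t 2 := by decide +kernel
theorem M_fpf : ∀ q ∈ Q, ∀ i ≠ 0, ∀ s ∈ Q, s * M i (i + i) q * s⁻¹ = q → InZ q := by decide +kernel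

theorem YW_rel : ∀ i j s, YW i j * ι s = ι (M i j s) * if s ∈ Q then YW i j else YW j i := by
  decide +kernel
theorem YW_mul : ∀ i j k l, YW i j * YW k l = YW (i + k) (j + l) := by decide +kernel
theorem YW_surj : ∀ w : W, ∃ i j, (w * YW (-i) (-j)).InT := by decide +kernel

theorem I_comm : ∀ b ∈ I, ∀ s, InZ (b * s * b⁻¹ * s⁻¹) ∧ InZ (s * b * s⁻¹ * b⁻¹) := by
  decide +kernel
theorem Q_comm : ∀ a ∈ Q, ∀ b ∈ Q, InZ (a * b * a⁻¹ * b⁻¹) := by decide +kernel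
theorem S_comm : ∀ a b, a * b * a⁻¹ * b⁻¹ ∈ I := by decide +kernel
theorem I_char : ∀ r, r * r = 1 → r ∈ I ∨ (∀ b ∉ Q, ¬ InZ (r * b * r⁻¹ * b⁻¹)) ∨
    ∀ b ∉ A, ¬ InZ (r * b * r⁻¹ * b⁻¹) := by decide +kernel
theorem Q_char : ∀ q ∈ Q, InZ (q * q) ∧ (q ∈ A ∨ ∃ i ∈ I, q * i ≠ i * q) := by decide +kernel
theorem Q_char' : ∀ q, InZ (q * q) → q ∈ Q ∨ ∀ i ∈ I, q * i = i * q := by decide +kernel
theorem A_gen : ∀ b ∈ A, b ∉ Q → ∀ a ∈ A, a ∈ Q ∨ a * b⁻¹ ∈ Q := by decide +kernel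
theorem I_cases : ∀ i ∈ I, InZ i ∨ ∃ n, i = t n ∨ i = t n * z := by decide +kernel
theorem x_comm : ∀ n, ∀ a ∈ A, InZ (x n * a * (x n)⁻¹ * a⁻¹) ∨ InZ (x n * a * (x n)⁻¹ * a⁻¹ * t n) := by
  decide +kernel
theorem cent_Q : ∀ s, s * i1 = i1 * s → s * j1 = j1 * s → s * i2 = i2 * s → s * j2 = j2 * s →
    InZ s := by decide +kernel
theorem inner : ∀ a, InZ a → ∀ b, InZ b → ∀ c, InZ c → ∀ d, InZ d → ∃ s ∈ Q,
    s * i1 * s⁻¹ = a * i1 ∧ s * j1 * s⁻¹ = b * j1 ∧ s * i2 * s⁻¹ = c * i2 ∧ s * j2 * s⁻¹ = d * j2 := by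
  decide +kernel
theorem four_cases : ∀ a ∈ Q, a * a = z → In1 a ∨ In1 (β * a * β⁻¹) := by decide +kernel
theorem four_cases' : ∀ a, In1 a → a * a = z → ∀ b ∈ Q, b * b = z → a * b ≠ b * a → In1 b ∧
    ∀ c ∈ Q, a * c = c * a → b * c = c * b → In2 c := by decide +kernel
theorem out_swap : ∀ s ∉ Q, ∀ q ∈ Q, q * q = z →
    s * q * s⁻¹ * q = q * (s * q * s⁻¹) ∧ ¬ InZ (s * q * s⁻¹ * q⁻¹) := by decide +kernel
theorem fac1 : ∀ a, In1 a → ∀ b, In1 b → a * b ≠ b * a → (∀ q, In1 q → In1 (ext a b a b q)) ∧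
    InZ ((ext a b a b)^[6] i1 * i1⁻¹) ∧ InZ ((ext a b a b)^[6] j1 * j1⁻¹) ∧
    ((ext a b a b)^[3] i1 * i1 = i1 * (ext a b a b)^[3] i1 → InZ ((ext a b a b)^[3] i1 * i1⁻¹)) ∧
    (InZ ((ext a b a b)^[3] i1 * i1⁻¹) → InZ ((ext a b a b)^[3] j1 * j1⁻¹) →
      ∃ s, In1 s ∧ ∃ i, ∀ j, s * M i j i1 * s⁻¹ = a ∧ s * M i j j1 * s⁻¹ = b) := by decide +kernel
theorem fac2 : ∀ a, In2 a → ∀ b, In2 b → a * b ≠ b * a → (∀ q, In2 q → In2 (ext a b a b q)) ∧
    InZ ((ext a b a b)^[6] i2 * i2⁻¹) ∧ InZ ((ext a b a b)^[6] j2 * j2⁻¹) ∧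
    (InZ ((ext a b a b)^[3] i2 * i2⁻¹) → InZ ((ext a b a b)^[3] j2 * j2⁻¹) →
      ∃ s, In2 s ∧ ∃ j, ∀ i, s * M i j i2 * s⁻¹ = a ∧ s * M i j j2 * s⁻¹ = b) := by decide +kernel
theorem fac_comm : ∀ a, In1 a → ∀ b, In2 b → a * b = b * a := by decide +kernel

/-- The product of an involution of the top group and a linear map. -/
def tw (m : Fin 3) (a b c d s : Sy) : Sy := x m * lin a b c d s * (x m)⁻¹

theorem no_A : ∀ u ∈ A, u ∉ Q → ∀ a, (InZ (a * e 0) ∨ InZ (a * e 0 * u)) →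
    ∀ b, (InZ (b * e 1) ∨ InZ (b * e 1 * u)) → ∀ c, (InZ (c * e 2) ∨ InZ (c * e 2 * u)) →
    ∀ d, (InZ (d * e 3) ∨ InZ (d * e 3 * u)) → lin a b c d z = z → lin a b c d u = u →
    (∀ s ∈ A, InZ (lin a b c d s * s⁻¹)) ∨ ∃ m, (∀ k, (tw m a b c d)^[4] (e k) = e k) ∧
      ∃ k, (tw m a b c d)^[2] (e k) ≠ e k := by decide +kernel

end Sy

end Cfsg.Lib.Recog.A8T
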