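import Cfsg.Agent.Recog.A8TFacts

/-!
# Further computations in the Sylow 2-subgroup of `A₈`
-/

set_option autoImplicit false
set_option synthInstance.maxSize 2000

namespace Cfsg.Lib.Recog.A8T

namespace Sy

/-- The order of a centralizer. -/
def cc (s : Sy) : ℕ := (Finset.univ.filter fun r => r * s = s * r).card

theorem card_cent (s : Sy) : Nat.card (Subgroup.centralizer {s}) = cc s := by
  rw [Nat.card_congr (Equiv.subtypeEquivRight fun r => Subgroup.mem_centralizer_singleton_iff),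
    Nat.card_eq_fintype_card, Fintype.card_subtype, cc]

/-- The class of an element of the base group. -/
def ty (s : Sy) : Fin 7 := Fin.ofNat 7 (0x3b2ce5d1d568 >>> (3 * s.i.1) % 8)

/-- Representatives of the classes of the base group. -/
def rep : Fin 7 → Sy := ![1, z, t 0, t 1, t 2, β, β * z]

theorem ty_rep : ∀ a ∈ A, ∃ r, r * a * r⁻¹ = rep (ty a) := by decide +kernel
theorem wc_card : ∀ u ∉ A, (Finset.univ.filter fun s => s * s = 1 ∧ s * u = u * s).card < 16 := by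
  decide +kernel
theorem root : ∀ u ∉ A, u * u = 1 → (∃ v, v * u = u * v ∧ v * v = z) ∧
    ∃ m r, r * u * r⁻¹ = x m ∧ ∀ n, u * t n = t n * u → m = n := by decide +kernel
theorem cc_t : ∀ u, InZ u ∨ ∀ m, cc u ≤ cc (t m) := by decide +kernel
theorem cc_x : ∀ u, u ∈ A ∨ ∀ m, cc u ≤ cc (x m) := by decide +kernel
theorem cz_t : ∀ n v, (∀ r, r * t n = t n * r → r * v = v * r) → InZ v ∨ v = t n ∨ v = t n * z := by
  decide +kernel
theorem cz_x : ∀ n v, (∀ r, r * x n = x n * r → r * v = v * r) → InZ v ∨ (v ∉ A ∧ v * v = 1) := by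
  decide +kernel
theorem idx_Q : ∀ a ∉ Q, ∀ b ∉ Q, a * b ∈ Q := by decide +kernel
theorem idx_t : ∀ a, a * t 1 ≠ t 1 * a → ∀ b, b * t 1 ≠ t 1 * b → a * b * t 1 = t 1 * (a * b) := by
  decide +kernel
theorem tz : ∀ m, ∃ r, r * t m * r⁻¹ = t m * z := by decide +kernel
theorem swap_z : ∀ u ∉ A, ∀ v ∈ A, u * v = v * u → InZ v ∨ ∃ s, s * v * s⁻¹ = v * z ∧ s * s = 1 := by
  decide +kernel

/-- Linear maps commuting with an involution of the top group. -/
def lf (m : Fin 3) (a c : Sy) : Sy → Sy :=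
  ![lin a (x 0 * a * (x 0)⁻¹) c (x 0 * c * (x 0)⁻¹), lin a c (x 1 * a * (x 1)⁻¹) (x 1 * c * (x 1)⁻¹),
    lin a c (x 2 * c * (x 2)⁻¹) (x 2 * a * (x 2)⁻¹)] m

/-- The conditions on the linear maps. -/
def Lam (m : Fin 3) (a c : Sy) : Prop :=
  lf m a c z = t m * z ∧ lf m a c (t m) = t m ∧ lf m a c a = e 0 ∧ lf m a c c = e (![2, 1, 1] m)

/-- Maps of order four. -/
def O4 (f : Sy → Sy) : Prop := (∀ k, f^[4] (e k) = e k) ∧ ¬ ∀ k, f^[2] (e k) = e k

instance (m : Fin 3) (a c : Sy) : Decidable (Lam m a c) := by unfold Lam; infer_instance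
instance (f : Sy → Sy) : Decidable (O4 f) := by unfold O4; infer_instance

theorem three_lam : ∀ a ∈ A, ∀ c ∈ A, Lam 0 a c → ∀ a' ∈ A, ∀ c' ∈ A, Lam 2 a' c' →
    O4 (lf 0 a c ∘ lf 2 a' c') ∨ O4 (lf 2 a' c' ∘ lf 0 a c ∘ fun s => x 0 * s * (x 0)⁻¹) ∨
    ∀ a'' ∈ A, ∀ c'' ∈ A, Lam 1 a'' c'' → O4 (lf 2 a' c' ∘ lf 0 a c ∘ lf 1 a'' c'') ∨
      O4 (lf 2 a' c' ∘ lf 0 a c ∘ lf 1 a'' c'' ∘ fun s => x 1 * s * (x 1)⁻¹) := by decide +kernel

/-- The class lies in the set coded by `P`. -/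
def Ty (P : ℕ) (s : Sy) : Prop := P.testBit (ty s).1 = true

instance (P : ℕ) (s : Sy) : Decidable (Ty P s) := by unfold Ty; infer_instance

/-- The linear map is injective and preserves the set of classes. -/
def Pres (P : ℕ) (a b c d : Sy) : Prop :=
  ∀ s ∈ A, (lin a b c d s = 1 → s = 1) ∧ (Ty P s ↔ Ty P (lin a b c d s))

instance (P : ℕ) (a b c d : Sy) : Decidable (Pres P a b c d) := by
  unfold Pres; infer_instance

theorem eq_of_lin {a b c d u : Sy} (ha : a ∈ A) (hb : b ∈ A) (hc : c ∈ A)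
    (h : lin a b c d z = u) : d = a * b * c * u := by
  rw [← h]
  change d = a * b * c * (a * b * c * d * 1)
  rw [mul_one, ← mul_assoc, A_sq _ (mul_mem (mul_mem ha hb) hc), one_mul]

theorem kap1 : ∀ a ∈ A, Ty 98 a → ∀ b ∈ A, Ty 98 b → ∀ c ∈ A, Ty 98 c →
    ¬ Pres 98 a b c (a * b * c * β) := by decide +kernel

theorem kap2 : ∀ a ∈ A, Ty 34 a → ∀ b ∈ A, Ty 34 b → ∀ c ∈ A, Ty 34 c →
    Pres 34 a b c (a * b * c * β) →
    ∀ m, ∃ s ∈ A, ty s = 6 ∧ ty (lin a b c (a * b * c * β) s) = ty (t m) := by decide +kernel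

theorem kap3 : ∀ a ∈ A, Ty 4 a → ¬ Ty 4 (a * t 1) := by decide +kernel

theorem kap4 : ∀ a ∈ A, Ty 100 a → ∀ b ∈ A, Ty 100 b → ∀ c ∈ A, Ty 100 c →
    ¬ Pres 100 a b c (a * b * c * t 1) := by decide +kernel

theorem kap5 : ∀ a ∈ A, Ty 36 (β * a) → Ty 36 (t 0 * a) → Ty 36 (β * t 0 * a) → a = 1 := by
  decide +kernel

theorem iso1 : ∀ d ∈ A, Ty 34 d → Ty 34 (d * t 0) → d = β ∨ d = β * t 0 := by decide +kernel

theorem iso2 : ∀ d ∈ A, Ty 36 d → Ty 36 (d * t 0) → d = β ∨ d = β * t 0 := by decide +kernel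

end Sy

end Cfsg.Lib.Recog.A8T
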