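import Cfsg.Agent.Recog.A8TK
import Cfsg.Agent.Recog.A8TFacts2
import Cfsg.Agent.Block.ZStarElt
import Cfsg.Agent.Local.InvCent
import Cfsg.Agent.Local.StronglyEmbTwo

/-!
# Fusion of involutions in groups with Sylow 2-subgroups of type `A₈`
-/

set_option autoImplicit false

namespace Cfsg.Lib.Recog.A8T

open Subgroup Sy Cfsg.Lib.Trans Cfsg.Lib.Local Cfsg.Lib.Sig2

variable {G : Type*} [Group G]

theorem t_facts : ∀ m, t m ∈ A ∧ t m * t m = 1 ∧ t m ≠ 1 ∧ t m ∈ E m ∧ t m ∈ Q ∧ x m ∉ A ∧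
    x m * x m = 1 ∧ x m ≠ 1 := by decide +kernel

namespace PD

variable (D : PD G)

/-- Conjugacy in the ambient group. -/
abbrev Cj (a b : Sy) : Prop := IsConj (D.ψ a) (D.ψ b)

/-- The normalizer of the base group. -/
abbrev N : Subgroup G := normalizer (A.map D.ψ : Set G)

theorem cjS {r a b : Sy} (h : r * a * r⁻¹ = b) : D.Cj a b :=
  isConj_iff.2 ⟨D.ψ r, by rw [← h, map_mul, map_mul, map_inv]⟩

theorem cj_tz (m : Fin 3) : D.Cj (t m) (t m * z) := D.cjS (tz m).choose_spec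

theorem cj_rep {a : Sy} (h : a ∈ A) : D.Cj a (rep (ty a)) := D.cjS (ty_rep a h).choose_spec

variable {D} in
theorem Cj.sq {a b : Sy} (h : D.Cj a b) (ha : a * a = 1) : b * b = 1 := by
  obtain ⟨g, hg⟩ := isConj_iff.1 h
  exact D.inj (by rw [map_mul, ← hg, conj_mul, D.sq ha]; simp)

variable {D} in
theorem Cj.ne_one {a b : Sy} (h : D.Cj a b) (ha : a ≠ 1) : b ≠ 1 := by
  rintro rfl
  exact D.ne_one ha (by simpa using h)

theorem ψ_mem_N (s : Sy) : D.ψ s ∈ D.N := mem_normalizer_iff.2 fun g => by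
  constructor
  · rintro ⟨a, ha, rfl⟩
    simpa using mem_map_of_mem D.ψ (A_conj a ha s)
  · rintro ⟨a, ha, e⟩
    exact ⟨_, A_conj a ha s⁻¹, by simp [e, mul_assoc]⟩

theorem exA {n : G} (hn : n ∈ D.N) {a : Sy} (ha : a ∈ A) : ∃ b ∈ A, n * D.ψ a * n⁻¹ = D.ψ b := by
  obtain ⟨b, hb, e⟩ := cn hn (mem_map_of_mem _ ha)
  exact ⟨b, hb, e.symm⟩

theorem ty_iff {P : ℕ} {u : Sy} (hP : ∀ i, P.testBit i.1 = true ↔ D.Cj u (rep i)) {s : Sy}
    (hs : s ∈ A) : Ty P s ↔ D.Cj u s :=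
  (hP _).trans ⟨fun h => h.trans (D.cj_rep hs).symm, fun h => h.trans (D.cj_rep hs)⟩

theorem kap {P : ℕ} {u : Sy} (hP : ∀ i, P.testBit i.1 = true ↔ D.Cj u (rep i)) {n : G}
    (hn : n ∈ D.N) {v : Sy} (hz : n * D.ψ z * n⁻¹ = D.ψ v) : ∃ a ∈ A, ∃ b ∈ A, ∃ c ∈ A,
      Pres P a b c (a * b * c * v) ∧ ((∀ j, Ty P (e j)) → Ty P a ∧ Ty P b ∧ Ty P c) ∧
      ∀ s ∈ A, n * D.ψ s * n⁻¹ = D.ψ (lin a b c (a * b * c * v) s) := by
  obtain ⟨a, ha, h0⟩ := D.exA hn (a := e 0) (by decide)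
  obtain ⟨b, hb, h1⟩ := D.exA hn (a := e 1) (by decide)
  obtain ⟨c, hc, h2⟩ := D.exA hn (a := e 2) (by decide)
  obtain ⟨d, -, h3⟩ := D.exA hn (a := e 3) (by decide)
  have k := fun s => D.conj_lin h0 h1 h2 h3 (s := s)
  obtain rfl := eq_of_lin ha hb hc (D.inj ((k z (by decide)).symm.trans hz))
  have key : ∀ s ∈ A, ∀ r, n * D.ψ s * n⁻¹ = D.ψ r → (Ty P s ↔ Ty P r) := fun s hs r e => by
    obtain ⟨r', hr, e'⟩ := D.exA hn hs
    have h := isConj_iff.2 ⟨n, e⟩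
    rw [D.ty_iff hP hs, D.ty_iff hP (D.inj (e'.symm.trans e) ▸ hr)]
    exact ⟨fun h' => h'.trans h, fun h' => h'.trans h.symm⟩
  refine ⟨a, ha, b, hb, c, hc, fun s hs => ⟨fun e => D.inj ?_, key s hs _ (k s hs)⟩, fun h =>
    ⟨(key _ (by decide) _ h0).1 (h 0), (key _ (by decide) _ h1).1 (h 1),
      (key _ (by decide) _ h2).1 (h 2)⟩, k⟩
  simpa [e] using k s hs

/-- No involution outside the base group is conjugate into it. -/
def Nσ : Prop := ∀ u ∉ A, u * u = 1 → ∀ a ∈ A, ¬ D.Cj u a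

/-- The subgroups `E m` are normal in the centralizer modulo its core. -/
def Nρ : Prop := ∀ h ∈ D.H, ∀ m, ∀ u ∈ E m, ∃ v ∈ E m, (h * D.ψ u * h⁻¹)⁻¹ * D.ψ v ∈ th (D.ψ z)

theorem Nρ.mem [Finite G] {D : PD G} (h : D.Nρ) {k : G} (hk : k ∈ D.H) {m : Fin 3} {u v : Sy}
    (hu : u ∈ E m) (e : k * D.ψ u * k⁻¹ = D.ψ v) : v ∈ E m := by
  obtain ⟨w, hw, h1⟩ := h k hk m u hu
  rw [e, ← map_inv, ← map_mul] at h1
  have h2 := Bender.eq_one_of_mem_of_odd (odd_th _) h1 (Bender.eq_one_of_mem_of_odd (odd_th _)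
    (mul_mem h1 h1) (by rw [← map_mul, ← map_mul, ← mul_assoc, four, map_one]))
  rwa [inv_mul_eq_one.1 (D.inj (h2.trans (map_one _).symm))]

/-- Twisting by an automorphism of the model. -/
def comp (τ : Sy →* Sy) (h : Function.Injective τ) : PD G := ⟨D.ψ.comp τ, D.inj.comp h⟩

theorem comp_range (τ : Sy →* Sy) (h : Function.Injective τ) : (D.comp τ h).ψ.range = D.ψ.range := by
  change (D.ψ.comp τ).range = _
  rw [MonoidHom.range_comp, MonoidHom.range_eq_top.2 (Finite.injective_iff_surjective.1 h),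
    ← MonoidHom.range_eq_map]

end PD

namespace KD

variable [Finite G] (K : KD G)

theorem nσ (h : ∀ k i j, K.Ac k i j → j = i) {k : G} (hk : k ∈ K.H) {u : Sy} (hu : u ∉ A)
    (h2 : u * u = 1) {a : Sy} (ha : a ∈ A) : k * K.ψ u * k⁻¹ ≠ K.ψ a := fun e => by
  obtain ⟨s, l, i, j, hl, rfl⟩ := K.exists_ac hk
  obtain rfl := h _ _ _ hl
  obtain ⟨h3, h4⟩ := M_I u hu h2
  refine h4 j (K.inj (show K.ψ (s⁻¹ * a * s⁻¹⁻¹) = _ by
    rw [← hl.2 u h3, inv_inv, map_mul, map_mul, map_inv, ← e]; group) ▸ A_conj a ha s⁻¹)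

theorem nρ (h : ∀ k i j, K.Ac k i j → j = i + i) {k : G} (hk : k ∈ K.H) {m : Fin 3} {u : Sy}
    (hu : u ∈ E m) : ∃ v ∈ E m, k * K.ψ u * k⁻¹ = K.ψ v := by
  obtain ⟨s, l, i, j, hl, rfl⟩ := K.exists_ac hk
  obtain rfl := h _ _ _ hl
  obtain ⟨h3, h4⟩ := M_E m u hu
  exact ⟨_, E_conj m _ (h4 i) s, by rw [map_mul, map_mul, map_inv, ← hl.2 u h3]; group⟩

omit [Finite G] in
theorem hσ (h : ∃ k, K.Ac k 1 2) (m : Fin 3) : K.Cj (t m) (x m) := by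
  obtain ⟨k, h⟩ := h
  exact (isConj_iff.2 ⟨k, h.2 _ (by revert m; decide)⟩).trans (K.cjS (M_sigma m).choose_spec)

omit [Finite G] in
theorem hρ (h : ∃ k, K.Ac k 1 1) : K.Cj (t 0) (t 1) ∧ K.Cj (t 1) (t 2) := by
  obtain ⟨k, h⟩ := h
  exact ⟨isConj_iff.2 ⟨k, M_rho.1 ▸ h.2 _ (by decide)⟩, isConj_iff.2 ⟨k, M_rho.2 ▸ h.2 _ (by decide)⟩⟩

end KD

variable (G) in
/-- A Sylow 2-subgroup of type `A₈`. -/
structure SD extends PD G where
  syl : IsSylowIn 2 ψ.range ⊤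

namespace SD

variable (D : SD G)

/-- Twisting by an automorphism of the model. -/
def comp (τ : Sy →* Sy) (h : Function.Injective τ) : SD G :=
  ⟨D.toPD.comp τ h, (D.comp_range τ h).symm ▸ D.syl⟩

theorem sylH : IsSylowIn 2 D.ψ.range D.H :=
  D.syl.mono (by rintro _ ⟨s, rfl⟩; exact D.ψ_mem s) le_top

theorem sylN : IsSylowIn 2 D.ψ.range D.N :=
  D.syl.mono (by rintro _ ⟨s, rfl⟩; exact D.ψ_mem_N s) le_top

variable [Finite G]

theorem wc {k : G} (hk : cj k (A.map D.ψ) ≤ D.ψ.range) : k ∈ D.N := by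
  refine mem_normalizer_of_cj_le fun g hg => ?_
  obtain ⟨u, rfl⟩ := hk hg
  by_contra hu
  have hE : El (cj k (A.map D.ψ)) := El.cj (by rintro _ ⟨a, ha, rfl⟩; exact D.sq (A_sq a ha)) k
  have h1 := wc_card u fun h => hu (mem_map_of_mem _ h)
  rw [← Fintype.card_subtype, ← Nat.card_eq_fintype_card] at h1
  have h2 : ∀ g : cj k (A.map D.ψ), ∃ s : {s : Sy // s * s = 1 ∧ s * u = u * s}, D.ψ s = g :=
    fun ⟨g, h⟩ => by
      obtain ⟨s, rfl⟩ := hk h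
      exact ⟨⟨s, D.inj (by simpa using hE _ h), D.comm_iff.1 (hE.comm h hg)⟩, rfl⟩
  choose f hf using h2
  have h3 := Nat.card_le_card_of_injective f fun a b e => Subtype.ext (by rw [← hf, ← hf, e])
  rw [card_cj, card_map_of_injective D.inj, card_A] at h3
  omega

theorem toS {Y : Set G} (hY : Y ⊆ A.map D.ψ) {P : Subgroup G} (hP : IsPGroup 2 P)
    (h : P ≤ centralizer Y) : ∃ c ∈ centralizer Y, ∃ k ∈ D.N, cj (k * c) P ≤ D.ψ.range := by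
  obtain ⟨T, hT, h1⟩ := exists_isSylowIn_ge (H := centralizer Y) (D.isPGroup A) (by
    rintro _ ⟨a, ha, rfl⟩
    refine mem_centralizer_iff.2 fun y hy => ?_
    obtain ⟨b, hb, rfl⟩ := hY hy
    exact D.comm_iff.2 (A_comm b hb a ha))
  obtain ⟨c, hc, h2⟩ := hT.exists_cj_le hP h
  obtain ⟨k, -, h3⟩ := D.syl.exists_cj_le hT.isPGroup le_top
  exact ⟨c, hc, k, D.wc ((cj_mono k h1).trans h3), by rw [cj_mul]; exact (cj_mono k h2).trans h3⟩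

theorem fus {a b : Sy} (ha : a ∈ A) (hb : b ∈ A) (h : D.Cj a b) :
    ∃ n ∈ D.N, n * D.ψ a * n⁻¹ = D.ψ b := by
  obtain ⟨g, hg⟩ := isConj_iff.1 h
  obtain ⟨c, hc, k, hk, h1⟩ := D.toS (Y := {D.ψ b}) (by simpa using mem_map_of_mem _ hb)
    (isPGroup_cj (D.isPGroup A) g) (cj_le_iff.2 (by
      rintro _ ⟨u, hu, rfl⟩
      rw [mem_centralizer_singleton_iff, ← hg, conj_mul, conj_mul, D.comm_iff.2 (A_comm u hu a ha)]))
  rw [← cj_mul] at h1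
  refine ⟨k⁻¹ * (k * c * g), mul_mem (inv_mem hk) (D.wc h1), ?_⟩
  rw [← mul_inv_cancel_right (D.ψ b) c, ← mem_centralizer_singleton_iff.1 hc, ← hg]
  group

theorem exists_H {u a : Sy} (hu : u ∉ A) (h2 : u * u = 1) (ha : a ∈ A) (h : D.Cj u a) :
    ∃ k ∈ D.H, ∃ b ∈ A, k * D.ψ u * k⁻¹ = D.ψ b := by
  obtain ⟨g, hg⟩ := isConj_iff.1 h
  obtain ⟨⟨v, v1, v2⟩, -⟩ := root u hu h2
  obtain ⟨c, hc, k, hk, h1⟩ := D.toS (Y := {D.ψ a}) (by simpa using mem_map_of_mem _ ha)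
    (P := zpowers (g * D.ψ v * g⁻¹)) (isPGroup_zpowers_of_pow (k := 2) (by
      rw [conj_pow, ← map_pow]; simp [pow_succ, four])) (by
      rw [zpowers_le, mem_centralizer_singleton_iff, ← hg, conj_mul, conj_mul, D.comm_iff.2 v1])
  obtain ⟨w, hw⟩ := cj_le_iff.1 h1 _ (mem_zpowers _)
  have e : k * c * g * D.ψ z * (k * c * g)⁻¹ = D.ψ (w * w) := by
    rw [map_mul, hw, ← v2, map_mul]; group
  obtain ⟨n, hn, e'⟩ := D.fus (by decide) (sq_mem_A w) (isConj_iff.2 ⟨_, e⟩)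
  obtain ⟨b, hb, eb⟩ := D.exA (mul_mem (inv_mem hn) hk) ha
  refine ⟨n⁻¹ * (k * c * g), D.mem_H.2 (mul_inv_eq_iff_eq_mul.1 ?_), b, hb, ?_⟩
  · calc _ = n⁻¹ * (k * c * g * D.ψ z * (k * c * g)⁻¹) * n := by group
      _ = _ := by rw [e, ← e']; group
  · rw [← eb, ← mul_inv_cancel_right (D.ψ a) c, ← mem_centralizer_singleton_iff.1 hc, ← hg]
    group

theorem syl_of {u : Sy} (h : ∀ v, D.Cj u v → cc v ≤ cc u) :
    IsSylowIn 2 ((centralizer {u}).map D.ψ) (centralizer {D.ψ u}) := by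
  refine isSylowIn_of_maximal (by
    rintro _ ⟨s, hs, rfl⟩
    exact mem_centralizer_singleton_iff.2 (D.comm_iff.2 (mem_centralizer_singleton_iff.1 hs)))
    (D.isPGroup _) fun T hT h1 h2 => (eq_of_le_of_card_ge h1 ?_).ge
  obtain ⟨k, -, h3⟩ := D.syl.exists_cj_le hT le_top
  obtain ⟨v, hv⟩ := cj_le_iff.1 h3 _ (h1 (mem_map_of_mem _ (mem_centralizer_singleton_iff.2 rfl)))
  rw [card_map_of_injective D.inj, card_cent, ← card_cj k]
  refine le_trans ?_ (h v (isConj_iff.2 ⟨k, hv.symm⟩))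
  rw [← card_cent, ← card_map_of_injective D.inj]
  refine Trans.card_le_of_le (cj_le_iff.2 fun g hg => ?_)
  obtain ⟨r, hr⟩ := cj_le_iff.1 h3 g hg
  refine hr ▸ mem_map_of_mem _ (mem_centralizer_singleton_iff.2 (D.comm_iff.1 ?_))
  rw [hr, hv, conj_mul, conj_mul, mem_centralizer_singleton_iff.1 (h2 hg)]

theorem conj_H {u v : Sy} (hu : IsSylowIn 2 ((centralizer {u}).map D.ψ) (centralizer {D.ψ u}))
    (hv : IsSylowIn 2 ((centralizer {v}).map D.ψ) (centralizer {D.ψ v})) (h : D.Cj u v)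
    (hz : ∀ w, (∀ r, r * v = v * r → r * w = w * r) → D.Cj z w → w = z) :
    ∃ k ∈ D.H, k * D.ψ u * k⁻¹ = D.ψ v := by
  obtain ⟨g, hg⟩ := isConj_iff.1 h
  obtain ⟨c, hc, e⟩ := hv.exists_cj_eq (hg ▸ cj_centralizer_sing g _ ▸ hu.cj g)
  rw [← cj_mul] at e
  obtain ⟨w, -, hw⟩ := e ▸ conj_mem_cj.2
    (mem_map_of_mem D.ψ (mem_centralizer_singleton_iff.2 (z_comm u).symm))
  refine ⟨c * g, D.mem_H.2 (mul_inv_eq_iff_eq_mul.1 (hw.symm.trans (congrArg _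
    (hz w (fun r hr => D.comm_iff.1 ?_) (isConj_iff.2 ⟨_, hw.symm⟩))))), ?_⟩
  · obtain ⟨_, ⟨s, -, rfl⟩, hs⟩ := e.symm ▸ mem_map_of_mem D.ψ (mem_centralizer_singleton_iff.2 hr)
    rw [hw, ← hs]
    change c * g * _ * _ * _ = _ * (c * g * _ * _)
    rw [conj_mul, conj_mul, D.comm_iff.2 (z_comm s)]
  · rw [← mul_inv_cancel_right (D.ψ v) c, ← mem_centralizer_singleton_iff.1 hc, ← hg]
    group

theorem syl_t {m : Fin 3} (h : ¬ D.Cj z (t m)) :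
    IsSylowIn 2 ((centralizer {t m}).map D.ψ) (centralizer {D.ψ (t m)}) :=
  D.syl_of fun v hv => by
    rcases cc_t v with (rfl | rfl) | h1
    exacts [absurd rfl (hv.ne_one (t_facts m).2.2.1), absurd hv.symm h, h1 m]

theorem syl_x (h : D.Nσ) (m : Fin 3) :
    IsSylowIn 2 ((centralizer {x m}).map D.ψ) (centralizer {D.ψ (x m)}) :=
  D.syl_of fun v hv => (cc_x v).elim
    (fun h1 => absurd hv (h _ (t_facts m).2.2.2.2.2.1 (t_facts m).2.2.2.2.2.2.1 v h1)) (· m)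

theorem not_cj_t (h : D.Nρ) {m n : Fin 3} (h1 : ¬ D.Cj z (t m)) (h2 : D.Cj (t m) (t n)) : m = n := by
  have h3 : ¬ D.Cj z (t n) := fun e => h1 (e.trans h2.symm)
  obtain ⟨k, hk, e⟩ := D.conj_H (D.syl_t h1) (D.syl_t h3) h2 fun w hw hz => by
    rcases cz_t n w hw with (rfl | rfl) | rfl | rfl
    exacts [absurd rfl (hz.ne_one (by decide)), rfl, absurd hz h3,
      absurd (hz.trans (D.cj_tz n).symm) h3]
  exact (by decide : ∀ m n, t n ∈ E m → m = n) m n (h.mem hk (t_facts m).2.2.2.1 e)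

theorem thom (hG : ∀ H : Subgroup G, H.index ≠ 2) {K : Subgroup Sy}
    (h : ∀ a ∉ K, ∀ b ∉ K, a * b ∈ K) {u : Sy} (h1 : u * u = 1) (h2 : u ≠ 1) : ∃ v ∈ K, D.Cj u v := by
  obtain ⟨P, hP⟩ := D.syl.exists_sylow_eq
  obtain ⟨_, h3, -, v, hv, rfl⟩ := thompson_idx' hG P (M := K.map D.ψ) (by
    rw [hP]
    rintro _ ⟨a, rfl⟩ _ ⟨b, rfl⟩ ha hb
    exact map_mul D.ψ a b ▸ mem_map_of_mem _
      (h a (fun e => ha (mem_map_of_mem _ e)) b fun e => hb (mem_map_of_mem _ e))) (D.ord h1 h2)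
  exact ⟨v, hv, h3⟩

theorem not_Nρ (hG : ∀ H : Subgroup G, H.index ≠ 2) (h : D.Nσ) : ¬ D.Nρ := fun h' => by
  obtain ⟨v, hv, h1⟩ := D.thom hG (K := centralizer {t 1}) (fun a ha b hb =>
    mem_centralizer_singleton_iff.2 (idx_t a (fun e => ha (mem_centralizer_singleton_iff.2 e)) b
      fun e => hb (mem_centralizer_singleton_iff.2 e))) (u := x 0) (by decide) (by decide)
  obtain ⟨-, m, r, h2, h3⟩ := root v (fun e => h _ (by decide) (by decide) v e h1)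
    (h1.sq (by decide))
  obtain rfl := h3 1 (mem_centralizer_singleton_iff.1 hv)
  obtain ⟨k, hk, e⟩ := D.conj_H (D.syl_x h 0) (D.syl_x h 1) (h1.trans (D.cjS h2)) fun w hw hz => by
    rcases cz_x 1 w hw with (rfl | rfl) | h4
    exacts [absurd rfl (hz.ne_one (by decide)), rfl, absurd hz.symm (h w h4.1 h4.2 z (by decide))]
  exact absurd (h'.mem hk (m := 0) (by decide) e) (by decide)

theorem exists_cj_z (h1 : pCore 2 G = ⊥) (h2 : oddCore G = ⊥) : ∃ s ≠ z, D.Cj z s := by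
  by_contra hn
  push Not at hn
  obtain ⟨P, hP⟩ := D.syl.exists_sylow_eq
  have h3 := Block.Princ.zstar_center (Block.Princ.isolated_of_sylow P (D.ord z_sq (by decide))
    (hP ▸ ⟨z, rfl⟩) fun g hg => by
      obtain ⟨s, hs⟩ := hP ▸ hg
      by_contra hne
      exact hn s (fun e => hne (by rw [← hs, e])) (isConj_iff.2 ⟨g, hs.symm⟩)) h2
  have h4 := Solv.le_pCore (p := 2) (N := zpowers (D.ψ z)) ⟨fun n hn g => by
    rwa [D.conj_Z (D.mem_H.2 (mem_center_iff.1 h3 g)) hn]⟩ (El.zpowers (D.sq z_sq)).isPGroup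
  exact D.ne_one (by decide) (mem_bot.1 (h1 ▸ h4 (mem_zpowers _)))

theorem no4 {g : G} (hg : g ∈ D.N) {f : Sy → Sy} (h : ∀ s ∈ A, g * D.ψ s * g⁻¹ = D.ψ (f s)) :
    ¬ O4 f := fun ⟨h1, h2⟩ => h2 fun j => by
  have k := D.conj_iter (U := (· ∈ A)) (fun q hq => by
    obtain ⟨c, hc, e⟩ := D.exA hg hq
    exact D.inj (e.symm.trans (h q hq)) ▸ hc) h
  have hj : e j ∈ A := by clear * -; revert j; decide
  refine D.inj ?_
  rw [← k 2 _ hj]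
  exact D.sq_comm D.sylN le_rfl hg (mem_map_of_mem _ hj) (by rw [k 4 _ hj, h1])

theorem exists_lam {m : Fin 3} (h : D.Cj z (t m)) : ∃ y ∈ D.N, ∃ a ∈ A, ∃ c ∈ A, Lam m a c ∧
    ∀ s ∈ A, y * D.ψ s * y⁻¹ = D.ψ (lf m a c s) := by
  have hm : t m ∈ A ∧ x m ∉ A ∧ x m * t m = t m * x m ∧ x m * x m = 1 ∧ z ≠ t m := by
    clear h; revert m; decide
  obtain ⟨n0, h0, e0⟩ := D.fus (by decide) hm.1 h
  obtain ⟨c, hc, h1⟩ := ((D.syl.cj n0).mono (K := D.N ⊓ centralizer {D.ψ (t m)}) (cj_le_iff.2 (by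
    rintro _ ⟨s, rfl⟩
    refine mem_inf.2 ⟨mul_mem (mul_mem h0 (D.ψ_mem_N s)) (inv_mem h0),
      mem_centralizer_singleton_iff.2 ?_⟩
    rw [← e0, conj_mul, conj_mul, D.comm_iff.2 (z_comm s)])) (by simp [cj_top])).exists_cj_le
    (El.zpowers (D.sq hm.2.2.2.1)).isPGroup (zpowers_le.2 ⟨D.ψ_mem_N _,
      mem_centralizer_singleton_iff.2 (D.comm_iff.2 hm.2.2.1)⟩)
  obtain ⟨u, hu⟩ := mem_cj.1 (cj_le_iff.1 h1 _ (mem_zpowers _))
  set n := c⁻¹ * n0 with hn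
  have nN : n ∈ D.N := mul_mem (inv_mem hc.1) h0
  have e1 : n * D.ψ z * n⁻¹ = D.ψ (t m) := by
    rw [← inv_mul_cancel_left c (D.ψ (t m)), mem_centralizer_singleton_iff.1 hc.2, ← e0, hn]; group
  have e2 : n * D.ψ u * n⁻¹ = D.ψ (x m) := by rw [hu, hn]; group
  obtain ⟨v, hv, e3⟩ := D.exA (inv_mem nN) (a := z) (by decide)
  replace e3 : n * D.ψ v * n⁻¹ = D.ψ z := by rw [← e3]; group
  obtain ⟨s, s1, s2⟩ := (swap_z u (fun h2 => by
    obtain ⟨b, hb, e⟩ := D.exA nN h2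
    exact hm.2.1 (D.inj (e.symm.trans e2) ▸ hb)) v hv (D.comm_iff.1 (by
      have := D.comm_iff.2 (z_comm (x m))
      rwa [← e2, ← e3, conj_mul, conj_mul, mul_left_inj, mul_right_inj] at this))).resolve_left (by
    rintro (rfl | rfl)
    · exact D.ne_one (a := z) (by decide) (by simpa using e3.symm)
    · exact hm.2.2.2.2 (D.inj (e3.symm.trans e1)))
  set y := n * D.ψ s * n⁻¹ with hy
  have yN : y ∈ D.N := mul_mem (mul_mem nN (D.ψ_mem_N s)) (inv_mem nN)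
  have hx : ∀ b ∈ A, ∀ b', y * D.ψ b * y⁻¹ = D.ψ b' →
      y * D.ψ (x m * b * (x m)⁻¹) * y⁻¹ = D.ψ (x m * b' * (x m)⁻¹) := fun b hb b' e => by
    obtain ⟨w, hw, ew⟩ := D.exA nN (S_comm s⁻¹ u⁻¹).1
    have h2 := D.comm_iff.2 (A_comm w hw b hb)
    rw [← ew] at h2
    simp only [map_mul, map_inv, ← e2, ← e, hy, inv_inv] at h2 ⊢
    calc _ = n * (D.ψ u * D.ψ s) * n⁻¹ * (n * ((D.ψ s)⁻¹ * (D.ψ u)⁻¹ * D.ψ s * D.ψ u) * n⁻¹ * D.ψ b) *
          (n * (D.ψ s * D.ψ u)⁻¹ * n⁻¹) := by group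
      _ = _ := by rw [h2]; group
  obtain ⟨a, ha, ea⟩ := D.exA yN (a := e 0) (by decide)
  obtain ⟨b, hb, eb⟩ := D.exA yN (a := e (![2, 1, 1] m)) (by clear * -; revert m; decide)
  have k1 := hx _ (by decide) _ ea
  have k2 := hx _ (by clear * -; revert m; decide) _ eb
  have k : ∀ s ∈ A, y * D.ψ s * y⁻¹ = D.ψ (lf m a b s) := fun s hs => by
    clear_value y
    fin_cases m
    exacts [D.conj_lin ea k1 eb k2 hs, D.conj_lin ea eb k1 k2 hs, D.conj_lin ea eb k2 k1 hs]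
  have y2 : ∀ g, y * (y * g * y⁻¹) * y⁻¹ = g := fun g => by
    have : y * y = 1 := by rw [hy, conj_mul, D.sq s2]; simp
    calc _ = y * y * g * (y * y)⁻¹ := by group
      _ = g := by simp [this]
  refine ⟨y, yN, a, ha, b, hb, ⟨D.inj ?_, D.inj ?_, D.inj ?_, D.inj ?_⟩, k⟩
  · rw [← k _ (by decide), ← e3, hy, conj_inv, conj_mul, conj_mul, ← map_inv, ← map_mul, ← map_mul,
      s1, map_mul, ← conj_mul, e3, e1, ← map_mul, ← z_comm]
  · rw [← k _ hm.1, ← e1, hy, conj_inv, conj_mul, conj_mul, D.conj_z (D.ψ_mem s)]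
  · rw [← k _ ha, ← ea, y2]
  · rw [← k _ hb, ← eb, y2]

theorem not_all (h : ∀ m, D.Cj z (t m)) : False := by
  obtain ⟨y0, n0, a0, ha0, c0, hc0, l0, k0⟩ := D.exists_lam (h 0)
  obtain ⟨y1, n1, a1, ha1, c1, hc1, l1, k1⟩ := D.exists_lam (h 1)
  obtain ⟨y2, n2, a2, ha2, c2, hc2, l2, k2⟩ := D.exists_lam (h 2)
  have cp : ∀ {g g' : G} {f f' : Sy → Sy}, g' ∈ D.N → (∀ s ∈ A, g * D.ψ s * g⁻¹ = D.ψ (f s)) →
      (∀ s ∈ A, g' * D.ψ s * g'⁻¹ = D.ψ (f' s)) →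
      ∀ s ∈ A, g * g' * D.ψ s * (g * g')⁻¹ = D.ψ ((f ∘ f') s) := fun hg h1 h2 s hs => by
    obtain ⟨c, hc, e⟩ := D.exA hg hs
    rw [Function.comp_apply, ← h1 _ (D.inj (e.symm.trans (h2 s hs)) ▸ hc), ← h2 s hs]; group
  have kx : ∀ m, ∀ s ∈ A, D.ψ (x m) * D.ψ s * (D.ψ (x m))⁻¹ = D.ψ (x m * s * (x m)⁻¹) :=
    fun m s _ => by simp
  have nx := fun m => D.ψ_mem_N (x m)
  rcases three_lam a0 ha0 c0 hc0 l0 a2 ha2 c2 hc2 l2 with o | o | o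
  · exact D.no4 (mul_mem n0 n2) (cp n2 k0 k2) o
  · exact D.no4 (mul_mem n2 (mul_mem n0 (nx 0))) (cp (mul_mem n0 (nx 0)) k2 (cp (nx 0) k0 (kx 0))) o
  rcases o a1 ha1 c1 hc1 l1 with o | o
  · exact D.no4 (mul_mem n2 (mul_mem n0 n1)) (cp (mul_mem n0 n1) k2 (cp n1 k0 k1)) o
  · exact D.no4 (mul_mem n2 (mul_mem n0 (mul_mem n1 (nx 1))))
      (cp (mul_mem n0 (mul_mem n1 (nx 1))) k2 (cp (mul_mem n1 (nx 1)) k0 (cp (nx 1) k1 (kx 1)))) o

/-- The map to the centralizer modulo its core. -/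
def barψ : Sy →* D.H ⧸ pPrimeCore 2 D.H :=
  (QuotientGroup.mk' _).comp (D.ψ.codRestrict _ D.ψ_mem)

omit [Finite G] in
theorem bar_eq {k : D.H} {a b : Sy} : (k : D.H ⧸ pPrimeCore 2 D.H) * D.barψ a *
    (k : D.H ⧸ pPrimeCore 2 D.H)⁻¹ = D.barψ b ↔
    ((k : G) * D.ψ a * (k : G)⁻¹)⁻¹ * D.ψ b ∈ th (D.ψ z) :=
  (QuotientGroup.eq (a := k * (⟨D.ψ a, D.ψ_mem a⟩ : D.H) * k⁻¹) (b := ⟨_, D.ψ_mem b⟩)).trans
    mem_ppCoreOf.symm

theorem bar_top : centralizer {D.barψ z} = ⊤ := eq_top_iff.2 fun g _ => by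
  obtain ⟨g, rfl⟩ := QuotientGroup.mk_surjective g
  exact mem_centralizer_singleton_iff.2 (mul_inv_eq_iff_eq_mul.1 (D.bar_eq.2 (by
    rw [D.conj_z g.2, inv_mul_cancel]; exact one_mem _)))

/-- The centralizer modulo its core. -/
def bar (hc : IsPConstrained 2 D.H) : KD (D.H ⧸ pPrimeCore 2 D.H) where
  ψ := D.barψ
  inj := (injective_iff_map_eq_one _).2 fun s hs => by
    have h1 : D.ψ s ∈ th (D.ψ z) := mem_ppCoreOf.2 ((QuotientGroup.eq_one_iff _).1 hs)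
    exact D.inj ((Bender.eq_one_of_mem_of_odd (odd_th _) h1 (Bender.eq_one_of_mem_of_odd (odd_th _)
      (mul_mem h1 h1) (by rw [← map_mul, ← map_mul, ← mul_assoc, four, map_one]))).trans
      (map_one _).symm)
  syl := by
    have := D.sylH.subgroupOf_top.map (QuotientGroup.mk' (pPrimeCore 2 D.H))
    rw [map_top_of_surjective _ (QuotientGroup.mk'_surjective _)] at this
    rw [D.bar_top]
    convert this using 1
    ext g
    exact ⟨fun ⟨s, hs⟩ => ⟨_, ⟨s, rfl⟩, hs⟩, fun ⟨_, ⟨s, hs⟩, e⟩ =>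
      ⟨s, (congrArg _ (Subtype.ext hs)).trans e⟩⟩
  ch := D.bar_top ▸ charP_top_iff.2 (Solv.isPConstrained_iff_quotient.1 hc)

theorem lift (hc : IsPConstrained 2 D.H) {a b : Sy} (ha : a * a = 1) (ha' : a ≠ 1)
    (h : (D.bar hc).Cj a b) : D.Cj a b := by
  obtain ⟨k, hk⟩ := isConj_iff.1 h
  obtain ⟨k, rfl⟩ := QuotientGroup.mk_surjective k
  have h1 := D.bar_eq.1 hk
  have h2 : orderOf ((k : G) * D.ψ a * (k : G)⁻¹) = 2 := by rw [orderOf_conj, D.ord ha ha']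
  rw [SE.inv_eq_of_orderOf_two h2] at h1
  obtain ⟨j, -, e⟩ := SE.exists_involution_conj_of_odd h2 (D.ord (h.sq ha) (h.ne_one ha'))
    ((odd_th _).of_dvd_nat (orderOf_dvd_natCard _ h1))
  exact (isConj_iff.2 ⟨_, rfl⟩).trans (isConj_iff.2 ⟨_, e⟩)

theorem dσ (hc : IsPConstrained 2 D.H) : D.Nσ ∨ ∀ m, D.Cj (t m) (x m) :=
  (D.bar hc).dich_σ.imp (fun h u hu h2 a ha e => by
    obtain ⟨k, hk, b, hb, e⟩ := D.exists_H hu h2 ha e
    exact (D.bar hc).nσ h (k := ((⟨k, hk⟩ : D.H) : _ ⧸ _)) (D.bar_top.ge (mem_top _)) hu h2 hb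
      (D.bar_eq.2 (by rw [e, inv_mul_cancel]; exact one_mem _)))
    fun h m => D.lift hc (by revert m; decide) (by revert m; decide) ((D.bar hc).hσ h m)

theorem dρ (hc : IsPConstrained 2 D.H) : D.Nρ ∨ (D.Cj (t 0) (t 1) ∧ D.Cj (t 1) (t 2)) :=
  (D.bar hc).dich_ρ.imp (fun h k hk m u hu => by
    obtain ⟨v, hv, e⟩ := (D.bar hc).nρ h (k := ((⟨k, hk⟩ : D.H) : _ ⧸ _)) (D.bar_top.ge (mem_top _)) hu
    exact ⟨v, hv, D.bar_eq.1 e⟩)
    fun h => ((D.bar hc).hρ h).imp (D.lift hc (by decide) (by decide))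
      (D.lift hc (by decide) (by decide))

/-- The data when the core of the centralizer is trivial. -/
def toKD (hc : IsPConstrained 2 D.H) (h : th (D.ψ z) = ⊥) : KD G :=
  ⟨D.toPD, D.sylH, charP_iff.2 ((Solv.isPConstrained_iff_of_pPrimeCore_eq_bot
    (ppCoreOf_eq_bot_iff.1 h)).1 hc)⟩

omit [Finite G] in
theorem into_I (hσ : D.Nσ ∨ ∀ m, D.Cj (t m) (x m)) {a u : Sy} (ha : a ∈ A) (h : D.Cj a u)
    (hu : u ∉ A) : ∃ m, D.Cj a (t m) := by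
  have h2 := h.sq (A_sq a ha)
  obtain ⟨-, m, r, h3, -⟩ := root u hu h2
  exact ⟨m, h.trans ((D.cjS h3).trans ((hσ.resolve_left fun e => e u hu h2 a ha h.symm) m).symm)⟩

theorem wI (hG : ∀ H : Subgroup G, H.index ≠ 2) (hσ : D.Nσ ∨ ∀ m, D.Cj (t m) (x m)) {a : Sy}
    (ha : a ∈ A) (h1 : a ≠ 1) : D.Cj a z ∨ ∃ m, D.Cj a (t m) := by
  obtain ⟨v, hv, h⟩ := D.thom hG idx_Q (A_sq a ha) h1
  by_cases h2 : v ∈ A
  · rcases I_cases v ⟨h2, hv⟩ with (rfl | rfl) | ⟨m, rfl | rfl⟩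
    exacts [absurd rfl (h.ne_one h1), Or.inl h, Or.inr ⟨m, h⟩,
      Or.inr ⟨m, h.trans (D.cj_tz m).symm⟩]
  · exact Or.inr (D.into_I hσ ha h h2)

end SD

end Cfsg.Lib.Recog.A8T
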