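import Cfsg.Agent.Recog.A8TFacts
import Cfsg.Agent.Sig2.Constr

/-!
# Involution centralizers of characteristic 2 with Sylow 2-subgroups of type `A₈`
-/

set_option autoImplicit false

namespace Cfsg.Lib.Recog.A8T

open Subgroup Sy Cfsg.Lib.Trans Cfsg.Lib.Local

variable {G : Type*} [Group G]

theorem cn {A : Subgroup G} {g a : G} (hg : g ∈ normalizer (A : Set G)) (ha : a ∈ A) :
    g * a * g⁻¹ ∈ A := (mem_normalizer_iff.1 hg a).1 ha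

theorem cn' {A : Subgroup G} {g a : G} (hg : g ∈ normalizer (A : Set G)) (ha : a ∈ A) :
    g⁻¹ * a * g ∈ A := (mem_normalizer_iff''.1 hg a).1 ha

theorem isPGroup_zpowers_of_pow {g : G} {k : ℕ} (h : g ^ 2 ^ k = 1) : IsPGroup 2 (zpowers g) := by
  rintro ⟨_, n, rfl⟩
  refine ⟨k, Subtype.ext ?_⟩
  change (g ^ n) ^ 2 ^ k = 1
  rw [← zpow_natCast, ← zpow_mul, mul_comm, zpow_mul, zpow_natCast, h, one_zpow]

/-- The elements of `H` whose commutators with `X` lie in `Y`. -/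
def stab (H X Y : Subgroup G) (hY : H ≤ normalizer (Y : Set G)) : Subgroup G where
  carrier := {k | k ∈ H ∧ ∀ r ∈ X, k * r * k⁻¹ * r⁻¹ ∈ Y}
  mul_mem' := fun {a b} ha hb => ⟨mul_mem ha.1 hb.1, fun r hr => by
    convert mul_mem (cn (hY ha.1) (hb.2 r hr)) (ha.2 r hr) using 1; group⟩
  one_mem' := ⟨one_mem _, fun r _ => by simp⟩
  inv_mem' := fun {a} ha => ⟨inv_mem ha.1, fun r hr => by
    convert cn' (hY ha.1) (inv_mem (ha.2 r hr)) using 1; group⟩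

theorem le_normalizer_stab [Finite G] {H X Y : Subgroup G} (hY : H ≤ normalizer (Y : Set G))
    (hX : H ≤ normalizer (X : Set G)) : H ≤ normalizer (stab H X Y hY : Set G) := fun h hh =>
  mem_normalizer_fintype fun k hk => ⟨mul_mem (mul_mem hh hk.1) (inv_mem hh), fun r hr => by
    convert cn (hY hh) (hk.2 _ (cn' (hX hh) hr)) using 1; group⟩

variable (G) in
/-- An embedding of the model. -/
structure PD where
  ψ : Sy →* G
  inj : Function.Injective ψ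

namespace PD

variable (D : PD G)

/-- The centralizer of the central involution. -/
abbrev H : Subgroup G := centralizer {D.ψ z}

theorem mem_H {k : G} : k ∈ D.H ↔ k * D.ψ z = D.ψ z * k := mem_centralizer_singleton_iff

theorem conj_z {k : G} (h : k ∈ D.H) : k * D.ψ z * k⁻¹ = D.ψ z := by
  rw [D.mem_H.1 h, mul_inv_cancel_right]

theorem ψ_mem (s : Sy) : D.ψ s ∈ D.H := D.mem_H.2 (by rw [← map_mul, z_comm, map_mul])

theorem comm_iff {a b : Sy} : D.ψ a * D.ψ b = D.ψ b * D.ψ a ↔ a * b = b * a := by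
  rw [← map_mul, ← map_mul, D.inj.eq_iff]

theorem sq {a : Sy} (h : a * a = 1) : D.ψ a * D.ψ a = 1 := by rw [← map_mul, h, map_one]

theorem ne_one {a : Sy} (h : a ≠ 1) : D.ψ a ≠ 1 := fun e => h (D.inj (e.trans (map_one _).symm))

theorem ord {a : Sy} (h : a * a = 1) (h1 : a ≠ 1) : orderOf (D.ψ a) = 2 :=
  orderOf_eq_prime (by rw [pow_two, D.sq h]) (D.ne_one h1)

theorem mem_map {K : Subgroup Sy} {s : Sy} : D.ψ s ∈ K.map D.ψ ↔ s ∈ K :=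
  mem_map_iff_mem D.inj

theorem mem_Z' {g : G} : g ∈ zpowers (D.ψ z) ↔ ∃ s, InZ s ∧ D.ψ s = g :=
  ⟨fun h => (Sig2.mem_zpowers_of_mul_self (D.sq z_sq) h).elim
    (fun e => ⟨1, Or.inl rfl, by rw [e, map_one]⟩) fun e => ⟨z, Or.inr rfl, e.symm⟩, by
    rintro ⟨_, rfl | rfl, rfl⟩
    exacts [by rw [map_one]; exact one_mem _, mem_zpowers _]⟩

theorem mem_Z {s : Sy} : D.ψ s ∈ zpowers (D.ψ z) ↔ InZ s :=
  D.mem_Z'.trans ⟨fun ⟨_, h, e⟩ => D.inj e ▸ h, fun h => ⟨s, h, rfl⟩⟩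

theorem conj_Z {k g : G} (h : k ∈ D.H) (hg : g ∈ zpowers (D.ψ z)) : k * g * k⁻¹ = g := by
  obtain ⟨_, rfl | rfl, rfl⟩ := D.mem_Z'.1 hg
  exacts [by simp, D.conj_z h]

theorem H_le_Z : D.H ≤ normalizer (zpowers (D.ψ z) : Set G) := fun k hk =>
  mem_normalizer_iff.2 fun g => ⟨fun h => (D.conj_Z hk h).symm ▸ h, fun h => by
    have := D.conj_Z (inv_mem hk) h
    rwa [← this, show k⁻¹ * (k * g * k⁻¹) * k⁻¹⁻¹ = g by group] at h⟩

theorem isPGroup (K : Subgroup Sy) : IsPGroup 2 (K.map D.ψ) := by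
  rintro ⟨_, s, hs, rfl⟩
  exact ⟨2, Subtype.ext (by simpa [pow_succ] using congrArg D.ψ (four s))⟩

theorem conj_comb {k : G} {a b c d f a' b' c' d' f' : Sy} (ha : k * D.ψ a * k⁻¹ = D.ψ a')
    (hb : k * D.ψ b * k⁻¹ = D.ψ b') (hc : k * D.ψ c * k⁻¹ = D.ψ c')
    (hd : k * D.ψ d * k⁻¹ = D.ψ d') (hf : k * D.ψ f * k⁻¹ = D.ψ f') (n : ℕ) :
    k * D.ψ (comb n a b c d f) * k⁻¹ = D.ψ (comb n a' b' c' d' f') := by
  have key : ∀ {u v : Sy} (j : ℕ), k * D.ψ u * k⁻¹ = D.ψ v →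
      k * D.ψ (pw n j u) * k⁻¹ = D.ψ (pw n j v) := fun j h => by
    unfold pw
    cases n.testBit j
    exacts [by simp, h]
  simp only [comb, map_mul, ← conj_mul, key _ ha, key _ hb, key _ hc, key _ hd, key _ hf]

theorem conj_lin {k : G} {a b c d : Sy} (ha : k * D.ψ (e 0) * k⁻¹ = D.ψ a)
    (hb : k * D.ψ (e 1) * k⁻¹ = D.ψ b) (hc : k * D.ψ (e 2) * k⁻¹ = D.ψ c)
    (hd : k * D.ψ (e 3) * k⁻¹ = D.ψ d) {s : Sy} (hs : s ∈ A) :
    k * D.ψ s * k⁻¹ = D.ψ (lin a b c d s) := by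
  conv_lhs => rw [← lin_e s hs]
  exact D.conj_comb ha hb hc hd (by simp) _

theorem conj_iter {k : G} {U : Sy → Prop} {f : Sy → Sy} (h1 : ∀ q, U q → U (f q))
    (h2 : ∀ q, U q → k * D.ψ q * k⁻¹ = D.ψ (f q)) (n : ℕ) :
    ∀ q, U q → k ^ n * D.ψ q * (k ^ n)⁻¹ = D.ψ (f^[n] q) := by
  induction n with
  | zero => simp
  | succ n ih =>
    intro q hq
    rw [Function.iterate_succ_apply, ← ih _ (h1 q hq), ← h2 q hq, pow_succ]
    group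

theorem comm_A {k : G} (h : ∀ j, k * D.ψ (e j) * k⁻¹ = D.ψ (e j)) {s : Sy} (hs : s ∈ A) :
    k * D.ψ s * k⁻¹ = D.ψ s := by
  rw [D.conj_lin (h 0) (h 1) (h 2) (h 3) hs, lin_e s hs]

theorem sq_comm [Finite G] {L : Subgroup G} (hS : IsSylowIn 2 D.ψ.range L)
    (hL : L ≤ normalizer (A.map D.ψ : Set G)) {g : G} (hg : g ∈ L) {a : G} (ha : a ∈ A.map D.ψ)
    (h : g ^ 4 * a * (g ^ 4)⁻¹ = a) : g ^ 2 * a * (g ^ 2)⁻¹ = a := by
  obtain ⟨k, o, ⟨j, rfl⟩, ho⟩ := Nat.exists_eq_two_pow_mul_odd (orderOf_pos g).ne'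
  obtain ⟨c, hc, h1⟩ := hS.exists_cj_le (isPGroup_zpowers_of_pow (g := g ^ (2 * j + 1)) (k := k) (by
    rw [← pow_mul, mul_comm, ← ho, pow_orderOf_eq_one])) (zpowers_le.2 (pow_mem hg _))
  obtain ⟨s, hs⟩ := cj_le_iff.1 h1 _ (mem_zpowers _)
  obtain ⟨u, hu, e⟩ := cn' (hL hc) (mem_map_of_mem D.ψ (sq_mem_A s))
  obtain ⟨a, ha, rfl⟩ := ha
  have h2 : (g ^ 4) ^ j * g ^ 2 = D.ψ u := by rw [e, map_mul, hs]; group
  have h3 : Commute (g ^ 4) (D.ψ a) := mul_inv_eq_iff_eq_mul.1 h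
  have h4 : Commute ((g ^ 4) ^ j * g ^ 2) (D.ψ a) := h2 ▸ D.comm_iff.2 (A_comm u hu a ha)
  have h5 := (h3.pow_left j).inv_left.mul_left h4
  rw [inv_mul_cancel_left] at h5
  rw [h5.eq, mul_inv_cancel_right]

end PD

variable (G) in
/-- A centralizer of characteristic 2. -/
structure KD extends PD G where
  syl : IsSylowIn 2 ψ.range (centralizer {ψ z})
  ch : CharP 2 (centralizer ({ψ z} : Set G))

namespace KD

variable [Finite G] (K : KD G)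

theorem R_le : pCoreOf 2 K.H ≤ K.ψ.range :=
  K.syl.le_of_normal (isPGroup_pCoreOf _) (pCoreOf_le _) (le_normalizer_pCoreOf _)

theorem le_R {N : Subgroup G} (hN : K.H ≤ normalizer (N : Set G)) (h2 : ∀ n ∈ N, n * n = 1)
    {k : G} (hk : k ∈ K.H) (h3 : ∀ r ∈ pCoreOf 2 K.H, k * r * k⁻¹ * r⁻¹ ∈ N)
    (h4 : ∀ n ∈ N, k * n * k⁻¹ * n⁻¹ ∈ zpowers (K.ψ z)) : k ∈ pCoreOf 2 K.H := by
  refine le_pCoreOf (N := stab K.H _ N hN ⊓ stab K.H N _ K.H_le_Z) (fun g hg => hg.1.1)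
    (Solv.le_normalizer_inf (le_normalizer_stab _ (le_normalizer_pCoreOf _))
      (le_normalizer_stab _ hN)) (fun g => ?_) ⟨⟨hk, h3⟩, hk, h4⟩
  obtain ⟨g, ⟨hg, g1⟩, -, g2⟩ := g
  have key : ∀ r ∈ pCoreOf 2 K.H, g ^ 2 * r * (g ^ 2)⁻¹ * r⁻¹ ∈ zpowers (K.ψ z) := fun r hr => by
    have := g2 _ (g1 r hr)
    rw [inv_eq_of_mul_eq_one_right (h2 _ (g1 r hr))] at this
    convert this using 1
    rw [pow_two]; group
  obtain ⟨j, hj⟩ := isPGroup_pCoreOf (p := 2) K.H ⟨g ^ 2 * g ^ 2, K.ch ⟨mul_mem (pow_mem hg 2)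
    (pow_mem hg 2), mem_centralizer_iff.2 fun r hr => by
      have h5 := K.conj_Z (pow_mem hg 2) (key r hr)
      have h6 := Sig2.El.zpowers (K.sq z_sq) _ (key r hr)
      nth_rw 1 [← h5] at h6
      rw [eq_comm, ← mul_inv_eq_one, ← h6]
      group⟩⟩
  refine ⟨2 + j, Subtype.ext ?_⟩
  have : (g ^ 2 * g ^ 2) ^ 2 ^ j = 1 := congrArg Subtype.val hj
  change g ^ 2 ^ (2 + j) = 1
  rw [← this, ← pow_add, ← pow_mul, pow_add]; rfl

theorem le_R' {s : Sy} (h : ∀ r, K.ψ r ∈ pCoreOf 2 K.H → InZ (s * r * s⁻¹ * r⁻¹)) :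
    K.ψ s ∈ pCoreOf 2 K.H :=
  K.le_R K.H_le_Z (Sig2.El.zpowers (K.sq z_sq)) (K.ψ_mem s) (fun r hr => by
    obtain ⟨r, rfl⟩ := K.R_le hr
    simpa using K.mem_Z.2 (h r hr)) fun n hn => by
      rw [K.conj_Z (K.ψ_mem s) hn, mul_inv_cancel]; exact one_mem _

theorem I_le {s : Sy} (hs : s ∈ I) : K.ψ s ∈ pCoreOf 2 K.H := K.le_R' fun r _ => (I_comm s hs r).1

theorem S_le (h : K.H ≤ normalizer (I.map K.ψ : Set G)) (s : Sy) : K.ψ s ∈ pCoreOf 2 K.H :=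
  K.le_R h (by rintro _ ⟨i, hi, rfl⟩; exact K.sq (A_sq i hi.1)) (K.ψ_mem s) (fun r hr => by
    obtain ⟨r, rfl⟩ := K.R_le hr
    simpa using mem_map_of_mem K.ψ (S_comm s r)) (by
    rintro _ ⟨i, hi, rfl⟩
    simpa using K.mem_Z.2 (I_comm i hi s).2)

theorem exists_conj {k : G} (hk : k ∈ K.H) {s : Sy} (hs : K.ψ s ∈ pCoreOf 2 K.H) :
    ∃ r, K.ψ r ∈ pCoreOf 2 K.H ∧ k * K.ψ s * k⁻¹ = K.ψ r := by
  have h := cn (le_normalizer_pCoreOf _ hk) hs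
  obtain ⟨r, hr⟩ := K.R_le h
  exact ⟨r, hr ▸ h, hr.symm⟩

theorem not_R_le_A (hA : ∀ r, K.ψ r ∈ pCoreOf 2 K.H ↔ r ∈ A) : False := by
  have eR : pCoreOf 2 K.H = A.map K.ψ := le_antisymm (fun r hr => by
    obtain ⟨r, rfl⟩ := K.R_le hr
    exact mem_map_of_mem _ ((hA r).1 hr)) (by rintro _ ⟨a, ha, rfl⟩; exact (hA a).2 ha)
  have hN : K.H ≤ normalizer (A.map K.ψ : Set G) := eR ▸ le_normalizer_pCoreOf _
  have ex : ∀ k ∈ K.H, ∀ a ∈ A, ∃ b ∈ A, k * K.ψ a * k⁻¹ = K.ψ b := fun k hk a ha => by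
    obtain ⟨b, hb, e⟩ := cn (hN hk) (mem_map_of_mem _ ha)
    exact ⟨b, hb, e.symm⟩
  obtain ⟨k, hk, n, u, hu, hu', eu⟩ : ∃ k ∈ K.H, ∃ n, ∃ u ∈ A, u ∉ Q ∧
      k * K.ψ (t n) * k⁻¹ = K.ψ u := by
    by_contra hn
    push Not at hn
    have h1 : ∀ k ∈ K.H, ∀ n, k * K.ψ (t n) * k⁻¹ ∈ I.map K.ψ := fun k hk n => by
      obtain ⟨b, hb, e⟩ := ex k hk (t n) (by revert n; decide)
      exact e ▸ mem_map_of_mem _ ⟨hb, by_contra fun h => hn k hk n b hb h e⟩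
    refine absurd ((hA _).1 (K.S_le (fun k hk => mem_normalizer_fintype ?_) (x 0))) (by decide)
    rintro _ ⟨i, hi, rfl⟩
    rcases I_cases i hi with h | ⟨n, rfl | rfl⟩
    · rw [K.conj_Z hk (K.mem_Z.2 h)]; exact mem_map_of_mem _ hi
    · exact h1 k hk n
    · rw [map_mul, ← conj_mul, K.conj_z hk]
      exact mul_mem (h1 k hk n) (mem_map_of_mem _ (by decide))
  set y := k * K.ψ (x n) * k⁻¹ with hy
  have yH : y ∈ K.H := mul_mem (mul_mem hk (K.ψ_mem _)) (inv_mem hk)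
  have key : ∀ a ∈ A, ∀ b, y * K.ψ a * y⁻¹ = K.ψ b → ∀ a', k * K.ψ a' * k⁻¹ = K.ψ a →
      K.ψ (b * a⁻¹) = k * K.ψ (x n * a' * (x n)⁻¹ * a'⁻¹) * k⁻¹ := fun a ha b e a' e' => by
    simp only [map_mul, map_inv, ← e, ← e', hy]; group
  have k1 : ∀ j, ∃ b, (InZ (b * e j) ∨ InZ (b * e j * u)) ∧ y * K.ψ (e j) * y⁻¹ = K.ψ b := fun j => by
    have hj : e j ∈ A ∧ (e j)⁻¹ = e j := by revert j; decide
    obtain ⟨b, -, eb⟩ := ex y yH _ hj.1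
    obtain ⟨a', ha', ea⟩ := ex _ (inv_mem hk) _ hj.1
    have := key _ hj.1 b eb a' (by rw [← ea]; group)
    rw [hj.2] at this
    refine ⟨b, (x_comm n a' ha').imp (fun h => K.mem_Z.1 ?_) (fun h => K.mem_Z.1 ?_), eb⟩
    · rw [this]; exact cn (K.H_le_Z hk) (K.mem_Z.2 h)
    · rw [map_mul, this, ← eu, conj_mul, ← map_mul]; exact cn (K.H_le_Z hk) (K.mem_Z.2 h)
  choose b b1 b2 using k1
  have k2 := fun s => K.conj_lin (b2 0) (b2 1) (b2 2) (b2 3) (s := s)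
  rcases no_A u hu hu' _ (b1 0) _ (b1 1) _ (b1 2) _ (b1 3)
    (K.inj (by rw [← k2 _ (by decide), K.conj_z yH])) (K.inj (by
      rw [← k2 _ hu, ← eu, hy, conj_inv, conj_mul, conj_mul, ← map_inv, ← map_mul, ← map_mul]
      congr 3
      clear_value y; clear * -; revert n; decide)) with h | ⟨m, h1, j, h2⟩
  · obtain ⟨a, ha, ea⟩ := ex k hk β (by decide)
    have := K.mem_Z.2 (h a ha)
    rw [key a ha _ (k2 a ha) β ea] at this
    have h3 := cn' (K.H_le_Z hk) this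
    rw [show ∀ g : G, k⁻¹ * (k * g * k⁻¹) * k = g from fun g => by group, K.mem_Z] at h3
    exact absurd h3 (by clear_value y; clear * -; revert n; decide)
  · have k3 := K.conj_iter (k := K.ψ (x m) * y) (U := (· ∈ A)) (f := tw m (b 0) (b 1) (b 2) (b 3))
      (fun q hq => by
        obtain ⟨c, hc, e⟩ := ex y yH q hq
        rw [tw, ← K.inj (e.symm.trans (k2 q hq))]
        exact A_conj c hc _)
      (fun q hq => by rw [tw, map_mul, map_mul, map_inv, ← k2 q hq]; group)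
    have hj : e j ∈ A := by clear * -; revert j; decide
    refine h2 (K.inj ?_)
    rw [← k3 2 _ hj]
    exact K.sq_comm K.syl hN (mul_mem (K.ψ_mem _) yH) (mem_map_of_mem _ hj) (by rw [k3 4 _ hj, h1])

theorem norm_Q : K.H ≤ normalizer (Q.map K.ψ : Set G) := by
  by_cases hQ : ∀ r, K.ψ r ∈ pCoreOf 2 K.H → r ∈ Q
  · have : pCoreOf 2 K.H = Q.map K.ψ := le_antisymm (fun r hr => by
      obtain ⟨r, rfl⟩ := K.R_le hr
      exact mem_map_of_mem _ (hQ r hr)) (by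
      rintro _ ⟨a, ha, rfl⟩; exact K.le_R' fun r hr => Q_comm a ha r (hQ r hr))
    exact this ▸ le_normalizer_pCoreOf _
  push Not at hQ
  obtain ⟨b, hb, hb'⟩ := hQ
  by_cases hA : ∀ r, K.ψ r ∈ pCoreOf 2 K.H → r ∈ A
  · refine (K.not_R_le_A fun r => ⟨hA r, fun hr => ?_⟩).elim
    rcases A_gen b (hA b hb) hb' r hr with h | h
    · exact K.I_le ⟨hr, h⟩
    · simpa using mul_mem (K.I_le ⟨A.mul_mem hr (A.inv_mem (hA b hb)), h⟩) hb
  push Not at hA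
  obtain ⟨c, hc, hc'⟩ := hA
  have hI : K.H ≤ normalizer (I.map K.ψ : Set G) := fun k hk => mem_normalizer_fintype (by
    rintro _ ⟨i, hi, rfl⟩
    obtain ⟨r, -, er⟩ := K.exists_conj hk (K.I_le hi)
    have key : ∀ d, K.ψ d ∈ pCoreOf 2 K.H → InZ (r * d * r⁻¹ * d⁻¹) := fun d hd => by
      obtain ⟨d', -, ed⟩ := K.exists_conj (inv_mem hk) hd
      have := cn (K.H_le_Z hk) (K.mem_Z.2 (I_comm i hi d').1)
      refine K.mem_Z.1 ?_
      convert this using 1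
      simp only [map_mul, map_inv, ← er, ← ed]; group
    rcases I_char r (K.inj (by rw [map_mul, ← er, conj_mul, K.sq (A_sq i hi.1)]; simp)) with h | h | h
    · exact er ▸ mem_map_of_mem _ h
    · exact absurd (key b hb) (h b hb')
    · exact absurd (key c hc) (h c hc'))
  refine fun k hk => mem_normalizer_fintype ?_
  rintro _ ⟨q, hq, rfl⟩
  obtain ⟨r, -, er⟩ := K.exists_conj hk (K.S_le hI q)
  obtain ⟨h1, h2⟩ := Q_char q hq
  rcases h2 with h2 | ⟨i, hi, h2⟩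
  · exact map_mono inf_le_right (cn (hI hk) (mem_map_of_mem _ ⟨h2, hq⟩))
  obtain ⟨i', hi', ei⟩ := cn (hI hk) (mem_map_of_mem _ hi)
  refine er ▸ mem_map_of_mem _ ((Q_char' r (K.mem_Z.1 ?_)).resolve_right fun h => h2 ?_)
  · rw [map_mul, ← er, conj_mul, ← map_mul]
    exact cn (K.H_le_Z hk) (K.mem_Z.2 h1)
  · have := K.comm_iff.2 (h i' hi')
    rwa [ei, ← er, conj_mul, conj_mul, mul_left_inj, mul_right_inj, K.comm_iff] at this

theorem exQ {k : G} (hk : k ∈ K.H) {q : Sy} (hq : q ∈ Q) : ∃ r ∈ Q, k * K.ψ q * k⁻¹ = K.ψ r := by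
  obtain ⟨b, hb, e⟩ := cn (K.norm_Q hk) (mem_map_of_mem _ hq)
  exact ⟨b, hb, e.symm⟩

theorem cent {k : G} (hk : k ∈ K.H) (h : ∀ q ∈ Q, k * K.ψ q * k⁻¹ = K.ψ q) :
    k ∈ zpowers (K.ψ z) := by
  have c : ∀ s, (∀ q ∈ Q, K.ψ s * K.ψ q * (K.ψ s)⁻¹ = K.ψ q) → InZ s := fun s hs => by
    have := fun q hq => K.comm_iff.1 (mul_inv_eq_iff_eq_mul.1 (hs q hq))
    exact cent_Q s (this _ (by decide)) (this _ (by decide)) (this _ (by decide)) (this _ (by decide))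
  obtain ⟨s, rfl⟩ := K.R_le (K.le_R K.H_le_Z (Sig2.El.zpowers (K.sq z_sq)) hk (fun r hr => by
    obtain ⟨u, hu⟩ := K.R_le (mul_mem (cn (le_normalizer_pCoreOf _ hk) hr) (inv_mem hr))
    obtain ⟨r, rfl⟩ := K.R_le hr
    refine hu ▸ K.mem_Z.2 (c u fun q hq => ?_)
    have h1 := h _ (Q_conj q hq r⁻¹)
    have h2 := h q hq
    simp only [map_mul, map_inv, inv_inv] at h1
    calc _ = k * K.ψ r * (k⁻¹ * (k * ((K.ψ r)⁻¹ * K.ψ q * K.ψ r) * k⁻¹) * k) * (K.ψ r)⁻¹ * k⁻¹ := by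
          rw [hu, h1]; group
      _ = k * K.ψ q * k⁻¹ := by group
      _ = _ := h2) fun n hn => by rw [K.conj_Z hk hn, mul_inv_cancel]; exact one_mem _)
  exact K.mem_Z.2 (c s h)

/-- The element `k` induces the automorphism `M i j`. -/
def Ac (k : G) (i j : Fin 3) : Prop := k ∈ K.H ∧ ∀ q ∈ Q, k * K.ψ q * k⁻¹ = K.ψ (M i j q)

omit [Finite G] in
theorem ac_of {k : G} (hk : k ∈ K.H) {i j : Fin 3} (h1 : k * K.ψ i1 * k⁻¹ = K.ψ (M i j i1))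
    (h2 : k * K.ψ j1 * k⁻¹ = K.ψ (M i j j1)) (h3 : k * K.ψ i2 * k⁻¹ = K.ψ (M i j i2))
    (h4 : k * K.ψ j2 * k⁻¹ = K.ψ (M i j j2)) : K.Ac k i j := ⟨hk, fun q hq => by
  rw [← ext_M i j q hq]
  conv_lhs => rw [← ext_g q hq]
  exact K.conj_comb h1 h2 h3 h4 (K.conj_z hk) _⟩

variable {K}

omit [Finite G] in
theorem Ac.mul {k l : G} {i j i' j' : Fin 3} (h : K.Ac k i j) (h' : K.Ac l i' j') :
    K.Ac (k * l) (i + i') (j + j') := ⟨mul_mem h.1 h'.1, fun q hq => by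
  rw [← M_add q hq, ← h.2 _ (M_mem _ _ q hq), ← h'.2 q hq]; group⟩

omit [Finite G] in
theorem Ac.swap {k : G} {i j : Fin 3} (h : K.Ac k i j) : K.Ac (K.ψ β * k * K.ψ β) j i :=
  ⟨mul_mem (mul_mem (K.ψ_mem _) h.1) (K.ψ_mem _), fun q hq => by
    have e : β⁻¹ = β := by decide
    rw [← M_beta q hq, map_mul, map_mul, ← h.2 _ (e ▸ Q_conj q hq β), map_mul, map_mul, mul_inv_rev,
      mul_inv_rev, ← map_inv, e]
    group⟩

theorem Ac.mem_Z {k : G} (h : K.Ac k 0 0) : k ∈ zpowers (K.ψ z) :=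
  K.cent h.1 fun q hq => by rw [h.2 q hq, M_zero]

theorem Ac.three {k : G} {i j : Fin 3} (h : K.Ac k i j) : ∃ y, K.Ac y i j ∧ y * y * y = 1 := by
  have e : ∀ i : Fin 3, i + i + i = 0 ∧ i + i + i + i = i := by decide
  have h1 := (h.mul h).mul h
  have h2 := h1.mul h
  rw [(e i).1, (e j).1] at h1
  rw [(e i).2, (e j).2] at h2
  have h3 := Sig2.El.zpowers (K.sq z_sq) _ h1.mem_Z
  refine ⟨_, h2, ?_⟩
  calc _ = k * k * k * (k * k * k) * (k * k * k * (k * k * k)) := by group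
    _ = 1 := by rw [h3, one_mul]

variable (K)

theorem mem_Q {k : G} (hk : k ∈ K.H) {a b c d : Sy} (h1 : k * K.ψ i1 * k⁻¹ = K.ψ a)
    (h2 : k * K.ψ j1 * k⁻¹ = K.ψ b) (h3 : k * K.ψ i2 * k⁻¹ = K.ψ c) (h4 : k * K.ψ j2 * k⁻¹ = K.ψ d)
    (ha : InZ (a * i1⁻¹)) (hb : InZ (b * j1⁻¹)) (hc : InZ (c * i2⁻¹)) (hd : InZ (d * j2⁻¹)) :
    k ∈ Q.map K.ψ := by
  obtain ⟨s, hs, e1, e2, e3, e4⟩ := inner _ ha _ hb _ hc _ hd
  rw [inv_mul_cancel_right] at e1 e2 e3 e4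
  have key : ∀ {u v : Sy}, k * K.ψ u * k⁻¹ = K.ψ v → s * u * s⁻¹ = v →
      (K.ψ s)⁻¹ * k * K.ψ u * ((K.ψ s)⁻¹ * k)⁻¹ = K.ψ (M 0 0 u) := fun h e => by
    rw [M_zero, mul_inv_rev, mul_assoc _ k, mul_assoc, ← mul_assoc (k * _), h, ← e, map_mul, map_mul,
      map_inv]
    group
  obtain ⟨u, hu, e⟩ := K.mem_Z'.1 (K.ac_of (mul_mem (inv_mem (K.ψ_mem s)) hk) (key h1 e1) (key h2 e2)
    (key h3 e3) (key h4 e4)).mem_Z
  exact ⟨s * u, mul_mem hs (by rcases hu with rfl | rfl <;> decide), by rw [map_mul, e]; group⟩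

theorem exists_ac' {k : G} (hk : k ∈ K.H) {a : Sy} (h1 : k * K.ψ i1 * k⁻¹ = K.ψ a) (ha : In1 a) :
    ∃ s i j, K.Ac ((K.ψ s)⁻¹ * k) i j := by
  obtain ⟨b, hb, h2⟩ := K.exQ hk (q := j1) (by decide)
  obtain ⟨c, hc, h3⟩ := K.exQ hk (q := i2) (by decide)
  obtain ⟨d, hd, h4⟩ := K.exQ hk (q := j2) (by decide)
  have cm : ∀ {u v u' v' : Sy}, k * K.ψ u * k⁻¹ = K.ψ u' → k * K.ψ v * k⁻¹ = K.ψ v' →
      (u' * v' = v' * u' ↔ u * v = v * u) := fun e e' => by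
    rw [← K.comm_iff, ← e, ← e', conj_mul, conj_mul, mul_left_inj, mul_right_inj, K.comm_iff]
  have sq : ∀ {u u' : Sy}, k * K.ψ u * k⁻¹ = K.ψ u' → u * u = z → u' * u' = z := fun e h =>
    K.inj (by rw [map_mul, ← e, conj_mul, ← map_mul, h, K.conj_z hk])
  have n1 : a * b ≠ b * a := fun e => absurd ((cm h1 h2).1 e) (by decide)
  obtain ⟨b1, f⟩ := four_cases' a ha (sq h1 (by decide)) b hb (sq h2 (by decide)) n1
  have c2 := f c hc ((cm h1 h3).2 (by decide)) ((cm h2 h3).2 (by decide))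
  have d2 := f d hd ((cm h1 h4).2 (by decide)) ((cm h2 h4).2 (by decide))
  obtain ⟨p1, p2, p3, p4, p5⟩ := fac1 a ha b b1 n1
  obtain ⟨r1, r2, r3, r5⟩ := fac2 c c2 d d2 fun e => absurd ((cm h3 h4).1 e) (by decide)
  have k1 := K.conj_iter p1 (k := k) fun q hq => by
    conv_lhs => rw [← ext_1 q hq]
    exact K.conj_comb h1 h2 h1 h2 (K.conj_z hk) _
  have k2 := K.conj_iter r1 (k := k) fun q hq => by
    conv_lhs => rw [← ext_2 q hq]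
    exact K.conj_comb h3 h4 h3 h4 (K.conj_z hk) _
  obtain ⟨u, -, hu⟩ := K.mem_Q (pow_mem hk 6) (k1 6 _ (by decide)) (k1 6 _ (by decide))
    (k2 6 _ (by decide)) (k2 6 _ (by decide)) p2 p3 r2 r3
  obtain ⟨g, hg, h5⟩ := K.syl.exists_cj_le (isPGroup_zpowers_of_pow (g := k ^ 3) (k := 3) (by
    have := congrArg K.ψ (four u)
    simp only [map_mul, hu, map_one] at this
    rw [← this]; group)) (zpowers_le.2 (pow_mem hk _))
  obtain ⟨s, hs⟩ := cj_le_iff.1 h5 _ (mem_zpowers _)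
  have hsQ : s ∈ Q := by
    by_contra hn
    obtain ⟨q, hq, eq⟩ := K.exQ hg (q := i1) (by decide)
    obtain ⟨o1, o2⟩ := out_swap s hn q hq (K.inj (by
      rw [map_mul, ← eq, conj_mul, ← map_mul, show i1 * i1 = z by decide, K.conj_z hg]))
    have e : K.ψ (s * q * s⁻¹) = g * K.ψ ((ext a b a b)^[3] i1) * g⁻¹ := by
      rw [← k1 3 _ (by decide), map_mul, map_mul, map_inv, hs, ← eq]; group
    have o3 := K.comm_iff.2 o1
    rw [e, ← eq, conj_mul, conj_mul, mul_left_inj, mul_right_inj, K.comm_iff] at o3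
    refine o2 (K.mem_Z.1 ?_)
    rw [map_mul, e, map_inv, ← eq, conj_inv, conj_mul, ← map_inv, ← map_mul]
    exact cn (K.H_le_Z hg) (K.mem_Z.2 (p4 o3))
  obtain ⟨v, hv, ev⟩ := cn' (K.norm_Q hg) (mem_map_of_mem _ hsQ)
  have k3 : ∀ q ∈ Q, ∀ r, k ^ 3 * K.ψ q * (k ^ 3)⁻¹ = K.ψ r → InZ (r * q⁻¹) := fun q hq r e => by
    rw [show k ^ 3 = K.ψ v by rw [ev, hs]; group, ← map_inv, ← map_mul, ← map_mul] at e
    exact K.inj e ▸ Q_comm v hv q hq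
  obtain ⟨s1, t1, i, e1⟩ := p5 (k3 _ (by decide) _ (k1 3 _ (by decide)))
    (k3 _ (by decide) _ (k1 3 _ (by decide)))
  obtain ⟨s2, t2, j, e2⟩ := r5 (k3 _ (by decide) _ (k2 3 _ (by decide)))
    (k3 _ (by decide) _ (k2 3 _ (by decide)))
  have key : ∀ {u v w : Sy}, k * K.ψ u * k⁻¹ = K.ψ v → s1 * s2 * w * (s1 * s2)⁻¹ = v →
      (K.ψ (s1 * s2))⁻¹ * k * K.ψ u * ((K.ψ (s1 * s2))⁻¹ * k)⁻¹ = K.ψ w := fun h e => by
    rw [mul_inv_rev, mul_assoc _ k, mul_assoc, ← mul_assoc (k * _), h, ← e, map_mul _ _ _⁻¹,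
      map_mul _ (s1 * s2), map_inv]
    group
  have l1 : ∀ {w v : Sy}, In1 v → s1 * w * s1⁻¹ = v → s1 * s2 * w * (s1 * s2)⁻¹ = v := fun hv e => by
    rw [fac_comm s1 t1 s2 t2, mul_inv_rev, mul_assoc s2, mul_assoc s2, ← mul_assoc (s1 * _), e,
      ← mul_assoc, ← fac_comm _ hv s2 t2, mul_inv_cancel_right]
  have l2 : ∀ {w v : Sy}, In2 v → s2 * w * s2⁻¹ = v → s1 * s2 * w * (s1 * s2)⁻¹ = v := fun hv e => by
    rw [mul_inv_rev, mul_assoc s1, mul_assoc s1, ← mul_assoc (s2 * _), e,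
      ← mul_assoc, fac_comm s1 t1 _ hv, mul_inv_cancel_right]
  exact ⟨s1 * s2, i, j, K.ac_of (mul_mem (inv_mem (K.ψ_mem _)) hk) (key h1 (l1 ha (e1 j).1))
    (key h2 (l1 b1 (e1 j).2)) (key h3 (l2 c2 (e2 i).1)) (key h4 (l2 d2 (e2 i).2))⟩

theorem exists_ac {k : G} (hk : k ∈ K.H) : ∃ s l i j, K.Ac l i j ∧ k = K.ψ s * l := by
  obtain ⟨a, ha, h1⟩ := K.exQ hk (q := i1) (by decide)
  rcases four_cases a ha (K.inj (by
    rw [map_mul, ← h1, conj_mul, ← map_mul, show i1 * i1 = z by decide, K.conj_z hk])) with h | h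
  · obtain ⟨s, i, j, e⟩ := K.exists_ac' hk h1 h
    exact ⟨s, _, i, j, e, by group⟩
  · obtain ⟨s, i, j, e⟩ := K.exists_ac' (mul_mem (K.ψ_mem β) hk) (by
      rw [map_mul, map_mul, map_inv, ← h1]; group) h
    exact ⟨β⁻¹ * s, _, i, j, e, by rw [map_mul, map_inv]; group⟩

omit [Finite G] in
theorem dich_σ : (∀ k i j, K.Ac k i j → j = i) ∨ ∃ k, K.Ac k 1 2 := by
  by_contra hn
  push Not at hn
  obtain ⟨⟨k, i, j, h, hij⟩, h2⟩ := hn
  have h3 := (h.mul h).mul h.swap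
  rcases (by decide : ∀ i j : Fin 3, j ≠ i → (i + i + j = 1 ∧ j + j + i = 2) ∨
    (j + j + i = 1 ∧ i + i + j = 2)) i j hij with ⟨e, e'⟩ | ⟨e, e'⟩
  exacts [h2 _ (e ▸ e' ▸ h3), h2 _ (e ▸ e' ▸ h3.swap)]

omit [Finite G] in
theorem dich_ρ : (∀ k i j, K.Ac k i j → j = i + i) ∨ ∃ k, K.Ac k 1 1 := by
  by_contra hn
  push Not at hn
  obtain ⟨⟨k, i, j, h, hij⟩, h2⟩ := hn
  have h3 := h.mul h.swap
  rw [add_comm j] at h3
  rcases (by decide : ∀ i j : Fin 3, j ≠ i + i → i + j = 1 ∨ i + j + (i + j) = 1) i j hij with e | e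
  exacts [h2 _ (e ▸ h3), h2 _ (e ▸ h3.mul h3)]

end KD

end Cfsg.Lib.Recog.A8T
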