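import Cfsg.Agent.Recog.C22Defs

/-!
Basic properties of the coordinates on the centralizer of the `3`-central element of `Fi₂₂`.
-/

set_option autoImplicit false

namespace Cfsg.Lib.C22

open Cfsg Subgroup Equiv Cfsg.Lib.Recog.P43 Cfsg.Lib.Recog.P43.Q
open scoped commutatorElement

theorem three_eq : (3 : F3) = 0 := rfl

/-- The form as a bilinear map. -/
def BF : LinearMap.BilinForm F3 V :=
  LinearMap.mk₂ F3 bf bf_add_left bf_smul_left bf_add_right bf_smul_right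

theorem BF_apply (v w : V) : BF v w = bf v w := rfl

theorem BF_refl : BF.IsRefl := fun v w h => by rw [BF_apply, bf_swap, ← BF_apply, h, neg_zero]

theorem BF_nd : BF.Nondegenerate :=
  ⟨fun _ h => eq_zero_of_bf fun w => BF_refl _ _ (h w), fun _ h => eq_zero_of_bf h⟩

theorem card_V : Nat.card V = 729 := by simp [V, V2]

theorem card_mul_card_perp (S : Submodule F3 V) : Nat.card S * Nat.card (BF.orthogonal S) = 729 := by
  have : Fact (Nat.Prime 3) := ⟨Nat.prime_three⟩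
  have h1 := LinearMap.BilinForm.finrank_orthogonal BF_nd S
  have h2 := S.finrank_le
  have h3 := Module.natCard_eq_pow_finrank (K := F3) (V := V)
  rw [Module.natCard_eq_pow_finrank (K := F3) (V := S),
    Module.natCard_eq_pow_finrank (K := F3) (V := BF.orthogonal S), ← pow_add, h1,
    Nat.add_sub_cancel' h2, ← h3, card_V]

theorem mem_perp {S : Submodule F3 V} {v : V} : v ∈ BF.orthogonal S ↔ ∀ w ∈ S, bf w v = 0 := Iff.rfl

theorem exists_bf (f : V → F3) (h : ∀ v w, f (v + w) = f v + f w) : ∃ u, ∀ v, f v = bf u v := by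
  have h0 : f 0 = 0 := by simpa using h 0 0
  have hs : ∀ (k : F3) v, f (k • v) = k * f v := fun k v => by
    rcases zmod3_cases k with rfl | rfl | rfl <;> simp [h0, two_smul, h, two_mul]
  refine ⟨fun i => (f (sg i (0, 1)), -f (sg i (1, 0))), fun v => ?_⟩
  have e : ∀ i a, f (sg i a) = a.1 * f (sg i (1, 0)) + a.2 * f (sg i (0, 1)) := fun i a => by
    rw [← hs, ← hs, ← h]
    congr 1
    funext j
    by_cases c : j = i <;> simp [sg, c]
  conv_lhs => rw [sg_sum v, h, h, e, e 1, e 2]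
  simp only [bf, b2]; ring

theorem ng_act (i : Fin 3) (v : V) (j : Fin 3) : (W.ng i).act v j = if j = i then -v j else v j := by
  by_cases c : j = i <;> simp [W.act, W.ng, c, a2_m, a2_one]

variable {G : Type*} [Group G]

namespace FD

variable (D : FD G)

theorem congr {v w : V} {l k : F3} (h1 : v = w) (h2 : l = k) : D.η v l = D.η w k := by rw [h1, h2]

theorem commutator (v : V) (l : F3) (w : V) (k : F3) : ⁅D.η v l, D.η w k⁆ = D.η 0 (-bf v w) := by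
  rw [commutatorElement_def, D.inv, D.inv, D.mul, D.mul, D.mul]
  refine D.congr (by abel) ?_
  simp only [bf_add_left, bf_neg_left, bf_neg_right, bf_self, bf_swap v w]
  linear_combination bf v w * three_eq

theorem comm_iff {v w : V} {l k : F3} : Commute (D.η v l) (D.η w k) ↔ bf v w = 0 := by
  rw [← commutatorElement_eq_one_iff_commute, D.commutator]
  exact ⟨fun h => neg_eq_zero.1 (D.inj₀ _ h), fun h => by rw [h, neg_zero, D.zero]⟩

theorem inj {v w : V} {l k : F3} (h : D.η v l = D.η w k) : v = w ∧ l = k := by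
  rw [← mul_inv_eq_one, D.inv, D.mul] at h
  obtain rfl : v = w := by
    rw [← sub_eq_zero, sub_eq_add_neg]
    exact eq_zero_of_bf fun u => (D.comm_iff (l := 0)).1 (h ▸ Commute.one_right _)
  rw [add_neg_cancel, bf_neg_right, bf_self] at h
  exact ⟨rfl, by linear_combination D.inj₀ _ h⟩

theorem η_eq_one {v : V} {l : F3} : D.η v l = 1 ↔ v = 0 ∧ l = 0 :=
  ⟨fun h => D.inj (h.trans D.zero.symm), fun h => by rw [h.1, h.2, D.zero]⟩

theorem p3_η (v : V) (l k : F3) : p3 (D.η v l) k = D.η (k • v) (k * l) := by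
  rcases zmod3_cases k with rfl | rfl | rfl
  · rw [p3_zero, zero_smul, zero_mul, D.zero]
  · rw [p3_one, one_smul, one_mul]
  · rw [p3_two, D.mul, bf_self, two_smul, two_mul, add_zero]

theorem cube (v : V) (l : F3) : D.η v l ^ 3 = 1 := by
  rw [pow_three, D.mul, D.mul, D.η_eq_one, bf_add_right, bf_self]
  refine ⟨?_, by linear_combination l * three_eq⟩
  exact funext fun i => (by decide : ∀ a : V2, a + (a + a) = 0) (v i)

theorem mem_Q {q : G} : q ∈ D.Q ↔ ∃ v l, q = D.η v l := Iff.rfl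
theorem η_mem (v : V) (l : F3) : D.η v l ∈ D.Q := ⟨v, l, rfl⟩
theorem mem_QS {s : Set (Fin 3)} {q : G} : q ∈ D.QS s ↔ ∃ v l, (∀ j, j ∉ s → v j = 0) ∧ q = D.η v l := Iff.rfl
theorem η_mem_QS {s : Set (Fin 3)} {v : V} {l : F3} : D.η v l ∈ D.QS s ↔ ∀ j, j ∉ s → v j = 0 :=
  ⟨fun ⟨_, _, h, e⟩ => (D.inj e).1 ▸ h, fun h => ⟨v, l, h, rfl⟩⟩
theorem QS_le (s : Set (Fin 3)) : D.QS s ≤ D.Q := fun _ ⟨v, l, _, e⟩ => ⟨v, l, e⟩
theorem mem_H {h : G} : h ∈ D.H ↔ Commute h D.z := mem_centralizer_singleton_iff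
theorem Q_cube {q : G} (h : q ∈ D.Q) : q ^ 3 = 1 := by obtain ⟨v, l, rfl⟩ := h; exact D.cube v l
theorem z_mem : D.z ∈ D.Q := D.hz ▸ D.η_mem 0 1
theorem z3 : D.z ^ 3 = 1 := D.Q_cube D.z_mem
theorem z_ne : D.z ≠ 1 := fun h => one_ne_zero (D.inj₀ 1 (D.hz.trans h))
theorem orderOf_z : orderOf D.z = 3 :=
  haveI : Fact (Nat.Prime 3) := ⟨Nat.prime_three⟩
  orderOf_eq_prime D.z3 D.z_ne
theorem card_Z : Nat.card D.Z = 3 := by rw [Nat.card_zpowers, D.orderOf_z]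
theorem η_zero (l : F3) : D.η 0 l = p3 D.z l := by rw [← D.hz, D.p3_η, smul_zero, mul_one]
theorem z_inv : D.z⁻¹ = D.η 0 (-1) := by rw [← D.hz, D.inv, neg_zero]

theorem mem_Z {g : G} : g ∈ D.Z ↔ ∃ l, g = D.η 0 l := by
  refine ⟨fun ⟨n, e⟩ => ?_, fun ⟨l, e⟩ => by rw [e, D.η_zero]; exact pow_mem (mem_zpowers _) _⟩
  obtain ⟨v, l, h, e1⟩ : g ∈ D.QS ∅ := e ▸ zpow_mem (⟨0, 1, fun _ _ => rfl, D.hz.symm⟩ : D.z ∈ D.QS ∅) n
  exact ⟨l, e1.trans (D.congr (funext fun j => h j id) rfl)⟩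

theorem mem_Z' {g : G} : g ∈ D.Z ↔ g = 1 ∨ g = D.z ∨ g = D.z⁻¹ := by
  refine ⟨fun h => ?_, fun h => by rcases h with rfl | rfl | rfl <;> simp⟩
  obtain ⟨l, rfl⟩ := D.mem_Z.1 h
  rcases zmod3_cases l with rfl | rfl | rfl
  exacts [.inl D.zero, .inr (.inl D.hz), .inr (.inr D.z_inv.symm)]

theorem η_mem_Z {v : V} {l : F3} : D.η v l ∈ D.Z ↔ v = 0 :=
  D.mem_Z.trans ⟨fun ⟨_, e⟩ => (D.inj e).1, fun e => ⟨l, by rw [e]⟩⟩
theorem Z_le : D.Z ≤ D.Q := zpowers_le.2 D.z_mem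
theorem Z_le_QS (s : Set (Fin 3)) : D.Z ≤ D.QS s := zpowers_le.2 ⟨0, 1, fun _ _ => rfl, D.hz.symm⟩
theorem η_z (v : V) (l : F3) : Commute (D.η v l) D.z := D.hz ▸ D.comm_iff.2 (bf_zero_right v)
theorem Q_z {q : G} (h : q ∈ D.Q) : Commute q D.z := by obtain ⟨v, l, rfl⟩ := h; exact D.η_z v l
theorem Q_le_H : D.Q ≤ D.H := fun _ h => D.mem_H.2 (D.Q_z h)
theorem comm_Z {h w : G} (hh : Commute h D.z) (hw : w ∈ D.Z) : Commute h w := by
  obtain ⟨n, rfl⟩ := hw; exact hh.zpow_right n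
theorem comm_mem_Z {a b : G} (ha : a ∈ D.Q) (hb : b ∈ D.Q) : ⁅a, b⁆ ∈ D.Z := by
  obtain ⟨v, l, rfl⟩ := ha
  obtain ⟨w, k, rfl⟩ := hb
  rw [D.commutator, D.η_mem_Z]

theorem conj_η (u : V) (k : F3) (v : V) (l : F3) : D.η u k * D.η v l * (D.η u k)⁻¹ = D.η v (l - bf u v) := by
  rw [D.inv, D.mul, D.mul]
  refine D.congr (by abel) ?_
  simp only [bf_add_left, bf_neg_right, bf_self, bf_swap u v]
  linear_combination bf u v * three_eq

theorem ρ_lam {h : G} (hh : Commute h D.z) {w : W} {f : V → F3}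
    (e : ∀ v, h * D.η v 0 * h⁻¹ = D.η (w.act v) (f v)) : D.ρ h = w ∧ ∀ v, D.lam h v = f v :=
  ⟨W.act_ext fun v => (D.inj ((D.conj h hh v 0).symm.trans (e v))).1,
    fun v => (zero_add _).symm.trans (D.inj ((D.conj h hh v 0).symm.trans (e v))).2⟩

theorem ρ_η (u : V) (k : F3) : D.ρ (D.η u k) = 1 :=
  (D.ρ_lam (D.η_z u k) fun v => by rw [D.conj_η, W.act_one]).1
theorem lam_η (u : V) (k : F3) (v : V) : D.lam (D.η u k) v = -bf u v :=
  (D.ρ_lam (D.η_z u k) (w := 1) (f := fun v => -bf u v) fun v => by rw [D.conj_η, W.act_one, zero_sub]).2 v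

theorem ρ_lam_mul {g h : G} (hg : Commute g D.z) (hh : Commute h D.z) : D.ρ (g * h) = D.ρ g * D.ρ h ∧
    ∀ v, D.lam (g * h) v = D.lam h v + D.lam g ((D.ρ h).act v) :=
  D.ρ_lam (hg.mul_left hh) fun v => by
    rw [show g * h * D.η v 0 * (g * h)⁻¹ = g * (h * D.η v 0 * h⁻¹) * g⁻¹ by group, D.conj h hh, D.conj g hg,
      W.act_mul, zero_add]

theorem ρ_mul {g h : G} (hg : Commute g D.z) (hh : Commute h D.z) : D.ρ (g * h) = D.ρ g * D.ρ h :=
  (D.ρ_lam_mul hg hh).1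
theorem lam_mul {g h : G} (hg : Commute g D.z) (hh : Commute h D.z) (v : V) :
    D.lam (g * h) v = D.lam h v + D.lam g ((D.ρ h).act v) := (D.ρ_lam_mul hg hh).2 v

/-- The action of the centralizer. -/
def ρH : D.H →* W := MonoidHom.mk' (fun h => D.ρ h) fun g h => D.ρ_mul (D.mem_H.1 g.2) (D.mem_H.1 h.2)

theorem ρH_apply (h : D.H) : D.ρH h = D.ρ h := rfl
theorem ρ_one : D.ρ 1 = 1 := map_one D.ρH
theorem ρ_inv {h : G} (hh : Commute h D.z) : D.ρ h⁻¹ = (D.ρ h)⁻¹ := map_inv D.ρH ⟨h, D.mem_H.2 hh⟩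
theorem ρ_pow {h : G} (hh : Commute h D.z) (n : ℕ) : D.ρ (h ^ n) = D.ρ h ^ n :=
  map_pow D.ρH ⟨h, D.mem_H.2 hh⟩ n
theorem ρ_conj {g h : G} (hg : Commute g D.z) (hh : Commute h D.z) :
    D.ρ (g * h * g⁻¹) = D.ρ g * D.ρ h * (D.ρ g)⁻¹ := by
  rw [D.ρ_mul (hg.mul_left hh) hg.inv_left, D.ρ_mul hg hh, D.ρ_inv hg]
theorem ρ_Q {q : G} (h : q ∈ D.Q) : D.ρ q = 1 := by obtain ⟨v, l, rfl⟩ := h; exact D.ρ_η v l

theorem wb' : WB D.ρH.range := by
  obtain ⟨B, h1, h2⟩ := D.wb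
  rwa [show D.ρH.range = B from Subgroup.ext fun w => ((h2 w).trans
    ⟨fun ⟨h, e1, e2⟩ => ⟨⟨h, D.mem_H.2 e1⟩, e2⟩, fun ⟨h, e⟩ => ⟨h, D.mem_H.1 h.2, e⟩⟩).symm]

theorem lam_add {h : G} (hh : Commute h D.z) (v w : V) : D.lam h (v + w) = D.lam h v + D.lam h w := by
  have e : h * (D.η v 0 * D.η w 0) * h⁻¹ = _ := conj_mul.symm
  rw [D.mul, D.conj h hh, D.conj h hh, D.conj h hh, D.mul, W.bf_act] at e
  linear_combination (D.inj e).2

theorem exists_lam {h : G} (hh : Commute h D.z) : ∃ u, ∀ v, D.lam h v = bf u v :=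
  exists_bf _ (D.lam_add hh)
theorem lam_zero {h : G} (hh : Commute h D.z) : D.lam h 0 = 0 := by
  obtain ⟨u, e⟩ := D.exists_lam hh; rw [e, bf_zero_right]
theorem lam_smul {h : G} (hh : Commute h D.z) (k : F3) (v : V) : D.lam h (k • v) = k * D.lam h v := by
  obtain ⟨u, e⟩ := D.exists_lam hh; rw [e, e, bf_smul_right]
theorem lam_neg {h : G} (hh : Commute h D.z) (v : V) : D.lam h (-v) = -D.lam h v := by
  obtain ⟨u, e⟩ := D.exists_lam hh; rw [e, e, bf_neg_right]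

theorem commute_η {h : G} (hh : Commute h D.z) {v : V} {l : F3} :
    Commute h (D.η v l) ↔ (D.ρ h).act v = v ∧ D.lam h v = 0 := by
  rw [Commute, SemiconjBy, ← mul_inv_eq_iff_eq_mul, D.conj h hh]
  exact ⟨fun e => ⟨(D.inj e).1, by linear_combination (D.inj e).2⟩, fun e => by rw [e.1, e.2, add_zero]⟩

theorem cent_Q {g : G} (h : ∀ v, Commute g (D.η v 0)) : g ∈ D.Z := by
  obtain ⟨v, l, rfl⟩ := D.cent g h
  exact D.η_mem_Z.2 (eq_zero_of_bf fun w => D.comm_iff.1 (h w).symm)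

theorem ρ_eq_one {h : G} (hh : Commute h D.z) : D.ρ h = 1 ↔ h ∈ D.Q := by
  refine ⟨fun e => ?_, D.ρ_Q⟩
  obtain ⟨u, e1⟩ := D.exists_lam hh
  have h2 := (D.η_z u 0).mul_left hh
  refine (mul_mem_cancel_left (D.η_mem u 0)).1 (D.cent _ fun v => (D.commute_η h2).2 ?_)
  rw [D.ρ_mul (D.η_z u 0) hh, D.lam_mul (D.η_z u 0) hh, D.ρ_η, e, one_mul, W.act_one, D.lam_η, e1]
  exact ⟨rfl, add_neg_cancel _⟩

theorem conj_mem {h q : G} (hh : Commute h D.z) (hq : q ∈ D.Q) : h * q * h⁻¹ ∈ D.Q := by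
  obtain ⟨v, l, rfl⟩ := hq
  exact ⟨_, _, D.conj h hh v l⟩

theorem conj_mem' {n q : G} (hn : n * D.z * n⁻¹ ∈ D.Z) (hq : q ∈ D.Q) : n * q * n⁻¹ ∈ D.Q := by
  rcases D.mem_Z'.1 hn with e | e | e
  · exact absurd (conj_eq_one_iff.1 e) D.z_ne
  · exact D.conj_mem (mul_inv_eq_iff_eq_mul.1 e) hq
  obtain ⟨σ, h⟩ := D.nz n e
  obtain ⟨v, l, rfl⟩ := hq
  have k : ∀ i a l, n * D.η (sg i a) l * n⁻¹ ∈ D.Q := fun i a l =>
    let ⟨_, _, e⟩ := h i a l; ⟨_, _, e⟩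
  rw [show D.η v l = D.η (sg 0 (v 0)) l * D.η (sg 1 (v 1)) 0 * D.η (sg 2 (v 2)) 0 by
    rw [D.mul, D.mul]; exact D.congr (sg_sum v) (by simp [bf_add_left, bf_sg, sg, b2]), ← conj_mul, ← conj_mul]
  exact mul_mem (mul_mem (k _ _ _) (k _ _ _)) (k _ _ _)

theorem r_z (i : Fin 3) : Commute (D.r i) D.z := by
  have := D.r_conj i 0 1
  rw [W.act_zero, D.hz] at this
  exact mul_inv_eq_iff_eq_mul.1 this
theorem ρ_r (i : Fin 3) : D.ρ (D.r i) = W.ng i := (D.ρ_lam (D.r_z i) fun v => D.r_conj i v 0).1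
theorem lam_r (i : Fin 3) (v : V) : D.lam (D.r i) v = 0 :=
  (D.ρ_lam (D.r_z i) (f := fun _ => 0) fun v => D.r_conj i v 0).2 v
theorem r_inv (i : Fin 3) : (D.r i)⁻¹ = D.r i := inv_eq_of_mul_eq_one_right (D.r_sq i)

theorem r_η {i : Fin 3} {v : V} {l : F3} : Commute (D.r i) (D.η v l) ↔ v i = 0 := by
  rw [D.commute_η (D.r_z i), D.ρ_r, D.lam_r, and_iff_left rfl]
  refine ⟨fun e => ?_, fun e => funext fun j => ?_⟩
  · have := congrFun e i
    rw [ng_act, if_pos rfl] at this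
    revert this; generalize v i = a; revert a; decide
  · rw [ng_act]; split_ifs with c
    exacts [by rw [c, e, neg_zero], rfl]

theorem r_ne {i : Fin 3} : D.r i ≠ 1 := fun e => by
  have := (D.r_η (i := i) (v := sg i (1, 0)) (l := 0)).1 (e ▸ Commute.one_left _)
  simp [sg] at this

theorem orderOf_r (i : Fin 3) : orderOf (D.r i) = 2 := orderOf_eq_prime (pow_two (D.r i) ▸ D.r_sq i) D.r_ne

/-- An involution commuting with an element modulo the centre commutes with it. -/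
theorem commute_of_sq {s g : G} (hs : s * s = 1) (h1 : Commute s D.z) (h : s * g * s⁻¹ * g⁻¹ ∈ D.Z) :
    Commute s g := by
  have e : s * (s * g * s⁻¹ * g⁻¹) * s⁻¹ * (s * g * s⁻¹ * g⁻¹) = 1 := by
    rw [show s * (s * g * s⁻¹ * g⁻¹) * s⁻¹ * (s * g * s⁻¹ * g⁻¹) = s * s * g * (s * s)⁻¹ * g⁻¹ by group, hs]
    group
  rw [(D.comm_Z h1 h).eq, mul_inv_cancel_right] at e
  have := eq_one_of_sq_cube e (D.Q_cube (D.Z_le h))
  rwa [mul_inv_eq_one, mul_inv_eq_iff_eq_mul] at this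

/-- An element acting linearly and fixing the blocks commutes with the involutions. -/
theorem commute_r {d : G} (hd : Commute d D.z) (h1 : (D.ρ d).σ = 1) (h2 : ∀ v, D.lam d v = 0) (i : Fin 3) :
    Commute d (D.r i) := by
  refine (D.commute_of_sq (D.r_sq i) (D.r_z i) (D.cent_Q fun v => ?_)).symm
  have e : ∀ v l, D.r i * d * D.η v l * (D.r i * d)⁻¹ = d * D.r i * D.η v l * (d * D.r i)⁻¹ := fun v l => by
    rw [show D.r i * d * D.η v l * (D.r i * d)⁻¹ = D.r i * (d * D.η v l * d⁻¹) * (D.r i)⁻¹ by group,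
      show d * D.r i * D.η v l * (d * D.r i)⁻¹ = d * (D.r i * D.η v l * (D.r i)⁻¹) * d⁻¹ by group,
      D.conj d hd, D.r_conj, D.r_conj, D.conj d hd, h2, h2]
    refine D.congr (funext fun j => ?_) rfl
    rw [ng_act]
    simp only [W.act, h1, inv_one, Perm.one_apply]
    by_cases c : j = i <;> simp [c, W.ng, a2_m, a2_one, a2_neg]
  obtain ⟨w, l, e1⟩ := D.conj_mem (hd.mul_left (D.r_z i)).inv_left (D.η_mem v 0)
  have := e w l
  rw [← e1] at this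
  rw [Commute, SemiconjBy, ← mul_inv_eq_iff_eq_mul]
  exact Eq.trans (by group) (this.trans (by group))

theorem r_comm (i j : Fin 3) : Commute (D.r i) (D.r j) :=
  D.commute_r (D.r_z i) (by rw [D.ρ_r]; rfl) (D.lam_r i) j

/-- The image of a subgroup in the symplectic space. -/
def vS (A : Subgroup G) : Submodule F3 V where
  carrier := {v | ∃ l, D.η v l ∈ A}
  add_mem' := fun ⟨_, h⟩ ⟨_, h'⟩ => ⟨_, D.mul _ _ _ _ ▸ mul_mem h h'⟩
  zero_mem' := ⟨0, D.zero ▸ one_mem A⟩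
  smul_mem' := fun k _ ⟨_, h⟩ => ⟨_, by rw [← D.p3_η]; exact pow_mem h _⟩

theorem mem_vS {A : Subgroup G} {v : V} : v ∈ D.vS A ↔ ∃ l, D.η v l ∈ A := Iff.rfl

theorem card_of_z {A : Subgroup G} (h : A ≤ D.Q) (hz : D.z ∈ A) : Nat.card A = 3 * Nat.card (D.vS A) := by
  have k : ∀ {v l} (l' : F3), D.η v l ∈ A → D.η v l' ∈ A := fun {v l} l' e => by
    have := mul_mem e (pow_mem hz (l' - l).val)
    rwa [← p3, ← D.η_zero, D.mul, add_zero, bf_zero_right, add_zero, add_sub_cancel] at this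
  refine Eq.trans ?_ ((Nat.card_prod F3 (D.vS A)).trans (by rw [Nat.card_zmod]))
  refine (Nat.card_eq_of_bijective (fun p : F3 × D.vS A => (⟨D.η p.2 p.1, k _ p.2.2.choose_spec⟩ : A))
    ⟨fun p q e => ?_, fun ⟨q, hq⟩ => ?_⟩).symm
  · have := D.inj (congrArg Subtype.val e)
    exact Prod.ext this.2 (Subtype.ext this.1)
  · obtain ⟨v, l, rfl⟩ := h hq
    exact ⟨(l, ⟨v, l, hq⟩), rfl⟩

theorem card_of_nz {A : Subgroup G} (h : A ≤ D.Q) (hz : D.z ∉ A) : Nat.card A = Nat.card (D.vS A) := by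
  refine (Nat.card_eq_of_bijective (fun p : D.vS A => (⟨D.η p p.2.choose, p.2.choose_spec⟩ : A))
    ⟨fun p q e => Subtype.ext (D.inj (congrArg Subtype.val e)).1, fun ⟨q, hq⟩ => ?_⟩).symm
  obtain ⟨v, l, rfl⟩ := h hq
  have h1 : v ∈ D.vS A := ⟨l, hq⟩
  refine ⟨⟨v, h1⟩, Subtype.ext (D.congr rfl (by_contra fun n => hz ?_))⟩
  have := pow_mem (mul_mem h1.choose_spec (inv_mem hq)) (h1.choose - l).val
  rw [← p3, D.inv, D.mul, D.p3_η, add_neg_cancel, smul_zero, bf_neg_right, bf_self] at this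
  rw [← D.hz]
  convert this using 2
  exact (by decide : ∀ a l : F3, ¬ a = l → 1 = (a - l) * (a + -l + -0)) _ _ n

theorem card_le_vS {A : Subgroup G} (h : A ≤ D.Q) : Nat.card A ≤ 3 * Nat.card (D.vS A) := by
  by_cases hz : D.z ∈ A
  · exact (D.card_of_z h hz).le
  · rw [D.card_of_nz h hz]; omega

theorem card_Q : Nat.card D.Q = 3 ^ 7 := by
  rw [D.card_of_z le_rfl D.z_mem, show D.vS D.Q = ⊤ from eq_top_iff.2 fun v _ => ⟨0, D.η_mem v 0⟩,
    Nat.card_congr Submodule.topEquiv.toEquiv, card_V]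
  rfl

theorem pQ : IsPGroup 3 D.Q := IsPGroup.of_card D.card_Q

theorem vS_mul_le {A B : Subgroup G} (h : ∀ a ∈ A, ∀ b ∈ B, Commute a b) :
    Nat.card (D.vS A) * Nat.card (D.vS B) ≤ 729 := by
  rw [← card_mul_card_perp (D.vS A)]
  exact Nat.mul_le_mul_left _ (Nat.card_le_card_of_injective _ (Submodule.inclusion_injective
    fun v ⟨_, hv⟩ w ⟨_, hw⟩ => D.comm_iff.1 (h _ hw _ hv)))

theorem ab81 {A : Subgroup G} (h : A ≤ D.Q) (hc : ∀ a ∈ A, ∀ b ∈ A, Commute a b) : Nat.card A ≤ 81 := by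
  have h1 := D.vS_mul_le hc
  have h2 := D.card_le_vS h
  nlinarith

theorem ab27 {A : Subgroup G} (h : A ≤ D.Q) (hz : D.z ∉ A) (hc : ∀ a ∈ A, ∀ b ∈ A, Commute a b) :
    Nat.card A ≤ 27 := by
  have h1 := D.vS_mul_le hc
  rw [← D.card_of_nz h hz] at h1
  nlinarith

theorem card_cent {x : G} (h : x ∈ D.Q) (hz : x ∉ D.Z) : Nat.card ↥(D.Q ⊓ centralizer {x}) = 3 ^ 6 := by
  obtain ⟨v, l, rfl⟩ := h
  have h1 := card_mul_card_perp (Submodule.span F3 {v})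
  have : Fact (Nat.Prime 3) := ⟨Nat.prime_three⟩
  rw [Module.natCard_eq_pow_finrank (K := F3), finrank_span_singleton (mt D.η_mem_Z.2 hz), Nat.card_zmod] at h1
  rw [D.card_of_z inf_le_left ⟨D.z_mem, mem_centralizer_singleton_iff.2 (D.η_z v l).symm⟩,
    show D.vS (D.Q ⊓ centralizer {D.η v l}) = BF.orthogonal (Submodule.span F3 {v}) from
      Submodule.ext fun w => ⟨fun ⟨_, _, e⟩ u hu => ?_, fun e => ⟨0, D.η_mem _ _, mem_centralizer_singleton_iff.2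
        (D.comm_iff.2 (e v (Submodule.mem_span_singleton_self v))).symm⟩⟩]
  · omega
  · obtain ⟨k, rfl⟩ := Submodule.mem_span_singleton.1 hu
    have := D.comm_iff.1 (Commute.symm (mem_centralizer_singleton_iff.1 e))
    change bf (k • v) w = 0
    rw [bf_smul_left, this, mul_zero]

theorem card_QS (s : Finset (Fin 3)) : Nat.card (D.QS s) = 3 * 9 ^ s.card := by
  rw [D.card_of_z (D.QS_le _) (D.Z_le_QS _ (mem_zpowers _))]
  congr 1
  rw [Nat.card_eq_of_bijective (fun (v : D.vS (D.QS s)) (i : s) => v.1 i) ⟨fun v w e => ?_, fun f => ?_⟩]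
  · simp [V2]
  · refine Subtype.ext (funext fun j => ?_)
    by_cases c : j ∈ s
    · exact congrFun e ⟨j, c⟩
    · rw [D.η_mem_QS.1 v.2.choose_spec j c, D.η_mem_QS.1 w.2.choose_spec j c]
  · exact ⟨⟨fun j => if c : j ∈ s then f ⟨j, c⟩ else 0, 0, D.η_mem_QS.2 fun j c => dif_neg c⟩,
      funext fun j => dif_pos j.2⟩

theorem cj_z (g : G) : (D.cj g).z = g * D.z * g⁻¹ := rfl
theorem cj_η (g : G) (v : V) (l : F3) : (D.cj g).η v l = g * D.η v l * g⁻¹ := rfl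
theorem cj_r (g : G) (i : Fin 3) : (D.cj g).r i = g * D.r i * g⁻¹ := rfl
theorem cj_ρ (g h : G) : (D.cj g).ρ h = D.ρ (g⁻¹ * h * g) := rfl
theorem cj_lam (g h : G) : (D.cj g).lam h = D.lam (g⁻¹ * h * g) := rfl

theorem mem_cj_Q {g q : G} : q ∈ (D.cj g).Q ↔ g⁻¹ * q * g ∈ D.Q :=
  exists₂_congr fun v l => ⟨fun e => by rw [e, cj_η]; group, fun e => by rw [cj_η, ← e]; group⟩

theorem inv_nz {n : G} (hn : n * D.z * n⁻¹ ∈ D.Z) : n⁻¹ * D.z * n⁻¹⁻¹ ∈ D.Z := by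
  rcases D.mem_Z'.1 hn with e | e | e
  · exact absurd (conj_eq_one_iff.1 e) D.z_ne
  · rw [show n⁻¹ * D.z * n⁻¹⁻¹ = n⁻¹ * (n * D.z * n⁻¹) * n by rw [e, inv_inv]]
    simp [mul_assoc]
  · rw [show n⁻¹ * D.z * n⁻¹⁻¹ = n⁻¹ * (n * D.z * n⁻¹)⁻¹ * n by rw [e, inv_inv, inv_inv]]
    simp [mul_assoc]

theorem cj_Q {n : G} (hn : n * D.z * n⁻¹ ∈ D.Z) : (D.cj n).Q = D.Q := by
  refine Subgroup.ext fun q => D.mem_cj_Q.trans ⟨fun h => ?_, fun h => ?_⟩
  · simpa [mul_assoc] using D.conj_mem' hn h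
  · simpa using D.conj_mem' (D.inv_nz hn) h

theorem St.cj {D : FD G} (h : D.St) (g : G) : (D.cj g).St := fun Y h1 h2 => by
  let φ := (MulAut.conj g⁻¹).toMonoidHom
  have i : Function.Injective φ := (MulAut.conj g⁻¹).injective
  have := h (Y.map φ) (by
    rintro _ ⟨y, hy, rfl⟩
    exact D.mem_H.2 ((Commute.conj_iff g).1 (by simpa [φ, mul_assoc, cj_z] using (D.cj g).mem_H.1 (h1 hy))))
    (h2.map φ)
  rw [card_map_of_injective i] at this
  refine this.trans (Nat.mul_le_mul_left _ (le_of_eq ?_))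
  rw [← card_map_of_injective (K := Y ⊓ (D.cj g).Q) i]
  congr 2
  ext x
  exact ⟨fun ⟨⟨y, a, b⟩, c⟩ => ⟨y, ⟨a, D.mem_cj_Q.2 (by simpa [φ, ← b] using c)⟩, b⟩,
    fun ⟨y, ⟨a, c⟩, b⟩ => ⟨⟨y, a, b⟩, by simpa [φ, ← b] using D.mem_cj_Q.1 c⟩⟩

end FD

end Cfsg.Lib.C22
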