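import Cfsg.Agent.Recog.C22Api

/-!
Conjugates of the three involutions and Sylow subgroups in the coordinates for `Fi₂₂`.
-/

set_option autoImplicit false

namespace Cfsg.Lib.C22

open Cfsg Subgroup Equiv Cfsg.Lib.Recog.P43 Cfsg.Lib.Recog.P43.Q

theorem blk_lin : ∀ (g : Q) (a : V2), (∀ v, a2 g v = v → b2 a v = 0) →
    ∃ c, ∀ v, b2 a v = b2 c (a2 g v) - b2 c v := by decide +kernel

theorem blk_fix : ∀ g : Q, g ≠ 1 → ∀ a b : V2, a2 g a = a → a2 g b = b → b2 a b = 0 := by decide +kernel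

theorem Q_pow12 : ∀ g : Q, g ^ 12 = 1 := by decide +kernel

theorem cy_cases : ∀ σ : Perm (Fin 3), (∀ i, σ i ≠ i) →
    (σ 0 = 1 ∧ σ 1 = 2 ∧ σ 2 = 0) ∨ (σ 0 = 2 ∧ σ 1 = 0 ∧ σ 2 = 1) := by decide

theorem perm3_cases : ∀ σ : Perm (Fin 3), σ = 1 ∨ (∀ i, σ i ≠ i) ∨ (σ ^ 2 = 1 ∧ σ ≠ 1) := by decide

theorem pow_three_of {M : Type*} [Group M] {g : M} {k : ℕ} (h : g ^ 3 ^ k = 1) (h' : g ^ 12 = 1) :
    g ^ 3 = 1 := by
  have h1 := orderOf_dvd_of_pow_eq_one h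
  have h2 := orderOf_dvd_of_pow_eq_one h'
  obtain ⟨j, -, e⟩ := (Nat.dvd_prime_pow Nat.prime_three).1 h1
  rw [← orderOf_dvd_iff_pow_eq_one]
  rw [e] at h2 ⊢
  rcases j with _ | _ | j
  · simp
  · simp
  · exact absurd ((pow_dvd_pow 3 (show 2 ≤ j + 1 + 1 by omega)).trans h2) (by decide)

namespace W

theorem act_ext' {x y : W} (e : ∀ i a, x.act (sg i a) = y.act (sg i a)) : x = y :=
  act_ext fun v => by rw [sg_sum v, act_add, act_add, act_add, act_add, e, e, e]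

theorem conj_ng (x : W) (i : Fin 3) : x * ng i * x⁻¹ = ng (x.σ i) := by
  refine W.ext (by simp [ng]) (funext fun j => ?_)
  by_cases c : j = x.σ i
  · simp [ng, c, m_facts.2.2.2.1]
  · have : ¬ x.σ.symm j = i := fun e => c (by rw [← e]; simp)
    simp [ng, c, this]

theorem act_σ1 {x : W} (h : x.σ = 1) (v : V) (i : Fin 3) : x.act v i = a2 (x.g i) (v i) := by simp [act, h]

theorem pow_g {x : W} (h : x.σ = 1) (n : ℕ) (i : Fin 3) : (x ^ n).g i = x.g i ^ n := by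
  induction n with
  | zero => rfl
  | succ n ih => rw [pow_succ', mul_g, h, pow_succ', ← ih]; rfl

theorem σ_cases {x : W} {k : ℕ} (h : x ^ 3 ^ k = 1) : x.σ = 1 ∨ x.Cy := by
  rcases perm3_cases x.σ with e | e | e
  exacts [.inl e, .inr e, absurd (by
    have h1 : x.σ ^ 3 ^ k = 1 := by rw [← show σHom x = x.σ from rfl, ← map_pow, h, map_one]
    simpa [((by decide : Nat.Coprime 3 2).pow_left k).gcd_eq_one] using pow_gcd_eq_one.2 ⟨h1, e.1⟩) e.2]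

theorem cube_of {x : W} {k : ℕ} (h : x ^ 3 ^ k = 1) (h1 : x.σ = 1) : x ^ 3 = 1 :=
  W.ext (by rw [← show σHom (x ^ 3) = (x ^ 3).σ from rfl, map_pow, show σHom x = 1 from h1, one_pow]; rfl)
    (funext fun i => by
      rw [pow_g h1]
      exact pow_three_of (k := k) (by rw [← pow_g h1, h]; rfl) (Q_pow12 _))

theorem bf_fix_cy {x : W} (h : x.Cy) {v w : V} (hv : x.act v = v) (hw : x.act w = w) : bf v w = 0 := by
  have e : ∀ i, b2 (v (x.σ i)) (w (x.σ i)) = b2 (v i) (w i) := fun i => by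
    conv_lhs => rw [← hv, ← hw, act_apply, act_apply, b2_a2]
  have e0 := e 0
  have e1 := e 1
  rcases cy_cases _ h with ⟨a, b, -⟩ | ⟨a, b, -⟩ <;> rw [a] at e0 <;> rw [b] at e1 <;> unfold bf
  · linear_combination 2 * e0 + e1 + b2 (v 0) (w 0) * three_eq
  · linear_combination e0 - e1 + b2 (v 0) (w 0) * three_eq

theorem bf_fix_diag {x : W} (h : x.σ = 1) (h' : ∀ i, x.g i ≠ 1) {v w : V} (hv : x.act v = v)
    (hw : x.act w = w) : bf v w = 0 := by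
  have e : ∀ i, b2 (v i) (w i) = 0 := fun i => blk_fix _ (h' i) _ _
    (by rw [← act_σ1 h, hv]) (by rw [← act_σ1 h, hw])
  simp [bf, e]

end W

variable {G : Type*} [Group G]

namespace FD

theorem lam_conj_η (D : FD G) {y : G} (hy : Commute y D.z) (u : V) (k : F3) (v : V) :
    D.lam (D.η u k * y * (D.η u k)⁻¹) v = D.lam y v - (bf u ((D.ρ y).act v) - bf u v) := by
  have h := D.η_z u k
  rw [D.lam_mul (h.mul_left hy) h.inv_left, D.lam_mul h hy, D.inv, D.ρ_η, W.act_one, D.lam_η, D.lam_η, bf_neg_left]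
  ring

theorem exists_lin (D : FD G) {y : G} (hy : Commute y D.z) (h1 : (D.ρ y).σ = 1)
    (h2 : ∀ v, (D.ρ y).act v = v → D.lam y v = 0) : ∃ q ∈ D.Q, ∀ v, D.lam (q * y * q⁻¹) v = 0 := by
  obtain ⟨u, e⟩ := D.exists_lam hy
  choose c hc using fun i => blk_lin ((D.ρ y).g i) (u i) fun a ha => by
    have := h2 (sg i a) (by rw [W.act_sg, h1, Perm.one_apply, ha])
    rw [e, bf_swap, bf_sg, neg_eq_zero] at this
    revert this; unfold b2; intro this; linear_combination -this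
  refine ⟨_, D.η_mem c 0, fun v => ?_⟩
  rw [D.lam_conj_η hy, e]
  simp only [bf, W.act_σ1 h1, hc]
  ring

theorem conj_r_eq (D : FD G) {j : Fin 3} {v w : V} (h : v j = w j) (l k : F3) :
    D.η v l * D.r j * (D.η v l)⁻¹ = D.η w k * D.r j * (D.η w k)⁻¹ := by
  have : Commute (D.r j) ((D.η w k)⁻¹ * D.η v l) := by
    rw [D.inv, D.mul, D.r_η, Pi.add_apply, Pi.neg_apply, h, neg_add_cancel]
  rw [show D.η v l * D.r j * (D.η v l)⁻¹ = D.η w k * ((D.η w k)⁻¹ * D.η v l * D.r j) * (D.η v l)⁻¹ by group,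
    ← this.eq]
  group

theorem eq_r (D : FD G) {t : G} (h1 : Commute t D.z) (h5 : t * t = 1) {j : Fin 3} (h2 : D.ρ t = W.ng j)
    (h : ∀ v, D.lam t v = 0) : D.r j = t := by
  have h3 : (D.r j)⁻¹ * t ∈ D.Z := D.cent_Q fun v => by
    rw [Commute, SemiconjBy, mul_assoc, mul_inv_eq_iff_eq_mul.1 (D.conj _ h1 v 0), h, h2, add_zero,
      ← D.r_conj]
    group
  refine inv_mul_eq_one.1 (eq_one_of_sq_cube ?_ (D.Q_cube (D.Z_le h3)))
  rw [← mul_assoc, ← (D.comm_Z (D.r_z j).inv_left h3).eq, D.r_inv, mul_assoc, mul_assoc, h5, mul_one, D.r_sq]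

theorem inv_conj (D : FD G) {s : G} (hs : s * s = 1) (hz : Commute s D.z) {j : Fin 3} (e : D.ρ s = W.ng j) :
    ∃ q ∈ D.QS {j}, s = q * D.r j * q⁻¹ := by
  obtain ⟨_, ⟨u, k, rfl⟩, h⟩ := D.exists_lin hz (by rw [e]; rfl) fun v hv => by
    have := D.lam_mul hz hz v
    rw [hs, hv, (D.commute_η (Commute.one_left _)).1 (Commute.one_left (D.η v 0)) |>.2] at this
    revert this; generalize D.lam s v = a; revert a; decide
  have h1 : Commute (D.η u k * s * (D.η u k)⁻¹) D.z := ((D.η_z u k).mul_left hz).mul_left (D.η_z u k).inv_left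
  have h2 : D.ρ (D.η u k * s * (D.η u k)⁻¹) = W.ng j := by rw [D.ρ_conj (D.η_z u k) hz, D.ρ_η, e]; simp
  have h5 : D.η u k * s * (D.η u k)⁻¹ * (D.η u k * s * (D.η u k)⁻¹) = 1 := by
    rw [conj_mul, hs, mul_one, mul_inv_cancel]
  refine ⟨D.η (sg j (-u j)) 0, D.η_mem_QS.2 fun i hi => if_neg hi, ?_⟩
  rw [D.conj_r_eq (v := sg j (-u j)) (w := -u) (if_pos rfl) 0 (-k), ← D.inv, D.eq_r h1 h5 h2 h]
  group

theorem conj_r (D : FD G) {h : G} (hh : Commute h D.z) (i : Fin 3) :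
    ∃ q ∈ D.QS {(D.ρ h).σ i}, h * D.r i * h⁻¹ = q * D.r ((D.ρ h).σ i) * q⁻¹ :=
  D.inv_conj (by rw [conj_mul, D.r_sq, mul_one, mul_inv_cancel]) ((hh.mul_left (D.r_z i)).mul_left hh.inv_left)
    (by rw [D.ρ_conj hh (D.r_z i), D.ρ_r, W.conj_ng])

theorem adj (D : FD G) {p : G} (hp : Commute p D.z) {i : Fin 3} (h : (D.ρ p).σ i = i) :
    ∃ p', Commute p' D.z ∧ D.ρ p' = D.ρ p ∧ Commute p' (D.r i) := by
  obtain ⟨q, h1, e⟩ := D.conj_r hp i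
  rw [h] at h1 e
  have h2 := (D.Q_z (D.QS_le _ h1)).inv_left
  refine ⟨q⁻¹ * p, h2.mul_left hp, by rw [D.ρ_mul h2 hp, D.ρ_Q (inv_mem (D.QS_le _ h1)), one_mul], ?_⟩
  rw [Commute, SemiconjBy, mul_assoc, mul_inv_eq_iff_eq_mul.1 e]
  group

theorem conj_Z (D : FD G) {n w : G} (hn : n * D.z * n⁻¹ ∈ D.Z) (hw : w ∈ D.Z) : n * w * n⁻¹ ∈ D.Z := by
  obtain ⟨k, rfl⟩ := hw
  exact conj_zpow (i := k) (a := n) (b := D.z) ▸ zpow_mem hn k

theorem nz_r (D : FD G) {n : G} (hn : n * D.z * n⁻¹ ∈ D.Z) :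
    ∃ i, ∃ q ∈ D.QS {i}, n * D.r 0 * n⁻¹ = q * D.r i * q⁻¹ := by
  rcases D.mem_Z'.1 hn with e | e | e
  · exact absurd (conj_eq_one_iff.1 e) D.z_ne
  · exact ⟨_, D.conj_r (mul_inv_eq_iff_eq_mul.1 e) 0⟩
  have hz : Commute (n * D.r 0 * n⁻¹) D.z :=
    (Commute.inv_right_iff.1 (e ▸ (Commute.conj_iff n).2 (D.r_z 0)))
  obtain ⟨σ, h⟩ := D.nz n⁻¹ (by nth_rewrite 1 [← inv_inv D.z, ← e]; group)
  refine ⟨σ⁻¹ 0, D.inv_conj (by rw [conj_mul, D.r_sq, mul_one, mul_inv_cancel]) hz (W.act_ext' fun i a => ?_)⟩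
  obtain ⟨b, l, e1⟩ := h i a 0
  have e2 := D.conj _ hz (sg i a) 0
  rw [show n * D.r 0 * n⁻¹ * D.η (sg i a) 0 * (n * D.r 0 * n⁻¹)⁻¹ =
    n * (D.r 0 * (n⁻¹ * D.η (sg i a) 0 * n⁻¹⁻¹) * (D.r 0)⁻¹) * n⁻¹ by group, e1, D.r_conj] at e2
  have e3 : n * D.η (sg (σ i) b) l * n⁻¹ = D.η (sg i a) 0 := by rw [← e1]; group
  by_cases c : σ i = 0
  · obtain ⟨k, e4⟩ := D.mem_Z.1 (D.conj_Z hn (D.η_mem_Z (l := l + l).2 rfl))
    rw [show D.η ((W.ng 0).act (sg (σ i) b)) l = (D.η (sg (σ i) b) l)⁻¹ * D.η 0 (l + l) by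
      rw [D.inv, D.mul, W.act_sg, c, bf_zero_right]
      exact D.congr (funext fun j => by by_cases d : j = 0 <;> simp [W.ng, sg, d, a2_m]) (by ring),
      ← conj_mul, ← conj_inv, e3, e4, D.inv, D.mul] at e2
    rw [← (D.inj e2).1, ← c, W.act_sg]
    exact funext fun j => by by_cases d : j = i <;> simp [W.ng, sg, d, a2_m]
  · rw [show (W.ng 0).act (sg (σ i) b) = sg (σ i) b by simp [W.act_sg, W.ng, c, a2_one], e3] at e2
    have : ¬ i = σ.symm 0 := fun e => c (by rw [e]; simp)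
    rw [← (D.inj e2).1, W.act_sg]
    simp [W.ng, this, a2_one]

theorem Sh0.rot {D : FD G} (h : D.Sh0) : ∃ y, Commute y D.z ∧ y * D.r 0 * y⁻¹ = D.r 1 ∧
    y * D.r 1 * y⁻¹ = D.r 2 ∧ y * D.r 2 * y⁻¹ = D.r 0 := by
  obtain ⟨y, hy, h0, h1, h2⟩ : ∃ y, Commute y D.z ∧ (D.ρ y).σ 0 = 1 ∧ (D.ρ y).σ 1 = 2 ∧ (D.ρ y).σ 2 = 0 := by
    obtain ⟨y, hy, c⟩ := h.cy
    rcases cy_cases _ c with e | ⟨a, b, c⟩
    · exact ⟨y, hy, e⟩
    · exact ⟨y * y, hy.mul_left hy, by simp [D.ρ_mul hy hy, a, b, c]⟩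
  obtain ⟨_, ⟨u, a, -, rfl⟩, e0⟩ := D.conj_r hy 0
  obtain ⟨_, ⟨v, b, -, rfl⟩, e1⟩ := D.conj_r hy 1
  obtain ⟨_, ⟨w, c, -, rfl⟩, e2⟩ := D.conj_r hy 2
  rw [h0, D.conj_r_eq (j := 1) (v := u) (w := ![w 0, u 1, v 2]) rfl a 0] at e0
  rw [h1, D.conj_r_eq (j := 2) (v := v) (w := ![w 0, u 1, v 2]) rfl b 0] at e1
  rw [h2, D.conj_r_eq (j := 0) (v := w) (w := ![w 0, u 1, v 2]) rfl c 0] at e2
  have k : ∀ {q s t : G}, y * s * y⁻¹ = q * t * q⁻¹ → q⁻¹ * y * s * (q⁻¹ * y)⁻¹ = t := fun {q s t} e => by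
    rw [show q⁻¹ * y * s * (q⁻¹ * y)⁻¹ = q⁻¹ * (y * s * y⁻¹) * q by group, e]; group
  exact ⟨_, (D.η_z _ _).inv_left.mul_left hy, k e0, k e1, k e2⟩

theorem le_H [Finite G] (D : FD G) {T : Subgroup G} (h3 : IsPGroup 3 T) (hQ : D.Q ≤ T) : T ≤ D.H := by
  have : Fact (Nat.Prime 3) := ⟨Nat.prime_three⟩
  have : Nontrivial T := ⟨⟨⟨D.z, hQ D.z_mem⟩, 1, fun e => D.z_ne (congrArg Subtype.val e)⟩⟩
  have := h3.center_nontrivial
  obtain ⟨⟨c, hc⟩, h1⟩ := exists_ne (1 : center T)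
  have k : ∀ t ∈ T, Commute t c := fun t ht => congrArg Subtype.val (mem_center_iff.1 hc ⟨t, ht⟩)
  intro t ht
  rcases D.mem_Z'.1 (D.cent_Q fun v => (k _ (hQ (D.η_mem v 0))).symm) with e | e | e
  · exact absurd (Subtype.ext (Subtype.ext e)) h1
  · exact D.mem_H.2 (e ▸ k t ht)
  · exact D.mem_H.2 (Commute.inv_right_iff.1 (e ▸ k t ht))

theorem exists_conj_le [Finite G] (D : FD G) {M R : Subgroup G} (hM : D.H ≤ M) (hR : R ≤ M)
    (h3 : IsPGroup 3 R) : ∃ g ∈ M, ∀ x ∈ R, Commute (g * x * g⁻¹) D.z := by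
  have : Fact (Nat.Prime 3) := ⟨Nat.prime_three⟩
  obtain ⟨T, hT⟩ := (D.pQ.comap_subtype (K := M)).exists_le_sylow
  obtain ⟨S, hS⟩ := (h3.comap_subtype (K := M)).exists_le_sylow
  obtain ⟨g, rfl⟩ := MulAction.exists_smul_eq M S T
  refine ⟨g, g.2, fun x hx => D.mem_H.1 (D.le_H ((g • S).isPGroup'.map M.subtype)
    (fun q hq => ⟨⟨q, hM (D.Q_le_H hq)⟩, hT hq, rfl⟩) ⟨g * ⟨x, hR hx⟩ * g⁻¹, ?_, rfl⟩)⟩
  exact ⟨⟨x, hR hx⟩, hS hx, rfl⟩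

theorem Sh0.cab {D : FD G} (h : D.Sh0) {t : G} (ht : Commute t D.z) (hQ : t ∉ D.Q) {k : ℕ}
    (h3 : t ^ 3 ^ k = 1) {a b : G} (ha : a ∈ D.Q) (hb : b ∈ D.Q) (h1 : Commute t a) (h2 : Commute t b) :
    Commute a b := by
  obtain ⟨v, l, rfl⟩ := ha
  obtain ⟨w, l', rfl⟩ := hb
  have e : D.ρ t ^ 3 ^ k = 1 := by rw [← D.ρ_pow ht, h3, D.ρ_one]
  have hv := ((D.commute_η ht).1 h1).1
  have hw := ((D.commute_η ht).1 h2).1
  refine D.comm_iff.2 ((W.σ_cases e).elim (fun c => ?_) fun c => W.bf_fix_cy c hv hw)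
  exact W.bf_fix_diag c (h.wt t ht c (W.cube_of e c) (mt (D.ρ_eq_one ht).1 hQ)) hv hw

end FD

end Cfsg.Lib.C22
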