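import Cfsg.Agent.Recog.C22Api
import Cfsg.Agent.Recog.Mc3A

/-!
Coordinates on a central product of three extraspecial groups of order `27`.
-/

set_option autoImplicit false

namespace Cfsg.Lib.C22.Br

open Cfsg Subgroup Equiv Cfsg.Lib.Trans.ES Cfsg.Lib.Recog.P43 Cfsg.Lib.Recog.P43.Q
open scoped commutatorElement

variable {G : Type*} [Group G]

variable (G) in
/-- Coordinates on the extraspecial group. -/
structure E0 where
  z : G
  η : V → F3 → G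
  mul : ∀ v l w k, η v l * η w k = η (v + w) (l + k + bf v w)
  inj₀ : ∀ l, η 0 l = 1 → l = 0
  hz : η 0 1 = z

variable (G) in
/-- The coordinates, without the information on the image in the wreath product. -/
structure F0 extends E0 G where
  r : Fin 3 → G
  ρ : G → W
  lam : G → V → F3
  conj : ∀ h, Commute h z → ∀ v l, h * η v l * h⁻¹ = η ((ρ h).act v) (l + lam h v)
  cent : ∀ g, (∀ v, Commute g (η v 0)) → ∃ v l, g = η v l
  r_sq : ∀ i, r i * r i = 1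
  r_conj : ∀ i v l, r i * η v l * (r i)⁻¹ = η ((W.ng i).act v) l
  nz : ∀ n, n * z * n⁻¹ = z⁻¹ → ∃ σ : Perm (Fin 3), ∀ i a l, ∃ a' l',
    n * η (sg i a) l * n⁻¹ = η (sg (σ i) a') l'

namespace E0

variable (D : E0 G)

theorem zero : D.η 0 0 = 1 := by
  have := D.mul 0 0 0 0
  simpa [bf_self] using this

theorem inv (v : V) (l : F3) : (D.η v l)⁻¹ = D.η (-v) (-l) :=
  inv_eq_of_mul_eq_one_right (by rw [D.mul, ← D.zero, bf_neg_right, bf_self]; simp)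

theorem congr {v w : V} {l k : F3} (h1 : v = w) (h2 : l = k) : D.η v l = D.η w k := by rw [h1, h2]

theorem commutator (v : V) (l : F3) (w : V) (k : F3) : ⁅D.η v l, D.η w k⁆ = D.η 0 (-bf v w) := by
  rw [commutatorElement_def, D.inv, D.inv, D.mul, D.mul, D.mul]
  refine D.congr (by abel) ?_
  simp only [bf_add_left, bf_neg_left, bf_neg_right, bf_self, bf_swap v w]
  linear_combination bf v w * three_eq

theorem comm_iff {v w : V} {l k : F3} : Commute (D.η v l) (D.η w k) ↔ bf v w = 0 := by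
  rw [← commutatorElement_eq_one_iff_commute, D.commutator]
  exact ⟨fun h => neg_eq_zero.1 (D.inj₀ _ h), fun h => by rw [h, neg_zero, D.zero]⟩

theorem inj {v w : V} {l k : F3} (h : D.η v l = D.η w k) : v = w ∧ l = k := by
  rw [← mul_inv_eq_one, D.inv, D.mul] at h
  obtain rfl : v = w := by
    rw [← sub_eq_zero, sub_eq_add_neg]
    exact eq_zero_of_bf fun u => (D.comm_iff (l := 0)).1 (h ▸ Commute.one_right _)
  rw [add_neg_cancel, bf_neg_right, bf_self] at h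
  exact ⟨rfl, by linear_combination D.inj₀ _ h⟩

theorem η_z (v : V) (l : F3) : Commute (D.η v l) D.z := D.hz ▸ D.comm_iff.2 (bf_zero_right v)

theorem η_of_Z {v : V} {l : F3} (h : D.η v l ∈ zpowers D.z) : v = 0 := eq_zero_of_bf fun w => by
  obtain ⟨k, e⟩ := h
  exact (D.comm_iff (l := 0) (k := l)).1 (e ▸ (D.η_z w 0).zpow_right k)

theorem conj_η (u : V) (k : F3) (v : V) (l : F3) : D.η u k * D.η v l * (D.η u k)⁻¹ = D.η v (l - bf u v) := by
  rw [D.inv, D.mul, D.mul]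
  refine D.congr (by abel) ?_
  simp only [bf_add_left, bf_neg_right, bf_self, bf_swap u v]
  linear_combination bf u v * three_eq

end E0

namespace F0

variable (D : F0 G)

theorem ρ_lam {h : G} (hh : Commute h D.z) {w : W} {f : V → F3}
    (e : ∀ v, h * D.η v 0 * h⁻¹ = D.η (w.act v) (f v)) : D.ρ h = w ∧ ∀ v, D.lam h v = f v :=
  ⟨W.act_ext fun v => (D.inj ((D.conj h hh v 0).symm.trans (e v))).1,
    fun v => (zero_add _).symm.trans (D.inj ((D.conj h hh v 0).symm.trans (e v))).2⟩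

theorem ρ_η (u : V) (k : F3) : D.ρ (D.η u k) = 1 :=
  (D.ρ_lam (D.η_z u k) fun v => by rw [D.conj_η, W.act_one]).1
theorem lam_η (u : V) (k : F3) (v : V) : D.lam (D.η u k) v = -bf u v :=
  (D.ρ_lam (D.η_z u k) (w := 1) (f := fun v => -bf u v) fun v => by rw [D.conj_η, W.act_one, zero_sub]).2 v

theorem ρ_lam_mul {g h : G} (hg : Commute g D.z) (hh : Commute h D.z) : D.ρ (g * h) = D.ρ g * D.ρ h ∧
    ∀ v, D.lam (g * h) v = D.lam h v + D.lam g ((D.ρ h).act v) :=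
  D.ρ_lam (hg.mul_left hh) fun v => by
    rw [show g * h * D.η v 0 * (g * h)⁻¹ = g * (h * D.η v 0 * h⁻¹) * g⁻¹ by group, D.conj h hh, D.conj g hg,
      W.act_mul, zero_add]

theorem lam_add {h : G} (hh : Commute h D.z) (v w : V) : D.lam h (v + w) = D.lam h v + D.lam h w := by
  have e : h * (D.η v 0 * D.η w 0) * h⁻¹ = _ := conj_mul.symm
  rw [D.mul, D.conj h hh, D.conj h hh, D.conj h hh, D.mul, W.bf_act] at e
  linear_combination (D.inj e).2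

theorem ρ_eq_one {h : G} (hh : Commute h D.z) (e : D.ρ h = 1) : ∃ v l, h = D.η v l := by
  obtain ⟨u, e1⟩ := exists_bf _ (D.lam_add hh)
  have h2 := (D.η_z u 0).mul_left hh
  obtain ⟨v, l, e2⟩ := D.cent (D.η u 0 * h) fun v => mul_inv_eq_iff_eq_mul.1 (by
    rw [D.conj _ h2, (D.ρ_lam_mul (D.η_z u 0) hh).1, (D.ρ_lam_mul (D.η_z u 0) hh).2, D.ρ_η, e, one_mul,
      W.act_one, D.lam_η, e1, add_neg_cancel, add_zero])
  exact ⟨_, _, by rw [eq_inv_mul_of_mul_eq e2, D.inv, D.mul]⟩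

theorem r_z (i : Fin 3) : Commute (D.r i) D.z :=
  mul_inv_eq_iff_eq_mul.1 (by rw [← D.hz, D.r_conj, W.act_zero])

theorem ρ_r (i : Fin 3) : D.ρ (D.r i) = W.ng i := (D.ρ_lam (D.r_z i) fun v => D.r_conj i v 0).1

end F0

theorem exists_act2 {H H' : Heis G} {g : G}
    (h : ∀ x y z, ∃ x' y' z', g * H.η x y z * g⁻¹ = H'.η x' y' z')
    (ha : g * H.η 0 0 1 * g⁻¹ = H'.η 0 0 1) :
    ∃ q, ∀ x y, ∃ k, g * H.η x y 0 * g⁻¹ = H'.η (ax q x y) (ay q x y) k := by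
  have h3 : (3 : ZMod 3) = 0 := rfl
  obtain ⟨x₁, y₁, z₁, h1⟩ := h 1 0 0
  obtain ⟨x₂, y₂, z₂, h2⟩ := h 0 1 0
  have h4 : H.η 1 0 0 * H.η 0 1 0 = H.η 0 0 1 * H.η 0 0 1 * (H.η 0 1 0 * H.η 1 0 0) := by
    simp only [H.mul]; exact H.congr (by ring) (by ring) (by ring)
  have h5 : g * (H.η 1 0 0 * H.η 0 1 0) * g⁻¹ = g * _ * g⁻¹ := congrArg (fun u => g * u * g⁻¹) h4
  rw [← conj_mul, ← conj_mul, ← conj_mul, ← conj_mul, h1, h2, ha] at h5
  simp only [H'.mul] at h5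
  have h6 : x₁ * y₂ - y₁ * x₂ = 1 := by
    linear_combination 2 * (H'.inj h5).2.2 - (x₁ * y₂ - y₁ * x₂ - 1) * h3
  obtain ⟨q, e0, e2, e1, e3⟩ := Q.exists_act _ _ _ _ h6
  refine ⟨q, fun x y => ?_⟩
  rw [H.decomp x y 0, ← conj_mul, ← conj_mul, conj_p3, conj_p3, conj_p3, h1, h2, ha, H'.p3_η, H'.p3_η,
    H'.p3_η, H'.mul, H'.mul]
  exact ⟨_, H'.congr (by rw [ax, e0, e1]; ring) (by rw [ay, e2, e3]; ring) rfl⟩

/-- Trivial action modulo the centre. -/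
def Pl (z s : G) (A : Subgroup G) : Prop := ∀ q ∈ A, s * q * s⁻¹ * q⁻¹ ∈ zpowers z
/-- Inversion modulo the centre. -/
def Mi (z s : G) (A : Subgroup G) : Prop := ∀ q ∈ A, s * q * s⁻¹ * q ∈ zpowers z

theorem Pl_eq_1' : type_of% @Pl.eq_1 := @Pl.eq_1
theorem Mi_eq_1' : type_of% @Mi.eq_1 := @Mi.eq_1

section Z

variable {z : G}

theorem conjZ {w g : G} (hw : w ∈ zpowers z) (hg : Commute g z) : g * w * g⁻¹ = w := by
  obtain ⟨k, rfl⟩ := hw
  exact mul_inv_eq_of_eq_mul (hg.zpow_right k).eq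

theorem cubeZ (z3 : z ^ 3 = 1) {w : G} (hw : w ∈ zpowers z) : w ^ 3 = 1 := by
  obtain ⟨k, rfl⟩ := hw
  change (z ^ k) ^ 3 = 1
  rw [← zpow_natCast, ← zpow_mul, mul_comm, zpow_mul, zpow_natCast, z3, one_zpow]

theorem pow_conj {k y : G} (hk : Commute k z) (hy : k * y * k⁻¹ * y⁻¹ ∈ zpowers z) (n : ℕ) :
    k ^ n * y * (k ^ n)⁻¹ = (k * y * k⁻¹ * y⁻¹) ^ n * y := by
  induction n with
  | zero => simp
  | succ n ih =>
    rw [pow_succ', show k * k ^ n * y * (k * k ^ n)⁻¹ = k * (k ^ n * y * (k ^ n)⁻¹) * k⁻¹ by group,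
      ih, ← conj_mul, conjZ (pow_mem hy n) hk, pow_succ]
    group

theorem fix (z3 : z ^ 3 = 1) {k y : G} (hk : Commute k z) (k2 : k * k = 1)
    (hy : k * y * k⁻¹ * y⁻¹ ∈ zpowers z) : k * y = y * k := by
  have e := pow_conj hk hy 2
  rw [sq k, k2, sq] at e
  have := eq_one_of_sq_cube (x := k * y * k⁻¹ * y⁻¹) (by simpa using e.symm) (cubeZ z3 hy)
  rwa [mul_inv_eq_one, mul_inv_eq_iff_eq_mul] at this

theorem Pl.mul {s t : G} {A : Subgroup G} (hs : Pl z s A) (ht : Pl z t A) (c : Commute s z) :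
    Pl z (s * t) A := fun q hq => by
  rw [show s * t * q * (s * t)⁻¹ * q⁻¹ = s * (t * q * t⁻¹ * q⁻¹) * s⁻¹ * (s * q * s⁻¹ * q⁻¹) by group,
    conjZ (ht q hq) c]
  exact mul_mem (ht q hq) (hs q hq)

theorem Mi.mul_pl {s t : G} {A : Subgroup G} (hs : Mi z s A) (ht : Pl z t A) (c : Commute s z) :
    Mi z (s * t) A := fun q hq => by
  rw [show s * t * q * (s * t)⁻¹ * q = s * (t * q * t⁻¹ * q⁻¹) * s⁻¹ * (s * q * s⁻¹ * q) by group,
    conjZ (ht q hq) c]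
  exact mul_mem (ht q hq) (hs q hq)

theorem Mi.mul {s t : G} {A : Subgroup G} (hs : Mi z s A) (ht : Mi z t A) (c : Commute s z)
    (hA : ∀ q ∈ A, Commute q z) : Pl z (s * t) A := fun q hq => by
  rw [show s * t * q * (s * t)⁻¹ * q⁻¹ =
    s * (t * q * t⁻¹ * q) * s⁻¹ * (q * (s * q * s⁻¹ * q) * q⁻¹)⁻¹ by group, conjZ (ht q hq) c,
    conjZ (hs q hq) (hA q hq)]
  exact mul_mem (ht q hq) (inv_mem (hs q hq))

theorem heis [Finite G] (z3 : z ^ 3 = 1) (z1 : z ≠ 1) {A : Subgroup G} (hA : IsExtraspecial 3 A)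
    (hc : Nat.card A = 27) (zc : ∀ a ∈ A, Commute a z)
    (nd : ∀ a ∈ A, (∀ b ∈ A, a * b = b * a) → a ∈ zpowers z) {t : G} (tz : Commute t z) (ht : Mi z t A) :
    ∃ H : Heis G, (∀ g, g ∈ A ↔ ∃ x y w, H.η x y w = g) ∧
      H.η 0 0 1 = z ∧ ∀ x y w, t * H.η x y w * t⁻¹ = H.η (-x) (-y) w := by
  have : Fact (Nat.Prime 3) := ⟨Nat.prime_three⟩
  have o : orderOf z = 3 := orderOf_eq_prime z3 z1
  have he : ∀ a ∈ A, a ^ 3 = 1 := fun a ha => by
    have e1 : a ^ 3 ∈ zpowers z := nd _ (pow_mem ha 3) fun b hb => (congrArg Subtype.val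
      (mem_center_iff.1 ((IsPre.of_isExtraspecial hA).pow_mem_center ⟨a, ha⟩) ⟨b, hb⟩)).symm
    have e2 := ht a ha
    have e3 := conjZ e1 tz
    rw [← conj_pow, show t * a * t⁻¹ = t * a * t⁻¹ * a * a⁻¹ by group,
      (show Commute (t * a * t⁻¹ * a) a⁻¹ from
        (mul_inv_eq_iff_eq_mul.1 (conjZ e2 (zc a ha).inv_left)).symm).mul_pow, cubeZ z3 e2, one_mul, inv_pow,
      inv_eq_iff_mul_eq_one] at e3
    exact eq_one_of_sq_cube e3 (cubeZ z3 e1)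
  obtain ⟨H, hH⟩ := exists_heis hA hc he
  obtain ⟨H, hH, hz⟩ : ∃ H : Heis G, (∀ g, g ∈ A ↔ ∃ x y w, H.η x y w = g) ∧ H.η 0 0 1 = z := by
    rcases (Mc3.mem_zp3 o).1 (nd _ ((hH _).2 ⟨0, 0, 1, rfl⟩) fun b hb => by
      obtain ⟨x, y, w, rfl⟩ := (hH b).1 hb
      exact H.comm_iff.2 (by ring)) with e | e | e
    · exact absurd (H.inj₀ 1 e) one_ne_zero
    · exact ⟨H, hH, e⟩
    · refine ⟨⟨fun x y w => H.η x (-y) (-w), fun x y w x' y' w' => ?_, fun w e => ?_⟩, fun g => (hH g).trans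
        ⟨fun ⟨x, y, w, e⟩ => ⟨x, -y, -w, by simpa using e⟩, fun e => ?_⟩, ?_⟩
      · rw [H.mul]; exact H.congr rfl (by ring) (by ring)
      · exact neg_eq_zero.1 (H.inj₀ _ (by simpa using e))
      · obtain ⟨x, y, w, e⟩ := e
        exact ⟨x, -y, -w, e⟩
      · rw [← inv_inv z, ← e, H.inv]; exact H.congr neg_zero.symm rfl rfl
  have hZ : ∀ g ∈ zpowers z, ∃ w, g = H.η 0 0 w := fun g hg => by
    rcases (Mc3.mem_zp3 o).1 hg with rfl | rfl | rfl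
    · exact ⟨0, H.zero.symm⟩
    · exact ⟨1, hz.symm⟩
    · exact ⟨-1, by rw [← hz, H.inv, neg_zero]⟩
  have key : ∀ x y, ∃ l, t * H.η x y 0 * t⁻¹ = H.η (-x) (-y) l := fun x y => by
    obtain ⟨w, e⟩ := hZ _ (ht _ ((hH _).2 ⟨x, y, 0, rfl⟩))
    refine ⟨w, ?_⟩
    rw [eq_mul_inv_of_mul_eq e, H.inv, H.mul]
    exact H.congr (by ring) (by ring) (by ring)
  obtain ⟨l₁, e₁⟩ := key 1 0
  obtain ⟨l₂, e₂⟩ := key 0 1
  refine ⟨H.shift l₁ l₂, fun g => (hH g).trans ⟨fun ⟨x, y, w, e⟩ => ⟨x, y, w - l₁ * x - l₂ * y, ?_⟩,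
    fun ⟨x, y, w, e⟩ => ⟨_, _, _, e⟩⟩, (H.congr rfl rfl (by ring)).trans hz, fun x y w => ?_⟩
  · exact (H.congr rfl rfl (by ring)).trans e
  · change t * H.η x y _ * t⁻¹ = H.η _ _ _
    rw [H.decomp, ← conj_mul, ← conj_mul, conj_p3, conj_p3, conj_p3, e₁, e₂, hz, tz.eq, mul_inv_cancel_right,
      ← hz, H.p3_η, H.p3_η, H.p3_η, H.mul, H.mul]
    exact H.congr (by ring) (by ring) (by linear_combination (l₁ * x + l₂ * y) * three_eq)

end Z

/-- The hypotheses in the ambient group. -/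
structure BR (z : G) (R P : Subgroup G) (A : Fin 3 → Subgroup G) : Prop where
  z3 : z ^ 3 = 1
  z1 : z ≠ 1
  Rz : ∀ q ∈ R, Commute q z
  Pz : ∀ x ∈ P, Commute x z
  le : ∀ i, A i ≤ R
  nR : ∀ n, n * z * n⁻¹ ∈ zpowers z → ∀ q ∈ R, n * q * n⁻¹ ∈ R
  nP : ∀ n, n * z * n⁻¹ ∈ zpowers z → ∀ q ∈ P, n * q * n⁻¹ ∈ P
  cent : ∀ g, (∀ q ∈ R, g * q = q * g) → g ∈ zpowers z
  ext : ∀ i, IsExtraspecial 3 (A i)
  card : ∀ i, Nat.card (A i) = 27
  comm : ∀ i j, i ≠ j → ∀ a ∈ A i, ∀ b ∈ A j, a * b = b * a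
  dec : ∀ q ∈ R, ∃ a ∈ A 0, ∃ b ∈ A 1, ∃ c ∈ A 2, q = a * b * c
  inv : ∀ s ∈ P, s * s = 1 → ∀ i, Pl z s (A i) ∨ Mi z s (A i)
  cen : ∀ i, ∃ x ∈ P, Mi z x (A i) ∧ ∀ j, j ≠ i → Pl z x (A j)

namespace BR

variable {z : G} {R P : Subgroup G} {A : Fin 3 → Subgroup G} (h : BR z R P A)
include h

theorem cent' {g : G} (e : ∀ i, ∀ a ∈ A i, g * a = a * g) : g ∈ zpowers z := h.cent g fun q hq => by
  obtain ⟨a, ha, b, hb, c, hc, rfl⟩ := h.dec q hq
  exact (((show Commute g a from e 0 a ha).mul_right (e 1 b hb)).mul_right (e 2 c hc)).eq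

theorem nd (i : Fin 3) : ∀ a ∈ A i, (∀ b ∈ A i, a * b = b * a) → a ∈ zpowers z := fun a ha e =>
  h.cent' fun j b hb => by
    by_cases c : i = j
    · exact e b (c ▸ hb)
    · exact h.comm i j c a ha b hb

theorem exists_r (i : Fin 3) : ∃ r ∈ P, r * r = 1 ∧ Mi z r (A i) ∧ ∀ j, j ≠ i → ∀ a ∈ A j, r * a = a * r := by
  obtain ⟨x, hx, h1, h2⟩ := h.cen i
  have c := h.Pz x hx
  have p2 : ∀ j, Pl z (x * x) (A j) := fun j => by
    by_cases e : j = i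
    · exact e ▸ h1.mul h1 c fun q hq => h.Rz q (h.le _ hq)
    · exact (h2 j e).mul (h2 j e) c
  have c2 := c.mul_left c
  have p6 : (x * x) ^ 3 ∈ zpowers z := h.cent' fun j a ha => mul_inv_eq_iff_eq_mul.1 (by
    rw [pow_conj c2 (p2 j a ha), cubeZ h.z3 (p2 j a ha), one_mul])
  have p8 : ∀ j, Pl z (x * x * (x * x * (x * x * (x * x)))) (A j) := fun j =>
    (p2 j).mul ((p2 j).mul ((p2 j).mul (p2 j) c2) c2) c2
  have r2 : x * (x * x * (x * x * (x * x * (x * x)))) * (x * (x * x * (x * x * (x * x * (x * x))))) = 1 := by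
    rw [← cubeZ h.z3 p6]
    simp only [pow_succ, pow_zero, one_mul, mul_assoc]
  have m2 := mul_mem hx hx
  have m9 := mul_mem hx (mul_mem m2 (mul_mem m2 (mul_mem m2 m2)))
  exact ⟨_, m9, r2, h1.mul_pl (p8 i) c, fun j e a ha =>
    fix h.z3 (h.Pz _ m9) r2 ((h2 j e).mul (p8 j) c a ha)⟩

theorem exists_E0 [Finite G] : ∃ D : E0 G, ∃ r : Fin 3 → G, ∃ H : Fin 3 → Heis G, D.z = z ∧
    (∀ i a l, D.η (sg i a) l = (H i).η a.1 a.2 l) ∧ (∀ i g, g ∈ A i ↔ ∃ x y w, (H i).η x y w = g) ∧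
    (∀ q, q ∈ R ↔ ∃ v l, q = D.η v l) ∧ (∀ i, r i ∈ P ∧ r i * r i = 1) ∧
    ∀ i v l, r i * D.η v l * (r i)⁻¹ = D.η ((W.ng i).act v) l := by
  choose r rP r2 rM rc using h.exists_r
  choose H hH hz hr using fun i => heis h.z3 h.z1 (h.ext i) (h.card i) (fun a ha => h.Rz a (h.le i ha)) (h.nd i)
    (h.Pz _ (rP i)) (rM i)
  have hm : ∀ i x y w, (H i).η x y w ∈ A i := fun i x y w => (hH i _).2 ⟨_, _, _, rfl⟩
  have e0 : ∀ i j w, (H i).η 0 0 w = (H j).η 0 0 w := fun i j w => by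
    rw [(H i).decomp, (H j).decomp, hz, hz, p3_zero, p3_zero, p3_zero, p3_zero]
  have sh : ∀ i j x y w x' y' w', (H i).η x y w * (H j).η x' y' w' = (H i).η x y 0 * (H j).η x' y' (w + w') :=
    fun i j x y w x' y' w' => by
      rw [show (H i).η x y w = (H i).η x y 0 * (H i).η 0 0 w by
        rw [(H i).mul]; exact (H i).congr (by ring) (by ring) (by ring), e0 i j, mul_assoc, (H j).mul]
      exact congrArg _ ((H j).congr (by ring) (by ring) (by ring))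
  have sh3 : ∀ x y w x' y' w' x'' y'' w'', (H 0).η x y w * (H 1).η x' y' w' * (H 2).η x'' y'' w'' =
      (H 0).η x y 0 * (H 1).η x' y' 0 * (H 2).η x'' y'' (w + w' + w'') := fun _ _ _ _ _ _ _ _ _ => by
    rw [sh, mul_assoc, sh, ← mul_assoc]
  have cm : ∀ i j, i ≠ j → ∀ x y w x' y' w', Commute ((H i).η x y w) ((H j).η x' y' w') :=
    fun i j e _ _ _ _ _ _ => h.comm i j e _ (hm _ _ _ _) _ (hm _ _ _ _)
  let D : E0 G := ⟨z, fun v l => (H 0).η (v 0).1 (v 0).2 0 * (H 1).η (v 1).1 (v 1).2 0 * (H 2).η (v 2).1 (v 2).2 l,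
    fun v l w k => by
      rw [((cm 2 0 (by decide) _ _ _ _ _ _).mul_right (cm 2 1 (by decide) _ _ _ _ _ _)).mul_mul_mul_comm,
        (cm 1 0 (by decide) _ _ _ _ _ _).mul_mul_mul_comm, (H 0).mul, (H 1).mul, (H 2).mul, sh3]
      exact congrArg _ ((H 2).congr rfl rfl (by simp only [bf, b2]; ring)),
    fun l e => (H 2).inj₀ l (by simpa [Heis.zero] using e), by simpa [Heis.zero] using hz 2⟩
  have hD : ∀ v l, D.η v l =
    (H 0).η (v 0).1 (v 0).2 0 * (H 1).η (v 1).1 (v 1).2 0 * (H 2).η (v 2).1 (v 2).2 l := fun _ _ => rfl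
  have rc' : ∀ i j, j ≠ i → ∀ x y w, r i * (H j).η x y w * (r i)⁻¹ = (H j).η x y w := fun i j e x y w =>
    mul_inv_eq_of_eq_mul (rc i j e _ (hm _ _ _ _))
  refine ⟨D, r, H, rfl, fun i a l => ?_, hH, fun q => ⟨fun hq => ?_, ?_⟩, fun i => ⟨rP i, r2 i⟩,
    fun i v l => ?_⟩
  · rw [hD, ← add_zero l, ← zero_add l]
    fin_cases i
    · rw [add_comm 0, ← sh3]; simp [sg, Heis.zero]
    · rw [← sh3]; simp [sg, Heis.zero]
    · simp [sg, Heis.zero]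
  · obtain ⟨a, ha, b, hb, c, hc, rfl⟩ := h.dec q hq
    obtain ⟨x, y, w, rfl⟩ := (hH 0 a).1 ha
    obtain ⟨x', y', w', rfl⟩ := (hH 1 b).1 hb
    obtain ⟨x'', y'', w'', rfl⟩ := (hH 2 c).1 hc
    exact ⟨![(x, y), (x', y'), (x'', y'')], _, sh3 _ _ _ _ _ _ _ _ _⟩
  · rintro ⟨v, l, rfl⟩
    exact mul_mem (mul_mem (h.le 0 (hm _ _ _ _)) (h.le 1 (hm _ _ _ _))) (h.le 2 (hm _ _ _ _))
  · rw [hD, hD, ← conj_mul, ← conj_mul, ng_act, ng_act, ng_act]
    fin_cases i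
    · simp [hr 0, rc' 0 1 (by decide), rc' 0 2 (by decide)]
    · simp [hr 1, rc' 1 0 (by decide), rc' 1 2 (by decide)]
    · simp [hr 2, rc' 2 0 (by decide), rc' 2 1 (by decide)]

theorem exists_F0 [Finite G] : ∃ D : F0 G, D.z = z ∧ (∀ q, q ∈ R ↔ ∃ v l, q = D.η v l) ∧
    ∀ i q, q ∈ A i ↔ ∃ a l, q = D.η (sg i a) l := by
  obtain ⟨D, r, H, rfl, hs, hH, hR, hr, rc⟩ := h.exists_E0
  have hA : ∀ i q, q ∈ A i ↔ ∃ a l, q = D.η (sg i a) l := fun i q => (hH i q).trans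
    ⟨fun ⟨x, y, w, e⟩ => ⟨(x, y), w, by rw [hs, e]⟩, fun ⟨a, l, e⟩ => ⟨a.1, a.2, l, by rw [e, hs]⟩⟩
  have hI : ∀ i, ∀ q ∈ R, r i * q * (r i)⁻¹ * q ∈ zpowers D.z → q ∈ A i := fun i q hq e => by
    obtain ⟨v, l, rfl⟩ := (hR q).1 hq
    rw [rc, D.mul] at e
    refine (hA i _).2 ⟨v i, l, D.congr (funext fun j => ?_) rfl⟩
    have := congrFun (D.η_of_Z e) j
    by_cases c : j = i
    · simp [sg, c]
    · rw [Pi.add_apply, ng_act, if_neg c] at this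
      rw [sg, if_neg c]
      exact (by decide : ∀ a : V2, a + a = 0 → a = 0) _ this
  have o : orderOf D.z = 3 :=
    haveI : Fact (Nat.Prime 3) := ⟨Nat.prime_three⟩
    orderOf_eq_prime h.z3 h.z1
  have nZ : ∀ n, n * D.z * n⁻¹ ∈ zpowers D.z → ∀ w ∈ zpowers D.z, n * w * n⁻¹ ∈ zpowers D.z := by
    rintro n hn _ ⟨k, rfl⟩
    change n * D.z ^ k * n⁻¹ ∈ _
    rw [← conj_zpow]
    exact zpow_mem hn k
  have perm : ∀ n, n * D.z * n⁻¹ ∈ zpowers D.z → ∃ σ : Perm (Fin 3), ∀ i, ∀ q ∈ A i, n * q * n⁻¹ ∈ A (σ i) := by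
    intro n hn
    have hn' : n⁻¹ * D.z * n⁻¹⁻¹ ∈ zpowers D.z := by
      rcases (Mc3.mem_zp3 o).1 hn with e | e | e
      · exact absurd (conj_eq_one_iff.1 e) h.z1
      · rw [show n⁻¹ * D.z * n⁻¹⁻¹ = D.z by nth_rw 1 [← e]; group]; exact mem_zpowers _
      · rw [← inv_mem_iff, conj_inv, ← e]; simp [mul_assoc]
    have k : ∀ i, ∃ j, ∀ q ∈ A j, n * q * n⁻¹ ∈ A i := fun i => by
      have m := h.nP _ hn' _ (hr i).1
      have s2 : n⁻¹ * r i * n⁻¹⁻¹ * (n⁻¹ * r i * n⁻¹⁻¹) = 1 := by rw [conj_mul, (hr i).2]; simp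
      by_contra c
      push Not at c
      have e1 := h.cent' fun j a ha => fix h.z3 (h.Pz _ m) s2 (((h.inv _ m s2 j).resolve_right fun e => by
        obtain ⟨q, hq, e1⟩ := c j
        refine e1 (hI i _ (h.nR n hn q (h.le j hq)) ?_)
        convert nZ n hn _ (e q hq) using 1
        group) a ha)
      have e2 := rc i (sg i (1, 0)) 0
      rw [conj_eq_one_iff.1 (eq_one_of_sq_cube s2 (cubeZ h.z3 e1)), one_mul, inv_one, mul_one] at e2
      have := congrFun (D.inj e2).1 i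
      rw [ng_act, if_pos rfl, sg, if_pos rfl] at this
      exact absurd this (by decide)
    choose τ hτ using k
    have hi : Function.Injective τ := fun i j e => by
      by_contra c
      have a1 := hτ i _ ((hA _ _).2 ⟨(1, 0), 0, rfl⟩)
      have a2 := hτ j _ ((hA _ _).2 ⟨(0, 1), 0, rfl⟩)
      have a3 := h.comm i j c _ a1 _ a2
      rw [conj_mul, conj_mul, mul_left_inj, mul_right_inj, ← e] at a3
      have := D.comm_iff.1 a3
      rw [bf_sg, sg, if_pos rfl] at this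
      exact absurd this (by decide)
    refine ⟨(Equiv.ofBijective τ (Finite.injective_iff_bijective.1 hi)).symm, fun i q hq => hτ _ q ?_⟩
    rwa [Equiv.ofBijective_apply_symm_apply τ]
  have hz : ∀ i, (H i).η 0 0 1 = D.z := fun i => by
    rw [← D.hz, ← show sg i 0 = 0 from funext fun j => by simp [sg], hs]; rfl
  have act : ∀ g, ∃ w : W, Commute g D.z → ∀ v, ∃ k, g * D.η v 0 * g⁻¹ = D.η (w.act v) k := fun g => by
    by_cases hg : Commute g D.z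
    swap
    · exact ⟨1, fun e => absurd e hg⟩
    have e := mul_inv_eq_of_eq_mul hg.eq
    obtain ⟨σ, hσ⟩ := perm g (e.symm ▸ mem_zpowers _)
    choose q hq using fun i => exists_act2 (H := H i) (H' := H (σ i)) (g := g) (fun x y w => by
      obtain ⟨_, _, _, e⟩ := (hH _ _).1 (hσ i _ ((hH i _).2 ⟨x, y, w, rfl⟩))
      exact ⟨_, _, _, e.symm⟩) (by rw [hz, hz, e])
    let w : W := ⟨σ, fun j => q (σ⁻¹ j)⟩
    have k : ∀ i a, ∃ k, g * D.η (sg i a) 0 * g⁻¹ = D.η (w.act (sg i a)) k := fun i a => by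
      obtain ⟨k, e⟩ := hq i a.1 a.2
      refine ⟨k, ?_⟩
      rw [W.act_sg, hs, hs, e]
      simp [w, a2]
    refine ⟨w, fun _ v => ?_⟩
    obtain ⟨k0, e0⟩ := k 0 (v 0)
    obtain ⟨k1, e1⟩ := k 1 (v 1)
    obtain ⟨k2, e2⟩ := k 2 (v 2)
    have e3 : D.η v 0 = D.η (sg 0 (v 0)) 0 * D.η (sg 1 (v 1)) 0 * D.η (sg 2 (v 2)) 0 := by
      rw [D.mul, D.mul, ← sg_sum]
      exact D.congr rfl (by simp [bf_add_left, bf_sg, sg, b2])
    rw [e3, ← conj_mul, ← conj_mul, e0, e1, e2, D.mul, D.mul, ← W.act_add, ← W.act_add, ← sg_sum]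
    exact ⟨_, rfl⟩
  choose ρ hρ using act
  have hρ' : ∀ g v, ∃ k, Commute g D.z → g * D.η v 0 * g⁻¹ = D.η ((ρ g).act v) k := fun g v => by
    by_cases hg : Commute g D.z
    · exact (hρ g hg v).imp fun k e _ => e
    · exact ⟨0, fun e => absurd e hg⟩
  choose lam hl using hρ'
  have hZ : ∀ w ∈ zpowers D.z, ∃ l, w = D.η 0 l := fun g hg => by
    rcases (Mc3.mem_zp3 o).1 hg with rfl | rfl | rfl
    · exact ⟨0, D.zero.symm⟩
    · exact ⟨1, D.hz.symm⟩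
    · exact ⟨-1, by rw [← D.hz, D.inv, neg_zero]⟩
  have sp : ∀ v l, D.η v l = D.η v 0 * D.η 0 l := fun v l => by
    rw [D.mul, bf_zero_right]; simp
  have zl : ∀ l, D.η 0 l ∈ zpowers D.z := fun l => h.cent _ fun q hq => by
    obtain ⟨v, k, rfl⟩ := (hR q).1 hq
    exact D.comm_iff.2 (bf_zero_left v)
  refine ⟨⟨D, r, ρ, lam, fun g hg v l => ?_, fun g e => ?_, fun i => (hr i).2, rc, fun n e => ?_⟩, rfl, hR, hA⟩
  · rw [sp v, ← conj_mul, hl g v hg, conjZ (zl l) hg, D.mul, bf_zero_right, add_zero, add_zero, add_comm]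
  · obtain ⟨l, e1⟩ := hZ g (h.cent g fun q hq => by
      obtain ⟨v, k, rfl⟩ := (hR q).1 hq
      have := (e v).mul_right (show Commute g (D.η 0 k) from ?_)
      · rwa [← sp] at this
      · rw [← D.hz] at zl
        obtain ⟨m, e2⟩ := zl k
        have e3 : D.η 0 1 = ⁅D.η (sg 0 (0, 1)) 0, D.η (sg 0 (1, 0)) 0⁆ := by
          rw [D.commutator, bf_sg]; rfl
        rw [← e2, e3, commutatorElement_def]
        exact ((((e _).mul_right (e _)).mul_right (e _).inv_right).mul_right (e _).inv_right).zpow_right m)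
    exact ⟨0, l, e1⟩
  · obtain ⟨σ, hσ⟩ := perm n (e.symm ▸ inv_mem (mem_zpowers _))
    exact ⟨σ, fun i a l => (hA _ _).1 (hσ i _ ((hA i _).2 ⟨a, l, rfl⟩))⟩

end BR

end Cfsg.Lib.C22.Br
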