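import Cfsg.Agent.Recog.P43Rec
import Cfsg.Agent.SporChar.FiGUp

/-!
Definitions for the recognition of `Fi₂₂` and its automorphism group from a `3`-centralizer.
-/

set_option autoImplicit false

namespace Cfsg.Lib.C22

open Cfsg Subgroup Equiv Cfsg.Lib.Recog.P43 Cfsg.Lib.Recog.P43.Q

/-- The field with three elements. -/
abbrev F3 : Type := ZMod 3
/-- A plane. -/
abbrev V2 : Type := F3 × F3
/-- Three planes. -/
abbrev V : Type := Fin 3 → V2

/-- The form on a plane. -/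
def b2 (u v : V2) : F3 := u.1 * v.2 - u.2 * v.1
/-- The form on three planes. -/
def bf (v w : V) : F3 := b2 (v 0) (w 0) + b2 (v 1) (w 1) + b2 (v 2) (w 2)
/-- The action of `SL₂(3)` on the plane. -/
def a2 (g : Q) (u : V2) : V2 := (ax g u.1 u.2, ay g u.1 u.2)
/-- A vector in one block. -/
def sg (i : Fin 3) (a : V2) : V := fun j => if j = i then a else 0

theorem a2_mul (g h : Q) (u : V2) : a2 (g * h) u = a2 g (a2 h u) :=
  Prod.ext (ax_mul _ _ _ _) (ay_mul _ _ _ _)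
theorem a2_one (u : V2) : a2 1 u = u := Prod.ext (m_facts.2.2.2.2.2 _ _).1 (m_facts.2.2.2.2.2 _ _).2
theorem a2_m (u : V2) : a2 m u = -u := Prod.ext (m_facts.2.2.2.2.1 _ _).1 (m_facts.2.2.2.2.1 _ _).2
theorem a2_add (g : Q) (u v : V2) : a2 g (u + v) = a2 g u + a2 g v :=
  Prod.ext (by simp only [a2, ax, Prod.fst_add, Prod.snd_add]; ring)
    (by simp only [a2, ay, Prod.fst_add, Prod.snd_add]; ring)
theorem a2_smul (g : Q) (k : F3) (u : V2) : a2 g (k • u) = k • a2 g u :=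
  Prod.ext (by simp only [a2, ax, Prod.smul_fst, Prod.smul_snd, smul_eq_mul]; ring)
    (by simp only [a2, ay, Prod.smul_fst, Prod.smul_snd, smul_eq_mul]; ring)
theorem a2_zero (g : Q) : a2 g 0 = 0 := by simpa using a2_smul g 0 0
theorem a2_neg (g : Q) (u : V2) : a2 g (-u) = -a2 g u := by simpa using a2_smul g (-1) u
theorem b2_a2 (g : Q) (u v : V2) : b2 (a2 g u) (a2 g v) = b2 u v := a_det g _ _ _ _
theorem a2_ext {g h : Q} (e : ∀ u, a2 g u = a2 h u) : g = h :=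
  ext_act g h (congrArg Prod.fst (e (1, 0))) (congrArg Prod.snd (e (1, 0)))
    (congrArg Prod.fst (e (0, 1))) (congrArg Prod.snd (e (0, 1)))
theorem a2_eq_zero {g : Q} {u : V2} : a2 g u = 0 ↔ u = 0 :=
  ⟨fun e => by rw [← a2_one u, ← inv_mul_cancel g, a2_mul, e, a2_zero], fun e => e ▸ a2_zero g⟩

/-- The wreath product `SL₂(3) ≀ S₃`. -/
@[ext] structure W where
  σ : Perm (Fin 3)
  g : Fin 3 → Q
  deriving DecidableEq

namespace W

instance : Mul W := ⟨fun x y => ⟨x.σ * y.σ, fun i => x.g i * y.g (x.σ⁻¹ i)⟩⟩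
instance : One W := ⟨⟨1, fun _ => 1⟩⟩
instance : Inv W := ⟨fun x => ⟨x.σ⁻¹, fun i => (x.g (x.σ i))⁻¹⟩⟩

@[simp] theorem mul_σ (x y : W) : (x * y).σ = x.σ * y.σ := rfl
@[simp] theorem mul_g (x y : W) (i : Fin 3) : (x * y).g i = x.g i * y.g (x.σ⁻¹ i) := rfl
@[simp] theorem one_σ : (1 : W).σ = 1 := rfl
@[simp] theorem one_g (i : Fin 3) : (1 : W).g i = 1 := rfl
@[simp] theorem inv_σ (x : W) : x⁻¹.σ = x.σ⁻¹ := rfl
@[simp] theorem inv_g (x : W) (i : Fin 3) : x⁻¹.g i = (x.g (x.σ i))⁻¹ := rfl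

instance : Group W := Group.ofLeftAxioms
  (fun x y z => W.ext (mul_assoc _ _ _) (funext fun i => by simp [mul_assoc]))
  (fun x => W.ext (one_mul _) (funext fun i => by simp))
  (fun x => W.ext (inv_mul_cancel _) (funext fun i => by simp))

instance : Finite W := Finite.of_injective (fun x : W => (x.σ, x.g)) fun _ _ e =>
  W.ext (congrArg Prod.fst e) (congrArg Prod.snd e)

/-- The permutation of the blocks. -/
def σHom : W →* Perm (Fin 3) := MonoidHom.mk' W.σ fun _ _ => rfl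

/-- The action on three planes. -/
def act (w : W) (v : V) : V := fun i => a2 (w.g i) (v (w.σ⁻¹ i))

/-- Inversion on one block. -/
def ng (i : Fin 3) : W := ⟨1, fun j => if j = i then m else 1⟩

/-- The product of three quaternion groups. -/
def Q8 : Subgroup W where
  carrier := {w | w.σ = 1 ∧ ∀ i, chi (w.g i) = 0}
  mul_mem' := fun {x y} hx hy => ⟨by rw [mul_σ, hx.1, hy.1, mul_one], fun i => by
    rw [mul_g, chi_mul, hx.2, hy.2, add_zero]⟩
  one_mem' := ⟨rfl, fun _ => by rw [one_g]; decide⟩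
  inv_mem' := fun {x} hx => ⟨by rw [inv_σ, hx.1, inv_one], fun i => by
    have := chi_mul (x.g (x.σ i))⁻¹ (x.g (x.σ i))
    rw [inv_mul_cancel, hx.2, add_zero, show chi 1 = 0 by decide] at this
    exact this.symm⟩

/-- The blocks are permuted cyclically. -/
def Cy (w : W) : Prop := ∀ i, w.σ i ≠ i

theorem act_mul (x y : W) (v : V) : (x * y).act v = x.act (y.act v) :=
  funext fun i => by simp [act, a2_mul]
theorem act_one (v : V) : (1 : W).act v = v := funext fun i => by simp [act, a2_one]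
theorem act_add (x : W) (v w : V) : x.act (v + w) = x.act v + x.act w := funext fun _ => a2_add _ _ _
theorem act_smul (x : W) (k : F3) (v : V) : x.act (k • v) = k • x.act v := funext fun _ => a2_smul _ _ _
theorem act_zero (x : W) : x.act 0 = 0 := funext fun _ => a2_zero _
theorem act_neg (x : W) (v : V) : x.act (-v) = -x.act v := funext fun _ => a2_neg _ _
theorem act_sub (x : W) (v w : V) : x.act (v - w) = x.act v - x.act w := by
  rw [sub_eq_add_neg, act_add, act_neg, sub_eq_add_neg]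
theorem act_apply (x : W) (v : V) (i : Fin 3) : x.act v (x.σ i) = a2 (x.g (x.σ i)) (v i) := by simp [act]

theorem act_sg (x : W) (i : Fin 3) (a : V2) : x.act (sg i a) = sg (x.σ i) (a2 (x.g (x.σ i)) a) :=
  funext fun j => by
    by_cases h : j = x.σ i
    · simp [act, sg, h]
    · simp only [act, sg, if_neg h, if_neg (show ¬ x.σ⁻¹ j = i from fun e => h (by rw [← e]; simp)), a2_zero]

theorem bf_act (x : W) (v w : V) : bf (x.act v) (x.act w) = bf v w := by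
  have := Equiv.sum_comp x.σ⁻¹ fun i => b2 (v i) (w i)
  simpa only [bf, act, b2_a2, Fin.sum_univ_three] using this

theorem act_ext {x y : W} (e : ∀ v, x.act v = y.act v) : x = y := by
  have h : ∀ i a, x.σ i = y.σ i ∧ a2 (x.g (x.σ i)) a = a2 (y.g (x.σ i)) a := fun i a => by
    have h1 : x.σ i = y.σ i := by
      by_contra n
      have := congrFun ((x.act_sg i (1, 0)).symm.trans ((e _).trans (y.act_sg i _))) (x.σ i)
      simp [sg, n, a2_eq_zero] at this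
    have := congrFun ((x.act_sg i a).symm.trans ((e _).trans (y.act_sg i _))) (x.σ i)
    exact ⟨h1, by simpa [sg, ← h1] using this⟩
  refine W.ext (Equiv.ext fun i => (h i 0).1) (funext fun i => a2_ext fun a => ?_)
  simpa using (h (x.σ⁻¹ i) a).2

end W

theorem bf_add_left (u v w : V) : bf (u + v) w = bf u w + bf v w := by
  simp only [bf, b2, Pi.add_apply, Prod.fst_add, Prod.snd_add]; ring
theorem bf_add_right (u v w : V) : bf u (v + w) = bf u v + bf u w := by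
  simp only [bf, b2, Pi.add_apply, Prod.fst_add, Prod.snd_add]; ring
theorem bf_smul_left (k : F3) (v w : V) : bf (k • v) w = k * bf v w := by
  simp only [bf, b2, Pi.smul_apply, Prod.smul_fst, Prod.smul_snd, smul_eq_mul]; ring
theorem bf_smul_right (k : F3) (v w : V) : bf v (k • w) = k * bf v w := by
  simp only [bf, b2, Pi.smul_apply, Prod.smul_fst, Prod.smul_snd, smul_eq_mul]; ring
theorem bf_swap (v w : V) : bf w v = -bf v w := by simp only [bf, b2]; ring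
theorem bf_self (v : V) : bf v v = 0 := by simp only [bf, b2]; ring
theorem bf_zero_left (v : V) : bf 0 v = 0 := by simpa using bf_smul_left 0 0 v
theorem bf_zero_right (v : V) : bf v 0 = 0 := by simpa using bf_smul_right 0 v 0
theorem bf_neg_left (v w : V) : bf (-v) w = -bf v w := by simpa using bf_smul_left (-1) v w
theorem bf_neg_right (v w : V) : bf v (-w) = -bf v w := by simpa using bf_smul_right (-1) v w
theorem bf_sg (i : Fin 3) (a : V2) (w : V) : bf (sg i a) w = b2 a (w i) := by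
  fin_cases i <;> simp [bf, sg, b2]
theorem sg_sum (v : V) : v = sg 0 (v 0) + sg 1 (v 1) + sg 2 (v 2) := funext fun i => by
  fin_cases i <;> simp [sg]
theorem eq_zero_of_bf {v : V} (h : ∀ w, bf w v = 0) : v = 0 := funext fun i => by
  have h1 := h (sg i (1, 0))
  have h2 := h (sg i (0, 1))
  rw [bf_sg] at h1 h2
  exact Prod.ext (by simpa [b2] using h2) (by simpa [b2] using h1)

/-- The image of the centralizer in the wreath product. -/
structure WB (B : Subgroup W) : Prop where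
  ng : ∀ i, W.ng i ∈ B
  card : Nat.card ↥(B ⊓ W.Q8) = 128
  o3 : ∀ N : Subgroup W, N ≤ B → (∀ b ∈ B, ∀ n ∈ N, b * n * b⁻¹ ∈ N) → IsPGroup 3 N → N = ⊥

variable {G : Type*} [Group G]

variable (G) in
/-- Coordinates on the centralizer of the `3`-central element. -/
structure FD where
  z : G
  η : V → F3 → G
  r : Fin 3 → G
  ρ : G → W
  lam : G → V → F3
  mul : ∀ v l w k, η v l * η w k = η (v + w) (l + k + bf v w)
  inj₀ : ∀ l, η 0 l = 1 → l = 0
  hz : η 0 1 = z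
  conj : ∀ h, Commute h z → ∀ v l, h * η v l * h⁻¹ = η ((ρ h).act v) (l + lam h v)
  cent : ∀ g, (∀ v, Commute g (η v 0)) → ∃ v l, g = η v l
  r_sq : ∀ i, r i * r i = 1
  r_conj : ∀ i v l, r i * η v l * (r i)⁻¹ = η ((W.ng i).act v) l
  wb : ∃ B, WB B ∧ ∀ w, w ∈ B ↔ ∃ h, Commute h z ∧ ρ h = w
  nz : ∀ n, n * z * n⁻¹ = z⁻¹ → ∃ σ : Perm (Fin 3), ∀ i a l, ∃ a' l',
    n * η (sg i a) l * n⁻¹ = η (sg (σ i) a') l'

namespace FD

variable (D : FD G)

theorem zero : D.η 0 0 = 1 := by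
  have := D.mul 0 0 0 0
  simpa [bf_self] using this

theorem inv (v : V) (l : F3) : (D.η v l)⁻¹ = D.η (-v) (-l) :=
  inv_eq_of_mul_eq_one_right (by rw [D.mul, ← D.zero, bf_neg_right, bf_self]; simp)

/-- The centralizer. -/
abbrev H : Subgroup G := centralizer {D.z}
/-- The centre. -/
abbrev Z : Subgroup G := zpowers D.z

/-- The part of the extraspecial group supported on a set of blocks. -/
def QS (s : Set (Fin 3)) : Subgroup G where
  carrier := {q | ∃ v l, (∀ j, j ∉ s → v j = 0) ∧ q = D.η v l}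
  mul_mem' := by
    rintro _ _ ⟨v, l, h, rfl⟩ ⟨w, k, h', rfl⟩
    exact ⟨_, _, fun j hj => by rw [Pi.add_apply, h j hj, h' j hj, add_zero], D.mul _ _ _ _⟩
  one_mem' := ⟨0, 0, fun _ _ => rfl, D.zero.symm⟩
  inv_mem' := by
    rintro _ ⟨v, l, h, rfl⟩
    exact ⟨_, _, fun j hj => by rw [Pi.neg_apply, h j hj, neg_zero], D.inv _ _⟩

/-- The extraspecial group. -/
def Q : Subgroup G where
  carrier := {q | ∃ v l, q = D.η v l}
  mul_mem' := by
    rintro _ _ ⟨v, l, rfl⟩ ⟨w, k, rfl⟩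
    exact ⟨_, _, D.mul _ _ _ _⟩
  one_mem' := ⟨0, 0, D.zero.symm⟩
  inv_mem' := by
    rintro _ ⟨v, l, rfl⟩
    exact ⟨_, _, D.inv _ _⟩

/-- Conjugation of the frame. -/
def cj (g : G) : FD G where
  z := g * D.z * g⁻¹
  η v l := g * D.η v l * g⁻¹
  r i := g * D.r i * g⁻¹
  ρ h := D.ρ (g⁻¹ * h * g)
  lam h := D.lam (g⁻¹ * h * g)
  mul v l w k := by rw [conj_mul, D.mul]
  inj₀ l h := D.inj₀ l (conj_eq_one_iff.1 h)
  hz := by rw [D.hz]
  conj h e v l := by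
    rw [← D.conj _ ((Commute.conj_iff g).1 (by simpa [mul_assoc] using e))]; group
  cent h e := by
    obtain ⟨v, l, e1⟩ := D.cent (g⁻¹ * h * g) fun v =>
      (Commute.conj_iff g).1 (by simpa [mul_assoc] using e v)
    exact ⟨v, l, by rw [← e1]; group⟩
  r_sq i := by rw [conj_mul, D.r_sq, mul_one, mul_inv_cancel]
  r_conj i v l := by rw [← D.r_conj]; group
  wb := by
    obtain ⟨B, h1, h2⟩ := D.wb
    refine ⟨B, h1, fun w => (h2 w).trans ⟨fun ⟨h, e1, e2⟩ => ⟨g * h * g⁻¹, (Commute.conj_iff g).2 e1, ?_⟩,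
      fun ⟨h, e1, e2⟩ => ⟨_, (Commute.conj_iff g).1 (by simpa [mul_assoc] using e1), e2⟩⟩⟩
    rw [← e2]; congr 1; group
  nz n e := by
    obtain ⟨σ, h⟩ := D.nz (g⁻¹ * n * g) (by
      rw [show g⁻¹ * n * g * D.z * (g⁻¹ * n * g)⁻¹ = g⁻¹ * (n * (g * D.z * g⁻¹) * n⁻¹) * g by group, e]
      group)
    refine ⟨σ, fun i a l => ?_⟩
    obtain ⟨a', l', e1⟩ := h i a l
    exact ⟨a', l', by rw [← e1]; group⟩

/-- An element permuting the blocks cyclically. -/
def Cy (y : G) : Prop := Commute y D.z ∧ (D.ρ y).Cy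

/-- `3`-subgroups of the centralizer. -/
def St : Prop := ∀ Y : Subgroup G, Y ≤ D.H → IsPGroup 3 Y → Nat.card Y ≤ 9 * Nat.card ↥(Y ⊓ D.Q)

/-- Consequences of transitivity on the blocks. -/
structure Sh0 : Prop where
  st : D.St
  cy : ∃ y, D.Cy y
  wt : ∀ t, Commute t D.z → (D.ρ t).σ = 1 → D.ρ t ^ 3 = 1 → D.ρ t ≠ 1 → ∀ i, (D.ρ t).g i ≠ 1
  idx : ∀ Y : Subgroup G, Y ≤ D.H → IsPGroup 3 Y → (∀ t ∈ Y, (D.ρ t).σ = 1) →
    Nat.card Y ≤ 3 * Nat.card ↥(Y ⊓ D.Q)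

/-- The structure of the centralizer. -/
structure Sh : Prop extends D.Sh0 where
  one : ∀ h, Commute h D.z → (D.ρ h).σ = 1 → ∀ i, (∀ j, j ≠ i → (D.ρ h).g j = 1) →
    (D.ρ h).g i = 1 ∨ (D.ρ h).g i = m
  sup : ∀ s : Fin 3 → Bool, (∃ i j, i ≠ j ∧ s i = true ∧ s j = true) → ∃ p, Commute p D.z ∧
    (D.ρ p).σ = 1 ∧ ∀ i, (D.ρ p).g i * (D.ρ p).g i = cond (s i) m 1
  proj : ∀ a b, chi a = 0 → chi b = 0 → ∃ p, Commute p D.z ∧ D.ρ p ∈ W.Q8 ∧
    (D.ρ p).g 1 = a ∧ (D.ρ p).g 2 = b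

/-- The facts coming from the wreath product. -/
structure WT : Prop where
  st : D.St
  sh0 : ∀ y, D.Cy y → D.Sh0
  sh : ∀ y d, D.Cy y → Commute d D.z → (D.ρ d).σ = 1 → D.ρ d ^ 3 = 1 → D.ρ d ≠ 1 → D.Sh

/-- Conjugates of `z` in `Q` have full support. -/
def Fs : Prop := ∀ g v l, g * D.z * g⁻¹ = D.η v l → v = 0 ∨ ∀ i, v i ≠ 0

/-- Conjugates of `y` under `Q` lying in `Q'` generate the same subgroup. -/
def Wc (D' : FD G) : Prop := ∀ q ∈ D.Q, q * D'.z * q⁻¹ ∈ D'.Q → q * D'.z * q⁻¹ ∈ D'.Z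

/-- The configuration excluded in the first step. -/
structure Far (D' : FD G) : Prop where
  com : Commute D'.z D.z
  n1 : D'.z ∉ D.Q
  n2 : D.z ∉ D'.Q
  st : D'.St
  wc : D.Wc D'

/-- The normal form in the first step. -/
def Nf (D' : FD G) : Prop := ∃ (k : Fin 3) (a : V), (∀ i, a i ≠ 0 ∧ Commute D'.z (D.η (sg i (a i)) 0)) ∧
  ∀ q, q ∈ D.Q ⊓ D'.Q ↔ ∃ c : Fin 3 → F3, c k = 0 ∧ q = D.η (fun i => c i • a i) 0

/-- A conjugate of `z` inside `Q`. -/
structure Pr (D' : FD G) : Prop where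
  mem : D'.z ∈ D.Q
  nZ : D'.z ∉ D.Z
  mem' : D.z ∈ D'.Q
  sh : D.Sh
  cy : ∃ e ∈ D'.Q, D.Cy e
  dd : ∃ e ∈ D'.Q, Commute e D.z ∧ (D.ρ e).σ = 1 ∧ D.ρ e ≠ 1
  wt : ∀ v l, D'.z = D.η v l → ∀ i, v i ≠ 0
  card : Nat.card ↥(D'.Q ⊓ D.H) = 3 ^ 6
  card' : Nat.card ↥(D.Q ⊓ D'.Q) = 81

/-- An element of order three outside `Q` commuting with the three involutions. -/
structure Dd (d : G) : Prop where
  dz : Commute d D.z
  d3 : d ^ 3 = 1
  σ1 : (D.ρ d).σ = 1
  wt : ∀ i, (D.ρ d).g i ≠ 1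
  lam : ∀ v, D.lam d v = 0
  dr : ∀ i, Commute d (D.r i)

/-- The `3`-structure of the centralizer of the involution. -/
structure Tc : Prop where
  l81 : ∀ Y : Subgroup G, Y ≤ centralizer {D.r 0} → IsPGroup 3 Y → 81 ≤ Nat.card Y →
    ∃ c, Commute c (D.r 0) ∧ c * D.z * c⁻¹ ∈ Y
  n7 : ¬ 3 ^ 7 ∣ Nat.card (centralizer ({D.r 0} : Set G))
  nc : ¬ IsConj (D.r 0) (D.r 0 * D.r 2)
  mv : ∃ c, Commute c (D.r 0) ∧ Commute (c * D.z * c⁻¹) D.z ∧ c * D.z * c⁻¹ ∉ D.Z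

end FD

open Cfsg.Lib.Spor Cfsg.Lib.Spor.FT Cfsg.Lib.Spor.U6

/-- The normal subgroup `2.U₆(2)` in the centralizer of the involution. -/
structure KX (d : G) (K : Subgroup G) (π : K →* Perm T6) : Prop where
  dK : d ∈ K
  le : ∀ k ∈ K, Commute k d
  nK : ∀ g, Commute g d → ∀ k ∈ K, g * k * g⁻¹ ∈ K
  cK : ∀ g, (∀ k ∈ K, Commute g k) → g = 1 ∨ g = d
  ker : ∀ k : K, π k = 1 ↔ (k : G) = 1 ∨ (k : G) = d
  mem : ∀ k, π k ∈ TQ.Inn T6
  sur : ∀ k ∈ TQ.Inn T6, ∃ h, π h = k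

/-- The component in the centralizer of the involution. -/
structure KD (d e f y : G) (K : Subgroup G) (π : K →* Perm T6) : Prop where
  pre : ∃ h : d ∈ K, Pre (⟨d, h⟩ : K) π
  eK : e ∈ K
  fK : f ∈ K
  nK : ∀ g, Commute g d → ∀ k ∈ K, g * k * g⁻¹ ∈ K
  cK : ∀ g, (∀ k ∈ K, Commute g k) → g = 1 ∨ g = d
  e81 : 81 ∣ Nat.card ↥(K ⊓ centralizer {e})
  f81 : 81 ∣ Nat.card ↥(K ⊓ centralizer {f})
  yd : y * d * y⁻¹ = e
  ye : y * e * y⁻¹ = f
  yf : y * f * y⁻¹ = d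
  ne : e ≠ d
  nc : ¬ IsConj d (d * f)

/-- The component of the class of the involution. -/
structure CE (d e f : G) (E : Set G) : Prop where
  dE : d ∈ E
  eE : e ∈ E
  fE : f ∈ E
  ct : d ≠ e ∧ d ≠ f ∧ e ≠ f ∧ Commute d e ∧ Commute d f ∧ Commute e f
  cmp : ∀ g, ∀ x ∈ E, g * x * g⁻¹ ∈ E → g ∈ normalizer E
  trn : ∀ x ∈ E, ∃ g ∈ closure E, g * d * g⁻¹ = x
  cen : ∀ g, (∀ x ∈ E, Commute g x) → g = 1
  tt : IsThreeTranspositionGroup (dn E)
  prim : IsPrimitiveUnderConj (dn E)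
  typ : IsOfTypeM22 (closure E) (dn E)
  iso : Nonempty (Cfsg.Spor.Fi22 ≃* closure E)
  comp : Comp (dn E) (dn E)

/-- The facts on the normalizer of the component. -/
structure MF (d e f : G) (E : Set G) : Prop where
  three : ∀ x ∈ normalizer E, orderOf x = 3 → 3 ^ 7 ∣ Nat.card ↥(normalizer E ⊓ centralizer {x})
  two : ∀ u ∈ normalizer E, orderOf u = 2 → 81 ∣ Nat.card ↥(normalizer E ⊓ centralizer {u}) ∨
    ∃ g ∈ normalizer E, g * u * g⁻¹ = d ∨ g * u * g⁻¹ = d * e ∨ g * u * g⁻¹ = d * e * f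
  fp : ∀ u ∈ normalizer E, u * u = 1 → ∃ x ∈ E, Commute u x
  fin : normalizer E = ⊤ → Cfsg.Spor.IsoFi22 G ∨ Nonempty (G ≃* MulAut Cfsg.Spor.Fi22)

end Cfsg.Lib.C22
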