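import Cfsg.Agent.Recog.C23Defs
import Cfsg.Agent.Recog.P43Cent

/-!
Basic properties of the coordinates on the centralizer of the `3`-central element of `Fi₂₃`.
-/

set_option autoImplicit false

namespace Cfsg.Lib.C23

open Cfsg Subgroup Cfsg.Lib.Recog.P43 Cfsg.Lib.C22
open scoped commutatorElement

variable {B : Type*} [Group B]

namespace RH

variable {R : Subgroup B} {π : B →* X} {i : B} (h : RH R π i)
include h

theorem conj_mem (g : B) {r : B} (hr : r ∈ R) : g * r * g⁻¹ ∈ R :=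
  (h.ker _).1 (by rw [map_mul, map_mul, (h.ker r).2 hr, mul_one, map_inv, mul_inv_cancel])
theorem normal : R.Normal := ⟨fun _ hr g => h.conj_mem g hr⟩
theorem comm_mem (g : B) {r : B} (hr : r ∈ R) : g * r * g⁻¹ * r⁻¹ ∈ R := mul_mem (h.conj_mem g hr) (inv_mem hr)
theorem i_inv : i⁻¹ = i := inv_eq_of_mul_eq_one_right h.ii
theorem zi_iff {x : B} : Zi i x ↔ x ∈ zpowers i := by
  refine ⟨fun e => by rcases e with rfl | rfl <;> simp, fun ⟨n, e⟩ => ?_⟩
  have e2 : i ^ (2 : ℤ) = 1 := (zpow_two i).trans h.ii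
  rcases Int.even_or_odd' n with ⟨k, rfl | rfl⟩
  · exact .inl (by rw [← e]; simp only [zpow_mul, e2, one_zpow])
  · exact .inr (by rw [← e]; simp only [zpow_add, zpow_mul, e2, one_zpow, one_mul, zpow_one])
theorem zi_mul {x y : B} (hx : Zi i x) (hy : Zi i y) : Zi i (x * y) :=
  h.zi_iff.2 (mul_mem (h.zi_iff.1 hx) (h.zi_iff.1 hy))
theorem zi_inv {x : B} (hx : Zi i x) : Zi i x⁻¹ := h.zi_iff.2 (inv_mem (h.zi_iff.1 hx))
theorem zi_comm {x : B} (hx : Zi i x) (g : B) : Commute g x := by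
  rcases hx with rfl | rfl
  exacts [Commute.one_right g, h.iB g]
theorem zi_conj {x : B} (hx : Zi i x) (g : B) : g * x * g⁻¹ = x := by
  rw [(h.zi_comm hx g).eq, mul_inv_cancel_right]
theorem zi_mem {x : B} (hx : Zi i x) : x ∈ R := by
  rcases hx with rfl | rfl
  exacts [one_mem R, h.iR]
theorem pow4 {r : B} (hr : r ∈ R) : r ^ 4 = 1 := by
  rw [show r ^ 4 = r * r * (r * r) by simp [pow_succ, mul_assoc]]
  rcases h.sq r hr with e | e <;> simp [e, h.ii]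
theorem eq_one_of_cube {r : B} (hr : r ∈ R) {k : ℕ} (e : r ^ 3 ^ k = 1) : r = 1 := by
  simpa [((by decide : Nat.Coprime 3 4).pow_left k).gcd_eq_one] using pow_gcd_eq_one.2 ⟨e, h.pow4 hr⟩

end RH

variable {V : Type*} [AddCommGroup V] [Module F3 V] [DistribMulAction B V]

theorem eq_zero_of_eq_neg {v : V} (h : v = -v) : v = 0 := by
  have : (2 * 2 : F3) • v = 0 := by rw [mul_smul, two_smul F3 v, eq_neg_iff_add_eq_zero.1 h, smul_zero]
  rwa [show (2 * 2 : F3) = 1 from rfl, one_smul] at this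

theorem three_v (v : V) : v + v + v = 0 := by
  have : (1 + 1 + 1 : F3) • v = 0 := by rw [show (1 + 1 + 1 : F3) = 0 from rfl, zero_smul]
  simpa only [add_smul, one_smul] using this

theorem TT.conj {d : B} (h : TT V d) (g : B) : TT V (g * d * g⁻¹) := by
  refine ⟨by rw [conj_mul, h.sq, mul_one, mul_inv_cancel], fun e => h.ne (conj_eq_one_iff.1 e), h.lt.trans_eq ?_⟩
  exact Nat.card_congr ⟨fun v => ⟨g • v.1, by rw [mem_Fix, smul_smul, inv_mul_cancel_right, mul_smul, v.2]⟩,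
    fun v => ⟨g⁻¹ • v.1, by rw [mem_Fix, eq_inv_smul_iff, smul_smul, smul_smul]; exact v.2⟩,
    fun v => by simp, fun v => by simp⟩

namespace SP

variable (S : SP B V)

include S in
theorem finite : Finite V := Nat.finite_of_card_ne_zero (by rw [S.card]; decide)

theorem swap (v w : V) : S.b w v = -S.b v w := by
  have := S.alt (v + w)
  simp only [map_add, LinearMap.add_apply, S.alt] at this
  linear_combination this

theorem refl : S.b.IsRefl := fun v w h => by rw [S.swap, h, neg_zero]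

theorem nondeg : S.b.Nondegenerate := ⟨fun _ h => S.nd _ fun w => S.refl _ _ (h w), fun _ h => S.nd _ h⟩

include S in
theorem ext {g h : B} (e : ∀ v : V, g • v = h • v) : g = h :=
  (inv_mul_eq_one.1 (S.faith _ fun v => by rw [mul_smul, ← e, inv_smul_smul])).symm.symm

/-- The orthogonal complement. -/
abbrev perp (U : Submodule F3 V) : Submodule F3 V := S.b.orthogonal U

theorem mem_perp {U : Submodule F3 V} {v : V} : v ∈ S.perp U ↔ ∀ w ∈ U, S.b w v = 0 := Iff.rfl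

theorem card_mul_card_perp (U : Submodule F3 V) : Nat.card U * Nat.card (S.perp U) = 6561 := by
  have : Fact (Nat.Prime 3) := ⟨Nat.prime_three⟩
  have := S.finite
  have h1 := LinearMap.BilinForm.finrank_orthogonal S.nondeg U
  have h2 := U.finrank_le
  have h3 := Module.natCard_eq_pow_finrank (K := F3) (V := V)
  rw [Module.natCard_eq_pow_finrank (K := F3) (V := U),
    Module.natCard_eq_pow_finrank (K := F3) (V := S.perp U), ← pow_add, h1,
    Nat.add_sub_cancel' h2, ← h3, S.card]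

theorem exists_b (f : V → F3) (h : ∀ v w, f (v + w) = f v + f w) : ∃ u, ∀ v, f v = S.b u v := by
  have : Fact (Nat.Prime 3) := ⟨Nat.prime_three⟩
  have := S.finite
  let φ : V →ₗ[F3] F3 := (AddMonoidHom.mk' f h).toZModLinearMap 3
  exact ⟨(S.b.toDual S.nondeg).symm φ, fun v => (LinearMap.BilinForm.apply_toDual_symm_apply φ v).symm⟩

include S in
theorem card_le {U U' : Submodule F3 V} (h : U ≤ U') : Nat.card U ≤ Nat.card U' :=
  haveI := S.finite
  Nat.card_le_card_of_injective _ (Submodule.inclusion_injective h)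

include S in
theorem eq_of_card {U U' : Submodule F3 V} (h : U ≤ U') (h' : Nat.card U' ≤ Nat.card U) : U = U' :=
  haveI := S.finite
  SetLike.coe_injective (Set.eq_of_subset_of_ncard_le h h')

include S in
theorem card_pos (U : Submodule F3 V) : 0 < Nat.card U := haveI := S.finite; Nat.card_pos

include S in
theorem card_pow (U : Submodule F3 V) : ∃ n, Nat.card U = 3 ^ n :=
  haveI : Fact (Nat.Prime 3) := ⟨Nat.prime_three⟩
  haveI := S.finite
  ⟨_, (Module.natCard_eq_pow_finrank (K := F3) (V := U)).trans (by rw [Nat.card_zmod])⟩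

include S in
theorem card_sup {U U' : Submodule F3 V} :
    Nat.card ↥(U ⊔ U') * Nat.card ↥(U ⊓ U') = Nat.card U * Nat.card U' := by
  have : Fact (Nat.Prime 3) := ⟨Nat.prime_three⟩
  have := S.finite
  rw [Module.natCard_eq_pow_finrank (K := F3), Module.natCard_eq_pow_finrank (K := F3) (V := ↥(U ⊓ U')),
    Module.natCard_eq_pow_finrank (K := F3) (V := U), Module.natCard_eq_pow_finrank (K := F3) (V := U'),
    ← pow_add, ← pow_add, Submodule.finrank_sup_add_finrank_inf_eq]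

include S in
theorem card_mul_le {U U' T : Submodule F3 V} (h : U ≤ T) (h' : U' ≤ T) (e : ∀ v ∈ U, v ∈ U' → v = 0) :
    Nat.card U * Nat.card U' ≤ Nat.card T := by
  rw [← S.card_sup, show U ⊓ U' = ⊥ from eq_bot_iff.2 fun v hv => e v hv.1 hv.2]
  simpa using S.card_le (sup_le h h')

include S in
/-- Rank and nullity for a map on a subspace. -/
theorem card_map (U : Submodule F3 V) (f : V →ₗ[F3] V) :
    Nat.card U = Nat.card (U.map f) * Nat.card ↥(U ⊓ LinearMap.ker f) := by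
  have : Fact (Nat.Prime 3) := ⟨Nat.prime_three⟩
  have := S.finite
  have h1 := (f.domRestrict U).finrank_range_add_finrank_ker
  rw [LinearMap.range_domRestrict, LinearMap.ker_domRestrict,
    show (LinearMap.ker f).comap U.subtype = (U ⊓ LinearMap.ker f).comap U.subtype by simp,
    (Submodule.comapSubtypeEquivOfLe inf_le_left).finrank_eq] at h1
  rw [Module.natCard_eq_pow_finrank (K := F3), Module.natCard_eq_pow_finrank (K := F3) (V := U.map f),
    Module.natCard_eq_pow_finrank (K := F3) (V := ↥(U ⊓ LinearMap.ker f)), ← pow_add, h1]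

variable (V) in
/-- The map `1 - g`. -/
def _root_.Cfsg.Lib.C23.TM (g : B) : V →ₗ[F3] V where
  toFun v := v - g • v
  map_add' v w := by rw [smul_add]; abel
  map_smul' k v := by rw [smul_comm3, smul_sub]; rfl

theorem _root_.Cfsg.Lib.C23.TM_apply (g : B) (v : V) : TM V g v = v - g • v := rfl
theorem _root_.Cfsg.Lib.C23.ker_TM (g : B) : LinearMap.ker (TM V g) = Fix V g :=
  Submodule.ext fun _ => sub_eq_zero.trans eq_comm
theorem _root_.Cfsg.Lib.C23.map_TM (g : B) : Submodule.map (TM V g) ⊤ = Im V g :=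
  Submodule.ext fun _ => ⟨fun ⟨u, _, e⟩ => ⟨u, e.symm⟩, fun ⟨u, e⟩ => ⟨u, trivial, e.symm⟩⟩

theorem _root_.Cfsg.Lib.C23.TM_cube {g : B} (h : g ^ 3 = 1) (v : V) : TM V g (TM V g (TM V g v)) = 0 := by
  have e : g • g • g • v = v := by rw [smul_smul, smul_smul, ← pow_three', h, one_smul]
  simp only [TM_apply, smul_sub, e]
  exact Eq.trans (by abel) (sub_eq_zero.2 ((three_v (g • g • v)).trans (three_v (g • v)).symm))

include S in
theorem card_Im (g : B) : Nat.card (Im V g) * Nat.card (Fix V g) = 6561 := by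
  have := S.card_map ⊤ (TM V g)
  rw [map_TM, ker_TM, top_inf_eq, Nat.card_congr Submodule.topEquiv.toEquiv, S.card] at this
  exact this.symm

theorem b_fix_im {g : B} {v w : V} (hv : v ∈ Fix V g) (hw : w ∈ Im V g) : S.b v w = 0 := by
  obtain ⟨u, rfl⟩ := hw
  rw [map_sub, ← S.pres g v u, hv, sub_self]

theorem perp_Fix (g : B) : S.perp (Fix V g) = Im V g := by
  refine (S.eq_of_card (U := Im V g) (U' := S.perp (Fix V g)) (fun w hw v hv => S.b_fix_im hv hw) (le_of_eq ?_)).symm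
  exact Nat.eq_of_mul_eq_mul_left (S.card_pos (Fix V g))
    (by rw [S.card_mul_card_perp, mul_comm, S.card_Im])

include S in
theorem Im_inv (g : B) : Im V g⁻¹ = Im V g := by
  rw [← S.perp_Fix, ← S.perp_Fix]
  congr 1
  exact Submodule.ext fun v => inv_smul_eq_iff.trans eq_comm

theorem _root_.Cfsg.Lib.C23.Im_eq_Ng {d : B} (h : d * d = 1) : Im V d = Ng V d :=
  Submodule.ext fun v => ⟨fun ⟨u, e⟩ => by rw [mem_Ng, e, smul_sub, smul_smul, h, one_smul, neg_sub],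
    fun e => ⟨-v, by rw [smul_neg, mem_Ng.1 e, neg_neg, eq_comm, sub_eq_iff_eq_add, neg_eq_iff_add_eq_zero,
      ← add_assoc, three_v]⟩⟩

theorem iso_fix {d : B} (h : d * d = 1) {U : Submodule F3 V} (hU : U ≤ Fix V d)
    (e : ∀ v ∈ U, ∀ w ∈ U, S.b v w = 0) : Nat.card U * Nat.card U ≤ Nat.card (Fix V d) := by
  have h1 := S.card_mul_le (U := U) (U' := Im V d) (T := S.perp U) (fun v hv w hw => e w hw v hv)
    (fun v hv w hw => S.b_fix_im (hU hw) hv)
    fun v hv hv' => eq_zero_of_eq_neg ((hU hv).symm.trans (Im_eq_Ng (V := V) h ▸ hv' : v ∈ Ng V d))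
  have h2 := S.card_mul_card_perp U
  have h3 := S.card_Im d
  refine Nat.le_of_mul_le_mul_right ?_ (S.card_pos (Im V d))
  nlinarith

theorem iso_ng {d : B} {U : Submodule F3 V} (hU : U ≤ Ng V d)
    (e : ∀ v ∈ U, ∀ w ∈ U, S.b v w = 0) : Nat.card U * Nat.card U * Nat.card (Fix V d) ≤ 6561 := by
  have h1 := S.card_mul_le (U := U) (U' := Fix V d) (T := S.perp U) (fun v hv w hw => e w hw v hv)
    (fun v hv w hw => eq_zero_of_eq_neg (V := F3) (by
      nth_rewrite 1 [← S.pres d w v]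
      rw [mem_Ng.1 (hU hw), mem_Fix.1 hv, map_neg, LinearMap.neg_apply]))
    fun v hv hv' => eq_zero_of_eq_neg (hv'.symm.trans (hU hv))
  have h2 := S.card_mul_card_perp U
  nlinarith

end SP

variable {G : Type*} [Group G]

namespace FA

variable {S : SP B V} (D : FA G S)

theorem congr {v w : V} {l k : F3} (h1 : v = w) (h2 : l = k) : D.η v l = D.η w k := by rw [h1, h2]

theorem commutator (v : V) (l : F3) (w : V) (k : F3) : ⁅D.η v l, D.η w k⁆ = D.η 0 (-S.b v w) := by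
  rw [commutatorElement_def, D.inv, D.inv, D.mul, D.mul, D.mul]
  refine D.congr (by abel) ?_
  simp only [map_add, map_neg, LinearMap.add_apply, LinearMap.neg_apply, S.alt, S.swap v w]
  linear_combination S.b v w * three_eq

theorem comm_iff {v w : V} {l k : F3} : Commute (D.η v l) (D.η w k) ↔ S.b v w = 0 := by
  rw [← commutatorElement_eq_one_iff_commute, D.commutator]
  exact ⟨fun h => neg_eq_zero.1 (D.inj₀ _ h), fun h => by rw [h, neg_zero, D.zero]⟩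

theorem inj {v w : V} {l k : F3} (h : D.η v l = D.η w k) : v = w ∧ l = k := by
  rw [← mul_inv_eq_one, D.inv, D.mul] at h
  obtain rfl : v = w := by
    rw [← sub_eq_zero, sub_eq_add_neg]
    exact S.nd _ fun u => (D.comm_iff (l := 0)).1 (h ▸ Commute.one_right _)
  rw [add_neg_cancel, map_neg, S.alt] at h
  exact ⟨rfl, by linear_combination D.inj₀ _ h⟩

theorem η_eq_one {v : V} {l : F3} : D.η v l = 1 ↔ v = 0 ∧ l = 0 :=
  ⟨fun h => D.inj (h.trans D.zero.symm), fun h => by rw [h.1, h.2, D.zero]⟩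

theorem p3_η (v : V) (l k : F3) : p3 (D.η v l) k = D.η (k • v) (k * l) := by
  rcases zmod3_cases k with rfl | rfl | rfl
  · rw [p3_zero, zero_smul, zero_mul, D.zero]
  · rw [p3_one, one_smul, one_mul]
  · rw [p3_two, D.mul, S.alt, two_smul, two_mul, add_zero]

theorem cube (v : V) (l : F3) : D.η v l ^ 3 = 1 := by
  rw [pow_three, D.mul, D.mul, D.η_eq_one, map_add, S.alt]
  refine ⟨?_, by linear_combination l * three_eq⟩
  rw [← add_assoc, three_v]

theorem mem_Q {q : G} : q ∈ D.Q ↔ ∃ v l, q = D.η v l := Iff.rfl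
theorem η_mem (v : V) (l : F3) : D.η v l ∈ D.Q := ⟨v, l, rfl⟩
theorem mem_H {h : G} : h ∈ D.H ↔ Commute h D.z := mem_centralizer_singleton_iff
theorem Q_cube {q : G} (h : q ∈ D.Q) : q ^ 3 = 1 := by obtain ⟨v, l, rfl⟩ := h; exact D.cube v l
theorem z_mem : D.z ∈ D.Q := D.hz ▸ D.η_mem 0 1
theorem z3 : D.z ^ 3 = 1 := D.Q_cube D.z_mem
theorem z_ne : D.z ≠ 1 := fun h => one_ne_zero (D.inj₀ 1 (D.hz.trans h))
theorem orderOf_z : orderOf D.z = 3 :=
  haveI : Fact (Nat.Prime 3) := ⟨Nat.prime_three⟩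
  orderOf_eq_prime D.z3 D.z_ne
theorem card_Z : Nat.card D.Z = 3 := by rw [Nat.card_zpowers, D.orderOf_z]
theorem η_zero (l : F3) : D.η 0 l = p3 D.z l := by rw [← D.hz, D.p3_η, smul_zero, mul_one]
theorem z_inv : D.z⁻¹ = D.η 0 (-1) := by rw [← D.hz, D.inv, neg_zero]

theorem mem_Z {g : G} : g ∈ D.Z ↔ ∃ l, g = D.η 0 l := by
  refine ⟨fun h => ?_, fun ⟨l, e⟩ => by rw [e, D.η_zero]; exact pow_mem (mem_zpowers _) _⟩
  rcases zpowers_cases D.z3 h with rfl | rfl | rfl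
  exacts [⟨0, D.zero.symm⟩, ⟨1, D.hz.symm⟩, ⟨-1, D.z_inv⟩]

theorem mem_Z' {g : G} : g ∈ D.Z ↔ g = 1 ∨ g = D.z ∨ g = D.z⁻¹ := by
  refine ⟨fun h => ?_, fun h => by rcases h with rfl | rfl | rfl <;> simp⟩
  obtain ⟨l, rfl⟩ := D.mem_Z.1 h
  rcases zmod3_cases l with rfl | rfl | rfl
  exacts [.inl D.zero, .inr (.inl D.hz), .inr (.inr D.z_inv.symm)]

theorem η_mem_Z {v : V} {l : F3} : D.η v l ∈ D.Z ↔ v = 0 :=
  D.mem_Z.trans ⟨fun ⟨_, e⟩ => (D.inj e).1, fun e => ⟨l, by rw [e]⟩⟩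
theorem Z_le : D.Z ≤ D.Q := zpowers_le.2 D.z_mem
theorem η_z (v : V) (l : F3) : Commute (D.η v l) D.z := D.hz ▸ D.comm_iff.2 (map_zero _)
theorem Q_z {q : G} (h : q ∈ D.Q) : Commute q D.z := by obtain ⟨v, l, rfl⟩ := h; exact D.η_z v l
theorem Q_le_H : D.Q ≤ D.H := fun _ h => D.mem_H.2 (D.Q_z h)
theorem comm_Z {h w : G} (hh : Commute h D.z) (hw : w ∈ D.Z) : Commute h w := by
  obtain ⟨n, rfl⟩ := hw; exact hh.zpow_right n
theorem comm_mem_Z {a b : G} (ha : a ∈ D.Q) (hb : b ∈ D.Q) : ⁅a, b⁆ ∈ D.Z := by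
  obtain ⟨v, l, rfl⟩ := ha
  obtain ⟨w, k, rfl⟩ := hb
  rw [D.commutator, D.η_mem_Z]

theorem conj_η (u : V) (k : F3) (v : V) (l : F3) : D.η u k * D.η v l * (D.η u k)⁻¹ = D.η v (l - S.b u v) := by
  rw [D.inv, D.mul, D.mul]
  refine D.congr (by abel) ?_
  simp only [map_add, map_neg, LinearMap.add_apply, S.alt, S.swap u v]
  linear_combination S.b u v * three_eq

theorem ρ_lam {h : G} (hh : Commute h D.z) {w : B} {f : V → F3}
    (e : ∀ v, h * D.η v 0 * h⁻¹ = D.η ((w • v)) (f v)) : D.ρ h = w ∧ ∀ v, D.lam h v = f v :=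
  ⟨S.ext fun v => (D.inj ((D.conj h hh v 0).symm.trans (e v))).1,
    fun v => (zero_add _).symm.trans (D.inj ((D.conj h hh v 0).symm.trans (e v))).2⟩

theorem ρ_η (u : V) (k : F3) : D.ρ (D.η u k) = 1 :=
  (D.ρ_lam (D.η_z u k) fun v => by rw [D.conj_η, one_smul]).1
theorem lam_η (u : V) (k : F3) (v : V) : D.lam (D.η u k) v = -S.b u v :=
  (D.ρ_lam (D.η_z u k) (w := 1) (f := fun v => -S.b u v) fun v => by rw [D.conj_η, one_smul, zero_sub]).2 v

theorem ρ_lam_mul {g h : G} (hg : Commute g D.z) (hh : Commute h D.z) : D.ρ (g * h) = D.ρ g * D.ρ h ∧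
    ∀ v, D.lam (g * h) v = D.lam h v + D.lam g ((D.ρ h • v)) :=
  D.ρ_lam (hg.mul_left hh) fun v => by
    rw [show g * h * D.η v 0 * (g * h)⁻¹ = g * (h * D.η v 0 * h⁻¹) * g⁻¹ by group, D.conj h hh, D.conj g hg,
      mul_smul, zero_add]

theorem ρ_mul {g h : G} (hg : Commute g D.z) (hh : Commute h D.z) : D.ρ (g * h) = D.ρ g * D.ρ h :=
  (D.ρ_lam_mul hg hh).1
theorem lam_mul {g h : G} (hg : Commute g D.z) (hh : Commute h D.z) (v : V) :
    D.lam (g * h) v = D.lam h v + D.lam g ((D.ρ h • v)) := (D.ρ_lam_mul hg hh).2 v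

/-- The action of the centralizer. -/
def ρH : D.H →* B := MonoidHom.mk' (fun h => D.ρ h) fun g h => D.ρ_mul (D.mem_H.1 g.2) (D.mem_H.1 h.2)

theorem ρH_apply (h : D.H) : D.ρH h = D.ρ h := rfl
theorem ρ_one : D.ρ 1 = 1 := map_one D.ρH
theorem ρ_inv {h : G} (hh : Commute h D.z) : D.ρ h⁻¹ = (D.ρ h)⁻¹ := map_inv D.ρH ⟨h, D.mem_H.2 hh⟩
theorem ρ_pow {h : G} (hh : Commute h D.z) (n : ℕ) : D.ρ (h ^ n) = D.ρ h ^ n :=
  map_pow D.ρH ⟨h, D.mem_H.2 hh⟩ n
theorem ρ_conj {g h : G} (hg : Commute g D.z) (hh : Commute h D.z) :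
    D.ρ (g * h * g⁻¹) = D.ρ g * D.ρ h * (D.ρ g)⁻¹ := by
  rw [D.ρ_mul (hg.mul_left hh) hg.inv_left, D.ρ_mul hg hh, D.ρ_inv hg]
theorem ρ_Q {q : G} (h : q ∈ D.Q) : D.ρ q = 1 := by obtain ⟨v, l, rfl⟩ := h; exact D.ρ_η v l

theorem lam_add {h : G} (hh : Commute h D.z) (v w : V) : D.lam h (v + w) = D.lam h v + D.lam h w := by
  have e : h * (D.η v 0 * D.η w 0) * h⁻¹ = _ := conj_mul.symm
  rw [D.mul, D.conj h hh, D.conj h hh, D.conj h hh, D.mul, S.pres] at e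
  linear_combination (D.inj e).2

theorem exists_lam {h : G} (hh : Commute h D.z) : ∃ u, ∀ v, D.lam h v = S.b u v :=
  S.exists_b _ (D.lam_add hh)
theorem lam_zero {h : G} (hh : Commute h D.z) : D.lam h 0 = 0 := by
  obtain ⟨u, e⟩ := D.exists_lam hh; rw [e, map_zero]
theorem lam_smul {h : G} (hh : Commute h D.z) (k : F3) (v : V) : D.lam h (k • v) = k * D.lam h v := by
  obtain ⟨u, e⟩ := D.exists_lam hh; rw [e, e, map_smul, smul_eq_mul]
theorem lam_neg {h : G} (hh : Commute h D.z) (v : V) : D.lam h (-v) = -D.lam h v := by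
  obtain ⟨u, e⟩ := D.exists_lam hh; rw [e, e, map_neg]

theorem commute_η {h : G} (hh : Commute h D.z) {v : V} {l : F3} :
    Commute h (D.η v l) ↔ (D.ρ h • v) = v ∧ D.lam h v = 0 := by
  rw [Commute, SemiconjBy, ← mul_inv_eq_iff_eq_mul, D.conj h hh]
  exact ⟨fun e => ⟨(D.inj e).1, by linear_combination (D.inj e).2⟩, fun e => by rw [e.1, e.2, add_zero]⟩

theorem cent_Q {g : G} (h : ∀ v, Commute g (D.η v 0)) : g ∈ D.Z := by
  obtain ⟨v, l, rfl⟩ := D.cent g h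
  exact D.η_mem_Z.2 (S.nd _ fun w => D.comm_iff.1 (h w).symm)

theorem ρ_eq_one {h : G} (hh : Commute h D.z) : D.ρ h = 1 ↔ h ∈ D.Q := by
  refine ⟨fun e => ?_, D.ρ_Q⟩
  obtain ⟨u, e1⟩ := D.exists_lam hh
  have h2 := (D.η_z u 0).mul_left hh
  refine (mul_mem_cancel_left (D.η_mem u 0)).1 (D.cent _ fun v => (D.commute_η h2).2 ?_)
  rw [D.ρ_mul (D.η_z u 0) hh, D.lam_mul (D.η_z u 0) hh, D.ρ_η, e, one_mul, one_smul, D.lam_η, e1]
  exact ⟨rfl, add_neg_cancel _⟩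

theorem conj_mem {h q : G} (hh : Commute h D.z) (hq : q ∈ D.Q) : h * q * h⁻¹ ∈ D.Q := by
  obtain ⟨v, l, rfl⟩ := hq
  exact ⟨_, _, D.conj h hh v l⟩

theorem conj_mem' {n q : G} (hn : n * D.z * n⁻¹ ∈ D.Z) (hq : q ∈ D.Q) : n * q * n⁻¹ ∈ D.Q := by
  rcases D.mem_Z'.1 hn with e | e | e
  · exact absurd (conj_eq_one_iff.1 e) D.z_ne
  · exact D.conj_mem (mul_inv_eq_iff_eq_mul.1 e) hq
  · obtain ⟨v, l, rfl⟩ := hq
    exact D.nz n e v l

/-- An involution commuting with an element modulo the centre commutes with it. -/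
theorem commute_of_sq {s g : G} (hs : s * s = 1) (h1 : Commute s D.z) (h : s * g * s⁻¹ * g⁻¹ ∈ D.Z) :
    Commute s g := by
  have e : s * (s * g * s⁻¹ * g⁻¹) * s⁻¹ * (s * g * s⁻¹ * g⁻¹) = 1 := by
    rw [show s * (s * g * s⁻¹ * g⁻¹) * s⁻¹ * (s * g * s⁻¹ * g⁻¹) = s * s * g * (s * s)⁻¹ * g⁻¹ by group, hs]
    group
  rw [(D.comm_Z h1 h).eq, mul_inv_cancel_right] at e
  have := eq_one_of_sq_cube e (D.Q_cube (D.Z_le h))
  rwa [mul_inv_eq_one, mul_inv_eq_iff_eq_mul] at this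

/-- The image of a subgroup in the symplectic space. -/
def vS (A : Subgroup G) : Submodule F3 V where
  carrier := {v | ∃ l, D.η v l ∈ A}
  add_mem' := fun ⟨_, h⟩ ⟨_, h'⟩ => ⟨_, D.mul _ _ _ _ ▸ mul_mem h h'⟩
  zero_mem' := ⟨0, D.zero ▸ one_mem A⟩
  smul_mem' := fun k _ ⟨_, h⟩ => ⟨_, by rw [← D.p3_η]; exact pow_mem h _⟩

theorem mem_vS {A : Subgroup G} {v : V} : v ∈ D.vS A ↔ ∃ l, D.η v l ∈ A := Iff.rfl

theorem card_of_z {A : Subgroup G} (h : A ≤ D.Q) (hz : D.z ∈ A) : Nat.card A = 3 * Nat.card (D.vS A) := by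
  have k : ∀ {v l} (l' : F3), D.η v l ∈ A → D.η v l' ∈ A := fun {v l} l' e => by
    have := mul_mem e (pow_mem hz (l' - l).val)
    rwa [← p3, ← D.η_zero, D.mul, add_zero, map_zero, add_zero, add_sub_cancel] at this
  refine Eq.trans ?_ ((Nat.card_prod F3 (D.vS A)).trans (by rw [Nat.card_zmod]))
  refine (Nat.card_eq_of_bijective (fun p : F3 × D.vS A => (⟨D.η p.2 p.1, k _ p.2.2.choose_spec⟩ : A))
    ⟨fun p q e => ?_, fun ⟨q, hq⟩ => ?_⟩).symm
  · have := D.inj (congrArg Subtype.val e)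
    exact Prod.ext this.2 (Subtype.ext this.1)
  · obtain ⟨v, l, rfl⟩ := h hq
    exact ⟨(l, ⟨v, l, hq⟩), rfl⟩

theorem card_of_nz {A : Subgroup G} (h : A ≤ D.Q) (hz : D.z ∉ A) : Nat.card A = Nat.card (D.vS A) := by
  refine (Nat.card_eq_of_bijective (fun p : D.vS A => (⟨D.η p p.2.choose, p.2.choose_spec⟩ : A))
    ⟨fun p q e => Subtype.ext (D.inj (congrArg Subtype.val e)).1, fun ⟨q, hq⟩ => ?_⟩).symm
  obtain ⟨v, l, rfl⟩ := h hq
  have h1 : v ∈ D.vS A := ⟨l, hq⟩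
  refine ⟨⟨v, h1⟩, Subtype.ext (D.congr rfl (by_contra fun n => hz ?_))⟩
  have := pow_mem (mul_mem h1.choose_spec (inv_mem hq)) (h1.choose - l).val
  rw [← p3, D.inv, D.mul, D.p3_η, add_neg_cancel, smul_zero, map_neg, S.alt] at this
  rw [← D.hz]
  convert this using 2
  exact (by decide : ∀ a l : F3, ¬ a = l → 1 = (a - l) * (a + -l + -0)) _ _ n

theorem card_le_vS {A : Subgroup G} (h : A ≤ D.Q) : Nat.card A ≤ 3 * Nat.card (D.vS A) := by
  by_cases hz : D.z ∈ A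
  · exact (D.card_of_z h hz).le
  · rw [D.card_of_nz h hz]; omega

theorem card_Q : Nat.card D.Q = 3 ^ 9 := by
  rw [D.card_of_z le_rfl D.z_mem, show D.vS D.Q = ⊤ from eq_top_iff.2 fun v _ => ⟨0, D.η_mem v 0⟩,
    Nat.card_congr Submodule.topEquiv.toEquiv, S.card]
  rfl

theorem pQ : IsPGroup 3 D.Q := IsPGroup.of_card D.card_Q

theorem vS_mul_le {A B : Subgroup G} (h : ∀ a ∈ A, ∀ b ∈ B, Commute a b) :
    Nat.card (D.vS A) * Nat.card (D.vS B) ≤ 6561 := by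
  rw [← S.card_mul_card_perp (D.vS A)]
  exact Nat.mul_le_mul_left _ (S.card_le fun v ⟨_, hv⟩ w ⟨_, hw⟩ => D.comm_iff.1 (h _ hw _ hv))

theorem ab243 {A : Subgroup G} (h : A ≤ D.Q) (hc : ∀ a ∈ A, ∀ b ∈ A, Commute a b) : Nat.card A ≤ 243 := by
  have h1 := D.vS_mul_le hc
  have h2 := D.card_le_vS h
  nlinarith

theorem ab81 {A : Subgroup G} (h : A ≤ D.Q) (hz : D.z ∉ A) (hc : ∀ a ∈ A, ∀ b ∈ A, Commute a b) :
    Nat.card A ≤ 81 := by
  have h1 := D.vS_mul_le hc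
  rw [← D.card_of_nz h hz] at h1
  nlinarith

theorem card_cent {x : G} (h : x ∈ D.Q) (hz : x ∉ D.Z) : Nat.card ↥(D.Q ⊓ centralizer {x}) = 3 ^ 8 := by
  obtain ⟨v, l, rfl⟩ := h
  have h1 := S.card_mul_card_perp (Submodule.span F3 {v})
  have : Fact (Nat.Prime 3) := ⟨Nat.prime_three⟩
  rw [Module.natCard_eq_pow_finrank (K := F3), finrank_span_singleton (mt D.η_mem_Z.2 hz), Nat.card_zmod] at h1
  rw [D.card_of_z inf_le_left ⟨D.z_mem, mem_centralizer_singleton_iff.2 (D.η_z v l).symm⟩,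
    show D.vS (D.Q ⊓ centralizer {D.η v l}) = S.perp (Submodule.span F3 {v}) from
      Submodule.ext fun w => ⟨fun ⟨_, _, e⟩ u hu => ?_, fun e => ⟨0, D.η_mem _ _, mem_centralizer_singleton_iff.2
        (D.comm_iff.2 (e v (Submodule.mem_span_singleton_self v))).symm⟩⟩]
  · omega
  · obtain ⟨k, rfl⟩ := Submodule.mem_span_singleton.1 hu
    have := D.comm_iff.1 (Commute.symm (mem_centralizer_singleton_iff.1 e))
    change S.b (k • v) w = 0
    rw [map_smul, LinearMap.smul_apply, this, smul_zero]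

theorem cj_z (g : G) : (D.cj g).z = g * D.z * g⁻¹ := rfl
theorem cj_η (g : G) (v : V) (l : F3) : (D.cj g).η v l = g * D.η v l * g⁻¹ := rfl
theorem cj_ρ (g h : G) : (D.cj g).ρ h = D.ρ (g⁻¹ * h * g) := rfl
theorem cj_lam (g h : G) : (D.cj g).lam h = D.lam (g⁻¹ * h * g) := rfl

theorem mem_cj_Q {g q : G} : q ∈ (D.cj g).Q ↔ g⁻¹ * q * g ∈ D.Q :=
  exists₂_congr fun v l => ⟨fun e => by rw [e, cj_η]; group, fun e => by rw [cj_η, ← e]; group⟩

theorem inv_nz {n : G} (hn : n * D.z * n⁻¹ ∈ D.Z) : n⁻¹ * D.z * n⁻¹⁻¹ ∈ D.Z := by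
  rcases D.mem_Z'.1 hn with e | e | e
  · exact absurd (conj_eq_one_iff.1 e) D.z_ne
  · rw [show n⁻¹ * D.z * n⁻¹⁻¹ = n⁻¹ * (n * D.z * n⁻¹) * n by rw [e, inv_inv]]
    simp [mul_assoc]
  · rw [show n⁻¹ * D.z * n⁻¹⁻¹ = n⁻¹ * (n * D.z * n⁻¹)⁻¹ * n by rw [e, inv_inv, inv_inv]]
    simp [mul_assoc]

theorem cj_Q {n : G} (hn : n * D.z * n⁻¹ ∈ D.Z) : (D.cj n).Q = D.Q := by
  refine Subgroup.ext fun q => D.mem_cj_Q.trans ⟨fun h => ?_, fun h => ?_⟩
  · simpa [mul_assoc] using D.conj_mem' hn h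
  · simpa using D.conj_mem' (D.inv_nz hn) h


theorem Z_symm {D D' : FA G S} (h : D'.z ∈ D.Z) : D.z ∈ D'.Z := by
  rcases D.mem_Z'.1 h with e | e | e
  · exact absurd e D'.z_ne
  · exact e ▸ mem_zpowers _
  · exact D'.mem_Z'.2 (.inr (.inr (by rw [e, inv_inv])))

theorem mem_cj_Z {g q : G} : q ∈ (D.cj g).Z ↔ g⁻¹ * q * g ∈ D.Z := by
  rw [mem_Z, mem_Z]
  exact exists_congr fun l => ⟨fun e => by rw [e, cj_η]; group, fun e => by rw [cj_η, ← e]; group⟩

theorem conj_Z {n w : G} (hn : n * D.z * n⁻¹ ∈ D.Z) (hw : w ∈ D.Z) : n * w * n⁻¹ ∈ D.Z := by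
  obtain ⟨k, rfl⟩ := hw
  exact conj_zpow (i := k) (a := n) (b := D.z) ▸ zpow_mem hn k

theorem lam_conj_η {y : G} (hy : Commute y D.z) (u : V) (k : F3) (v : V) :
    D.lam (D.η u k * y * (D.η u k)⁻¹) v = D.lam y v - (S.b u (D.ρ y • v) - S.b u v) := by
  have h := D.η_z u k
  rw [D.lam_mul (h.mul_left hy) h.inv_left, D.lam_mul h hy, D.inv, D.ρ_η, one_smul, D.lam_η, D.lam_η, map_neg,
    LinearMap.neg_apply]
  ring

theorem exists_lin {y : G} (hy : Commute y D.z) (h2 : ∀ v, D.ρ y • v = v → D.lam y v = 0) :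
    ∃ q ∈ D.Q, ∀ v, D.lam (q * y * q⁻¹) v = 0 := by
  obtain ⟨u, e⟩ := D.exists_lam hy
  obtain ⟨w, rfl⟩ : u ∈ Im V (D.ρ y)⁻¹ := by
    rw [S.Im_inv, ← S.perp_Fix]
    exact fun v hv => S.refl _ _ ((e v).symm.trans (h2 v hv))
  refine ⟨_, D.η_mem (-w) 0, fun v => ?_⟩
  rw [D.lam_conj_η hy, e, map_sub, LinearMap.sub_apply, ← S.pres (D.ρ y) ((D.ρ y)⁻¹ • w), smul_inv_smul]
  simp only [map_neg, LinearMap.neg_apply]
  ring

theorem lam_fix {s : G} (hs : s * s = 1) (hz : Commute s D.z) {v : V} (hv : D.ρ s • v = v) : D.lam s v = 0 := by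
  have := D.lam_mul hz hz v
  rw [hs, hv, (D.commute_η (Commute.one_left _)).1 (Commute.one_left (D.η v 0)) |>.2] at this
  exact eq_zero_of_eq_neg (V := F3) (by linear_combination -this)

theorem inv_η {s : G} (hs : s * s = 1) (hz : Commute s D.z) {v : V} {l : F3} :
    Commute s (D.η v l) ↔ D.ρ s • v = v :=
  (D.commute_η hz).trans ⟨fun h => h.1, fun h => ⟨h, D.lam_fix hs hz h⟩⟩

theorem exists_inv {b : B} (hb : b * b = 1) : ∃ s, s * s = 1 ∧ Commute s D.z ∧ D.ρ s = b := by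
  obtain ⟨h, hh, rfl⟩ := D.sur b
  refine ⟨h ^ 3, ?_, hh.pow_left 3, by rw [D.ρ_pow hh, pow_three, hb, mul_one]⟩
  rw [← (Commute.refl h).mul_pow, D.Q_cube ((D.ρ_eq_one (hh.mul_left hh)).1 (by rw [D.ρ_mul hh hh, hb]))]

theorem conj_inv {s t : G} (hs : s * s = 1) (ht : t * t = 1) (h1 : Commute s D.z) (h2 : Commute t D.z)
    (e : D.ρ t = D.ρ s) : ∃ q ∈ D.Q, q * s * q⁻¹ = t := by
  have h3 : t * s ∈ D.Q := (D.ρ_eq_one (h2.mul_left h1)).1 (by rw [D.ρ_mul h2 h1, e, ← D.ρ_mul h1 h1, hs, D.ρ_one])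
  refine ⟨t * s * (t * s), mul_mem h3 h3, ?_⟩
  have h4 := D.Q_cube h3
  rw [mul_inv_rev, mul_inv_rev, inv_eq_of_mul_eq_one_right hs, inv_eq_of_mul_eq_one_right ht]
  calc _ = t * s * (t * (s * s) * s * t) * (s * t) := by simp only [mul_assoc]
    _ = (t * s) ^ 3 * t := by rw [hs]; simp only [pow_three, mul_assoc, mul_one]
    _ = t := by rw [h4, one_mul]

theorem lift {s : G} (hs : s * s = 1) (h1 : Commute s D.z) {g : B} (hg : Commute g (D.ρ s)) :
    ∃ h, Commute h D.z ∧ Commute h s ∧ D.ρ h = g := by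
  obtain ⟨h, hh, rfl⟩ := D.sur g
  obtain ⟨q, hq, e⟩ := D.conj_inv (t := h * s * h⁻¹) hs (by rw [conj_mul, hs, mul_one, mul_inv_cancel]) h1
    ((hh.mul_left h1).mul_left hh.inv_left) (by rw [D.ρ_conj hh h1, hg.eq, mul_inv_cancel_right])
  have h2 := (D.Q_z hq).inv_left
  refine ⟨q⁻¹ * h, h2.mul_left hh, ?_, by rw [D.ρ_mul h2 hh, D.ρ_Q (inv_mem hq), one_mul]⟩
  rw [Commute, SemiconjBy, mul_assoc, ← mul_inv_eq_iff_eq_mul.1 e.symm.symm.symm |>.symm]
  group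

theorem card_ρ [Finite G] {Y : Subgroup G} (h : Y ≤ D.H) :
    Nat.card Y = Nat.card ((Y.subgroupOf D.H).map D.ρH) * Nat.card ↥(Y ⊓ D.Q) := by
  have h1 := card_eq_card_quotient_mul_card_subgroup (D.ρH.comp (inclusion h)).ker
  rw [Nat.card_congr (QuotientGroup.quotientKerEquivRange _).toEquiv] at h1
  rw [h1, show (D.ρH.comp (inclusion h)).range = (Y.subgroupOf D.H).map D.ρH by
    rw [MonoidHom.range_comp, inclusion_range], ← card_map_of_injective (subtype_injective Y)]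
  congr 3
  ext x
  exact ⟨fun ⟨y, a, b⟩ => b ▸ ⟨y.2, (D.ρ_eq_one (D.mem_H.1 (h y.2))).1 a⟩,
    fun ⟨a, b⟩ => ⟨⟨x, a⟩, D.ρ_Q b, rfl⟩⟩

theorem mem_map_ρ {Y : Subgroup G} (h : Y ≤ D.H) {b : B} :
    b ∈ (Y.subgroupOf D.H).map D.ρH ↔ ∃ y ∈ Y, D.ρ y = b :=
  ⟨fun ⟨y, a, e⟩ => ⟨y, a, e⟩, fun ⟨y, a, e⟩ => ⟨⟨y, h a⟩, a, e⟩⟩

theorem le_H [Finite G] {T : Subgroup G} (h3 : IsPGroup 3 T) (hQ : D.Q ≤ T) : T ≤ D.H := by
  have : Fact (Nat.Prime 3) := ⟨Nat.prime_three⟩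
  have : Nontrivial T := ⟨⟨⟨D.z, hQ D.z_mem⟩, 1, fun e => D.z_ne (congrArg Subtype.val e)⟩⟩
  have := h3.center_nontrivial
  obtain ⟨⟨c, hc⟩, h1⟩ := exists_ne (1 : center T)
  have k : ∀ t ∈ T, Commute t c := fun t ht => congrArg Subtype.val (mem_center_iff.1 hc ⟨t, ht⟩)
  intro t ht
  rcases D.mem_Z'.1 (D.cent_Q fun v => (k _ (hQ (D.η_mem v 0))).symm) with e | e | e
  · exact absurd (Subtype.ext (Subtype.ext e)) h1
  · exact D.mem_H.2 (e ▸ k t ht)
  · exact D.mem_H.2 (Commute.inv_right_iff.1 (e ▸ k t ht))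

theorem Far.eq_one {D D' : FA G S} (h : D.Far D') {q : G} (hq : q ∈ D.Q)
    (hc : q * D'.z * q⁻¹ * D'.z⁻¹ ∈ D'.Q) : q * D'.z * q⁻¹ * D'.z⁻¹ = 1 := by
  have h1 := mul_mem (h.wc q hq ((mul_mem_cancel_right (inv_mem D'.z_mem)).1 hc)) (inv_mem (mem_zpowers D'.z))
  have h2 : q * D'.z * q⁻¹ * D'.z⁻¹ ∈ D.Q := by
    simpa [mul_assoc] using mul_mem hq (D.conj_mem h.com (inv_mem hq))
  rcases D'.mem_Z'.1 h1 with e | e | e
  exacts [e, absurd (e ▸ h2) h.n1, absurd (inv_mem_iff.1 (e ▸ h2)) h.n1]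

theorem Far.inf_Z {D D' : FA G S} (h : D.Far D') {x : G} (h1 : x ∈ D.Z) (h2 : x ∈ D'.Q) : x = 1 := by
  rcases D.mem_Z'.1 h1 with e | e | e
  exacts [e, absurd (e ▸ h2) h.n2, absurd (inv_mem_iff.1 (e ▸ h2)) h.n2]

end FA

end Cfsg.Lib.C23
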