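import Cfsg.Agent.Recog.C23A2

/-!
The centralizer of an involution inverting one of four blocks.
-/

set_option autoImplicit false

namespace Cfsg.Lib.C23

open Cfsg Subgroup Equiv Cfsg.Lib.Recog.P43 Cfsg.Lib.Recog.P43.Q Cfsg.Lib.C22 Matrix

namespace B4

theorem exists_q (f : V2 → V2) (h : ∀ a b, f (a + b) = f a + f b)
    (hb : b2 (f (1, 0)) (f (0, 1)) = 1) : ∃ q, ∀ a, f a = a2 q a := by
  obtain ⟨q, e0, e2, e1, e3⟩ := Q.exists_act _ _ _ _ hb
  let φ : V2 →ₗ[F3] V2 := (AddMonoidHom.mk' f h).toZModLinearMap 3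
  refine ⟨q, fun ⟨x, y⟩ => ?_⟩
  have h1 : φ (x, y) = x • φ (1, 0) + y • φ (0, 1) := by
    rw [← map_smul, ← map_smul, ← map_add]; simp
  refine h1.trans (Prod.ext ?_ ?_)
  · change x * (f (1, 0)).1 + y * (f (0, 1)).1 = _
    simp only [a2, ax, e0, e1]; ring
  · change x * (f (1, 0)).2 + y * (f (0, 1)).2 = _
    simp only [a2, ay, e2, e3]; ring

theorem cen_q : ∀ a : Q, a * a = m → ∀ b : Q, b * b = m → a * b * a⁻¹ * b⁻¹ = m → ∀ x : Q,
    x * a = a * x → x * b = b * x → x = 1 ∨ x = m := by decide +kernel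

theorem ng_inj {k l : Fin 3} (h : W.ng k = W.ng l) : k = l := by_contra fun n => by
  have := congrArg (W.g · k) h
  simp only [W.ng, if_neg n, if_true] at this
  exact m_facts.1 this

theorem card_T : Nat.card {p : X // p * X.t = X.t * p ∧ p ^ 8 = 1} = 8 := by
  rw [Nat.card_eq_fintype_card]; decide +kernel

theorem sq_sq (p : X) (h : p * X.t = X.t * p) : ∃ x y : X, x * X.t = X.t * x ∧ y * X.t = X.t * y ∧
    p = x * x * (y * y) := by
  obtain ⟨h1, h2⟩ := (by decide +kernel : ∀ p : X, p * X.t = X.t * p → p.x = 0 ∧ p.y = 0) p h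
  obtain ⟨x, y, z, g⟩ := p
  obtain rfl : x = 0 := h1
  obtain rfl : y = 0 := h2
  obtain ⟨a, b, rfl⟩ := Q.sq_sq g
  have k : ∀ (z : ZMod 3) (g : Q), (⟨0, 0, z, g⟩ : X) * X.t = X.t * ⟨0, 0, z, g⟩ := by
    decide +kernel
  refine ⟨_, _, k (-z) a, k 0 b, ?_⟩
  simp only [X.mul_def, ax, ay, mul_zero, add_zero, sub_self, X.mk.injEq, true_and, and_true]
  linear_combination z * three_eq

variable {B : Type*} [Group B] {R : Subgroup B} {π : B →* X} {i : B}
  {V : Type*} [AddCommGroup V] [Module F3 V] [DistribMulAction B V]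
  {S : SP B V} {e : (Fin 4 → V2) ≃ₗ[F3] V} {d : Fin 4 → B} {c c' : B}

section

variable (hK : BK S R π i e d c c')
include hK

theorem d_comm (k l : Fin 4) : Commute (d k) (d l) := S.ext fun v => by
  obtain ⟨v, rfl⟩ := e.surjective v
  rw [mul_smul, mul_smul, hK.act, hK.act, hK.act, hK.act]
  congr 1
  funext j
  split_ifs <;> rfl

theorem d_inj : Function.Injective d := fun k l h => by_contra fun n => by
  have := congrFun (e.injective ((hK.act k fun _ => (1, 0)).symm.trans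
    (h ▸ hK.act l fun _ => (1, 0)))) k
  rw [if_pos rfl, if_neg n] at this
  exact absurd this (by decide)

theorem blk {g : B} {k l : Fin 4} (h : g * d k * g⁻¹ = d l) :
    ∃ q, ∀ a, g • e (Pi.single k a) = e (Pi.single l (a2 q a)) := by
  have h1 : ∀ a, g • e (Pi.single k a) = e (Pi.single l (e.symm (g • e (Pi.single k a)) l)) :=
    fun a => by
      have h2 : d k • e (Pi.single k a) = -e (Pi.single k a) := by
        rw [hK.act, ← map_neg]
        congr 1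
        funext j
        by_cases hj : j = k <;> simp [hj]
      have h3 : d l • g • e (Pi.single k a) = -(g • e (Pi.single k a)) := by
        rw [← h, smul_smul, inv_mul_cancel_right, mul_smul, h2, smul_neg]
      obtain ⟨v, hv⟩ := e.surjective (g • e (Pi.single k a))
      rw [← hv] at h3 ⊢
      rw [hK.act, ← map_neg] at h3
      rw [e.symm_apply_apply]
      congr 1
      funext j
      by_cases hj : j = l
      · rw [hj, Pi.single_eq_same]
      · have := congrFun (e.injective h3) j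
        rw [if_neg hj] at this
        rw [Pi.single_eq_of_ne hj]
        exact eq_zero_of_eq_neg this
  have h2 : ∀ (k : Fin 4) a b, S.b (e (Pi.single k a)) (e (Pi.single k b)) = b2 a b := fun k a b => by
    rw [hK.form, Finset.sum_eq_single k (fun j _ hj => by simp [hj, b2]) (by simp)]
    simp
  obtain ⟨q, hq⟩ := exists_q (fun a => e.symm (g • e (Pi.single k a)) l)
    (fun a b => by simp [Pi.single_add]) (by rw [← h2 l, ← h1, ← h1, S.pres, h2]; decide)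
  exact ⟨q, fun a => by rw [h1, hq]⟩

theorem exists_act (htt : ∀ k, TT V (d k))
    (heq : ∀ s, TT V s → Commute s (d 0) → ∃ k, s = d k) {g : B} (hg : Commute g (d 0)) :
    ∃ p : Q × W, ∀ a v, g • e (vecCons a v) = e (vecCons (a2 p.1 a) (p.2.act v)) := by
  have h0 : g * d 0 * g⁻¹ = d 0 := by rw [hg.eq, mul_inv_cancel_right]
  choose s hs using fun k => heq _ ((htt k).conj g) (h0 ▸ (Commute.conj_iff g).2 (d_comm hK k 0))
  have h1 : Function.Injective s := fun k l h => d_inj hK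
    ((MulAut.conj g).injective ((hs k).trans (h ▸ (hs l).symm)))
  choose q hq using fun k => blk hK (hs k)
  let t : Perm (Fin 4) := Equiv.ofBijective s h1.bijective_of_finite
  obtain ⟨h2, σ, h3⟩ := (by decide +kernel : ∀ t : Perm (Fin 4), t 0 = 0 → t⁻¹ 0 = 0 ∧
    ∃ σ : Perm (Fin 3), ∀ k : Fin 3, t⁻¹ k.succ = (σ⁻¹ k).succ) t (d_inj hK ((hs 0).symm.trans h0))
  refine ⟨(q 0, ⟨σ, fun k => q (t⁻¹ k.succ)⟩), fun a v => ?_⟩
  rw [← Finset.univ_sum_single (vecCons a v), map_sum, Finset.smul_sum]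
  simp only [hq]
  rw [← map_sum, ← Equiv.sum_comp t⁻¹]
  congr 1
  have h4 : ∀ k, s (t⁻¹ k) = k := fun k => t.apply_symm_apply k
  simp only [h4]
  rw [Finset.univ_sum_single]
  funext j
  refine Fin.cases ?_ (fun j => ?_) j
  · rw [h2]; rfl
  · simp only [cons_val_succ, W.act, h3]

end

/-- The action of the centralizer in coordinates. -/
structure AC (S : SP B V) (R : Subgroup B) (π : B →* X) (i : B) (e : (Fin 4 → V2) ≃ₗ[F3] V)
    (d : Fin 4 → B) (c c' : B) (q : B → Q) (ρ : B → W) : Prop where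
  h : RH R π i
  hK : BK S R π i e d c c'
  tt : ∀ k, TT V (d k)
  eqd : ∀ s, TT V s → Commute s (d 0) → ∃ k, s = d k
  fx : ∀ r ∈ R, r ≠ 1 → Nat.card (Fix V r) ≤ 81
  act : ∀ g, Commute g (d 0) → ∀ a v, g • e (vecCons a v) = e (vecCons (a2 (q g) a) ((ρ g).act v))

namespace AC

variable {q : B → Q} {ρ : B → W} (A : AC S R π i e d c c' q ρ) {g k : B}
include A

theorem uniq (hg : Commute g (d 0)) {x : Q} {w : W}
    (h : ∀ a v, g • e (vecCons a v) = e (vecCons (a2 x a) (w.act v))) : q g = x ∧ ρ g = w := by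
  have k := fun a v => vecCons_inj.1 (e.injective ((A.act g hg a v).symm.trans (h a v)))
  exact ⟨a2_ext fun a => (k a 0).1, W.act_ext fun v => (k 0 v).2⟩

theorem mul (hg : Commute g (d 0)) (hk : Commute k (d 0)) :
    q (g * k) = q g * q k ∧ ρ (g * k) = ρ g * ρ k :=
  A.uniq (hg.mul_left hk) fun a v => by rw [mul_smul, A.act k hk, A.act g hg, a2_mul, W.act_mul]

/-- The action on the first block. -/
def qH : centralizer {d 0} →* Q := MonoidHom.mk' (fun g => q g) fun g k =>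
  (A.mul (mem_centralizer_singleton_iff.1 g.2) (mem_centralizer_singleton_iff.1 k.2)).1

set_option linter.unusedSectionVars false in
theorem qH_eq_1' : type_of% @qH.eq_1 := @qH.eq_1

/-- The action on the other blocks. -/
def ρH : centralizer {d 0} →* W := MonoidHom.mk' (fun g => ρ g) fun g k =>
  (A.mul (mem_centralizer_singleton_iff.1 g.2) (mem_centralizer_singleton_iff.1 k.2)).2

set_option linter.unusedSectionVars false in
theorem ρH_eq_1' : type_of% @ρH.eq_1 := @ρH.eq_1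

theorem ρ_inv (hg : Commute g (d 0)) : ρ g⁻¹ = (ρ g)⁻¹ :=
  map_inv A.ρH ⟨g, mem_centralizer_singleton_iff.2 hg⟩

theorem q_inv (hg : Commute g (d 0)) : q g⁻¹ = (q g)⁻¹ :=
  map_inv A.qH ⟨g, mem_centralizer_singleton_iff.2 hg⟩

theorem ρ_one : ρ 1 = 1 := map_one A.ρH

theorem q_one : q 1 = 1 := map_one A.qH

theorem ρ_pow (hg : Commute g (d 0)) (n : ℕ) : ρ (g ^ n) = ρ g ^ n :=
  map_pow A.ρH ⟨g, mem_centralizer_singleton_iff.2 hg⟩ n

theorem cm (hg : Commute g (d 0)) (hk : Commute k (d 0)) :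
    q (g * k * g⁻¹ * k⁻¹) = q g * q k * (q g)⁻¹ * (q k)⁻¹ ∧
      ρ (g * k * g⁻¹ * k⁻¹) = ρ g * ρ k * (ρ g)⁻¹ * (ρ k)⁻¹ := by
  have h1 := A.mul ((hg.mul_left hk).mul_left hg.inv_left) hk.inv_left
  have h2 := A.mul (hg.mul_left hk) hg.inv_left
  have h3 := A.mul hg hk
  rw [h1.1, h1.2, h2.1, h2.2, h3.1, h3.2, A.q_inv hg, A.q_inv hk, A.ρ_inv hg, A.ρ_inv hk]
  exact ⟨rfl, rfl⟩

theorem ext (hg : Commute g (d 0)) (hk : Commute k (d 0)) (h1 : q g = q k) (h2 : ρ g = ρ k) :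
    g = k := S.ext fun v => by
  obtain ⟨v, rfl⟩ := e.surjective v
  rw [← Matrix.cons_head_tail v, A.act g hg, A.act k hk, h1, h2]

theorem d0 : q (d 0) = m ∧ ρ (d 0) = 1 := A.uniq rfl fun a v => by
  rw [A.hK.act, a2_m, W.act_one]
  congr 1
  funext j
  refine Fin.cases rfl (fun j => ?_) j
  simp [Fin.succ_ne_zero]

theorem ds (l : Fin 3) : q (d l.succ) = 1 ∧ ρ (d l.succ) = W.ng l :=
  A.uniq (d_comm A.hK _ _) fun a v => by
    rw [A.hK.act, a2_one]
    congr 1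
    funext j
    refine Fin.cases (if_neg (Fin.succ_ne_zero l).symm) (fun j => ?_) j
    simp [ng_act]

theorem ci : Commute i (d 0) := (A.h.iB _).symm

theorem di : q i = m ∧ ρ i = ⟨1, fun _ => m⟩ := A.uniq A.ci fun a v => by
  rw [A.hK.neg, ← map_neg, a2_m]
  congr 1
  funext j
  refine Fin.cases rfl (fun j => ?_) j
  simp [W.act, a2_m]

theorem conj_d (hg : Commute g (d 0)) (l : Fin 3) : g * d l.succ * g⁻¹ = d ((ρ g).σ l).succ := by
  have h1 := d_comm A.hK l.succ 0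
  have h2 := A.mul (hg.mul_left h1) hg.inv_left
  have h3 := A.mul hg h1
  refine A.ext ((hg.mul_left h1).mul_left hg.inv_left) (d_comm A.hK _ _) ?_ ?_
  · rw [h2.1, h3.1, (A.ds _).1, (A.ds _).1, A.q_inv hg, mul_one, mul_inv_cancel]
  · rw [h2.2, h3.2, (A.ds _).2, (A.ds _).2, A.ρ_inv hg, W.conj_ng]

theorem σ_R (hk : k ∈ R) (hc : Commute k (d 0)) : (ρ k).σ = 1 := Equiv.ext fun l =>
  Fin.succ_injective _ (d_inj A.hK (by
    rw [← A.conj_d hc, (A.hK.c0 k hk hc _).eq, mul_inv_cancel_right]; rfl))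

theorem eq_one_R (hk : k ∈ R) (hc : Commute k (d 0)) (h1 : ρ k = 1) : k = 1 := by_contra fun n => by
  have := S.finite
  have h2 := (Nat.card_le_card_of_injective (fun v : C22.V => (⟨e (vecCons 0 v), by
    rw [mem_Fix, A.act k hc, h1, a2_zero, W.act_one]⟩ : Fix V k)) fun v w h =>
      (vecCons_inj.1 (e.injective (congrArg Subtype.val h))).2).trans (A.fx k hk n)
  rw [card_V] at h2
  omega

theorem qc : q c * q c = m ∧ q c' * q c' = m ∧ q c * q c' * (q c)⁻¹ * (q c')⁻¹ = m := by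
  obtain ⟨-, -, c1, c2⟩ := A.hK.cR
  rw [← (A.mul c1 c1).1, ← (A.mul c2 c2).1, ← (A.cm c1 c2).1, A.hK.cc.1, A.hK.cc.2.1, A.hK.cc.2.2]
  exact ⟨A.di.1, A.di.1, A.di.1⟩

theorem ρc (l : Fin 3) : (ρ c).g l * (ρ c).g l = m ∧ (ρ c').g l * (ρ c').g l = m ∧
    (ρ c).g l * (ρ c').g l * ((ρ c).g l)⁻¹ * ((ρ c').g l)⁻¹ = m := by
  obtain ⟨r1, r2, c1, c2⟩ := A.hK.cR
  have h1 := congrArg (W.g · l) (A.mul c1 c1).2
  have h2 := congrArg (W.g · l) (A.mul c2 c2).2
  have h3 := congrArg (W.g · l) (A.cm c1 c2).2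
  rw [A.hK.cc.1, A.di.2] at h1
  rw [A.hK.cc.2.1, A.di.2] at h2
  rw [A.hK.cc.2.2, A.di.2] at h3
  simp only [W.mul_g, W.inv_g, W.mul_σ, W.inv_σ, A.σ_R r1 c1, A.σ_R r2 c2, inv_one, mul_one,
    Perm.coe_one, id] at h1 h2 h3
  exact ⟨h1.symm, h2.symm, h3.symm⟩

theorem ker (hg : Commute g (d 0)) (h1 : ρ g = 1) : g = 1 ∨ g = d 0 := by
  have key : ∀ x ∈ R, Commute x (d 0) → q g * q x = q x * q g := fun x hx hc => by
    have h2 := A.eq_one_R (A.h.comm_mem g hx) (((hg.mul_left hc).mul_left hg.inv_left).mul_left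
      hc.inv_left) (by rw [(A.cm hg hc).2, h1]; simp)
    have h3 := (A.cm hg hc).1
    rw [h2, A.q_one, eq_comm, mul_inv_eq_one, mul_inv_eq_iff_eq_mul] at h3
    exact h3
  obtain ⟨r1, r2, c1, c2⟩ := A.hK.cR
  exact (cen_q _ A.qc.1 _ A.qc.2.1 A.qc.2.2 _ (key c r1 c1) (key c' r2 c2)).imp
    (fun h2 => A.ext hg (Commute.one_left _) (h2.trans A.q_one.symm) (h1.trans A.ρ_one.symm))
    fun h2 => A.ext hg rfl (h2.trans A.d0.1.symm) (h1.trans A.d0.2.symm)

theorem lift {p : X} (hp : p * X.t = X.t * p) : ∃ g, Commute g (d 0) ∧ π g = p := by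
  obtain ⟨g, rfl⟩ := A.h.sur p
  have h1 := (A.tt 0).conj g
  obtain ⟨l, hl⟩ : ∃ l, g * d 0 * g⁻¹ = d l := by
    obtain ⟨l, h2 | h2⟩ := A.hK.inv _ (by
      rw [map_mul, map_mul, map_inv, A.hK.πd, hp, mul_inv_cancel_right]) h1.sq
    · exact ⟨l, h2⟩
    · exact A.eqd _ h1 (h2 ▸ A.ci.mul_left (d_comm A.hK _ _))
  obtain ⟨r, hr, e1⟩ := A.hK.tr l 0
  refine ⟨r * g, mul_inv_eq_iff_eq_mul.1 ?_, by rw [map_mul, (A.h.ker r).2 hr, one_mul]⟩
  conv_rhs => rw [← e1, ← hl]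
  group

theorem π_comm (hg : Commute g (d 0)) : π g * X.t = X.t * π g := by
  rw [← A.hK.πd 0, ← map_mul, hg.eq, map_mul]

theorem dd_mem (l : Fin 4) : d 0 * d l ∈ R :=
  (A.h.ker _).1 (by rw [map_mul, A.hK.πd, A.hK.πd]; decide)

variable [Finite B]

theorem σ_cube (hg : Commute g (d 0)) : (ρ g).σ ^ 3 = 1 := by
  obtain ⟨w, hw, e1⟩ := A.lift (X.a_comm X.t).symm
  have h1 : (ρ w).σ ≠ 1 := fun n => by
    have h2 : Commute w (d (0 : Fin 3).succ) := by
      have := A.conj_d hw 0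
      rwa [n, mul_inv_eq_iff_eq_mul] at this
    have h3 := A.mul (rfl : Commute (d 0) (d 0)) (d_comm A.hK (0 : Fin 3).succ 0)
    rw [A.d0.1, A.d0.2, (A.ds 0).1, (A.ds 0).2] at h3
    rcases A.h.fpf e1 (A.dd_mem (0 : Fin 3).succ) (Or.inl (by
      rw [(hw.mul_right h2).eq]; group)) with e2 | e2 <;> rw [e2] at h3
    · exact absurd (A.q_one.symm.trans h3.1) (by decide)
    · exact absurd (congrArg (W.g · 1) (A.di.2.symm.trans h3.2)) (by decide)
  have h2 := A.σ_R (k := w ^ 3) ((A.h.ker _).1 (by rw [map_pow, e1]; decide)) (hw.pow_left 3)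
  have h3 := A.σ_R (k := g * w * g⁻¹ * w⁻¹) ((A.h.ker _).1 (by
    rw [map_mul, map_mul, map_mul, map_inv, map_inv, e1, X.a_comm]; group))
    (((hg.mul_left hw).mul_left hg.inv_left).mul_left hw.inv_left)
  rw [(A.cm hg hw).2] at h3
  rw [A.ρ_pow hw] at h2
  exact (by decide : ∀ s : Perm (Fin 3), s ≠ 1 → s ^ 3 = 1 → ∀ t : Perm (Fin 3),
    t * s * t⁻¹ * s⁻¹ = 1 → t ^ 3 = 1) _ h1 ((map_pow W.σHom _ 3).symm.trans h2) _ h3

theorem mem_Q8 (hg : Commute g (d 0)) (h1 : g ^ 32 = 1) : ρ g ∈ W.Q8 := by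
  have h2 : ρ g ^ 32 = 1 := by rw [← A.ρ_pow hg, h1, A.ρ_one]
  have h3 : (ρ g).σ = 1 := (by decide +kernel : ∀ s : Perm (Fin 3), s ^ 3 = 1 → s ^ 32 = 1 → s = 1) _
    (A.σ_cube hg) ((map_pow W.σHom _ 32).symm.trans (by rw [h2, map_one]))
  exact ⟨h3, fun l => (by decide +kernel : ∀ x : Q, x ^ 32 = 1 → chi x = 0) _
    ((W.pow_g h3 32 l).symm.trans (by rw [h2]; rfl))⟩

theorem card : Nat.card ↥(A.ρH.range ⊓ W.Q8) = 128 := by
  have c : ∀ g : centralizer {d 0}, Commute g.1 (d 0) := fun g => mem_centralizer_singleton_iff.1 g.2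
  have h1 := Solv.PG.relIndex_mul_card_inf A.ρH.ker (W.Q8.comap A.ρH)
  have h2 := Solv.PG.relIndex_mul_card_inf (π.comp (centralizer {d 0}).subtype).ker (W.Q8.comap A.ρH)
  have h3 : A.ρH.ker = zpowers ⟨d 0, mem_centralizer_singleton_iff.2 rfl⟩ := by
    refine le_antisymm (fun g hg => ?_) (zpowers_le.2 A.d0.2)
    rcases A.ker (c g) hg with e1 | e1
    · rw [show g = 1 from Subtype.ext e1]; exact one_mem _
    · rw [show g = ⟨d 0, _⟩ from Subtype.ext e1]; exact mem_zpowers _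
  have h4 : (π.comp (centralizer {d 0}).subtype).ker =
      (R ⊓ centralizer {d 0}).subgroupOf (centralizer {d 0}) :=
    Subgroup.ext fun g => (A.h.ker g).trans (and_iff_left g.2).symm
  rw [relIndex_ker, map_comap_eq, inf_eq_left.2 (show A.ρH.ker ≤ W.Q8.comap A.ρH from fun g hg => by
    rw [mem_comap, MonoidHom.mem_ker.1 hg]; exact one_mem _), h3, Nat.card_zpowers,
    orderOf_eq_prime (p := 2) (Subtype.ext ((pow_two _).trans (A.tt 0).sq))
      fun e1 => (A.tt 0).ne (congrArg Subtype.val e1)] at h1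
  rw [relIndex_ker, inf_eq_left.2 (fun g hg => A.mem_Q8 (c g) (by
    rw [show 32 = 4 * 8 from rfl, pow_mul, A.h.pow4 ((A.h.ker g).1 hg), one_pow])), h4,
    Nat.card_congr (subgroupOfEquivOfLe inf_le_right).toEquiv, A.hK.card,
    Nat.card_congr (Equiv.subtypeEquivRight (q := fun p => p * X.t = X.t * p ∧ p ^ 8 = 1)
      fun p => ⟨?_, fun hp => ?_⟩), card_T] at h2
  · omega
  · rintro ⟨g, hg, rfl⟩
    refine ⟨A.π_comm (c g), ?_⟩
    have h5 : ρ (g.1 ^ 4) = 1 := by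
      rw [A.ρ_pow (c g)]
      exact W.ext ((map_pow W.σHom _ 4).trans (by
        change (A.ρH g).σ ^ 4 = 1
        rw [hg.1, one_pow])) (funext fun l => (W.pow_g hg.1 4 l).trans
          ((by decide +kernel : ∀ a : Q, chi a = 0 → a ^ 4 = 1) _ (hg.2 l)))
    change π g.1 ^ 8 = 1
    rw [← map_pow, show 8 = 4 * 2 from rfl, pow_mul]
    rcases A.ker ((c g).pow_left 4) h5 with e1 | e1 <;> rw [e1]
    · rw [one_pow, map_one]
    · rw [pow_two, (A.tt 0).sq, map_one]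
  · obtain ⟨g, hg, rfl⟩ := A.lift hp.1
    refine ⟨⟨g, mem_centralizer_singleton_iff.2 hg⟩, A.mem_Q8 hg ?_, rfl⟩
    rw [show 32 = 8 * 4 from rfl, pow_mul, A.h.pow4 ((A.h.ker _).1 (by rw [map_pow, hp.2]))]

omit [Finite B] in
theorem o3 (N : Subgroup W) (h1 : N ≤ A.ρH.range)
    (h2 : ∀ b ∈ A.ρH.range, ∀ n ∈ N, b * n * b⁻¹ ∈ N) (h3 : IsPGroup 3 N) : N = ⊥ := by
  have one : ∀ n ∈ N, n ^ 4 = 1 → n = 1 := fun n hn e1 => by
    obtain ⟨l, e2⟩ := h3 ⟨n, hn⟩
    simpa [((by decide : Nat.Coprime 3 4).pow_left l).gcd_eq_one] using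
      pow_gcd_eq_one.2 ⟨congrArg Subtype.val e2, e1⟩
  refine eq_bot_iff.2 fun n hn => ?_
  obtain ⟨⟨g, hg'⟩, rfl⟩ := h1 hn
  have hg : Commute g (d 0) := mem_centralizer_singleton_iff.1 hg'
  change ρ g ∈ N at hn
  change ρ g = 1
  have key : ∀ x ∈ R, Commute x (d 0) → ρ g * ρ x = ρ x * ρ g := fun x hx hc => by
    have h4 := one (ρ (g * x * g⁻¹ * x⁻¹)) (by
      rw [(A.cm hg hc).2, mul_assoc, mul_assoc, ← mul_assoc (ρ x)]
      exact mul_mem hn (h2 _ ⟨⟨x, mem_centralizer_singleton_iff.2 hc⟩, rfl⟩ _ (inv_mem hn))) (by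
      rw [← A.ρ_pow (((hg.mul_left hc).mul_left hg.inv_left).mul_left hc.inv_left),
        A.h.pow4 (A.h.comm_mem g hx), A.ρ_one])
    rwa [(A.cm hg hc).2, mul_inv_eq_one, mul_inv_eq_iff_eq_mul] at h4
  have h4 : (ρ g).σ = 1 := Equiv.ext fun l => ng_inj (by
    have h5 := d_comm A.hK l.succ 0
    have := key _ (A.dd_mem l.succ) ((Commute.refl _).mul_left h5)
    rw [(A.mul rfl h5).2, A.d0.2, (A.ds l).2, one_mul] at this
    rw [← W.conj_ng, this, mul_inv_cancel_right]; rfl)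
  obtain ⟨r1, r2, c1, c2⟩ := A.hK.cR
  refine one _ hn (W.ext ((map_pow W.σHom _ 4).trans (by
    change (ρ g).σ ^ 4 = 1
    rw [h4, one_pow])) (funext fun l => (W.pow_g h4 4 l).trans ?_))
  have k1 := congrArg (W.g · l) (key c r1 c1)
  have k2 := congrArg (W.g · l) (key c' r2 c2)
  simp only [W.mul_g, h4, A.σ_R r1 c1, A.σ_R r2 c2, inv_one, Perm.coe_one, id] at k1 k2
  rcases cen_q _ (A.ρc l).1 _ (A.ρc l).2.1 (A.ρc l).2.2 _ k1 k2 with e1 | e1 <;> rw [e1, W.one_g] <;> decide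

theorem sq (K : Subgroup B) (hs : ∀ g, Commute g (d 0) → g * g ∈ K) (g : B) (hg : Commute g (d 0)) :
    g ∈ K := by
  have cm : ∀ x y, Commute x (d 0) → Commute y (d 0) → x * y * x⁻¹ * y⁻¹ ∈ K := fun x y hx hy => by
    have := mul_mem (mul_mem (hs _ (hx.mul_left hy))
      (hs _ ((hy.inv_left.mul_left hx.inv_left).mul_left hy))) (hs _ hy.inv_left)
    convert this using 1
    group
  have hR : ∀ k ∈ R, Commute k (d 0) → k ∈ K := fun k hk hc => by
    obtain ⟨w, hw, e1⟩ := A.lift (X.a_comm X.t).symm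
    have h1 : k * (w * k * w⁻¹) * (w * (w * k * w⁻¹) * w⁻¹) ∈ K := by
      rcases A.h.wrel e1 hk with e2 | e2 <;> rw [e2]
      · exact one_mem _
      · exact A.hK.cc.1 ▸ hs _ A.hK.cR.2.2.1
    have h2 := (hw.mul_left hc).mul_left hw.inv_left
    have u := cm w k hw hc
    have v := cm w _ hw h2
    have h3 := mul_mem (inv_mem (mul_mem (mul_mem (mul_mem
      (hs _ (hc.mul_left (h2.mul_left hc.inv_left))) (inv_mem u)) v) u)) h1
    convert h3 using 1
    group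
  obtain ⟨x, y, hx, hy, e1⟩ := sq_sq _ (A.π_comm hg)
  obtain ⟨x, cx, rfl⟩ := A.lift hx
  obtain ⟨y, cy, rfl⟩ := A.lift hy
  exact (mul_mem_cancel_right (inv_mem (mul_mem (hs x cx) (hs y cy)))).1 (hR _ ((A.h.ker _).1 (by
    rw [map_mul, map_inv, map_mul, map_mul, map_mul, ← e1, mul_inv_cancel]))
    (hg.mul_left ((cx.mul_left cx).mul_left (cy.mul_left cy)).inv_left))

theorem exists_BL : ∃ e' dd ρ, BL S (d 0) e' dd ρ := by
  let ι : C22.V →ₗ[F3] (Fin 4 → V2) :=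
    ⟨⟨fun v => vecCons 0 v, fun v w => by simp⟩, fun k v => by simp⟩
  have hι : ∀ v, (e.toLinearMap.comp ι) v = e (vecCons 0 v) := fun _ => rfl
  have inj : Function.Injective (e.toLinearMap.comp ι) := fun v w h =>
    (vecCons_inj.1 (e.injective h)).2
  have act : ∀ g, Commute g (d 0) → ∀ v, g • (e.toLinearMap.comp ι) v =
      (e.toLinearMap.comp ι) ((ρ g).act v) := fun g hg v => by rw [hι, hι, A.act g hg, a2_zero]
  refine ⟨e.toLinearMap.comp ι, fun l => d l.succ, ρ, A.tt 0, inj, fun v => ⟨fun h1 => ?_, ?_⟩,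
    fun v w => ?_, act, fun g hg h1 => A.ker hg (W.act_ext fun v => inj (by
      rw [← act g hg, h1, W.act_one])), fun l => d_comm A.hK _ _, fun l => A.tt _,
    fun l => (A.ds l).2, fun s hs hc => ?_, ⟨A.ρH.range, ⟨fun l => ⟨⟨d l.succ,
      mem_centralizer_singleton_iff.2 (d_comm A.hK _ _)⟩, (A.ds l).2⟩, A.card, A.o3⟩, fun w =>
      ⟨fun ⟨g, h1⟩ => ⟨g, mem_centralizer_singleton_iff.1 g.2, h1⟩,
        fun ⟨g, hg, h1⟩ => ⟨⟨g, mem_centralizer_singleton_iff.2 hg⟩, h1⟩⟩⟩, A.sq⟩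
  · obtain ⟨v, rfl⟩ := e.surjective v
    rw [← Matrix.cons_head_tail v] at h1 ⊢
    rw [A.act _ rfl, A.d0.1, a2_m] at h1
    exact ⟨_, by rw [hι, eq_zero_of_eq_neg (vecCons_inj.1 (e.injective h1)).1.symm]⟩
  · rintro ⟨w, rfl⟩
    rw [act _ rfl, A.d0.2, W.act_one]
  · rw [hι, hι, A.hK.form, Fin.sum_univ_succ, Fin.sum_univ_three]
    simp [bf, b2]
  · obtain ⟨l, rfl⟩ := A.eqd s hs hc
    exact Fin.cases (Or.inl rfl) (fun l => Or.inr ⟨l, rfl⟩) l

end AC

theorem exists_BL_of [Finite B] (h : RH R π i) (hK : BK S R π i e d c c') (htt : ∀ k, TT V (d k))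
    (heq : ∀ s, TT V s → Commute s (d 0) → ∃ k, s = d k)
    (hfx : ∀ r ∈ R, r ≠ 1 → Nat.card (Fix V r) ≤ 81) : ∃ e' dd ρ, BL S (d 0) e' dd ρ := by
  choose! p hp using fun g (hg : Commute g (d 0)) => exists_act hK htt heq hg
  exact AC.exists_BL (q := fun g => (p g).1) (ρ := fun g => (p g).2) ⟨h, hK, htt, heq, hfx, hp⟩

end B4

end Cfsg.Lib.C23
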