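import Cfsg.Agent.Recog.C22Api2
import Cfsg.Agent.Recog.P43Facts

/-!
Definitions for the recognition of `Fi₂₃` from a `3`-centralizer.
-/

set_option autoImplicit false

namespace Cfsg.Lib.C23

open Cfsg Subgroup Cfsg.Lib.Recog.P43 Cfsg.Lib.C22

variable {B : Type*} [Group B]

/-- Trivial modulo the central involution. -/
def Zi (i x : B) : Prop := x = 1 ∨ x = i

/-- An extension of an extraspecial group of order `128` by `3^{1+2} : SL₂(3)`. -/
structure RH (R : Subgroup B) (π : B →* X) (i : B) : Prop where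
  ker : ∀ g, π g = 1 ↔ g ∈ R
  sur : Function.Surjective π
  card : Nat.card R = 128
  iR : i ∈ R
  i1 : i ≠ 1
  ii : i * i = 1
  iB : ∀ g, Commute g i
  sq : ∀ r ∈ R, Zi i (r * r)
  cm : ∀ r ∈ R, ∀ s ∈ R, Zi i (r * s * r⁻¹ * s⁻¹)
  ce : ∀ r ∈ R, (∀ s ∈ R, Commute r s) → Zi i r
  minus : ∀ A : Subgroup B, A ≤ R → (∀ a ∈ A, a * a = 1) → Nat.card A ≤ 8
  cent : ∀ g, (∀ r ∈ R, Commute g r) → g ∈ R

/-- An elementary abelian subgroup of order `27`. -/
structure J27 (J : Subgroup B) : Prop where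
  com : ∀ a ∈ J, ∀ b ∈ J, Commute a b
  cube : ∀ a ∈ J, a ^ 3 = 1
  card : Nat.card J = 27

/-- The subgroups of `R` attached to an involution of the quotient. -/
structure FM (R : Subgroup B) (π : B →* X) (i t e₁ e₂ f₁ f₂ c c' : B) (E : Subgroup B) : Prop where
  πt : π t = X.t
  eR : e₁ ∈ R ∧ e₂ ∈ R ∧ f₁ ∈ R ∧ f₂ ∈ R ∧ c ∈ R ∧ c' ∈ R
  ee : e₁ * e₁ = 1 ∧ e₂ * e₂ = 1 ∧ Commute e₁ e₂
  mem : ∀ x, x ∈ E ↔ ∃ a b c : Fin 2, x = i ^ a.1 * e₁ ^ b.1 * e₂ ^ c.1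
  tc : ∀ k ∈ R, Commute k e₁ → Commute k e₂ → Commute t k
  tC : ∀ r ∈ R, Zi i (t * r * t⁻¹ * r⁻¹) → Commute r e₁ ∧ Commute r e₂
  card : Nat.card ↥(R ⊓ centralizer {e₁} ⊓ centralizer {e₂}) = 32
  inv : ∀ k ∈ R, Commute k e₁ → Commute k e₂ → k * k = 1 → k ∈ E
  ff : f₁ * e₁ * f₁⁻¹ = i * e₁ ∧ Commute f₁ e₂ ∧ Commute f₂ e₁ ∧ f₂ * e₂ * f₂⁻¹ = i * e₂
  ce : Commute c e₁ ∧ Commute c e₂ ∧ Commute c' e₁ ∧ Commute c' e₂
  cc : c * c = i ∧ c' * c' = i ∧ c * c' * c⁻¹ * c'⁻¹ = i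

variable {V : Type*} [AddCommGroup V] [Module F3 V] [DistribMulAction B V]

theorem smul_comm3 (g : B) (k : F3) (v : V) : g • k • v = k • g • v := by
  rcases zmod3_cases k with rfl | rfl | rfl <;> simp [two_smul]

variable (B V) in
/-- A faithful symplectic module of dimension eight. -/
structure SP where
  b : LinearMap.BilinForm F3 V
  alt : ∀ v, b v v = 0
  nd : ∀ v, (∀ w, b w v = 0) → v = 0
  card : Nat.card V = 6561
  pres : ∀ (g : B) v w, b (g • v) (g • w) = b v w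
  faith : ∀ g : B, (∀ v : V, g • v = v) → g = 1

variable (V) in
/-- Fixed vectors. -/
def Fix (g : B) : Submodule F3 V where
  carrier := {v | g • v = v}
  add_mem' := fun {v w} h h' => show g • (v + w) = v + w by rw [smul_add, h, h']
  zero_mem' := smul_zero g
  smul_mem' := fun k v h => show g • k • v = k • v by rw [smul_comm3, h]

variable (V) in
/-- Inverted vectors. -/
def Ng (g : B) : Submodule F3 V where
  carrier := {v | g • v = -v}
  add_mem' := fun {v w} h h' => show g • (v + w) = -(v + w) by rw [smul_add, h, h', neg_add]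
  zero_mem' := show g • (0 : V) = -0 by rw [smul_zero, neg_zero]
  smul_mem' := fun k v h => show g • k • v = -(k • v) by rw [smul_comm3, h, smul_neg]

variable (V) in
/-- The commutator space. -/
def Im (g : B) : Submodule F3 V where
  carrier := {w | ∃ u, w = u - g • u}
  add_mem' := fun ⟨u, h⟩ ⟨u', h'⟩ => ⟨u + u', by rw [h, h', smul_add]; abel⟩
  zero_mem' := ⟨0, by simp⟩
  smul_mem' := fun k _ ⟨u, h⟩ => ⟨k • u, by rw [h, smul_comm3, smul_sub]⟩

variable (V) in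
/-- Vectors fixed by a subgroup. -/
def FixS (J : Subgroup B) : Submodule F3 V where
  carrier := {v | ∀ g ∈ J, g • v = v}
  add_mem' := fun {v w} h h' g hg => by rw [smul_add, h g hg, h' g hg]
  zero_mem' := fun g _ => smul_zero g
  smul_mem' := fun k v h g hg => by rw [smul_comm3, h g hg]

theorem mem_Fix {g : B} {v : V} : v ∈ Fix V g ↔ g • v = v := Iff.rfl
theorem mem_Ng {g : B} {v : V} : v ∈ Ng V g ↔ g • v = -v := Iff.rfl
theorem mem_Im {g : B} {w : V} : w ∈ Im V g ↔ ∃ u, w = u - g • u := Iff.rfl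
theorem mem_FixS {J : Subgroup B} {v : V} : v ∈ FixS V J ↔ ∀ g ∈ J, g • v = v := Iff.rfl

variable (V) in
/-- Involutions with a large fixed space. -/
structure TT (d : B) : Prop where
  sq : d * d = 1
  ne : d ≠ 1
  lt : 81 < Nat.card (Fix V d)

/-- Coordinates adapted to four blocks. -/
structure BK (S : SP B V) (R : Subgroup B) (π : B →* X) (i : B) (e : (Fin 4 → V2) ≃ₗ[F3] V) (d : Fin 4 → B)
    (c c' : B) : Prop where
  neg : ∀ v : V, i • v = -v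
  form : ∀ v w, S.b (e v) (e w) = ∑ k, b2 (v k) (w k)
  act : ∀ k v, d k • e v = e fun j => if j = k then -v j else v j
  πd : ∀ k, π (d k) = X.t
  tr : ∀ k l, ∃ r ∈ R, r * d k * r⁻¹ = d l
  inv : ∀ s, π s = X.t → s * s = 1 → ∃ k, s = d k ∨ s = i * d k
  card : Nat.card ↥(R ⊓ centralizer {d 0}) = 32
  c0 : ∀ r ∈ R, Commute r (d 0) → ∀ k, Commute r (d k)
  cR : c ∈ R ∧ c' ∈ R ∧ Commute c (d 0) ∧ Commute c' (d 0)
  cc : c * c = i ∧ c' * c' = i ∧ c * c' * c⁻¹ * c'⁻¹ = i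

/-- The action of the centralizer of an involution on three blocks. -/
structure BL (S : SP B V) (d : B) (e : C22.V →ₗ[F3] V) (dd : Fin 3 → B) (ρ : B → W) : Prop where
  td : TT V d
  inj : Function.Injective e
  rng : ∀ v, d • v = v ↔ ∃ w, e w = v
  form : ∀ v w, S.b (e v) (e w) = bf v w
  act : ∀ g, Commute g d → ∀ v, g • e v = e ((ρ g).act v)
  ker : ∀ g, Commute g d → (∀ v, g • e v = e v) → g = 1 ∨ g = d
  ddc : ∀ i, Commute (dd i) d
  ddt : ∀ i, TT V (dd i)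
  ddρ : ∀ i, ρ (dd i) = W.ng i
  tt : ∀ s, TT V s → Commute s d → s = d ∨ ∃ i, s = dd i
  wb : ∃ B', WB B' ∧ ∀ w, w ∈ B' ↔ ∃ g, Commute g d ∧ ρ g = w
  sq : ∀ K : Subgroup B, (∀ g, Commute g d → g * g ∈ K) → ∀ g, Commute g d → g ∈ K

variable (B V) in
/-- The facts on the module. -/
structure LF : Prop where
  neg : ∃ i : B, ∀ v : V, i • v = -v
  e27 : ∀ A : Subgroup B, (∀ a ∈ A, a ^ 3 = 1) → Nat.card A ≤ 27
  fx : ∀ t : B, t ^ 3 = 1 → t ≠ 1 → Nat.card (Fix V t) ≤ 81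
  j1 : ∀ J : Subgroup B, J27 J → Nat.card (FixS V J) ≤ 3
  j1' : ∀ J : Subgroup B, J27 J → ∀ t ∈ J, t ≠ 1 → FixS V J ≤ Im V t
  j2 : ∀ J : Subgroup B, J27 J → ∀ j, ∀ t ∈ J, ¬ ∀ x ∈ J, j * x * j⁻¹ * x ∈ zpowers t
  j3 : ∀ J : Subgroup B, J27 J → ∀ v ∈ FixS V J, ∃ d : B, TT V d ∧ d • v = v
  t0 : ∀ d : B, TT V d → Nat.card (Fix V d) = 729
  t1 : ∀ d d' : B, TT V d → TT V d' → IsConj d d'

variable {G : Type*} [Group G]

variable (G) in
/-- Coordinates on the centralizer of the `3`-central element. -/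
structure FA (S : SP B V) where
  z : G
  η : V → F3 → G
  ρ : G → B
  lam : G → V → F3
  mul : ∀ v l w k, η v l * η w k = η (v + w) (l + k + S.b v w)
  inj₀ : ∀ l, η 0 l = 1 → l = 0
  hz : η 0 1 = z
  conj : ∀ h, Commute h z → ∀ v l, h * η v l * h⁻¹ = η (ρ h • v) (l + lam h v)
  cent : ∀ g, (∀ v, Commute g (η v 0)) → ∃ v l, g = η v l
  sur : ∀ b, ∃ h, Commute h z ∧ ρ h = b
  nz : ∀ n, n * z * n⁻¹ = z⁻¹ → ∀ v l, ∃ w k, n * η v l * n⁻¹ = η w k

namespace FA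

variable {S : SP B V} (D : FA G S)

theorem zero : D.η 0 0 = 1 := by simpa using D.mul 0 0 0 0

theorem inv (v : V) (l : F3) : (D.η v l)⁻¹ = D.η (-v) (-l) :=
  inv_eq_of_mul_eq_one_right (by rw [D.mul, ← D.zero, map_neg, S.alt]; simp)

/-- The centralizer. -/
abbrev H : Subgroup G := centralizer {D.z}
/-- The centre. -/
abbrev Z : Subgroup G := zpowers D.z

/-- The extraspecial group. -/
def Q : Subgroup G where
  carrier := {q | ∃ v l, q = D.η v l}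
  mul_mem' := by
    rintro _ _ ⟨v, l, rfl⟩ ⟨w, k, rfl⟩
    exact ⟨_, _, D.mul _ _ _ _⟩
  one_mem' := ⟨0, 0, D.zero.symm⟩
  inv_mem' := by
    rintro _ ⟨v, l, rfl⟩
    exact ⟨_, _, D.inv _ _⟩

/-- Conjugation of the frame. -/
def cj (g : G) : FA G S where
  z := g * D.z * g⁻¹
  η v l := g * D.η v l * g⁻¹
  ρ h := D.ρ (g⁻¹ * h * g)
  lam h := D.lam (g⁻¹ * h * g)
  mul v l w k := by rw [conj_mul, D.mul]
  inj₀ l h := D.inj₀ l (conj_eq_one_iff.1 h)
  hz := by rw [D.hz]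
  conj h e v l := by
    rw [← D.conj _ ((Commute.conj_iff g).1 (by simpa [mul_assoc] using e))]; group
  cent h e := by
    obtain ⟨v, l, e1⟩ := D.cent (g⁻¹ * h * g) fun v =>
      (Commute.conj_iff g).1 (by simpa [mul_assoc] using e v)
    exact ⟨v, l, by rw [← e1]; group⟩
  sur b := by
    obtain ⟨h, e1, e2⟩ := D.sur b
    exact ⟨g * h * g⁻¹, (Commute.conj_iff g).2 e1, by rw [← e2]; congr 1; group⟩
  nz n e v l := by
    obtain ⟨w, k, e1⟩ := D.nz (g⁻¹ * n * g) (by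
      rw [show g⁻¹ * n * g * D.z * (g⁻¹ * n * g)⁻¹ = g⁻¹ * (n * (g * D.z * g⁻¹) * n⁻¹) * g by group, e]
      group) v l
    exact ⟨w, k, by rw [← e1]; group⟩

/-- The configuration excluded in the first step. -/
structure Far (D' : FA G S) : Prop where
  com : Commute D'.z D.z
  n1 : D'.z ∉ D.Q
  n2 : D.z ∉ D'.Q
  wc : ∀ q ∈ D.Q, q * D'.z * q⁻¹ ∈ D'.Q → q * D'.z * q⁻¹ ∈ D'.Z

end FA

end Cfsg.Lib.C23
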