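import Cfsg.Agent.Recog.C23Api
import Cfsg.Agent.Trans.Extraspecial

/-!
Coordinates on a group of class two and exponent three with cyclic derived group.
-/

set_option autoImplicit false

namespace Cfsg.Lib.C23.G0

open Cfsg Subgroup Cfsg.Lib.Recog.P43 Cfsg.Lib.C22 Cfsg.Lib.Trans.ES
open scoped commutatorElement

universe u

/-- Groups of class two and exponent three. -/
class B3 (P : Type u) [Group P] : Prop where
  cube : ∀ x : P, x ^ 3 = 1
  two : ClassTwo P

/-- The underlying set, to be given an additive structure. -/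
structure Ba (P : Type u) where
  val : P

section Ba

variable {P : Type u} [Group P] [h : B3 P]

theorem cen (x y w : P) : w * ⁅x, y⁆ = ⁅x, y⁆ * w := mem_center_iff.1 (h.two x y) w

theorem cl (x y w : P) : ⁅⁅x, y⁆, w⁆ = 1 := commutatorElement_eq_one_iff_mul_comm.2 (cen x y w).symm

theorem cr (x y w : P) : ⁅w, ⁅x, y⁆⁆ = 1 := commutatorElement_eq_one_iff_mul_comm.2 (cen x y w)

theorem sq_inv (x : P) : x * x = x⁻¹ := eq_inv_of_mul_eq_one_left (by rw [← pow_three', h.cube])

instance : Add (Ba P) := ⟨fun x y => ⟨⁅x.val, y.val⁆ * (x.val * y.val)⟩⟩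
instance : Zero (Ba P) := ⟨⟨1⟩⟩
instance : Neg (Ba P) := ⟨fun x => ⟨x.val⁻¹⟩⟩

omit h in
theorem add_def (x y : P) : (⟨x⟩ + ⟨y⟩ : Ba P) = ⟨⁅x, y⁆ * (x * y)⟩ := rfl

theorem assoc' (x y w : P) :
    ⁅⁅x, y⁆ * (x * y), w⁆ * (⁅x, y⁆ * (x * y) * w) = ⁅x, ⁅y, w⁆ * (y * w)⁆ * (x * (⁅y, w⁆ * (y * w))) := by
  simp only [h.two.mul_left, h.two.mul_right, cl, cr, one_mul, mul_assoc]
  rw [← mul_assoc x ⁅y, w⁆, cen y w x, ← mul_assoc ⁅y, w⁆ ⁅x, y⁆, cen x y ⁅y, w⁆, ← mul_assoc ⁅x, w⁆,
    ← mul_assoc ⁅x, w⁆, cen x y ⁅x, w⁆]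
  simp only [mul_assoc]

theorem comm' (x y : P) : ⁅x, y⁆ * (x * y) = ⁅y, x⁆ * (y * x) := by
  rw [← commutatorElement_inv x y, ← sq_inv, mul_assoc, commutatorElement_def x y]
  group

instance : AddCommGroup (Ba P) :=
  { AddGroup.ofLeftAxioms (G := Ba P) (fun x y w => congrArg Ba.mk (assoc' x.val y.val w.val))
      (fun x => congrArg Ba.mk (show ⁅1, x.val⁆ * (1 * x.val) = x.val by simp))
      (fun x => congrArg Ba.mk (show ⁅x.val⁻¹, x.val⁆ * (x.val⁻¹ * x.val) = 1 by
        simp [commutatorElement_def])) with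
    add_comm := fun x y => congrArg Ba.mk (comm' x.val y.val) }

omit h in
theorem add_of_comm {x y : P} (e : Commute x y) : (⟨x⟩ + ⟨y⟩ : Ba P) = ⟨x * y⟩ := by
  rw [add_def, commutatorElement_eq_one_iff_commute.2 e, one_mul]

instance : Module F3 (Ba P) := AddCommGroup.zmodModule fun ⟨x⟩ => by
  rw [three_nsmul, add_of_comm (Commute.refl x), add_of_comm ((Commute.refl x).mul_right (Commute.refl x)),
    ← pow_three, h.cube]
  rfl

/-- The additive map attached to a homomorphism. -/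
def lin (φ : P →* P) : Ba P →ₗ[F3] Ba P :=
  (AddMonoidHom.mk' (fun x : Ba P => (⟨φ x.val⟩ : Ba P)) fun ⟨x⟩ ⟨y⟩ => by
    rw [add_def, add_def, map_mul, map_mul, map_commutatorElement]).toZModLinearMap 3

/-- The commutator as a bilinear map. -/
def kap : Ba P →ₗ[F3] Ba P →ₗ[F3] Ba P :=
  (AddMonoidHom.mk' (fun x : Ba P => lin (h.two.homRight x.val)) fun x y =>
    LinearMap.ext fun w => (lin (h.two.homLeft w.val)).map_add x y).toZModLinearMap 3

theorem kap_apply (x y : Ba P) : kap x y = ⟨⁅x.val, y.val⁆⟩ := rfl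

theorem mk_mul (x y : Ba P) : (⟨x.val * y.val⟩ : Ba P) = x + y - kap x y := by
  rw [eq_sub_iff_add_eq, kap_apply, add_of_comm (cen _ _ _), cen]
  rfl

end Ba

variable (P : Type u) [Group P] (V : Type u) [AddCommGroup V] [Module F3 V] in
/-- Coordinates. -/
structure Co where
  z : P
  b : LinearMap.BilinForm F3 V
  η : V → F3 → P
  alt : ∀ v, b v v = 0
  mul : ∀ v l w k, η v l * η w k = η (v + w) (l + k + b v w)
  bij : Function.Bijective fun p : V × F3 => η p.1 p.2
  hz : η 0 1 = z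

theorem exists_co {P : Type u} [Group P] [h : B3 P] {z : P} (z1 : z ≠ 1) (zc : ∀ x, Commute x z)
    (hz : ∀ x y : P, ⁅x, y⁆ ∈ zpowers z) :
    ∃ (V : Type u) (_ : AddCommGroup V) (_ : Module F3 V) (C : Co P V), C.z = z := by
  have : Fact (Nat.Prime 3) := ⟨Nat.prime_three⟩
  obtain ⟨f, hf⟩ := Module.Projective.exists_dual_eq_one F3 (x := (⟨z⟩ : Ba P))
    fun e => z1 (congrArg Ba.val e)
  have k1 : ∀ x y : Ba P, kap x y = f (kap x y) • (⟨z⟩ : Ba P) := fun x y => by
    rcases zpowers_cases (h.cube z) (hz x.val y.val) with e | e | e <;> rw [kap_apply, e]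
    · exact (show (0 : Ba P) = f 0 • _ by simp)
    · rw [hf, one_smul]
    · exact (show -(⟨z⟩ : Ba P) = f (-⟨z⟩) • _ by simp [hf])
  have k2 : ∀ x : Ba P, kap x ⟨z⟩ = 0 := fun x =>
    congrArg Ba.mk (commutatorElement_eq_one_iff_commute.2 (zc _))
  have k3 : kap (⟨z⟩ : Ba P) = 0 := LinearMap.ext fun x =>
    congrArg Ba.mk (commutatorElement_eq_one_iff_commute.2 (zc _).symm)
  refine ⟨LinearMap.ker f, inferInstance, inferInstance, ⟨z, -(kap.compr₂ f).domRestrict₁₂ _ _,
    fun v l => (v.1 + l • (⟨z⟩ : Ba P)).val, fun v => ?_, fun v l w k => ?_, ⟨fun p q e => ?_, fun x => ?_⟩, ?_⟩, rfl⟩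
  · have : kap v.1 v.1 = 0 := congrArg Ba.mk (commutatorElement_self _)
    exact (show -f (kap v.1 v.1) = 0 by rw [this, map_zero, neg_zero])
  · refine congrArg Ba.val ((mk_mul _ _).trans ?_)
    simp only [map_add, map_smul, k2, k3, smul_zero, add_zero, LinearMap.neg_apply,
      LinearMap.domRestrict₁₂_apply, LinearMap.compr₂_apply, Submodule.coe_add]
    rw [add_smul, add_smul, neg_smul, ← k1]
    abel
  · have e1 : p.1.1 + p.2 • (⟨z⟩ : Ba P) = q.1.1 + q.2 • (⟨z⟩ : Ba P) := congrArg Ba.mk e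
    have e2 := congrArg f e1
    simp only [map_add, map_smul, hf, LinearMap.mem_ker.1 p.1.2, LinearMap.mem_ker.1 q.1.2, zero_add,
      smul_eq_mul, mul_one] at e2
    rw [e2, add_left_inj] at e1
    exact Prod.ext (Subtype.ext e1) e2
  · exact ⟨(⟨⟨x⟩ - f ⟨x⟩ • (⟨z⟩ : Ba P), by simp [hf]⟩, f ⟨x⟩), by simp⟩
  · simp

namespace Co

variable {P : Type u} [Group P] {V : Type u} [AddCommGroup V] [Module F3 V] (C : Co P V)

theorem inj {v w : V} {l k : F3} (h : C.η v l = C.η w k) : v = w ∧ l = k :=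
  Prod.ext_iff.1 (C.bij.1 (a₁ := (v, l)) (a₂ := (w, k)) h)

theorem sur (x : P) : ∃ v l, x = C.η v l := (C.bij.2 x).elim fun p e => ⟨p.1, p.2, e.symm⟩

theorem zero : C.η 0 0 = 1 := by simpa using C.mul 0 0 0 0

theorem swap (v w : V) : C.b w v = -C.b v w := by
  have := C.alt (v + w)
  simp only [map_add, LinearMap.add_apply, C.alt] at this
  linear_combination this

theorem split (v : V) (l : F3) : C.η v l = C.η v 0 * C.η 0 l := by simp [C.mul]

theorem inv (v : V) (l : F3) : (C.η v l)⁻¹ = C.η (-v) (-l) :=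
  inv_eq_of_mul_eq_one_right (by rw [C.mul, ← C.zero, map_neg, C.alt]; simp)

theorem cases (l : F3) : C.η 0 l = 1 ∨ C.η 0 l = C.z ∨ C.η 0 l = C.z * C.z := by
  rcases zmod3_cases l with rfl | rfl | rfl
  exacts [.inl C.zero, .inr (.inl C.hz), .inr (.inr (by rw [← C.hz, C.mul]; simp [one_add_one_eq_two]))]

theorem mem_Z (l : F3) : C.η 0 l ∈ zpowers C.z := by
  rcases C.cases l with e | e | e <;> rw [e]
  exacts [one_mem _, mem_zpowers _, mul_mem (mem_zpowers _) (mem_zpowers _)]

theorem comm_iff {v w : V} {l k : F3} : Commute (C.η v l) (C.η w k) ↔ C.b v w = 0 := by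
  rw [Commute, SemiconjBy, C.mul, C.mul, add_comm w v, add_comm k l, C.swap v w]
  exact ⟨fun e => eq_zero_of_eq_neg (V := F3) (add_left_cancel (C.inj e).2), fun e => by rw [e, neg_zero]⟩

theorem of_mem_Z {v : V} {l : F3} (h : C.η v l ∈ zpowers C.z) : v = 0 := by
  rcases zpowers_cases (show C.z ^ 3 = 1 by
    rw [pow_three, ← C.hz, C.mul, C.mul, ← C.zero]; simp; rfl) h with e | e | e
  · exact (C.inj (e.trans C.zero.symm)).1
  · exact (C.inj (e.trans C.hz.symm)).1
  · rw [← C.hz, C.inv, neg_zero] at e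
    exact (C.inj e).1

/-- The induced action on the vector part. -/
noncomputable def act (α : P → P) (v : V) : V := (C.sur (α (C.η v 0))).choose

/-- The induced action on the central part. -/
noncomputable def lam (α : P → P) (v : V) : F3 := (C.sur (α (C.η v 0))).choose_spec.choose

theorem act_zero' (α : P → P) (v : V) : α (C.η v 0) = C.η (C.act α v) (C.lam α v) :=
  (C.sur (α (C.η v 0))).choose_spec.choose_spec

theorem act_spec {α : P →* P} (h : α C.z = C.z) (v : V) (l : F3) :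
    α (C.η v l) = C.η (C.act α v) (l + C.lam α v) := by
  have : α (C.η 0 l) = C.η 0 l := by rcases C.cases l with e | e | e <;> simp [e, h]
  rw [C.split, map_mul, this, C.act_zero' α, C.mul]
  simp [add_comm]

theorem act_add {α : P →* P} (h : α C.z = C.z) (v w : V) : C.act α (v + w) = C.act α v + C.act α w ∧
    C.b v w + C.lam α (v + w) = C.lam α v + C.lam α w + C.b (C.act α v) (C.act α w) := by
  have := map_mul α (C.η v 0) (C.η w 0)
  rw [C.mul, C.act_spec h, C.act_zero' α, C.act_zero' α, C.mul] at this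
  simpa using C.inj this

theorem act_b {α : P →* P} (h : α C.z = C.z) (v w : V) : C.b (C.act α v) (C.act α w) = C.b v w := by
  have h1 := (C.act_add h v w).2
  have h2 := (C.act_add h w v).2
  rw [add_comm w v, C.swap v w, C.swap (C.act α v)] at h2
  have h3 : (3 : F3) = 0 := rfl
  linear_combination h1 - h2 + (C.b (C.act α v) (C.act α w) - C.b v w) * h3

/-- The action of a group of automorphisms fixing the central element. -/
noncomputable def hom {H : Type*} [Group H] (c : H →* MulAut P) (h : ∀ g, c g C.z = C.z) :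
    H →* AddMonoid.End V where
  toFun g := AddMonoidHom.mk' (C.act (c g)) fun v w => (C.act_add (α := (c g).toMonoidHom) (h g) v w).1
  map_one' := AddMonoidHom.ext fun v => (C.inj ((C.act_zero' _ v).symm.trans (by rw [map_one]; rfl))).1
  map_mul' g k := AddMonoidHom.ext fun v => (C.inj ((C.act_zero' _ v).symm.trans (by
    rw [map_mul, MulAut.mul_apply, C.act_zero' (c k)]
    exact C.act_spec (α := (c g).toMonoidHom) (h g) _ _))).1

end Co

end Cfsg.Lib.C23.G0
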