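import Cfsg.Agent.Recog.TriOrd
import Cfsg.Agent.Local.InvolCount
import Cfsg.Agent.Solv.ClassSize

/-!
# Recognising `PSL₂(q)` from its order and the orders of the centralisers

Counting pairs of involutions produces the Brauer–Suzuki–Wall configuration.
-/

set_option autoImplicit false

namespace Cfsg.Lib.Recog.ClsL2

open Cfsg.Lib.FT Cfsg.Lib.GW Cfsg.Lib.Known Cfsg.Lib.Perm Cfsg.Lib.Solv Subgroup Matrix
  MatrixGroups Pointwise Cfsg.Lib.Recog.Tri

variable {G : Type*} [Group G] [Finite G]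

/-- The elements inverting `g`. -/
def J (g : G) : Set G := {u | u * g * u⁻¹ = g⁻¹}

theorem J_eq_1' : type_of% @J.eq_1 := @J.eq_1

/-- The elements `u ∈ U` with `u * g ∈ V`. -/
def R (U V : Set G) (g : G) : Set G := {u | u ∈ U ∧ u * g ∈ V}

theorem R_eq_1' : type_of% @R.eq_1 := @R.eq_1

/-- The involutions. -/
def Inv (G : Type*) [Group G] : Set G := {x | x * x = 1 ∧ x ≠ 1}

theorem Inv_eq_1' : type_of% @Inv.eq_1 := @Inv.eq_1

omit [Finite G] in
theorem mem_J_of_sq {u g : G} (hu : u * u = 1) (hg : u * g * (u * g) = 1) : u ∈ J g := by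
  change u * g * u⁻¹ = g⁻¹
  rw [inv_eq_of_mul_eq_one_right hu, eq_inv_iff_mul_eq_one, mul_assoc (u * g), hg]

omit [Finite G] in
theorem J_eq {u g : G} (hu : u ∈ J g) : J g = (u * ·) '' (𝐂₁ g : Subgroup G) := by
  ext v
  have hu' : u * g * u⁻¹ = g⁻¹ := hu
  refine ⟨fun hv => ⟨u⁻¹ * v, mem_cent1.2 ?_, by simp⟩, ?_⟩
  · have hv' : v * g * v⁻¹ = g⁻¹ := hv
    calc u⁻¹ * v * g = u⁻¹ * (v * g * v⁻¹) * v := by group
      _ = u⁻¹ * (u * g * u⁻¹) * v := by rw [hv', hu']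
      _ = _ := by group
  · rintro ⟨c, hc, rfl⟩
    change u * c * g * (u * c)⁻¹ = g⁻¹
    rw [← hu', mul_assoc u, mem_cent1.1 hc]
    group

theorem ncard_J {u g : G} (hu : u ∈ J g) : (J g).ncard = Nat.card (𝐂₁ g) := by
  rw [J_eq hu, Set.ncard_image_of_injective _ (mul_right_injective u)]
  rfl

theorem ncard_J_le (g : G) : (J g).ncard ≤ Nat.card (𝐂₁ g) := by
  rcases (J g).eq_empty_or_nonempty with e | ⟨u, hu⟩
  · simp [e]
  · exact (ncard_J hu).le

theorem sum_R [Fintype G] (U V : Set G) : ∑ g : G, (R U V g).ncard = U.ncard * V.ncard := by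
  classical
  have h1 : ∀ g, (R U V g).ncard = ∑ u : G, if u ∈ U ∧ u * g ∈ V then 1 else 0 := fun g => by
    rw [Set.ncard_eq_toFinset_card', ← Finset.card_filter]
    congr 1
    ext
    rw [Set.mem_toFinset]
    simp [R]
  simp_rw [h1]
  rw [Finset.sum_comm]
  have h2 : ∀ u : G, (∑ g : G, if u ∈ U ∧ u * g ∈ V then 1 else 0) =
      if u ∈ U then V.ncard else 0 := fun u => by
    split_ifs with h
    · rw [← Finset.card_filter, ← Set.ncard_coe_finset,
        ← Set.ncard_image_of_injective _ (mul_right_injective u)]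
      congr 1
      ext v
      simp only [h, true_and, Finset.coe_filter, Finset.mem_univ, Set.mem_image, Set.mem_ofPred_eq]
      exact ⟨fun ⟨x, hx, e⟩ => e ▸ hx, fun hv => ⟨u⁻¹ * v, by simpa using hv, by simp⟩⟩
    · simp [h]
  simp_rw [h2]
  rw [← Finset.sum_filter, Finset.sum_const, smul_eq_mul, Set.ncard_eq_toFinset_card' U]
  congr 2
  ext
  simp

theorem sum_ind [Fintype G] (X : Set G) [DecidablePred (· ∈ X)] (c : ℕ) :
    (∑ g : G, if g ∈ X then c else 0) = X.ncard * c := by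
  classical
  rw [← Finset.sum_filter, Finset.sum_const, smul_eq_mul, Set.ncard_eq_toFinset_card' X]
  congr 2
  ext
  simp

theorem R_sub {U V : Set G} (hU : ∀ u ∈ U, u * u = 1) (hV : ∀ u ∈ V, u * u = 1) (g : G) :
    R U V g ⊆ J g := fun u hu => mem_J_of_sq (hU u hu.1) (hV _ hu.2)

theorem two_mul_R_le {U V : Set G} (hU : ∀ u ∈ U, u * u = 1) (hV : ∀ u ∈ V, u * u = 1)
    (hd : Disjoint U V) (g : G) : 2 * (R U V g).ncard ≤ Nat.card (𝐂₁ g) := by
  have h1 : Disjoint (R U V g) ((· * g) '' R U V g) := Set.disjoint_left.2 fun u hu ⟨v, hv, e⟩ =>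
    Set.disjoint_left.1 hd hu.1 (e ▸ hv.2)
  have h2 := Set.ncard_union_eq h1
  rw [Set.ncard_image_of_injective _ (mul_left_injective g)] at h2
  rw [two_mul, ← h2]
  refine le_trans (Set.ncard_le_ncard (Set.union_subset (R_sub hU hV g) ?_)) (ncard_J_le g)
  rintro _ ⟨v, hv, rfl⟩
  have : v * g * v⁻¹ = g⁻¹ := R_sub hU hV g hv
  change v * g * g * (v * g)⁻¹ = g⁻¹
  rw [← this]
  group

/-- An involution inverting an element of order `> 2` doubles its centraliser. -/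
theorem two_mul_dvd {u g : G} (hu : u * u = 1) (h : u ∈ J g) (hg : g * g ≠ 1) :
    2 * Nat.card (𝐂₁ g) ∣ Nat.card G := by
  have h' : u * g * u⁻¹ = g⁻¹ := h
  have hn : u ∉ 𝐂₁ g := fun e => hg (by
    rw [mem_cent1.1 e, mul_inv_cancel_right] at h'
    exact eq_inv_iff_mul_eq_one.1 h')
  have h1 : u ≠ 1 := fun e => hn (e ▸ one_mem _)
  have hN : zpowers u ≤ 𝐍 (𝐂₁ g) := zpowers_le.2 (by
    refine Subgroup.mem_normalizer_fintype fun c hc => mem_cent1.2 ?_
    have hc' := mem_cent1.1 hc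
    have h2 : g = u * g⁻¹ * u⁻¹ := inv_injective (h'.symm.trans (by group))
    calc u * c * u⁻¹ * g = u * c * u⁻¹ * (u * g⁻¹ * u⁻¹) := by rw [← h2]
      _ = u * (c * g⁻¹) * u⁻¹ := by group
      _ = u * (g⁻¹ * c) * u⁻¹ := by rw [(Commute.inv_right (show Commute c g from hc')).eq]
      _ = u * g⁻¹ * u⁻¹ * (u * c * u⁻¹) := by group
      _ = _ := by rw [← h2])
  have h3 := card_sup_mul_card_inf_of_le_normalizer hN
  have h4 : 𝐂₁ g ⊓ zpowers u = ⊥ := by
    refine eq_bot_iff.2 fun x ⟨hx, k, hk⟩ => ?_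
    simp only at hk
    rw [← zpow_mod_orderOf, orderOf_eq_two hu h1] at hk
    rcases Int.emod_two_eq_zero_or_one k with e | e
    · simp_all
    · exact absurd (by simp_all) hn
  rw [h4, card_bot, mul_one, Nat.card_zpowers, orderOf_eq_two hu h1, mul_comm] at h3
  exact h3 ▸ card_subgroup_dvd_card _

theorem inverts_of_fpf {A : Subgroup G} {t : G} (ht : t * t = 1)
    (hn : ∀ x ∈ A, t * x * t⁻¹ ∈ A) (hf : ∀ x ∈ A, x * t = t * x → x = 1) {x : G} (hx : x ∈ A) :
    t * x * t⁻¹ = x⁻¹ := by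
  have hinj : Function.Injective fun y : A =>
      (⟨(y : G)⁻¹ * (t * y * t⁻¹), mul_mem (inv_mem y.2) (hn y y.2)⟩ : A) := fun y z e => by
    have e' : (y : G)⁻¹ * (t * y * t⁻¹) = (z : G)⁻¹ * (t * z * t⁻¹) := congrArg Subtype.val e
    have := hf (y * (z : G)⁻¹) (mul_mem y.2 (inv_mem z.2)) (by
      calc (y : G) * (z : G)⁻¹ * t = y * ((z : G)⁻¹ * (t * z * t⁻¹)) * t * (z : G)⁻¹ := by group
        _ = y * ((y : G)⁻¹ * (t * y * t⁻¹)) * t * (z : G)⁻¹ := by rw [e']
        _ = _ := by group)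
    exact Subtype.ext (mul_inv_eq_one.1 this)
  obtain ⟨y, hy⟩ := Finite.surjective_of_injective hinj ⟨x, hx⟩
  have e : (y : G)⁻¹ * (t * y * t⁻¹) = x := congrArg Subtype.val hy
  have ht' : t⁻¹ = t := inv_eq_of_mul_eq_one_right ht
  rw [← e, ht']
  calc t * ((y : G)⁻¹ * (t * y * t)) * t = t * (y : G)⁻¹ * t * y * (t * t) := by group
    _ = t⁻¹ * (y : G)⁻¹ * t⁻¹ * y := by rw [ht, ht', mul_one]
    _ = _ := by group

omit [Finite G] in
theorem comm_of_inverts {A : Subgroup G} {t : G} (h : ∀ x ∈ A, t * x * t⁻¹ = x⁻¹) :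
    IsMulCommutative A := abelian_iff.2 fun y hy => mem_cent.2 fun x hx => by
  have h1 := h _ (mul_mem hx hy)
  rw [show t * (x * y) * t⁻¹ = t * x * t⁻¹ * (t * y * t⁻¹) by group, h x hx, h y hy,
    ← _root_.mul_inv_rev] at h1
  exact (inv_injective h1).symm

/-- The order and the centraliser orders of `PSL₂(q)`, `q` odd. -/
structure CH (G : Type*) [Group G] (q e o : ℕ) : Prop where
  even : 2 ∣ e
  q_eq : q = e + o
  adj : o = e + 1 ∨ e = o + 1
  lt : 2 < e
  card : Nat.card G = 2 * e * (q * o)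
  cent : ∀ g : G, g ≠ 1 → Nat.card (𝐂₁ g) = q ∨ Nat.card (𝐂₁ g) = o ∨
    Nat.card (𝐂₁ g) = 2 * e ∨ Nat.card (𝐂₁ g) = e

namespace CH

variable {q e o : ℕ} (h : CH G q e o)
include h

omit [Finite G] in
theorem cop : (2 * e).Coprime o ∧ q.Coprime (2 * e) ∧ q.Coprime o := by
  have h1 : e.Coprime o := by rcases h.adj with e | e <;> simp [e]
  have h2 : q.Coprime e := by simpa [h.q_eq] using h1.symm
  exact ⟨(h1.coprime_dvd_left h.even).mul_left h1, (h2.coprime_dvd_right h.even).mul_right h2,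
    by simpa [h.q_eq] using h1⟩

omit [Finite G] in
theorem odd : ¬ 2 ∣ q * o := fun e' => absurd (Nat.eq_one_of_dvd_coprimes
  (h.cop.2.1.symm.mul_right h.cop.1) (Dvd.intro _ rfl) e') (by decide)

omit [Finite G] in
theorem pos : 0 < q * o := Nat.pos_of_ne_zero fun e' => h.odd (e' ▸ dvd_zero 2)

omit [Finite G] in
theorem sq : q * q = 4 * e * o + 1 := by rcases h.adj with e | e <;> rw [h.q_eq, e] <;> ring

theorem ord (g : G) : orderOf g ∣ q ∨ orderOf g ∣ 2 * e ∨ orderOf g ∣ o := by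
  by_cases h1 : g = 1
  · simp [h1]
  have := order_dvdG (cent1id g)
  rcases h.cent g h1 with e' | e' | e' | e' <;> rw [e'] at this
  · exact Or.inl this
  · exact Or.inr (Or.inr this)
  · exact Or.inr (Or.inl this)
  · exact Or.inr (Or.inl (this.mul_left 2))

theorem cent_q {g : G} (hg : g ∈ T G q) : Nat.card (𝐂₁ g) = q := by
  have := order_dvdG (cent1id g)
  have k : ∀ {n : ℕ}, q.Coprime n → ¬ orderOf g ∣ n := fun hn e' =>
    hg.1 (orderOf_eq_one_iff.1 (Nat.eq_one_of_dvd_coprimes hn hg.2 e'))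
  rcases h.cent g hg.1 with e' | e' | e' | e'
  · exact e'
  · exact absurd (e' ▸ this) (k h.cop.2.2)
  · exact absurd (e' ▸ this) (k h.cop.2.1)
  · exact absurd ((e' ▸ this).mul_left 2) (k h.cop.2.1)

theorem cent_o {g : G} (hg : g ∈ T G o) : Nat.card (𝐂₁ g) = o := by
  have := order_dvdG (cent1id g)
  have k : ∀ {n : ℕ}, o.Coprime n → ¬ orderOf g ∣ n := fun hn e' =>
    hg.1 (orderOf_eq_one_iff.1 (Nat.eq_one_of_dvd_coprimes hn hg.2 e'))
  rcases h.cent g hg.1 with e' | e' | e' | e'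
  · exact absurd (e' ▸ this) (k h.cop.2.2.symm)
  · exact e'
  · exact absurd (e' ▸ this) (k h.cop.1.symm)
  · exact absurd ((e' ▸ this).mul_left 2) (k h.cop.1.symm)

theorem cent_e {g : G} (hg : g ∈ T G (2 * e)) :
    Nat.card (𝐂₁ g) = 2 * e ∨ Nat.card (𝐂₁ g) = e := by
  have := order_dvdG (cent1id g)
  have k : ∀ {n : ℕ}, (2 * e).Coprime n → ¬ orderOf g ∣ n := fun hn e' =>
    hg.1 (orderOf_eq_one_iff.1 (Nat.eq_one_of_dvd_coprimes hn hg.2 e'))
  rcases h.cent g hg.1 with e' | e' | e'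
  · exact absurd (e' ▸ this) (k h.cop.2.1.symm)
  · exact absurd (e' ▸ this) (k h.cop.1)
  · exact e'

theorem ncard_eq : (T G q).ncard = 4 * e * o ∧ (T G o).ncard = e * q * (o - 1) ∧
    (T G (2 * e)).ncard = q * o * (e - 1) := by
  obtain ⟨h1, h2, h3⟩ := h.cop
  have hG := h.card
  have he := h.lt
  have ho : 1 < o := by have := h.adj; omega
  obtain ⟨k, hk⟩ := (iso_of h.ord h2 h3).dvd_ncard (h2.mul_right h3) ⟨q, by rw [hG]; ring⟩
  obtain ⟨s, hs⟩ := (iso_of (fun g => or_rotate.2 (h.ord g)) h3.symm h1.symm).dvd_ncard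
    (h1.symm.mul_right h3.symm) ⟨o, by rw [hG]; ring⟩
  obtain ⟨m, hm⟩ := (iso_of (fun g => or_left_comm.1 (h.ord g)) h2.symm h1).dvd_ncard
    (h2.symm.mul_right h1) (hG ▸ Dvd.intro_left _ rfl)
  have h4 := card_eq h.ord h2 h3 h1
  rw [hG, hk, hs, hm] at h4
  have hq := h.q_eq
  have hq2 := h.sq
  have h7 : k < q := Nat.lt_of_mul_lt_mul_left (a := 2 * e * o) (by
    nlinarith [Nat.zero_le (q * o * m), Nat.zero_le (2 * e * q * s)])
  have h8 : (q : ℤ) ∣ k - 2 := by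
    zify at h4 hq2
    exact ⟨q * k + 2 * o * m + 4 * e * s - 4 * e * o, by linear_combination 2 * h4 - k * hq2⟩
  obtain rfl : k = 2 := by
    have := Int.eq_zero_of_abs_lt_dvd h8 (abs_lt.2 ⟨by omega, by omega⟩); omega
  have h9 : 2 * e * o = q + 2 * e * s + o * m :=
    Nat.eq_of_mul_eq_mul_left (show 0 < q by omega) (by linarith)
  have h6 : s < o := Nat.lt_of_mul_lt_mul_left (a := 2 * e) (by
    have := Nat.zero_le (o * m); omega)
  obtain ⟨j, hj⟩ : o ∣ 1 + 2 * s :=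
    (h1.symm.coprime_dvd_right (Dvd.intro_left 2 rfl)).dvd_of_dvd_mul_left (by
      zify at h9 hq ⊢
      exact ⟨2 * e - 1 - m, by linear_combination -h9 - hq⟩)
  obtain rfl : j = 1 := by
    rcases j with _ | _ | j
    · omega
    · rfl
    · have := Nat.zero_le (o * j)
      rw [mul_add, mul_add] at hj
      omega
  refine ⟨by rw [hk]; ring, by rw [hs, show o - 1 = 2 * s by omega]; ring, ?_⟩
  rw [hm, show m = e - 1 from Nat.eq_of_mul_eq_mul_left (show 0 < o by omega) (by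
    zify [show 1 ≤ e by omega] at *; linear_combination -h9 - hq - e * hj)]

theorem mem_T_of_even {g : G} (hg : 2 ∣ orderOf g) : g ∈ T G (2 * e) := by
  refine ⟨by rintro rfl; simp at hg, ?_⟩
  rcases h.ord g with e' | e' | e'
  · exact absurd ((hg.trans e').mul_right o) h.odd
  · exact e'
  · exact absurd ((hg.trans e').mul_left q) h.odd

theorem mem_T_of_inv {g : G} (hg : g ∈ Inv G) : g ∈ T G (2 * e) :=
  h.mem_T_of_even (orderOf_eq_two hg.1 hg.2).symm.dvd

theorem isConj {u v : G} (hu : u ∈ Inv G) (hv : v ∈ Inv G) : IsConj u v := by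
  classical
  by_contra hn
  have := Fintype.ofFinite G
  have he := h.lt
  have hc : ∀ {w : G}, w ∈ Inv G → q * o ≤ {x | IsConj w x}.ncard := fun {w} hw => by
    rw [ClassSize.ncard_setOf_isConj]
    have h1 := (𝐂₁ w).card_mul_index
    rw [h.card] at h1
    rcases h.cent_e (h.mem_T_of_inv hw) with e' | e' <;> rw [e'] at h1
    · exact (Nat.eq_of_mul_eq_mul_left (by omega) h1).ge
    · refine Nat.le_of_mul_le_mul_left (c := e) ?_ (by omega)
      rw [h1]; exact Nat.mul_le_mul_right _ (by omega)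
  have hi : ∀ {w x : G}, w ∈ Inv G → IsConj w x → x ∈ Inv G := fun {w x} hw hx => by
    obtain ⟨c, rfl⟩ := isConj_iff.1 hx
    exact ⟨by rw [conj_mul, hw.1]; group, conj_ne_one hw.2⟩
  have h1 := sum_R {x | IsConj u x} {x | IsConj v x}
  have h2 : ∀ g : G, (R {x | IsConj u x} {x | IsConj v x} g).ncard ≤
      if g ∈ T G (2 * e) then e else 0 := fun g => by
    rcases (R {x | IsConj u x} {x | IsConj v x} g).eq_empty_or_nonempty with e' | ⟨w, hw1, hw2⟩
    · rw [e', Set.ncard_empty]; exact Nat.zero_le _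
    have h3 := hi hu hw1
    have h4 := hi hv hw2
    have h5 : g ∈ T G (2 * e) := h.mem_T_of_even (by
      by_contra h5
      refine hn (hw1.trans (IsConj.trans ?_ (IsConj.symm hw2)))
      refine Local.isConj_of_odd_orderOf_mul (orderOf_eq_two h3.1 h3.2)
        (orderOf_eq_two h4.1 h4.2) ?_
      rw [← mul_assoc, h3.1, one_mul]
      exact Nat.odd_iff.2 (by omega))
    rw [if_pos h5]
    have h6 := two_mul_R_le (U := {x | IsConj u x}) (V := {x | IsConj v x})
      (fun x hx => (hi hu hx).1) (fun x hx => (hi hv hx).1)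
      (Set.disjoint_left.2 fun x h1 h2 => hn (IsConj.trans h1 (IsConj.symm h2))) g
    rcases h.cent_e h5 with e' | e' <;> omega
  have h3 := Finset.sum_le_sum fun g (_ : g ∈ Finset.univ) => h2 g
  rw [h1, sum_ind, h.ncard_eq.2.2] at h3
  have h4 := (Nat.mul_le_mul (hc hu) (hc hv)).trans h3
  rw [mul_assoc (q * o)] at h4
  have h5 := Nat.le_of_mul_le_mul_left h4 h.pos
  obtain ⟨d, rfl⟩ : ∃ d, e = d + 1 := ⟨e - 1, by omega⟩
  rw [Nat.add_sub_cancel, h.q_eq] at h5
  rcases h.adj with e' | e'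
  · rw [e'] at h5; nlinarith
  · rw [show o = d by omega] at h5; nlinarith

theorem exists_inv : ∃ t ∈ Inv G, Nat.card (𝐂₁ t) = 2 * e := by
  have := Fact.mk Nat.prime_two
  obtain ⟨P⟩ : Nonempty (Sylow 2 G) := inferInstance
  have hP : (P : Subgroup G) ≠ ⊥ := P.ne_bot_of_dvd_card (h.card ▸ (Dvd.intro _ rfl).mul_right _)
  have : Nontrivial P := (Subgroup.nontrivial_iff_ne_bot _).2 hP
  have := P.isPGroup'.center_nontrivial
  obtain ⟨n, hn⟩ := IsPGroup.iff_card.1 (P.isPGroup'.to_subgroup (center P))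
  obtain ⟨⟨⟨t, ht⟩, hz⟩, h2⟩ := exists_prime_orderOf_dvd_card' (G := center P) 2 (by
    rw [hn]; refine dvd_pow_self 2 ?_
    rintro rfl
    exact (Finite.one_lt_card (α := center P)).ne' hn)
  rw [orderOf_mk, orderOf_mk] at h2
  have hi : t ∈ Inv G := ⟨mul_self_of_orderOf h2, ne_one_of_orderOf (by decide) h2⟩
  refine ⟨t, hi, (h.cent_e (h.mem_T_of_inv hi)).resolve_right fun e' => ?_⟩
  have h3 : (P : Subgroup G) ≤ 𝐂₁ t := fun x hx => mem_cent1.2
    (congrArg Subtype.val (mem_center_iff.1 hz ⟨x, hx⟩))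
  have h4 := (𝐂₁ t).card_mul_index
  rw [e', h.card, mul_comm 2, mul_assoc, Nat.mul_right_inj (by have := h.lt; omega)] at h4
  exact P.not_dvd_index ((h4 ▸ Dvd.intro _ rfl : 2 ∣ (𝐂₁ t).index).trans (index_dvd_of_le h3))

theorem index_inv {t : G} (ht : t ∈ Inv G) : (𝐂₁ t).index = q * o := by
  obtain ⟨u, hu, h1⟩ := h.exists_inv
  have h4 := (𝐂₁ u).card_mul_index
  rw [h1, h.card, Nat.mul_right_inj (by have := h.lt; omega)] at h4
  rw [← h4]
  exact ClassSize.index_cent_of_isConj (h.isConj ht hu)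

theorem cent_inv {t : G} (ht : t ∈ Inv G) : Nat.card (𝐂₁ t) = 2 * e := by
  have h4 := (𝐂₁ t).card_mul_index
  rw [h.index_inv ht, h.card] at h4
  exact Nat.eq_of_mul_eq_mul_right h.pos h4

theorem ncard_inv : (Inv G).ncard = q * o := by
  obtain ⟨u, hu, -⟩ := h.exists_inv
  rw [← h.index_inv hu, ← ClassSize.ncard_setOf_isConj]
  congr 1
  ext x
  refine ⟨h.isConj hu, fun hx => ?_⟩
  obtain ⟨c, rfl⟩ := isConj_iff.1 hx
  exact ⟨by rw [conj_mul, hu.1]; group, conj_ne_one hu.2⟩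

theorem cent_of_J {u g : G} (hu : u * u = 1) (hJ : u ∈ J g) (hg : g ∈ T G (2 * e))
    (h2 : g * g ≠ 1) : Nat.card (𝐂₁ g) = e := (h.cent_e hg).resolve_left fun e' => by
  have := two_mul_dvd hu hJ h2
  rw [e', h.card, mul_comm 2] at this
  exact h.odd (Nat.dvd_of_mul_dvd_mul_left (by have := h.lt; omega) this)

/-- For `q ≡ 3 (mod 4)` no `q`-element is inverted by an involution. -/
theorem not_J (he : e = o + 1) {u g : G} (hu : u ∈ Inv G) (hg : g ∈ T G q) : u ∉ J g := by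
  classical
  intro hJ
  have hJ' : u * g * u⁻¹ = g⁻¹ := hJ
  have hP := h.cent_q hg
  have hn : ∀ x ∈ 𝐂₁ g, u * x * u⁻¹ ∈ 𝐂₁ g := fun c hc => by
    rw [← ClassSize.cent_inv, ← hJ', mem_cent1, conj_mul, conj_mul, mem_cent1.1 hc]
  have hab := comm_of_inverts fun x hx => inverts_of_fpf hu.1 hn (fun x hx hc =>
    orderOf_eq_one_iff.1 (Nat.eq_one_of_dvd_coprimes h.cop.2.1 (hP ▸ order_dvdG hx)
      (h.cent_inv hu ▸ order_dvdG (mem_cent1.2 hc)))) hx
  have hA : ∀ x ∈ 𝐂₁ g, orderOf x ∣ q := fun x hx => hP ▸ order_dvdG hx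
  have hq : 0 < q := hP ▸ cardG_gt0 _
  have h1 := ncard_mul_le hab hA (by
    have := (𝐂₁ g).card_mul_index
    rw [hP, h.card, show 2 * e * (q * o) = q * (2 * e * o) by ring, Nat.mul_right_inj hq.ne'] at this
    exact this ▸ h.cop.2.1.mul_right h.cop.2.2)
  have hC : ∀ x ∈ 𝐂₁ g, x ≠ 1 → 𝐂₁ x = 𝐂₁ g := fun x hx h1 =>
    (eq_of_le_of_card_ge (le_cent1_iff.2 (abelian_le_cent hab hx))
      ((h.cent_q ⟨h1, hA x hx⟩).trans hP.symm).le).symm
  have h2 : Nat.card G * (Nat.card (𝐂₁ g) - 1) ≤ (T G q).ncard * Nat.card (𝐍 (𝐂₁ g)) := by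
    rw [← sum_fib hA, Set.ncard_eq_toFinset_card _ (T G q).toFinite, ← smul_eq_mul]
    refine Finset.sum_le_card_nsmul _ _ _ fun w hw => ?_
    rw [Set.Finite.mem_toFinset] at hw
    rcases (fib (𝐂₁ g) w).eq_empty_or_nonempty with e' | ⟨x, hx⟩
    · simp [e']
    change _ ≤ (𝐍 (𝐂₁ g) : Set G).ncard
    rw [← Set.ncard_image_of_injective _ (mul_left_injective x⁻¹)]
    refine Set.ncard_le_ncard ?_
    rintro _ ⟨k, hk, rfl⟩
    refine Subgroup.mem_normalizer_fintype fun c hc => ?_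
    rw [← hC _ hx (conj_ne_one hw.1)] at hc
    rw [SetLike.mem_coe, ← hC _ hk (conj_ne_one hw.1), mem_cent1]
    have hc' := mem_cent1.1 hc
    calc k * x⁻¹ * c * (k * x⁻¹)⁻¹ * (k * w * k⁻¹)
        = k * x⁻¹ * (c * (x * w * x⁻¹)) * x * k⁻¹ := by group
      _ = k * x⁻¹ * ((x * w * x⁻¹) * c) * x * k⁻¹ := by rw [hc']
      _ = _ := by group
  have h3 := le_antisymm h1 h2
  have hqe := h.q_eq
  rw [h.ncard_eq.1, h.card, hP, show q - 1 = 2 * o by omega,
    show 2 * e * (q * o) * (2 * o) = 4 * e * o * (q * o) by ring,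
    Nat.mul_right_inj (by have := h.lt; have : 0 < o := by omega
                          positivity)] at h3
  exact h.odd (h3 ▸ orderOf_eq_two hu.1 hu.2 ▸ order_dvdG
    (Subgroup.mem_normalizer_fintype hn))

/-- The main count: some non-involution has an abelian centraliser inverted by an involution. -/
theorem exists_K : ∃ g u : G, g ∈ T G (2 * e) ∧ g * g ≠ 1 ∧ u ∈ Inv G ∧ u ∈ J g ∧
    ∀ c ∈ 𝐂₁ g, u * c * u⁻¹ = c⁻¹ := by
  classical
  by_contra! hn
  have := Fintype.ofFinite G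
  have he := h.lt
  have hsub := R_sub (U := Inv G) (V := Inv G) (fun x hx => hx.1) (fun x hx => hx.1)
  have hle : ∀ g, (R (Inv G) (Inv G) g).ncard ≤ Nat.card (𝐂₁ g) := fun g =>
    (Set.ncard_le_ncard (hsub g)).trans (ncard_J_le g)
  obtain ⟨δ, hδ, hδ'⟩ : ∃ δ, (∀ g ∈ T G q, (R (Inv G) (Inv G) g).ncard ≤ δ) ∧
      (o = e + 1 ∧ δ = q ∨ e = o + 1 ∧ δ = 0) := by
    rcases h.adj with e' | e'
    · exact ⟨q, fun g hg => h.cent_q hg ▸ hle g, Or.inl ⟨e', rfl⟩⟩
    · refine ⟨0, fun g hg => ?_, Or.inr ⟨e', rfl⟩⟩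
      rw [Set.eq_empty_of_forall_notMem fun u hu => h.not_J e' hu.1 hg (hsub g hu), Set.ncard_empty]
  have h2 : ∀ g : G, (R (Inv G) (Inv G) g).ncard ≤ (if g ∈ ({1} : Set G) then q * o else 0) +
      (if g ∈ T G q then δ else 0) + (if g ∈ T G o then o else 0) +
      (if g ∈ Inv G then 2 * e - 2 else 0) + if g ∈ T G (2 * e) \ Inv G then e - 2 else 0 := by
    intro g
    by_cases h1 : g = 1
    · have : (R (Inv G) (Inv G) g).ncard ≤ q * o := h.ncard_inv ▸ Set.ncard_le_ncard fun u hu => hu.1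
      rw [if_pos (show g ∈ ({1} : Set G) from h1)]
      omega
    rcases h.ord g with e' | e' | e'
    · have := hδ g ⟨h1, e'⟩
      rw [if_pos (show g ∈ T G q from ⟨h1, e'⟩)]
      omega
    swap
    · have := h.cent_o ⟨h1, e'⟩ ▸ hle g
      rw [if_pos (show g ∈ T G o from ⟨h1, e'⟩)]
      omega
    by_cases hi : g ∈ Inv G
    · have h3 : R (Inv G) (Inv G) g ⊆ (𝐂₁ g : Subgroup G) \ {1, g} := fun u hu => by
        have h4 : u * g * u⁻¹ = g⁻¹ := hsub g hu
        rw [inv_eq_of_mul_eq_one_right hi.1, mul_inv_eq_iff_eq_mul] at h4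
        refine ⟨mem_cent1.2 h4, ?_⟩
        rintro (rfl | rfl)
        · exact hu.1.2 rfl
        · exact hu.2.2 hi.1
      have h4 := Set.ncard_le_ncard h3
      rw [Set.ncard_sdiff (by
        rintro _ (rfl | rfl)
        · exact one_mem _
        · exact cent1id _), Set.ncard_pair (Ne.symm h1)] at h4
      change _ ≤ Nat.card (𝐂₁ g) - 2 at h4
      rw [h.cent_inv hi] at h4
      rw [if_pos hi]
      omega
    have hT : g ∈ T G (2 * e) := ⟨h1, e'⟩
    rw [if_pos (show g ∈ T G (2 * e) \ Inv G from ⟨hT, hi⟩)]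
    refine le_add_left ?_
    rcases (R (Inv G) (Inv G) g).eq_empty_or_nonempty with e' | ⟨u, hu⟩
    · rw [e', Set.ncard_empty]; exact Nat.zero_le _
    have hg : g * g ≠ 1 := fun e' => hi ⟨e', h1⟩
    obtain ⟨c, hc, hc'⟩ := hn g u hT hg hu.1 (hsub g hu)
    have hx : u * c ∈ J g := J_eq (hsub g hu) ▸ ⟨c, hc, rfl⟩
    have hx' : u * c * g * (u * c)⁻¹ = g⁻¹ := hx
    have hy : u * c * g ∈ J g := by
      change u * c * g * g * (u * c * g)⁻¹ = g⁻¹
      rw [← hx']; group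
    have hsq : u * c * (u * c) ≠ 1 := fun e' => hc' (mem_J_of_sq hu.1.1 e')
    have h3 : R (Inv G) (Inv G) g ⊆ J g \ {u * c, u * c * g} := fun w hw => by
      refine ⟨hsub g hw, ?_⟩
      rintro (rfl | rfl)
      · exact hsq hw.1.1
      · refine hsq ?_
        have h4 := hw.1.1
        calc u * c * (u * c) = g * (u * c * g * (u * c)⁻¹) * (u * c) * (u * c) := by
              rw [hx']; group
          _ = g * (u * c * g * (u * c * g)) * g⁻¹ := by group
          _ = 1 := by rw [h4]; group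
    have h4 := Set.ncard_le_ncard h3
    rwa [Set.ncard_sdiff (by
      rintro _ (rfl | rfl)
      · exact hx
      · exact hy), Set.ncard_pair (by simpa using h1), ncard_J hx,
      h.cent_of_J hu.1.1 (hsub g hu) hT hg] at h4
  have h3 := Finset.sum_le_sum fun g (_ : g ∈ Finset.univ) => h2 g
  simp only [Finset.sum_add_distrib, sum_ind] at h3
  rw [sum_R, Set.ncard_sdiff fun x hx => h.mem_T_of_inv hx, h.ncard_inv, h.ncard_eq.1,
    h.ncard_eq.2.1, h.ncard_eq.2.2, Set.ncard_singleton] at h3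
  have hq := h.q_eq
  obtain ⟨d, rfl⟩ : ∃ d, e = d + 2 := ⟨e - 2, by omega⟩
  have h4 : q * o * (d + 2 - 1) - q * o = q * o * d := by
    rw [show d + 2 - 1 = d + 1 by omega, mul_add, mul_one, Nat.add_sub_cancel]
  rw [h4, show 2 * (d + 2) - 2 = 2 * d + 2 by omega, Nat.add_sub_cancel] at h3
  rcases hδ' with ⟨e1, rfl⟩ | ⟨e1, rfl⟩
  · have h5 : δ * o * (δ * o) ≤ δ * o * (1 + 4 * (d + 2) + (d + 2) * (d + 2) + (2 * d + 2) + d * d) := by
      rw [show o - 1 = d + 2 by omega] at h3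
      linarith
    have h6 := Nat.le_of_mul_le_mul_left h5 h.pos
    rw [hq, e1] at h6
    nlinarith
  · have h5 : q * o * (q * o) ≤ q * o * (1 + (d + 2) * d + (2 * d + 2) + d * d) := by
      rw [show o - 1 = d by omega] at h3
      linarith
    have h6 := Nat.le_of_mul_le_mul_left h5 h.pos
    rw [hq, show o = d + 1 by omega] at h6
    nlinarith

theorem bsw : ∃ (t s : G) (K : Subgroup G), BSW t s K := by
  classical
  obtain ⟨g, u, hT, hg, hu, hJ, hinv⟩ := h.exists_K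
  have := Fact.mk Nat.prime_two
  have he := h.lt
  have hK := h.cent_of_J hu.1 hJ hT hg
  have hab := comm_of_inverts hinv
  obtain ⟨⟨t, htK⟩, ht⟩ := exists_prime_orderOf_dvd_card' (G := 𝐂₁ g) 2 (hK ▸ h.even)
  rw [orderOf_mk] at ht
  have hti : t ∈ Inv G := ⟨mul_self_of_orderOf ht, ne_one_of_orderOf (by decide) ht⟩
  have hle : 𝐂₁ g ≤ 𝐂₁ t := le_cent1_iff.2 (abelian_le_cent hab htK)
  have hcard : Nat.card (𝐂₁ t) = 2 * Nat.card (𝐂₁ g) := by rw [h.cent_inv hti, hK]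
  have hut : u ∈ 𝐂₁ t := mem_cent1.2 (mul_inv_eq_iff_eq_mul.1
    ((hinv t htK).trans (inv_eq_of_mul_eq_one_right hti.1)))
  have huK : u ∉ 𝐂₁ g := fun e' => hg (by
    have h' : u * g * u⁻¹ = g⁻¹ := hJ
    rw [mem_cent1.1 e', mul_inv_cancel_right] at h'
    exact eq_inv_iff_mul_eq_one.1 h')
  have hsq : ∀ x ∈ 𝐂₁ t, x ∉ 𝐂₁ g → x * x = 1 := fun x hx hx' => by
    have h1 := hinv _ (mul_mem_of_card hle hcard hut hx huK hx')
    rw [inv_eq_of_mul_eq_one_right hu.1, ← mul_assoc, hu.1, one_mul, eq_inv_iff_mul_eq_one,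
      mul_assoc, ← mul_assoc u, hu.1, one_mul] at h1
    exact h1
  have huniq : ∀ x ∈ 𝐂₁ g, x * x = 1 → x = 1 ∨ x = t := fun x hx h1 => by
    by_contra! h2
    choose! ρ hρ using fun (w : G) (hw : w ∈ Inv G) => isConj_iff.1 (h.isConj hw hti)
    have h3 : ∀ w ∈ T G (2 * e) \ Inv G, ∃ s ∈ Inv G, w ∈ 𝐂₁ s := fun w hw => by
      obtain ⟨⟨s, hs⟩, hs'⟩ := exists_prime_orderOf_dvd_card' (G := 𝐂₁ w) 2 (by
        rcases h.cent_e hw.1 with e' | e' <;> rw [e']
        · exact Dvd.intro _ rfl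
        · exact h.even)
      rw [orderOf_mk] at hs'
      exact ⟨s, ⟨mul_self_of_orderOf hs', ne_one_of_orderOf (by decide) hs'⟩, cent1C.1 hs⟩
    choose! τ hτ hτ' using h3
    have h4 := Set.ncard_le_ncard_of_injOn (s := T G (2 * e) \ Inv G)
      (t := Inv G ×ˢ (((𝐂₁ g : Subgroup G) : Set G) \ {1, t, x}))
      (fun w => (τ w, ρ (τ w) * w * (ρ (τ w))⁻¹)) (fun w hw => by
        have h5 : ρ (τ w) * w * (ρ (τ w))⁻¹ * (ρ (τ w) * w * (ρ (τ w))⁻¹) ≠ 1 := by
          rw [conj_mul]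
          exact conj_ne_one fun e' => hw.2 ⟨e', hw.1.1⟩
        refine ⟨hτ w hw, ?_, ?_⟩
        · by_contra h6
          refine h5 (hsq _ ?_ h6)
          rw [← hρ _ (hτ w hw), mem_cent1, conj_mul, conj_mul, mem_cent1.1 (hτ' w hw)]
        · simp only
          rintro (e' | e' | e') <;> rw [e'] at h5
          · exact h5 (one_mul 1)
          · exact h5 hti.1
          · exact h5 h1)
      (fun w _ w' _ e' => by
        have h5 : τ w = τ w' := congrArg Prod.fst e'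
        have h6 := congrArg Prod.snd e'
        simpa [h5] using h6)
    rw [Set.ncard_prod, Set.ncard_sdiff fun x hx => h.mem_T_of_inv hx, h.ncard_inv,
      h.ncard_eq.2.2, Set.ncard_sdiff (by
        rintro _ (rfl | rfl | rfl)
        · exact one_mem _
        · exact htK
        · exact hx), Set.ncard_eq_three.2 ⟨1, t, x, hti.2.symm, h2.1.symm, h2.2.symm, rfl⟩] at h4
    change _ ≤ q * o * (Nat.card (𝐂₁ g) - 3) at h4
    obtain ⟨d, rfl⟩ : ∃ d, e = d + 3 := ⟨e - 3, by omega⟩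
    rw [hK, show d + 3 - 1 = d + 1 + 1 by omega, mul_add, mul_one, Nat.add_sub_cancel,
      Nat.add_sub_cancel] at h4
    have := Nat.le_of_mul_le_mul_left h4 h.pos
    omega
  have hC : ∀ x ∈ 𝐂₁ g, x * x ≠ 1 → 𝐂₁ x = 𝐂₁ g := fun x hx h1 =>
    (eq_of_le_of_card_ge (le_cent1_iff.2 (abelian_le_cent hab hx)) ((h.cent_of_J hu.1 (hinv x hx)
      ⟨by rintro rfl; exact h1 (one_mul 1), (hK ▸ order_dvdG hx).mul_left 2⟩ h1).trans
        hK.symm).le).symm
  refine ⟨t, u, 𝐂₁ g, hti.1, hti.2, fun a ha b hb => abelian_comm hab ha hb, htK, hu.1, huK, hinv,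
    fun x hx => or_iff_not_imp_left.2 (mul_mem_of_card hle hcard hut (mem_cent1.2 hx) huK), huniq,
    fun k x hx h1 hk => ?_, fun x h1 h2 => h.isConj hti ⟨h1, h2⟩⟩
  have h2 : k * t * k⁻¹ ∈ 𝐂₁ g := by
    by_cases h3 : x * x = 1
    · rwa [← (huniq x hx h3).resolve_left h1]
    · rw [← hC _ hk (by rw [conj_mul]; exact conj_ne_one h3), mem_cent1, conj_mul, conj_mul,
        abelian_comm hab htK hx]
  exact mul_inv_eq_iff_eq_mul.1 ((huniq _ h2 (by rw [conj_mul, hti.1]; group)).resolve_left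
    (conj_ne_one hti.2))

/-- The recognition in odd characteristic. -/
theorem psl2 {p n : ℕ} (hp : p.Prime) (hq : q = p ^ n) {F : Type*} [Field F] [Fintype F]
    (hF : Fintype.card F = q) : Nonempty (G ≃* PSL(2, F)) := by
  have := Fact.mk hp
  obtain ⟨t, s, K, hb⟩ := h.bsw
  obtain ⟨Q, D, hc⟩ := hb.concl
  have hG := h.card
  have hqe := h.q_eq
  have he := h.lt
  have ho : 1 < o := by have := h.adj; omega
  have hD := hc.card_D
  have hG' : 2 * Nat.card G = q * (q + 1) * (q - 1) := by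
    rcases h.adj with e' | e'
    · rw [hG, show q + 1 = 2 * o by omega, show q - 1 = 2 * e by omega]; ring
    · rw [hG, show q + 1 = 2 * e by omega, show q - 1 = 2 * o by omega]; ring
  have hQ : Nat.card Q = q := by
    have h1 := hc.card_G
    rw [hG'] at h1
    rcases lt_trichotomy (Nat.card Q) q with e | e | e
    · exact absurd h1 (Nat.mul_lt_mul_of_lt_of_le (Nat.mul_lt_mul'' e (by omega)) (by omega)
        (by omega)).ne'
    · exact e
    · exact absurd h1 (Nat.mul_lt_mul_of_lt_of_le (Nat.mul_lt_mul'' e (by omega)) (by omega)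
        (by omega)).ne
  have hi : Q.index = 2 * e * o := Nat.eq_of_mul_eq_mul_left (cardG_gt0 Q)
    (by rw [Q.card_mul_index, hQ, hG]; ring)
  have hn : n ≠ 0 := by rintro rfl; rw [pow_zero] at hq; omega
  let P := (IsPGroup.of_card (hQ.trans hq)).toSylow (p := p) fun e => hp.ne_one
    (Nat.eq_one_of_dvd_coprimes (h.cop.2.1.mul_right h.cop.2.2) (hq ▸ dvd_pow_self p hn) (hi ▸ e))
  have hN : Nat.card (Sylow p G) = q + 1 := by
    have h1 := card_sup_mul_card_inf_of_le_normalizer (hc.norm ▸ le_sup_right : D ≤ 𝐍 Q)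
    rw [← hc.norm, hc.disj, card_bot, mul_one] at h1
    have h2 := (𝐍 Q).card_mul_index
    rw [P.card_eq_index_normalizer]
    change (𝐍 Q).index = _
    refine Nat.eq_of_mul_eq_mul_left (Nat.mul_pos two_pos (cardG_gt0 (𝐍 Q))) ?_
    rw [mul_assoc, h2, hG', h1, show q - 1 = 2 * Nat.card D by omega, hQ]
    ring
  have hC : ∀ x ∈ (P : Subgroup G), x ≠ 1 → ∀ y : G, y * x = x * y → y ∈ (P : Subgroup G) :=
    fun x hx h1 y hy => hc.cc.mem_of_comm hx h1 hy
  obtain ⟨k, rfl⟩ := h.even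
  rcases h.adj with e | e
  · exact psl2_of_sylow_of_mod_four hC (k := k) (by omega) (hQ.trans (by omega)) (by omega)
      (by rw [hG, hqe, e]; ring) (by omega)
  have hz := z2_of_sylow hC (hN.trans (by rw [← hQ]; rfl)) (by change 1 < Nat.card Q; omega)
  obtain ⟨b, hb, -⟩ := exists_ne_ne_of_three_le (Ω := Sylow p G) (by omega) P P
  have h1 := hz.card_group hb.symm
  rw [hG, hN, Nat.add_sub_cancel, show q + 1 = 2 * (2 * k) by omega, Nat.mul_right_inj (by omega),
    Nat.mul_right_inj (by omega)] at h1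
  obtain ⟨K, _, _, hK, ⟨f⟩⟩ := hz.exists_psl hb.symm (by omega) (fun s h2 h3 => by
    have h4 : s * s ∈ MulAction.stabilizer G P ⊓ MulAction.stabilizer G b :=
      ⟨by simp [mul_smul, h2, h3], by simp [mul_smul, h2, h3]⟩
    rcases iso_of (fun g => or_left_comm.1 (h.ord g)) h.cop.2.1.symm h.cop.1 s with h5 | h5
    · exact orderOf_eq_one_iff.1 (Nat.eq_one_of_dvd_coprimes h.cop.1
        (((_root_.sq s ▸ orderOf_pow_dvd 2)).trans h5) (h1 ▸ order_dvdG h4))
    · obtain ⟨m, hm⟩ := exists_pow_eq_self_of_coprime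
        (h5.coprime_dvd_right (Dvd.intro _ rfl)).symm
      exact absurd (h2.symm.trans (hm ▸ pow_mem (_root_.sq s ▸ h4.1) m :)) hb) (by omega)
  obtain ⟨e'⟩ := Class.nonempty_ringEquiv_of_card_eq (F := K) (K := F) (by omega)
  exact ⟨f.trans (Class.pslEquiv (Fin 2) e')⟩

end CH

end Cfsg.Lib.Recog.ClsL2
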