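import Cfsg.Agent.Recog.ClsL2A
import Cfsg.Agent.CITCor.ClsSSC
import Cfsg.Agent.Known.PSL2Basic
import Cfsg.Agent.Known.SL2Sylow
import Cfsg.Agent.Trans.CentralTransfer
import Mathlib.LinearAlgebra.Projectivization.PSL.PSL2

/-!
# Groups with the class sizes of `PSL₂(q)`
-/

set_option autoImplicit false

namespace Cfsg.Lib.Recog.ClsL2

open Cfsg.Lib.FT Cfsg.Lib.GW Cfsg.Lib.Known Cfsg.Lib.Perm Cfsg.Lib.Solv Subgroup Matrix
  MatrixGroups Pointwise Cfsg.Lib.Recog.Tri Cfsg.Lib.Solv.ClassSize Cfsg.Lib.CITCor.Cls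

open scoped commutatorElement

variable {G : Type*} [Group G] [Finite G]

/-- The class sizes are `1, km, qk, qm, cqm`. -/
structure CS (G : Type*) [Group G] (p n q k m c : ℕ) : Prop where
  hp : p.Prime
  hn : n ≠ 0
  hq : q = p ^ n
  qk : q.Coprime k
  qm : q.Coprime m
  km : k.Coprime m
  cc : c = 1 ∨ c = 2
  ck : c ∣ k
  lt : c < k
  m1 : 1 < m
  idx : ∀ g : G, g ∉ center G → (𝐂₁ g).index = k * m ∨ (𝐂₁ g).index = q * k ∨
    (𝐂₁ g).index = q * m ∨ (𝐂₁ g).index = c * (q * m)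
  exA : ∃ g : G, (𝐂₁ g).index = k * m
  exD : ∃ g : G, (𝐂₁ g).index = q * k
  exB : ∃ g : G, (𝐂₁ g).index = q * m

theorem eq_of_index_eq {A B : Subgroup G} (hle : A ≤ B) (h : A.index = B.index) : A = B := by
  have h1 := relIndex_mul_index hle
  rw [h, Nat.mul_eq_right index_ne_zero_of_finite, relIndex_eq_one] at h1
  exact le_antisymm hle h1

namespace CS

variable {p n q k m c : ℕ} (h : CS G p n q k m c)
include h

omit [Finite G] in
theorem pq : p ∣ q := h.hq ▸ dvd_pow_self p h.hn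

omit [Finite G] in
theorem c_pos : 0 < c := by rcases h.cc with e | e <;> omega

omit [Finite G] in
theorem pkm : ¬ p ∣ k * m := fun e =>
  h.hp.ne_one (Nat.eq_one_of_dvd_coprimes (h.qk.mul_right h.qm) h.pq e)

omit [Finite G] in
theorem not_k : ¬ k ∣ c * (q * m) := fun e => absurd (Nat.le_of_dvd h.c_pos
  ((h.qk.symm.mul_right h.km).dvd_of_dvd_mul_right e)) (by have := h.lt; omega)

omit [Finite G] in
theorem not_m : ¬ m ∣ q * k := fun e => absurd (Nat.eq_one_of_dvd_coprimes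
  (h.qm.symm.mul_right h.km.symm) dvd_rfl e) h.m1.ne'

omit [Finite G] in
theorem nc {g : G} {a : ℕ} (ha : a = k ∨ a = m) (hg : a ∣ (𝐂₁ g).index) : g ∉ center G := fun e => by
  rw [index_cent_eq_one_iff.2 e, Nat.dvd_one] at hg
  have := h.lt
  have := h.c_pos
  have := h.m1
  omega

omit [Finite G] in
theorem isA {g : G} (hg : g ∉ center G) (hd : ¬ p ∣ (𝐂₁ g).index) : (𝐂₁ g).index = k * m := by
  rcases h.idx g hg with e | e | e | e
  · exact e
  · exact absurd (e ▸ h.pq.mul_right _) hd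
  · exact absurd (e ▸ h.pq.mul_right _) hd
  · exact absurd (e ▸ (h.pq.mul_right _).mul_left _) hd

theorem maxA {x y : G} (hx : (𝐂₁ x).index = k * m) (hy : y ∉ center G) (hle : 𝐂₁ x ≤ 𝐂₁ y) :
    (𝐂₁ y).index = k * m :=
  h.isA hy fun e => h.pkm (hx ▸ e.trans (index_dvd_of_le hle))

/-- Elements of coprime order in the centraliser of an element of type `A` are central in it. -/
theorem minA {x u : G} (hx : (𝐂₁ x).index = k * m) (hu : u ∈ 𝐂₁ x)
    (hc : (orderOf x).Coprime (orderOf u)) : 𝐂₁ x ≤ 𝐂₁ u := by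
  have hcm : Commute x u := (mem_cent1.1 hu).symm
  have h1 := cent_mul_of_coprime hcm hc
  have h2 : 𝐂₁ (x * u) ≤ 𝐂₁ x := h1 ▸ inf_le_left
  have h3 := index_dvd_of_le h2
  rw [hx] at h3
  have h4 : (𝐂₁ (x * u)).index = k * m := by
    rcases h.idx _ (mul_not_mem_center (h.nc (Or.inl rfl) (hx ▸ Dvd.intro _ rfl)) hcm hc) with
      e | e | e | e
    · exact e
    · exact absurd ((Dvd.intro_left _ rfl).trans (e ▸ h3)) h.not_m
    · exact absurd (((Dvd.intro _ rfl).trans (e ▸ h3)).mul_left c) h.not_k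
    · exact absurd ((Dvd.intro _ rfl).trans (e ▸ h3)) h.not_k
  exact eq_of_index_eq h2 (h4.trans hx.symm) ▸ h1 ▸ inf_le_right

/-- A primary element of type `A` is a `p`-element. -/
theorem eq_p {v : G} (hv : (𝐂₁ v).index = k * m) {r j : ℕ} (hr : r.Prime) (hj : orderOf v = r ^ j) :
    r = p := by
  by_contra hne
  obtain ⟨d, hd⟩ := h.exD
  obtain ⟨b, hb⟩ := h.exB
  obtain ⟨w, hw, hwZ, i, hi⟩ : ∃ w ∈ 𝐂₁ v, w ∉ center G ∧ ∃ i, orderOf w = p ^ i := by
    refine exists_not_mem_of_dvd_relIndex h.hp ?_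
    have h1 := (relIndex_mul_index (center_le_cent v)).trans
      (relIndex_mul_index (center_le_cent d)).symm
    rw [hv, hd] at h1
    exact ((Nat.Prime.dvd_mul h.hp).1 (h1 ▸ (h.pq.mul_right _).mul_left _)).resolve_right h.pkm
  have h1 := h.minA hv hw (coprime_orderOf_of_ne hr h.hp hne hj hi)
  have h2 := h.maxA hv hwZ h1
  have h3 := eq_of_index_eq h1 (hv.trans h2.symm)
  have h4 : ∀ x ∈ 𝐂₁ v, 𝐂₁ v ≤ 𝐂₁ x := fun x hx => le_cent_of_forall_primary fun s i' y hs hy hi' => by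
    have hy' := zpowers_le.2 hx hy
    by_cases e : s = p
    · exact h.minA hv hy' (coprime_orderOf_of_ne hr hs (e ▸ hne) hj hi')
    · rw [h3] at hy' ⊢
      exact h.minA h2 hy' (coprime_orderOf_of_ne h.hp hs (Ne.symm e) hi hi')
  have h5 : ∀ y : G, p ∣ (𝐂₁ y).index → r ∣ (𝐂₁ y).index := fun y hy => by
    by_contra h5
    obtain ⟨g, hg⟩ := exists_conj_mem_of_not_dvd hr h5 hj
    have h6 : g⁻¹ * y * g⁻¹⁻¹ ∈ 𝐂₁ v := by
      rw [mem_cent1] at hg ⊢
      calc g⁻¹ * y * g⁻¹⁻¹ * v = g⁻¹ * (y * (g * v * g⁻¹)) * g := by group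
        _ = g⁻¹ * (g * v * g⁻¹ * y) * g := by rw [hg]
        _ = _ := by group
    have h7 := index_dvd_of_le (h4 _ h6)
    rw [index_cent_conj, hv] at h7
    exact h.pkm (hy.trans h7)
  have hrq : r.Coprime q := h.hq ▸ ((Nat.coprime_primes hr h.hp).2 hne).pow_right n
  exact hr.ne_one (Nat.eq_one_of_dvd_coprimes h.km
    (hrq.dvd_of_dvd_mul_left (hd ▸ h5 d (hd ▸ h.pq.mul_right _)))
    (hrq.dvd_of_dvd_mul_left (hb ▸ h5 b (hb ▸ h.pq.mul_right _))))

theorem central {w v : G} (hw : (𝐂₁ w).index = k * m) {i : ℕ} (hi : orderOf w = p ^ i)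
    (hv : v ∈ 𝐂₁ w) {r j : ℕ} (hr : r.Prime) (hne : r ≠ p) (hj : orderOf v = r ^ j) :
    v ∈ center G := by
  by_contra hZ
  exact hne (h.eq_p (h.maxA hw hZ (h.minA hw hv
    (coprime_orderOf_of_ne h.hp hr hne.symm hi hj))) hr hj)

theorem exists_w : ∃ (w : G) (i : ℕ), (𝐂₁ w).index = k * m ∧ orderOf w = p ^ i := by
  obtain ⟨a, ha⟩ := h.exA
  obtain ⟨r, i, w, hr, -, hw, hi, hZ⟩ :=
    exists_primary_not_mem (h.nc (Or.inl rfl) (ha ▸ Dvd.intro _ rfl))
  have := h.maxA ha hZ (cent_le_cent_of_mem_zpowers hw)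
  exact ⟨w, i, this, h.eq_p this hr hi ▸ hi⟩

theorem exists_index : ∃ j, (center G).index = p ^ j * (k * m) := by
  obtain ⟨w, i, hw, hi⟩ := h.exists_w
  have h1 := Nat.eq_prime_pow_of_unique_prime_dvd (n := (center G).relIndex (𝐂₁ w)) (p := p)
    index_ne_zero_of_finite fun {r} hr hd => by
      by_contra hne
      obtain ⟨v, hv, hZ, j, hj⟩ := exists_not_mem_of_dvd_relIndex hr hd
      exact hZ (h.central hw hi hv hr hne hj)
  exact ⟨_, by rw [← h1, ← hw, relIndex_mul_index (center_le_cent w)]⟩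

theorem mem_of_relIndex {A B : Subgroup G} (hd : A.relIndex B ∣ c) {w : G} (hw : w ∈ B)
    (hc : (orderOf w).Coprime c) : w ∈ A := by
  rcases h.cc with rfl | rfl
  · exact relIndex_eq_one.1 (Nat.dvd_one.1 hd) hw
  rcases (Nat.dvd_prime Nat.prime_two).1 hd with e | e
  · exact relIndex_eq_one.1 e hw
  obtain ⟨l, hl⟩ := exists_pow_eq_self_of_coprime hc.symm
  have := mul_self_mem_of_index_two e ⟨w, hw⟩
  exact hl ▸ pow_mem (sq w ▸ this) l

/-- All non-central `p`-elements have type `A`. -/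
theorem typeA {x : G} (hZ : x ∉ center G) {i : ℕ} (hi : orderOf x = p ^ i) :
    (𝐂₁ x).index = k * m := by
  by_contra hne
  obtain ⟨w₀, i₀, hw₀, hi₀⟩ := h.exists_w
  obtain ⟨g, hg⟩ := exists_conj_mem_of_not_dvd h.hp (hw₀ ▸ h.pkm) hi
  have hw : (𝐂₁ (g⁻¹ * w₀ * g⁻¹⁻¹)).index = k * m := by rw [index_cent_conj, hw₀]
  have hwi : orderOf (g⁻¹ * w₀ * g⁻¹⁻¹) = p ^ i₀ := by rw [orderOf_conj', hi₀]
  have hwx : g⁻¹ * w₀ * g⁻¹⁻¹ ∈ 𝐂₁ x := by
    rw [mem_cent1] at hg ⊢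
    calc g⁻¹ * w₀ * g⁻¹⁻¹ * x = g⁻¹ * (w₀ * (g * x * g⁻¹)) * g := by group
      _ = g⁻¹ * (g * x * g⁻¹ * w₀) * g := by rw [hg]
      _ = _ := by group
  generalize g⁻¹ * w₀ * g⁻¹⁻¹ = w at hw hwi hwx
  obtain ⟨j, hj⟩ := h.exists_index
  have h1 := relIndex_mul_index (center_le_cent x)
  rw [hj] at h1
  have hx := (h.idx x hZ).resolve_left hne
  obtain ⟨r, hr, hrp, hd⟩ : ∃ r, r.Prime ∧ r ≠ p ∧ r ∣ (center G).relIndex (𝐂₁ x) := by
    obtain ⟨k', hk'⟩ := h.ck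
    have hk1 : k' ≠ 1 := by rintro rfl; have := h.lt; omega
    rcases hx with e | e
    · obtain ⟨r, hr, hd⟩ := Nat.exists_prime_and_dvd h.m1.ne'
      refine ⟨r, hr, fun e' => h.pkm (e' ▸ hd.mul_left _), hd.trans
        ((h.qm.symm.mul_right h.km.symm).dvd_of_dvd_mul_right ?_)⟩
      rw [← e, h1]
      exact (Dvd.intro_left _ rfl).mul_left _
    · obtain ⟨r, hr, hd⟩ := Nat.exists_prime_and_dvd hk1
      refine ⟨r, hr, fun e' => h.pkm (e' ▸ (hk' ▸ hd.mul_left _).mul_right _), hd.trans ?_⟩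
      have h2 : k ∣ (center G).relIndex (𝐂₁ x) * (c * (q * m)) := by
        have : k ∣ (center G).relIndex (𝐂₁ x) * (𝐂₁ x).index :=
          h1 ▸ (Dvd.intro _ rfl).mul_left _
        rcases e with e | e <;> rw [e] at this
        · exact this.trans (mul_dvd_mul_left _ (Dvd.intro_left _ rfl))
        · exact this
      rw [← mul_assoc] at h2
      have h3 := (h.qk.symm.mul_right h.km).dvd_of_dvd_mul_right h2
      rw [hk', mul_comm] at h3
      exact Nat.dvd_of_mul_dvd_mul_right h.c_pos h3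
  obtain ⟨v, hv, hvZ, l, hl⟩ := exists_not_mem_of_dvd_relIndex hr hd
  have hcm : Commute x v := (mem_cent1.1 hv).symm
  have hc := coprime_orderOf_of_ne h.hp hr hrp.symm hi hl
  have h2 := cent_mul_of_coprime hcm hc
  have h3 : 𝐂₁ (x * v) ≤ 𝐂₁ x := h2 ▸ inf_le_left
  have h4 := relIndex_mul_index h3
  have h5 : (𝐂₁ (x * v)).relIndex (𝐂₁ x) ∣ c := by
    have hq : 0 < q := h.hq ▸ pow_pos h.hp.pos n
    have hk : 0 < k := by have := h.lt; omega
    have hm : 0 < m := by have := h.m1; omega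
    have hy := h.idx _ (mul_not_mem_center hZ hcm hc)
    have h6 := index_dvd_of_le h3
    rcases hx with e | e | e <;> rw [e] at h4 h6 <;> rcases hy with e' | e' | e' | e' <;>
      rw [e'] at h4 h6
    · exact absurd ((h.pq.mul_right _).trans h6) h.pkm
    · rw [Nat.mul_eq_right (by positivity)] at h4; exact h4 ▸ one_dvd _
    · exact absurd (((Dvd.intro_left _ rfl).trans h6).mul_left c) h.not_k
    · exact absurd ((Dvd.intro_left _ rfl).trans h6) h.not_k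
    · exact absurd ((h.pq.mul_right _).trans h6) h.pkm
    · exact absurd ((Dvd.intro_left _ rfl).trans h6) h.not_m
    · rw [Nat.mul_eq_right (by positivity)] at h4; exact h4 ▸ one_dvd _
    · exact (Nat.eq_of_mul_eq_mul_right (by positivity) h4).dvd
    · exact absurd (((h.pq.mul_right _).mul_left _).trans h6) h.pkm
    · exact absurd (((Dvd.intro_left _ rfl).mul_left _).trans h6) h.not_m
    · rw [← mul_assoc, Nat.mul_eq_right (by positivity)] at h4
      exact (Nat.eq_one_of_mul_eq_one_right h4) ▸ one_dvd _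
    · rw [Nat.mul_eq_right (by have := h.c_pos; positivity)] at h4; exact h4 ▸ one_dvd _
  have h6 := h.mem_of_relIndex h5 hwx (hwi ▸ Nat.Coprime.pow_left _
    ((h.qk.coprime_dvd_left h.pq).coprime_dvd_right h.ck))
  exact hvZ (h.central hw hwi (cent1C.1 (h2 ▸ h6).2) hr hrp hl)

theorem exists_b : ∃ b : G, (𝐂₁ b).index = q * m ∧ ¬ p ∣ (center G).relIndex (𝐂₁ b) := by
  obtain ⟨a, ha⟩ := h.exB
  obtain ⟨r, i, b, hr, -, hb, hi, hZ⟩ :=
    exists_primary_not_mem (h.nc (Or.inr rfl) (ha ▸ Dvd.intro_left _ rfl))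
  have h1 := ha ▸ index_cent_dvd_of_mem_zpowers hb
  have h2 : (𝐂₁ b).index = q * m := by
    rcases h.idx b hZ with e | e | e | e
    · exact absurd (((Dvd.intro _ rfl).trans (e ▸ h1)).mul_left c) h.not_k
    · exact absurd (((Dvd.intro_left _ rfl).trans (e ▸ h1)).mul_left c) h.not_k
    · exact e
    · exact Nat.dvd_antisymm h1 (e ▸ Dvd.intro_left _ rfl)
  refine ⟨b, h2, fun hd => ?_⟩
  obtain ⟨x, hx, hxZ, j, hj⟩ := exists_not_mem_of_dvd_relIndex h.hp hd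
  refine hZ (h.central (h.typeA hxZ hj) hj (cent1C.1 hx) hr ?_ hi)
  rintro rfl
  exact h.pkm (h.typeA hZ hi ▸ h2 ▸ h.pq.mul_right _)

theorem index_center : (center G).index = q * (k * m) := by
  obtain ⟨j, hj⟩ := h.exists_index
  obtain ⟨b, hb, hd⟩ := h.exists_b
  have h1 := relIndex_mul_index (center_le_cent b)
  rw [hj, hb] at h1
  rw [hj]
  congr 1
  refine Nat.dvd_antisymm ?_ ((h.qk.mul_right h.qm).dvd_of_dvd_mul_right
    (h1 ▸ (Dvd.intro _ rfl).mul_left _))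
  have h2 : p ^ j ∣ (center G).relIndex (𝐂₁ b) * (q * m) := h1 ▸ Dvd.intro _ rfl
  exact (((h.qm.coprime_dvd_left h.pq).pow_left j)).dvd_of_dvd_mul_right
    ((((Nat.Prime.coprime_iff_not_dvd h.hp).2 hd).pow_left j).dvd_of_dvd_mul_left h2)

theorem card_quot : Nat.card (G ⧸ center G) = q * (k * m) := h.index_center

theorem ord_dvd (g : G) : orderOf (g : G ⧸ center G) ∣ (center G).relIndex (𝐂₁ g) := by
  rw [orderOf_dvd_iff_pow_eq_one, ← QuotientGroup.mk_pow, QuotientGroup.eq_one_iff]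
  exact pow_relIndex_mem _ (cent1id g)

theorem rel_cases {g : G} (hg : g ∉ center G) :
    ((𝐂₁ g).index = k * m ∧ orderOf (g : G ⧸ center G) ∣ q) ∨
    ((𝐂₁ g).index = q * k ∧ orderOf (g : G ⧸ center G) ∣ m) ∨
    (((𝐂₁ g).index = q * m ∨ (𝐂₁ g).index = c * (q * m)) ∧ orderOf (g : G ⧸ center G) ∣ k) := by
  have h1 := relIndex_mul_index (center_le_cent g)
  have h2 := h.ord_dvd g
  have h3 : (𝐂₁ g).index ≠ 0 := index_ne_zero_of_finite
  rw [h.index_center] at h1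
  rcases h.idx g hg with e | e | e | e <;> rw [e] at h1 h3
  · exact Or.inl ⟨e, Nat.eq_of_mul_eq_mul_right (Nat.pos_of_ne_zero h3) h1 ▸ h2⟩
  · exact Or.inr (Or.inl ⟨e, h2.trans (Nat.eq_of_mul_eq_mul_right (Nat.pos_of_ne_zero h3)
      (h1.trans (by ring))).dvd⟩)
  · exact Or.inr (Or.inr ⟨Or.inl e, h2.trans (Nat.eq_of_mul_eq_mul_right (Nat.pos_of_ne_zero h3)
      (h1.trans (by ring))).dvd⟩)
  · refine Or.inr (Or.inr ⟨Or.inr e, h2.trans (Dvd.intro c (Nat.eq_of_mul_eq_mul_right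
      (Nat.pos_of_ne_zero (right_ne_zero_of_mul h3)) ?_))⟩)
    rw [mul_assoc, h1]; ring

theorem ord (x : G ⧸ center G) : orderOf x ∣ q ∨ orderOf x ∣ k ∨ orderOf x ∣ m := by
  obtain ⟨g, rfl⟩ := QuotientGroup.mk_surjective x
  by_cases hg : g ∈ center G
  · rw [(QuotientGroup.eq_one_iff g).2 hg]; simp
  rcases h.rel_cases hg with e | e | e
  · exact Or.inl e.2
  · exact Or.inr (Or.inr e.2)
  · exact Or.inr (Or.inl e.2)

/-- The class sizes in the central quotient. -/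
theorem index_mk {g : G} (hg : g ∉ center G) :
    (𝐂₁ (g : G ⧸ center G)).index = (𝐂₁ g).index ∨
      ((𝐂₁ (g : G ⧸ center G)).index = q * m ∧ (𝐂₁ g).index = c * (q * m)) := by
  have h1 := index_cent_mk_dvd (center G) g
  have h2 := (𝐂₁ (g : G ⧸ center G)).card_mul_index
  have hg1 : (g : G ⧸ center G) ≠ 1 := mt (QuotientGroup.eq_one_iff g).1 hg
  have key : ∀ {a b : ℕ}, Nat.card (G ⧸ center G) = a * b → Nat.card (𝐂₁ (g : G ⧸ center G)) ∣ a →
      b ∣ (𝐂₁ (g : G ⧸ center G)).index := fun {a b} e ⟨t, ht⟩ => by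
    rw [e, ht, mul_assoc, Nat.mul_right_inj (cardG_ne0 _)] at h2
    exact h2 ▸ Dvd.intro_left _ rfl
  have hG := h.card_quot
  rcases h.rel_cases hg with ⟨e, e'⟩ | ⟨e, e'⟩ | ⟨e, e'⟩
  · exact Or.inl (Nat.dvd_antisymm h1 (e ▸ key hG ((iso_of h.ord h.qk h.qm).card_dvd
      (h.qk.mul_right h.qm) hG ⟨hg1, e'⟩)))
  · have hG' : Nat.card (G ⧸ center G) = m * (q * k) := by rw [hG]; ring
    exact Or.inl (Nat.dvd_antisymm h1 (e ▸ key hG' ((iso_of (fun g => or_rotate.2 (h.ord g))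
      h.qm.symm h.km.symm).card_dvd (h.qm.symm.mul_right h.km.symm) hG' ⟨hg1, e'⟩)))
  · have hG' : Nat.card (G ⧸ center G) = k * (q * m) := by rw [hG]; ring
    have h3 := key hG' ((iso_of (fun g => or_left_comm.1 (h.ord g))
      h.qk.symm h.km).card_dvd (h.qk.symm.mul_right h.km) hG' ⟨hg1, e'⟩)
    rcases e with e | e
    · exact Or.inl (Nat.dvd_antisymm h1 (e ▸ h3))
    obtain ⟨t, ht⟩ := h3
    have h4 : q * m ≠ 0 := left_ne_zero_of_mul (ht ▸ index_ne_zero_of_finite)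
    rw [e, ht, mul_comm c] at h1
    have h5 := Nat.dvd_of_mul_dvd_mul_left (Nat.pos_of_ne_zero h4) h1
    rcases h.cc with rfl | rfl
    · exact Or.inr ⟨by rw [ht, Nat.dvd_one.1 h5, mul_one], e⟩
    rcases (Nat.dvd_prime Nat.prime_two).1 h5 with rfl | rfl
    · exact Or.inr ⟨by rw [ht, mul_one], e⟩
    · exact Or.inl (by rw [ht, e, mul_comm])

theorem exists_mk {x : G ⧸ center G} (hx : x ≠ 1) : ∃ g : G, g ∉ center G ∧ (g : G ⧸ center G) = x := by
  obtain ⟨g, rfl⟩ := QuotientGroup.mk_surjective x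
  exact ⟨g, mt (QuotientGroup.eq_one_iff g).2 hx, rfl⟩

theorem card_cent {x : G ⧸ center G} (hx : x ≠ 1) : Nat.card (𝐂₁ x) = q ∨ Nat.card (𝐂₁ x) = m ∨
    Nat.card (𝐂₁ x) = k ∨ c * Nat.card (𝐂₁ x) = k := by
  obtain ⟨g, hg, rfl⟩ := h.exists_mk hx
  have h1 := (𝐂₁ (g : G ⧸ center G)).card_mul_index
  have h2 : 0 < (𝐂₁ (g : G ⧸ center G)).index := Nat.pos_of_ne_zero index_ne_zero_of_finite
  rw [h.card_quot] at h1
  have h3 : (𝐂₁ (g : G ⧸ center G)).index = k * m ∨ (𝐂₁ (g : G ⧸ center G)).index = q * k ∨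
      (𝐂₁ (g : G ⧸ center G)).index = q * m ∨ (𝐂₁ (g : G ⧸ center G)).index = c * (q * m) := by
    rcases h.index_mk hg with e | e
    · exact e ▸ h.idx g hg
    · exact Or.inr (Or.inr (Or.inl e.1))
  rcases h3 with e | e | e | e <;> rw [e] at h1 h2
  · exact Or.inl (Nat.eq_of_mul_eq_mul_right h2 h1)
  · exact Or.inr (Or.inl (Nat.eq_of_mul_eq_mul_right h2 (h1.trans (by ring))))
  · exact Or.inr (Or.inr (Or.inl (Nat.eq_of_mul_eq_mul_right h2 (h1.trans (by ring)))))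
  · refine Or.inr (Or.inr (Or.inr (Nat.eq_of_mul_eq_mul_right (Nat.pos_of_mul_pos_left h2) ?_)))
    rw [mul_comm c, mul_assoc, h1]; ring

end CS

/-- Commuting elements of the central quotient have commuting lifts. -/
def CL (G : Type*) [Group G] : Prop :=
  ∀ x y : G, (x : G ⧸ center G) * y = y * x → x * y = y * x

theorem CL_eq_1' : type_of% @CL.eq_1 := @CL.eq_1

theorem cl_of_index (h : ∀ g : G, g ∉ center G → (𝐂₁ (g : G ⧸ center G)).index = (𝐂₁ g).index) :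
    CL G := fun x y hxy => by
  by_cases hy : y ∈ center G
  · exact mem_center_iff.1 hy x
  have h1 := eq_of_index_eq (cent_le_comap (QuotientGroup.mk' (center G)) y) (by
    rw [index_comap_of_surjective _ (QuotientGroup.mk'_surjective _)]
    exact (h y hy).symm)
  exact mem_cent1.1 (h1 ▸ mem_cent1.2 hxy)

open Known.GL2 in
theorem psl2_comm {F : Type*} [Field F] {x y z : PSL(2, F)} (hx : x ≠ 1)
    (h2 : (2 : F) = 0 ∨ x * x ≠ 1) (hy : y ∈ 𝐂₁ x) (hz : z ∈ 𝐂₁ x) : y * z = z * y := by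
  obtain ⟨x, rfl⟩ := piSL_surjective x
  obtain ⟨y, rfl⟩ := piSL_surjective y
  obtain ⟨z, rfl⟩ := piSL_surjective z
  have h3 := comap_centralizer_piSL_of_trace (g := x)
    (h2.imp_right fun e e' => e (piSL_mul_self_eq_one_iff.2 (Or.inr e')))
  rw [← map_mul, ← map_mul, (slLin F).centralizer_comm (mt piSL_eq_one_iff.2 hx) (h3 ▸ hy)
    (h3 ▸ hz)]

theorem sylow_comm (h : CL G) {F : Type*} [Field F] (e : G ⧸ center G ≃* PSL(2, F)) {r : ℕ}
    [hr : Fact r.Prime] (h2 : (2 : F) = 0 ∨ r ≠ 2) (P : Sylow r G) :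
    IsMulCommutative (P : Subgroup G) := by
  let f := e.toMonoidHom.comp (QuotientGroup.mk' (center G))
  have hP : IsPGroup r ((P : Subgroup G).map f) := P.isPGroup'.map f
  have : Finite PSL(2, F) := Finite.of_equiv _ e.toEquiv
  refine abelian_iff.2 fun y hy => mem_cent.2 fun x hx => h x y (e.injective ?_)
  rw [map_mul, map_mul]
  rcases subsingleton_or_nontrivial ((P : Subgroup G).map f) with hs | hs
  · have h1 : f x = 1 := congrArg Subtype.val
      (Subsingleton.elim (⟨f x, mem_map_of_mem f hx⟩ : (P : Subgroup G).map f) 1)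
    rw [show e x = 1 from h1, one_mul, mul_one]
  have := hP.center_nontrivial
  obtain ⟨⟨⟨z, hz⟩, hz'⟩, hz1⟩ := exists_ne (1 : center ((P : Subgroup G).map f))
  have hz2 : z ≠ 1 := fun e' => hz1 (Subtype.ext (Subtype.ext e'))
  have hc : ∀ x ∈ (P : Subgroup G), f x ∈ 𝐂₁ z := fun x hx => mem_cent1.2
    (congrArg Subtype.val (mem_center_iff.1 hz' ⟨f x, mem_map_of_mem f hx⟩))
  refine psl2_comm hz2 (h2.imp_right fun hr2 e' => ?_) (hc x hx) (hc y hy)
  obtain ⟨j, hj⟩ := IsPGroup.iff_orderOf.1 hP ⟨z, hz⟩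
  rw [orderOf_mk, orderOf_eq_two e' hz2] at hj
  exact hr2 ((Nat.prime_dvd_prime_iff_eq Nat.prime_two hr.out).1
    (Nat.prime_two.dvd_of_dvd_pow hj.dvd)).symm

/-- The generalised dihedral centraliser contributes nothing to the multiplier. -/
theorem center_inf_eq_bot (h : CL G) {t s : G} {K : Subgroup (G ⧸ center G)}
    (hb : BSW (t : G ⧸ center G) s K) : center G ⊓ ⁅𝐂₁ t, 𝐂₁ t⁆ = ⊥ := by
  let A := K.comap (QuotientGroup.mk' (center G))
  have hA : ∀ x ∈ A, ∀ y ∈ A, x * y = y * x := fun x hx y hy => h x y (hb.comm _ hx _ hy)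
  have hs : ∀ x ∈ A, s * x * s⁻¹ ∈ A := fun x hx => by
    change ((s * x * s⁻¹ : G) : G ⧸ center G) ∈ K
    rw [QuotientGroup.mk_mul, QuotientGroup.mk_mul, QuotientGroup.mk_inv, hb.inv (x : G ⧸ center G) hx]
    exact inv_mem hx
  let N : Subgroup G :=
    { carrier := {y | ∃ x ∈ A, y = x⁻¹ * (s * x * s⁻¹)}
      one_mem' := ⟨1, one_mem _, by group⟩
      mul_mem' := by
        rintro _ _ ⟨x, hx, rfl⟩ ⟨y, hy, rfl⟩
        refine ⟨x * y, mul_mem hx hy, ?_⟩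
        calc x⁻¹ * (s * x * s⁻¹) * (y⁻¹ * (s * y * s⁻¹))
            = x⁻¹ * (s * x * s⁻¹) * y⁻¹ * (s * y * s⁻¹) := by group
          _ = y⁻¹ * (x⁻¹ * (s * x * s⁻¹)) * (s * y * s⁻¹) := by
            rw [hA _ (mul_mem (inv_mem hx) (hs x hx)) _ (inv_mem hy)]
          _ = _ := by group
      inv_mem' := by
        rintro _ ⟨x, hx, rfl⟩
        refine ⟨x⁻¹, inv_mem hx, ?_⟩
        rw [hA _ (inv_mem (inv_mem hx)) _ (hs _ (inv_mem hx))]
        group }
  have hC : ∀ a ∈ 𝐂₁ t, a ∈ A ∨ ∃ x ∈ A, a = s * x := fun a ha => by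
    refine (hb.memC a (by rw [← QuotientGroup.mk_mul, mem_cent1.1 ha]; rfl)).imp_right
      fun h1 => ⟨s⁻¹ * a, ?_, by group⟩
    change ((s⁻¹ * a : G) : G ⧸ center G) ∈ K
    rwa [QuotientGroup.mk_mul, QuotientGroup.mk_inv, hb.s_inv]
  have h1 : ∀ x ∈ A, ∀ y ∈ A, ⁅x, s * y⁆ ∈ N := fun x hx y hy => ⟨x⁻¹, inv_mem hx, by
    calc ⁅x, s * y⁆ = x * s * (y * x⁻¹) * y⁻¹ * s⁻¹ := by rw [commutatorElement_def]; group
      _ = x * s * (x⁻¹ * y) * y⁻¹ * s⁻¹ := by rw [hA _ hy _ (inv_mem hx)]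
      _ = _ := by group⟩
  have hN : ⁅𝐂₁ t, 𝐂₁ t⁆ ≤ N := commutator_le.2 fun a ha b hb' => by
    rcases hC a ha with ha | ⟨x, hx, rfl⟩ <;> rcases hC b hb' with hb' | ⟨y, hy, rfl⟩
    · rw [commutatorElement_eq_one_iff_mul_comm.2 (hA a ha b hb')]; exact one_mem _
    · exact h1 a ha y hy
    · rw [← commutatorElement_inv]; exact inv_mem (h1 b hb' x hx)
    · refine ⟨s * (y * x⁻¹) * s⁻¹, hs _ (mul_mem hy (inv_mem hx)), ?_⟩
      calc ⁅s * x, s * y⁆ = s * x * (s * (y * x⁻¹) * s⁻¹ * y⁻¹) * s⁻¹ := by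
            rw [commutatorElement_def]; group
        _ = s * x * (y⁻¹ * (s * (y * x⁻¹) * s⁻¹)) * s⁻¹ := by
            rw [hA _ (hs _ (mul_mem hy (inv_mem hx))) _ (inv_mem hy)]
        _ = _ := by group
  refine eq_bot_iff.2 fun z ⟨hz, hz'⟩ => ?_
  obtain ⟨x, hx, rfl⟩ := hN hz'
  have h2 := (QuotientGroup.eq_one_iff _).2 hz
  rw [QuotientGroup.mk_mul, QuotientGroup.mk_mul, QuotientGroup.mk_mul, QuotientGroup.mk_inv,
    QuotientGroup.mk_inv, hb.inv (x : G ⧸ center G) hx, ← _root_.mul_inv_rev, inv_eq_one] at h2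
  have h3 : s * x = x * s := h s x (by
    rcases hb.invol _ hx h2 with e | e
    · rw [show (x : G ⧸ center G) = 1 from e, one_mul, mul_one]
    · rw [show (x : G ⧸ center G) = t from e, hb.s_comm])
  rw [mem_bot, h3]
  group

theorem split_of (h : ∀ (r : ℕ) [Fact r.Prime], ∃ P : Sylow r G, center G ⊓ ⁅(P : Subgroup G),
    (P : Subgroup G)⁆ = ⊥) {L : Type*} [Group L] (e : G ⧸ center G ≃* L) (hL : commutator L = ⊤) :
    ∃ N A : Subgroup G, N.Normal ∧ A ≤ center G ∧ N ⊓ A = ⊥ ∧ N ⊔ A = ⊤ ∧ Nonempty (N ≃* L) := by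
  have h1 : commutator G ⊓ center G = ⊥ := by
    by_contra hne
    obtain ⟨r, hr, hd⟩ := Nat.exists_prime_and_dvd (mt card_eq_one.1 hne)
    have := Fact.mk hr
    obtain ⟨⟨z, hz0⟩, hz⟩ := exists_prime_orderOf_dvd_card' r hd
    rw [orderOf_mk] at hz
    obtain ⟨hz1, hz2⟩ := hz0
    obtain ⟨P, hP⟩ := h r
    have h2 : z ∈ (P : Subgroup G) := by
      have := normal_of_le_cen (zpowers_le.2 hz2)
      exact (isPGroup_zpowers_of_orderOf (k := 1) (by rw [hz, pow_one])).le_sylow_of_normal P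
        (mem_zpowers z)
    exact ne_one_of_orderOf hr.ne_one hz (mem_bot.1 (hP ▸ ⟨hz2,
      Trans.center_inf_commutator_inf_sylow_le P ⟨⟨hz2, hz1⟩, h2⟩⟩))
  let f := e.toMonoidHom.comp (QuotientGroup.mk' (center G))
  have hf : Function.Surjective f := e.surjective.comp (QuotientGroup.mk'_surjective _)
  have hk : f.ker = center G := by
    ext x; simp [f, MonoidHom.mem_ker]
  have h2 : (commutator G).map f = ⊤ := by
    rw [map_commutator_eq, MonoidHom.range_eq_top.2 hf]; exact hL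
  refine ⟨commutator G, center G, inferInstance, le_rfl, h1, ?_, ⟨MulEquiv.ofBijective
    (f.comp (commutator G).subtype) ⟨(injective_iff_map_eq_one _).2 fun x hx => ?_, fun y => ?_⟩⟩⟩
  · rw [← hk, ← comap_map_eq, h2, comap_top]
  · exact Subtype.ext (mem_bot.1 (h1 ▸ ⟨x.2, hk ▸ hx⟩))
  · obtain ⟨x, hx, rfl⟩ := h2 ▸ mem_top y
    exact ⟨⟨x, hx⟩, rfl⟩

theorem psl2_perfect {F : Type*} [Field F] [Fintype F] (hF : 4 ≤ Fintype.card F) :
    commutator PSL(2, F) = ⊤ := by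
  refine SL2Simple.PSL_commutator_eq_top ?_
  by_contra! h
  have h1 : (Set.univ : Set F) ⊆ {0, 1, -1} := fun a _ => by
    by_cases e : a = 0
    · exact Or.inl e
    · exact Or.inr (sq_eq_one_iff.1 (h a e))
  have h2 := (Set.ncard_le_ncard h1).trans ((Set.ncard_insert_le _ _).trans
    (Nat.succ_le_succ ((Set.ncard_insert_le _ _).trans (by rw [Set.ncard_singleton]))))
  rw [Set.ncard_univ, Nat.card_eq_fintype_card] at h2
  omega

theorem CH.cent_of_sq {q e o : ℕ} (h : CH G q e o) {g : G} (hg : g ∈ T G (2 * e))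
    (h2 : g * g ≠ 1) : Nat.card (𝐂₁ g) = e := by
  obtain ⟨t, s, K, hb⟩ := h.bsw
  have := Fact.mk Nat.prime_two
  obtain ⟨⟨u, hu⟩, hu'⟩ := exists_prime_orderOf_dvd_card' (G := 𝐂₁ g) 2 (by
    rcases h.cent_e hg with e' | e' <;> rw [e']
    · exact Dvd.intro _ rfl
    · exact h.even)
  rw [orderOf_mk] at hu'
  obtain ⟨c, rfl⟩ := isConj_iff.1 (hb.cls u (mul_self_of_orderOf hu')
    (ne_one_of_orderOf (by decide) hu'))
  have h3 : c⁻¹ * g * c⁻¹⁻¹ * (c⁻¹ * g * c⁻¹⁻¹) ≠ 1 := by rw [conj_mul]; exact conj_ne_one h2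
  have h4 : c⁻¹ * g * c⁻¹⁻¹ ∈ K := (hb.memC _ (by
    calc c⁻¹ * g * c⁻¹⁻¹ * t = c⁻¹ * (g * (c * t * c⁻¹)) * c := by group
      _ = c⁻¹ * (c * t * c⁻¹ * g) * c := by rw [mem_cent1.1 hu]
      _ = _ := by group)).resolve_right fun e' => h3 (by
    have := hb.inv _ e'
    rwa [hb.s_inv, ← mul_assoc, hb.ss, one_mul, eq_inv_iff_mul_eq_one, mul_assoc, ← mul_assoc s,
      hb.ss, one_mul] at this)
  have h5 := h.cent_of_J hb.ss (hb.inv _ h4) (T.conj hg _) h3
  have h6 := (𝐂₁ g).card_mul_index.trans (𝐂₁ (c⁻¹ * g * c⁻¹⁻¹)).card_mul_index.symm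
  rw [index_cent_conj, h5] at h6
  exact Nat.eq_of_mul_eq_mul_right (Nat.pos_of_ne_zero index_ne_zero_of_finite) h6

namespace CS

variable {p n q e o : ℕ}

theorem ch (h : CS G p n q (2 * e) o 2) (he : 2 ∣ e) (h2 : 2 ≠ e) (hq : q = e + o)
    (adj : o = e + 1 ∨ e = o + 1) : CH (G ⧸ center G) q e o :=
  ⟨he, hq, adj, lt_of_le_of_ne (Nat.le_of_dvd (by have := h.lt; omega) he) h2, by rw [h.card_quot]; ring, fun x hx =>
    (h.card_cent hx).imp_right (Or.imp_right (Or.imp_right fun e' => Nat.eq_of_mul_eq_mul_left two_pos e'))⟩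

/-- The odd case. -/
theorem main_odd (h : CS G p n q (2 * e) o 2) (he : 2 ∣ e) (h2 : 2 ≠ e) (hq : q = e + o)
    (adj : o = e + 1 ∨ e = o + 1) {F : Type*} [Field F] [Fintype F] (hF : Fintype.card F = q) :
    ∃ N A : Subgroup G, N.Normal ∧ A ≤ center G ∧ N ⊓ A = ⊥ ∧ N ⊔ A = ⊤ ∧
      Nonempty (N ≃* PSL(2, F)) := by
  have hc := h.ch he h2 hq adj
  obtain ⟨f⟩ := hc.psl2 h.hp h.hq hF
  have hi : ∀ x : G ⧸ center G, (𝐂₁ x).index = q * o → x ∈ Inv (G ⧸ center G) := fun x hx => by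
    have h1 := (𝐂₁ x).card_mul_index
    rw [hx, hc.card] at h1
    have h2 := Nat.eq_of_mul_eq_mul_right hc.pos h1
    have h3 : x ≠ 1 := by
      rintro rfl
      rw [index_cent_eq_one_iff.2 (one_mem _)] at hx
      exact h.hp.ne_one (Nat.dvd_one.1 (hx ▸ h.pq.mul_right _))
    refine ⟨?_, h3⟩
    by_contra h4
    have := hc.cent_of_sq ⟨h3, h2 ▸ order_dvdG (cent1id x)⟩ h4
    have := hc.lt
    omega
  have hcl : CL G := cl_of_index fun g hg => (h.index_mk hg).elim id fun ⟨h1, h2⟩ => by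
    obtain ⟨b, hb⟩ := h.exB
    have hbZ := h.nc (Or.inr rfl) (hb ▸ Dvd.intro_left _ rfl)
    have h3 := (h.index_mk hbZ).elim (·.trans hb) (·.1)
    obtain ⟨x, hx⟩ := isConj_iff.1 (hc.isConj (hi _ h3) (hi _ h1))
    obtain ⟨x, rfl⟩ := QuotientGroup.mk_surjective x
    rw [← QuotientGroup.mk_inv, ← QuotientGroup.mk_mul, ← QuotientGroup.mk_mul,
      QuotientGroup.eq] at hx
    rw [h1, ← hb, ← index_cent_conj b x, ← cent_mul_center hx, mul_inv_cancel_left]
  refine split_of (fun r _ => ?_) f (psl2_perfect (by have := hc.lt; omega))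
  by_cases hr : r = 2
  · subst hr
    obtain ⟨t, s, K, hb⟩ := hc.bsw
    obtain ⟨t, rfl⟩ := QuotientGroup.mk_surjective t
    obtain ⟨s, rfl⟩ := QuotientGroup.mk_surjective s
    have h1 : (𝐂₁ t).index = q * o := by
      rw [← hc.index_inv ⟨hb.tt, hb.t1⟩, ← index_comap_of_surjective _
        (QuotientGroup.mk'_surjective (center G))]
      congr 1
      exact le_antisymm (cent_le_comap _ t) fun x hx => mem_cent1.2 (hcl _ _ (mem_cent1.1 hx))
    obtain ⟨P, hP⟩ := exists_sylow_le_of_not_dvd_index (h1 ▸ hc.odd)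
    exact ⟨P, eq_bot_iff.2 (center_inf_eq_bot hcl hb ▸ inf_le_inf_left _ (commutator_mono hP hP))⟩
  · obtain ⟨P⟩ : Nonempty (Sylow r G) := inferInstance
    exact ⟨P, by rw [commutator_eq_bot_iff_le_centralizer.2
      (abelian_le_cent (sylow_comm hcl f (Or.inr hr) P)), inf_bot_eq]⟩

/-- The even case. -/
theorem main_even {k : ℕ} (h : CS G 2 n (2 * (k + 1)) (2 * k + 1) (2 * (k + 1) + 1) 1)
    {F : Type*} [Field F] [Fintype F] (hF : Fintype.card F = 2 * (k + 1)) :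
    ∃ N A : Subgroup G, N.Normal ∧ A ≤ center G ∧ N ⊓ A = ⊥ ∧ N ⊔ A = ⊤ ∧
      Nonempty (N ≃* PSL(2, F)) := by
  have hG : Nat.card (G ⧸ center G) = (2 * (k + 1) + 1) * (2 * (k + 1) * (2 * k + 1)) := by
    rw [h.card_quot]; ring
  have i1 := iso_of h.ord h.qk h.qm
  have i2 := iso_of (fun g => or_left_comm.1 (h.ord g)) h.qk.symm h.km
  have i3 := iso_of (fun g => or_rotate.2 (h.ord g)) h.qm.symm h.km.symm
  have hq : 2 * (k + 1) ∣ Nat.card (G ⧸ center G) := hG ▸ (Dvd.intro _ rfl).mul_left _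
  obtain ⟨j, hj⟩ := i1.dvd_ncard (h.qm.mul_right h.qk)
    (hG ▸ mul_dvd_mul_left _ (Dvd.intro_left _ rfl))
  obtain ⟨u, hu⟩ := i2.dvd_ncard h.qk.symm hq
  obtain ⟨v, hv⟩ := i3.dvd_ncard h.qm.symm hq
  have h4 := card_eq h.ord h.qk h.qm h.km
  rw [hG, hj, hu, hv] at h4
  have h5 : j < 2 * (k + 1) := by
    refine Nat.lt_of_mul_lt_mul_left (a := (2 * (k + 1) + 1) * (2 * k + 1)) ?_
    nlinarith [Nat.zero_le (2 * (k + 1) * u), Nat.zero_le (2 * (k + 1) * v)]
  have h6 : ((2 * (k + 1) : ℕ) : ℤ) ∣ j - 1 := by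
    zify at h4
    exact ⟨2 * (k + 1) * j + u + v - (2 * (k + 1) + 1) * (2 * k + 1), by push_cast; linarith⟩
  obtain rfl : j = 1 := by
    have := Int.eq_zero_of_abs_lt_dvd h6 (abs_lt.2 ⟨by omega, by omega⟩); omega
  obtain ⟨f⟩ := psl2_of_count (G := G ⧸ center G) (k := k + 1) (by omega) h.hq (by rw [hG]; rfl)
    (T _ (2 * (k + 1))) (by rw [hj, mul_one]; rfl)
    (fun g m h1 e => ⟨h1, (i1 g).resolve_right fun e' => h1 (by
      rcases m with _ | m
      · exact orderOf_eq_one_iff.1 e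
      · exact absurd (Nat.eq_one_of_dvd_coprimes e' (e ▸ dvd_pow_self 2 m.succ_ne_zero)
          (Dvd.intro _ rfl)) (by decide))⟩)
    (fun g hg => Nat.le_of_dvd (by omega) (i1.card_dvd (h.qm.mul_right h.qk) (by rw [hG]; ring)
      ⟨ne_one_of_orderOf (by decide) hg, hg.dvd.mul_right _⟩)) hF
  have hcl : CL G := cl_of_index fun g hg => (h.index_mk hg).elim id fun ⟨h1, h2⟩ => by
    rw [h1, h2, one_mul]
  have h2 : (2 : F) = 0 := by
    have := FiniteField.cast_card_eq_zero F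
    rw [hF, h.hq] at this
    exact (pow_eq_zero_iff h.hn).1 (by exact_mod_cast this)
  refine split_of (fun r _ => ?_) f (psl2_perfect (by have := h.lt; omega))
  obtain ⟨P⟩ : Nonempty (Sylow r G) := inferInstance
  exact ⟨P, by rw [commutator_eq_bot_iff_le_centralizer.2
    (abelian_le_cent (sylow_comm hcl f (Or.inl h2) P)), inf_bot_eq]⟩

end CS

omit [Finite G] in
theorem cs_of_range {p n q k m c : ℕ} (hp : p.Prime) (hn : n ≠ 0) (hq : q = p ^ n)
    (qk : q.Coprime k) (qm : q.Coprime m) (km : k.Coprime m) (cc : c = 1 ∨ c = 2) (ck : c ∣ k)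
    (lt : c < k) (m1 : 1 < m) (h : Set.range (fun g : G => (𝐂₁ g).index) =
      {1, k * m, q * k, q * m, c * (q * m)}) : CS G p n q k m c :=
  ⟨hp, hn, hq, qk, qm, km, cc, ck, lt, m1, fun g hg =>
    (h.le ⟨g, rfl⟩).resolve_left (mt index_cent_eq_one_iff.1 hg), h.ge (by simp), h.ge (by simp),
    h.ge (by simp)⟩

theorem main_odd {F : Type*} [Field F] [Fintype F] {e o : ℕ} (he : 2 ∣ e) (h2 : 2 < e)
    (hq : Fintype.card F = e + o) (adj : o = e + 1 ∨ e = o + 1)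
    (h : Set.range (fun g : G => (𝐂₁ g).index) =
      {1, 2 * e * o, (e + o) * (2 * e), (e + o) * o, 2 * ((e + o) * o)}) :
    ∃ N A : Subgroup G, N.Normal ∧ A ≤ center G ∧ N ⊓ A = ⊥ ∧ N ⊔ A = ⊤ ∧
      Nonempty (N ≃* PSL(2, F)) := by
  obtain ⟨p, hp⟩ := CharP.exists F
  obtain ⟨n, hp', hn⟩ := FiniteField.card F p
  have h1 : e.Coprime o := by rcases adj with e | e <;> simp [e]
  have h3 : (e + o).Coprime e := by simpa using h1.symm
  exact (cs_of_range hp' n.ne_zero (hq.symm.trans hn) ((h3.coprime_dvd_right he).mul_right h3)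
    (by simpa using h1) ((h1.coprime_dvd_left he).mul_left h1) (Or.inr rfl) (Dvd.intro _ rfl)
    (by omega) (by omega) h).main_odd he h2.ne rfl adj hq

end Cfsg.Lib.Recog.ClsL2
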