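import Cfsg.Agent.Solv.Cores
import Cfsg.Agent.Solv.PGroupBasic
import Cfsg.Agent.CITCor.NonSimple
import Cfsg.Agent.Block.ZStar
import Cfsg.Agent.Local.InvCent
import Cfsg.Agent.Bender.Main

/-!
Groups in which all non-trivial subgroups of a cyclic subgroup of even order have the same
normaliser: the local structure.
-/

set_option autoImplicit false

universe u

namespace Cfsg.Lib.Recog

open Subgroup Cfsg.Lib.CIT Cfsg.Lib.Solv Cfsg.Lib.CITCor Cfsg.Agent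

/-- The normaliser of the cyclic group generated by `x`. -/
abbrev Nz {G : Type*} [Group G] (x : G) : Subgroup G := normalizer (zpowers x : Set G)

/-- The centraliser of `x`. -/
abbrev Cz {G : Type*} [Group G] (x : G) : Subgroup G := centralizer ({x} : Set G)

/-- Normalising a non-trivial power of an element of even order normalises the element. -/
def CN (G : Type*) [Group G] : Prop :=
  ∀ x y g : G, Even (orderOf x) → y ∈ zpowers x → y ≠ 1 → g * y * g⁻¹ ∈ zpowers y →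
    g * x * g⁻¹ ∈ zpowers x

variable {G : Type u} [Group G]

theorem mem_Cz {x g : G} : g ∈ Cz x ↔ g * x = x * g := mem_centralizer_singleton_iff

theorem mem_Cz' {x g : G} : g ∈ Cz x ↔ g * x * g⁻¹ = x := by rw [mem_Cz, mul_inv_eq_iff_eq_mul]

theorem mem_Cz_comm {x g : G} : g ∈ Cz x ↔ x ∈ Cz g := by rw [mem_Cz, mem_Cz, eq_comm]

theorem CN.of_injective {H : Type*} [Group H] (h : CN G) (f : H →* G) (hf : Function.Injective f) :
    CN H := by
  have key : ∀ a b : H, a ∈ zpowers b ↔ f a ∈ zpowers (f b) := fun a b => by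
    rw [← MonoidHom.map_zpowers, mem_map_iff_mem hf]
  intro x y g hx hy hy1 hg
  rw [key] at hy hg ⊢
  simp only [map_mul, map_inv] at hg ⊢
  exact h _ _ _ (by rwa [orderOf_injective f hf]) hy (by rwa [Ne, map_eq_one_iff f hf]) hg

theorem conj_mem_zpowers_of_mem {x y g : G} (hy : y ∈ zpowers x) (hg : g * x * g⁻¹ ∈ zpowers x) :
    g * y * g⁻¹ ∈ zpowers y := by
  obtain ⟨i, rfl⟩ := hy
  obtain ⟨j, hj⟩ := hg
  exact ⟨j, by simp only [← conj_zpow, ← hj, ← zpow_mul, mul_comm]⟩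

variable [Finite G]

theorem mem_Nz {x g : G} : g ∈ Nz x ↔ g * x * g⁻¹ ∈ zpowers x :=
  ⟨fun h => conj_mem_of_mem_normalizer h (mem_zpowers x), fun h =>
    mem_normalizer_of_conj_mem fun _ hy => zpowers_le.mpr hy (conj_mem_zpowers_of_mem hy h)⟩

theorem Cz_le_Nz (x : G) : Cz x ≤ Nz x := fun g hg => by
  rw [mem_Nz, mem_Cz'.mp hg]; exact mem_zpowers x

theorem Nz_invol {s : G} (hs : orderOf s = 2) : Nz s = Cz s := by
  classical
  refine le_antisymm (fun g hg => ?_) (Cz_le_Nz s)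
  rw [mem_Nz, mem_zpowers_iff_mem_range_orderOf, hs] at hg
  obtain ⟨i, hi, e⟩ := Finset.mem_image.mp hg
  rw [Finset.mem_range] at hi
  interval_cases i
  · exact absurd (by simpa using e.symm) (sq_of_orderOf hs).1
  · rw [mem_Cz', ← e, pow_one]

theorem exists_invol_zpowers {x : G} (hx : Even (orderOf x)) : ∃ s ∈ zpowers x, orderOf s = 2 :=
  exists_invol_of_even (by rwa [Nat.card_zpowers, Nat.not_odd_iff_even])

omit [Finite G] in
theorem commute_of_coprime {a b : G} (hab : a ∈ Nz b) (hba : b ∈ Nz a)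
    (h : (orderOf a).Coprime (orderOf b)) : a ∈ Cz b :=
  mem_Cz.mpr (le_centralizer_of_disjoint (H := zpowers a) (K := zpowers b) (zpowers_le.mpr hab)
    (zpowers_le.mpr hba) (inf_eq_bot_of_coprime_card (by rwa [Nat.card_zpowers, Nat.card_zpowers]))
    (mem_zpowers a) b (mem_zpowers b)).symm

omit [Finite G] in
theorem mem_of_pow_mem {K : Subgroup G} {y : G} {n : ℕ} (h : y ^ n ∈ K)
    (hn : (orderOf y).Coprime n) : y ∈ K := by
  obtain ⟨m, hm⟩ := exists_pow_eq_self_of_coprime hn.symm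
  exact hm ▸ pow_mem h m

omit [Finite G] in
theorem mem_of_pow_mem_coprime {K : Subgroup G} {w : G} {a b : ℕ} (ha : w ^ a ∈ K) (hb : w ^ b ∈ K)
    (h : a.Coprime b) : w ∈ K := by
  have := mul_mem (zpow_mem ha (Nat.gcdA a b)) (zpow_mem hb (Nat.gcdB a b))
  rwa [← zpow_natCast, ← zpow_natCast, ← zpow_mul, ← zpow_mul, ← zpow_add, ← Nat.gcd_eq_gcd_ab, h,
    Nat.cast_one, zpow_one] at this

omit [Finite G] in
theorem orderOf_eq_two {s : G} (h1 : s ≠ 1) (h2 : s * s = 1) : orderOf s = 2 :=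
  have := Fact.mk Nat.prime_two
  orderOf_eq_prime (by rwa [sq]) h1

theorem mem_zpowers_four {v y : G} (hv : v * v * (v * v) = 1) (hy : y ∈ zpowers v) :
    y = 1 ∨ y = v ∨ y = v * v ∨ y = v⁻¹ := by
  obtain ⟨i, rfl⟩ := (mem_powers_iff_mem_zpowers.mpr hy : y ∈ Submonoid.powers v)
  have h4 : v ^ 4 = 1 := by rw [← hv]; simp only [pow_succ, pow_zero, one_mul, mul_assoc]
  show v ^ i = 1 ∨ v ^ i = v ∨ v ^ i = v * v ∨ v ^ i = v⁻¹
  rw [pow_eq_pow_mod i h4]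
  have := Nat.mod_lt i (show 0 < 4 by norm_num)
  generalize i % 4 = j at this
  interval_cases j
  · simp
  · simp
  · simp [sq]
  · refine Or.inr (Or.inr (Or.inr (eq_inv_of_mul_eq_one_left ?_)))
    rw [← pow_succ, h4]

theorem conj_four {v u : G} (hv : v * v * (v * v) = 1) (hv1 : v * v ≠ 1) (hu : u ∈ Nz v) :
    u * v * u⁻¹ = v ∨ u * v * u⁻¹ = v⁻¹ := by
  have h1 : u * v * u⁻¹ * (u * v * u⁻¹) ≠ 1 := by rwa [conj_mul, Ne, conj_eq_one_iff]
  rcases mem_zpowers_four hv (mem_Nz.mp hu) with e | e | e | e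
  · rw [e, mul_one] at h1; exact absurd rfl h1
  · exact Or.inl e
  · rw [e] at h1; exact absurd hv h1
  · exact Or.inr e

/-- In a group with trivial odd core and centre every involution commutes with another
conjugate. -/
theorem exists_conj_ne (hO : oddCore G = ⊥) (hZ : center G = ⊥) {s : G} (hs : orderOf s = 2) :
    ∃ g : G, g * s * g⁻¹ ∈ Cz s ∧ g * s * g⁻¹ ≠ s := by
  by_contra h
  push Not at h
  have := Block.Princ.zstar_center ⟨hs, fun g hg => h g (mem_Cz.mpr hg.symm)⟩ hO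
  exact (sq_of_orderOf hs).1 (mem_bot.mp (hZ ▸ this))

namespace CN

theorem Nz_eq (h : CN G) {x y : G} (hx : Even (orderOf x)) (hy : y ∈ zpowers x) (hy1 : y ≠ 1) :
    Nz y = Nz x := by
  ext g
  rw [mem_Nz, mem_Nz]
  exact ⟨h x y g hx hy hy1, conj_mem_zpowers_of_mem hy⟩

theorem Nz_eq_Cz (h : CN G) {x s : G} (hs : orderOf s = 2) (hsx : s ∈ zpowers x) : Nz x = Cz s := by
  rw [← Nz_invol hs, h.Nz_eq (even_iff_two_dvd.mpr (hs ▸ orderOf_dvd_of_mem_zpowers hsx)) hsx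
    (sq_of_orderOf hs).1]

theorem Nz_odd (h : CN G) {y s : G} (hs : orderOf s = 2) (hy : Odd (orderOf y)) (hy1 : y ≠ 1)
    (hc : y ∈ Cz s) : Nz y = Cz s := by
  have h1 : Commute y s := mem_Cz.mp hc
  have h2 : (orderOf y).Coprime (orderOf s) := by rw [hs]; exact Nat.coprime_two_right.mpr hy
  have h3 : s ∈ zpowers (y * s) := mem_of_pow_mem (n := orderOf y) (by
    have := pow_mem (mem_zpowers (y * s)) (orderOf y)
    rwa [h1.mul_pow, pow_orderOf_eq_one, one_mul] at this) h2.symm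
  have h4 : y ∈ zpowers (y * s) := by
    simpa using mul_mem (mem_zpowers (y * s)) (inv_mem h3)
  rw [← h.Nz_eq_Cz hs h3, h.Nz_eq (even_iff_two_dvd.mpr (hs ▸ orderOf_dvd_of_mem_zpowers h3)) h4 hy1]

end CN

/-- An involution commuting with an element of odd prime order. -/
structure Cfg (t x : G) (p : ℕ) : Prop where
  cn : CN G
  ht : orderOf t = 2
  prime : p.Prime
  ne_two : p ≠ 2
  hx : orderOf x = p
  comm : x ∈ Cz t

namespace Cfg

variable {t x : G} {p : ℕ}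

omit [Finite G] in
theorem odd (c : Cfg t x p) : Odd (orderOf x) := c.hx ▸ c.prime.odd_of_ne_two c.ne_two

omit [Finite G] in
theorem x_ne (c : Cfg t x p) : x ≠ 1 := fun e => c.prime.one_lt.ne' (by rw [← c.hx, e, orderOf_one])

theorem Nz_x (c : Cfg t x p) : Nz x = Cz t := c.cn.Nz_odd c.ht c.odd c.x_ne c.comm

theorem K_le (c : Cfg t x p) : Cz x ≤ Cz t := c.Nz_x ▸ Cz_le_Nz x

omit [Finite G] in
theorem t_mem (c : Cfg t x p) : t ∈ Cz x := mem_Cz_comm.mp c.comm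

theorem Cz_eq (c : Cfg t x p) {a : G} (ha : orderOf a = 2) (haK : a ∈ Cz x) : Cz a = Cz t := by
  rw [← c.Nz_x, c.cn.Nz_odd ha c.odd c.x_ne (mem_Cz_comm.mp haK)]

theorem Nz_eq (c : Cfg t x p) {y : G} (hy : y ∈ Cz x) (hy1 : y ≠ 1) : Nz y = Cz t := by
  rcases Nat.even_or_odd (orderOf y) with h | h
  · obtain ⟨s, hs, ho⟩ := exists_invol_zpowers h
    rw [c.cn.Nz_eq_Cz ho hs, c.Cz_eq ho (zpowers_le.mpr hy hs)]
  · exact c.cn.Nz_odd c.ht h hy1 (c.K_le hy)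

theorem exists_hom (c : Cfg t x p) : ∃ φ : Cz t →* ZMod p, (∀ h, φ h ≠ 0) ∧
    ∀ h : Cz t, φ h = 1 ↔ (h : G) ∈ Cz x := by
  have := Fact.mk c.prime
  have h1 : Nat.card (zpowers x) = p := by rw [Nat.card_zpowers, c.hx]
  let e := (IsCyclic.mulAutMulEquiv (zpowers x)).trans
    (Units.mapEquiv (ZMod.ringEquivCongr h1).toMulEquiv)
  obtain ⟨ψ, hψ⟩ : ∃ ψ : MulAut (zpowers x) →* (ZMod p)ˣ, Function.Injective ψ :=
    ⟨e.toMonoidHom, e.injective⟩
  refine ⟨(Units.coeHom _).comp (ψ.comp ((zpowers x).normalizerMonoidHom.comp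
    (inclusion c.Nz_x.ge))), fun h => Units.ne_zero _, fun h => ?_⟩
  rw [MonoidHom.comp_apply, Units.coeHom_apply, Units.val_eq_one, MonoidHom.comp_apply,
    map_eq_one_iff _ hψ, MonoidHom.comp_apply, ← MonoidHom.mem_ker, normalizerMonoidHom_ker,
    mem_subgroupOf, coe_inclusion, zpowers_eq_closure, centralizer_closure]

theorem conj_mem_K (c : Cfg t x p) {h y : G} (hh : h ∈ Cz t) (hy : y ∈ Cz x) :
    h * y * h⁻¹ ∈ Cz x := by
  by_cases hy1 : y = 1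
  · simp [hy1]
  exact zpowers_le.mpr hy (mem_Nz.mp (c.Nz_eq hy hy1 ▸ hh))

theorem mem_K_of_odd (c : Cfg t x p) {y : G} (hy : y ∈ Cz t) (ho : Odd (orderOf y)) :
    y ∈ Cz x := by
  have := Fact.mk c.prime
  obtain ⟨φ, h0, hφ⟩ := c.exists_hom
  obtain ⟨k, m, hm, e⟩ := Nat.exists_eq_pow_mul_and_not_dvd (orderOf_pos y).ne' p c.prime.ne_one
  have h1 : y ^ p ^ k ∈ Cz x := by
    by_cases h2 : y ^ p ^ k = 1
    · rw [h2]; exact one_mem _
    have h3 := ho.of_dvd_nat (orderOf_pow_dvd (x := y) (p ^ k))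
    refine commute_of_coprime (c.Nz_x ▸ pow_mem hy _)
      (c.cn.Nz_odd c.ht h3 h2 (pow_mem hy _) ▸ c.comm) ?_
    rw [c.hx, orderOf_pow, e, Nat.gcd_mul_right_left,
      Nat.mul_div_cancel_left _ (pow_pos c.prime.pos k)]
    exact ((c.prime.coprime_iff_not_dvd).mpr hm).symm
  have h2 := (hφ (⟨y, hy⟩ ^ p ^ k)).mpr h1
  rw [map_pow, ZMod.pow_card_pow] at h2
  exact (hφ _).mp h2

theorem eq_one_of_mem (c : Cfg t x p) {w y : G} (hw : w ∈ Cz t) (hwK : w ∉ Cz x)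
    (hy : y ∈ zpowers w) (hyK : y ∈ Cz x) : y = 1 := by
  by_contra hy1
  have he : Even (orderOf w) := Nat.not_odd_iff_even.mp fun h => hwK (c.mem_K_of_odd hw h)
  have h1 : Nz w = Cz t := by rw [← c.cn.Nz_eq he hy hy1, c.Nz_eq hyK hy1]
  obtain ⟨k, m, hm, e⟩ := Nat.exists_eq_pow_mul_and_not_dvd (orderOf_pos w).ne' 2 (by norm_num)
  have hm0 : 0 < m := Nat.pos_of_ne_zero (by rintro rfl; simp at hm)
  have h2 : w ^ 2 ^ k ∈ Cz x := c.mem_K_of_odd (pow_mem hw _) (by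
    rw [orderOf_pow, e, Nat.gcd_mul_right_left, Nat.mul_div_cancel_left _ (by positivity)]
    exact Nat.odd_iff.mpr (by omega))
  have h3 : w ^ m ∈ Cz x := commute_of_coprime (c.Nz_x ▸ pow_mem hw _) (mem_Nz.mpr
    (conj_mem_zpowers_of_mem (npow_mem_zpowers w m) (mem_Nz.mp (h1 ▸ c.comm)))) (by
      rw [orderOf_pow, e, Nat.gcd_mul_left_left, Nat.mul_div_cancel _ hm0]
      exact (Nat.coprime_two_left.mpr c.odd).pow_left k)
  exact hwK (mem_of_pow_mem_coprime h2 h3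
    ((Nat.coprime_two_left.mpr (Nat.odd_iff.mpr (by omega))).pow_left k))

theorem inverts (c : Cfg t x p) {s y : G} (hs : s ∈ Cz t) (hsK : s ∉ Cz x) (hs2 : s * s = 1)
    (hy : y ∈ Cz x) : s * y * s⁻¹ = y⁻¹ := by
  have h1 : s * y * s⁻¹ * y = (s * y) ^ 2 := by rw [inv_eq_of_sq hs2, sq]; group
  rw [← mul_eq_one_iff_eq_inv, h1]
  exact c.eq_one_of_mem (mul_mem hs (c.K_le hy)) (by rwa [mul_mem_cancel_right hy])
    (npow_mem_zpowers _ 2) (h1 ▸ mul_mem (c.conj_mem_K hs hy) hy)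

theorem mul_mem_of_sq (c : Cfg t x p) {a b : G} (ha : a ∈ Cz t) (hb : b ∈ Cz t) (haK : a ∉ Cz x)
    (hbK : b ∉ Cz x) (ha2 : a * a = 1) (hb2 : b * b = 1) : a * b ∈ Cz x := by
  rw [mem_Cz', conj_mul_conj_aux a b x, c.inverts hb hbK hb2 (mem_Cz.mpr rfl), ← conj_inv,
    c.inverts ha haK ha2 (mem_Cz.mpr rfl), inv_inv]
where conj_mul_conj_aux (a b x : G) : a * b * x * (a * b)⁻¹ = a * (b * x * b⁻¹) * a⁻¹ := by group

theorem sq_eq_of_four (c : Cfg t x p) {v y : G} (hv : v ∈ Cz t) (hvK : v * v ∉ Cz x)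
    (hv4 : v * v * (v * v) = 1) (hy : y ∈ Cz t) (hyK : y * y ∉ Cz x) (hy4 : y * y * (y * y) = 1)
    (hys : y ∈ Cz (v * v)) : y * y = v * v := by
  have := Fact.mk c.prime
  obtain ⟨φ, h0, hφ⟩ := c.exists_hom
  have key : ∀ (a : G) (ha : a ∈ Cz t), a * a ∉ Cz x → a * a * (a * a) = 1 →
      φ ⟨a, ha⟩ ^ 2 = -1 := fun a ha haK ha4 => by
    have h1 : (φ ⟨a, ha⟩ ^ 2) ^ 2 = 1 := by
      rw [← map_pow, ← map_pow, ← map_one φ]
      exact congrArg φ (Subtype.ext (by simpa [sq] using ha4))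
    refine (sq_eq_one_iff.mp h1).resolve_left fun e => haK ?_
    rw [← map_pow, hφ] at e
    simpa [sq] using e
  have h1 : ∀ k ∈ Cz x, k ∈ Cz (v * v) → k * k = 1 ∧ ∀ h ∈ Cz t, h * k = k * h := fun k hk hks => by
    have h2 : k * k = 1 := by
      rw [mul_eq_one_iff_eq_inv, ← c.inverts (mul_mem hv hv) hvK hv4 hk, mem_Cz'.mp
        (mem_Cz_comm.mp hks)]
    refine ⟨h2, fun h hh => ?_⟩
    by_cases hk1 : k = 1
    · simp [hk1]
    · exact mem_Cz.mp (c.Cz_eq (orderOf_eq_two hk1 h2) hk ▸ hh)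
  have hvs : v ∈ Cz (v * v) := mem_Cz.mpr (by group)
  rcases sq_eq_sq_iff_eq_or_eq_neg.mp ((key y hy hyK hy4).trans (key v hv hvK hv4).symm) with e | e
  · have h2 : v⁻¹ * y ∈ Cz x := (hφ (⟨v, hv⟩⁻¹ * ⟨y, hy⟩)).mp (by
      rw [map_mul, map_inv, e, inv_mul_cancel₀ (h0 _)])
    obtain ⟨h3, h4⟩ := h1 _ h2 (mul_mem (inv_mem hvs) hys)
    calc y * y = v * (v⁻¹ * y * v) * (v⁻¹ * y) := by group
      _ = v * v * (v⁻¹ * y * (v⁻¹ * y)) := by rw [← h4 v hv]; group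
      _ = v * v := by rw [h3, mul_one]
  · have h2 : v * y ∈ Cz x := (hφ (⟨v, hv⟩ * ⟨y, hy⟩)).mp (by
      rw [map_mul, e, mul_neg, ← sq, key v hv hvK hv4, neg_neg])
    obtain ⟨h3, h4⟩ := h1 _ h2 (mul_mem hvs hys)
    calc y * y = v⁻¹ * (v * y * v⁻¹) * (v * y) := by group
      _ = (v * v)⁻¹ * (v * y * (v * y)) := by rw [← h4 v⁻¹ (inv_mem hv)]; group
      _ = v * v := by rw [h3, mul_one, inv_eq_of_sq hv4]

theorem not_four (c : Cfg t x p) (hO : oddCore G = ⊥) (hZ : center G = ⊥) {v : G} (hv : v ∈ Cz t)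
    (hvK : v * v ∉ Cz x) (hv4 : v * v * (v * v) = 1) : False := by
  have hs1 : v * v ≠ 1 := fun e => hvK (e ▸ one_mem _)
  have hs := orderOf_eq_two hs1 hv4
  have ht2 := (sq_of_orderOf c.ht).2
  have hvt : v * t = t * v := mem_Cz.mp hv
  have e1 : v * t * (v * t) = v * v := by
    calc v * t * (v * t) = v * (t * v) * t := by group
      _ = v * v * (t * t) := by rw [← hvt]; group
      _ = v * v := by rw [ht2, mul_one]
  have hst : v * v * t = t * (v * v) := mem_Cz.mp (mul_mem hv hv)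
  have n1 : Nz v = Cz (v * v) := c.cn.Nz_eq_Cz hs (mul_mem (mem_zpowers v) (mem_zpowers v))
  have n2 : Nz (v * t) = Cz (v * v) :=
    c.cn.Nz_eq_Cz hs (e1 ▸ mul_mem (mem_zpowers _) (mem_zpowers _))
  have hinv : v⁻¹ = v * (v * v) := inv_eq_of_mul_eq_one_right (by rw [← hv4]; group)
  have hinv' : (v * t)⁻¹ = v⁻¹ * t := by
    rw [mul_inv_rev, inv_eq_of_sq ht2, eq_inv_mul_iff_mul_eq, ← mul_assoc, hvt]; group
  -- the action on `t`
  have act : ∀ u ∈ Cz (v * v), u * t * u⁻¹ = t ∨ u * t * u⁻¹ = v * v * t := fun u hu => by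
    have h1 := conj_four hv4 hs1 (n1 ▸ hu)
    have h2 := conj_four (by rwa [e1]) (by rwa [e1]) (n2 ▸ hu)
    rw [← conj_mul, hinv'] at h2
    rcases h1 with h1 | h1 <;> rw [h1] at h2 <;> rcases h2 with h2 | h2
    · exact Or.inl (mul_left_cancel h2)
    · rw [hinv, mul_assoc v (v * v)] at h2; exact Or.inr (mul_left_cancel h2)
    · rw [inv_mul_eq_iff_eq_mul, ← mul_assoc] at h2; exact Or.inr h2
    · exact Or.inl (mul_left_cancel h2)
  have sqH : ∀ u ∈ Cz (v * v), u * u ∈ Cz t := fun u hu => by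
    rw [mem_Cz', show u * u * t * (u * u)⁻¹ = u * (u * t * u⁻¹) * u⁻¹ by group]
    rcases act u hu with h | h
    · rw [h, h]
    · rw [h, ← conj_mul, h, mem_Cz'.mp hu, ← mul_assoc, hv4, one_mul]
  have noK : ∀ g : G, g * (v * v) * g⁻¹ ∉ Cz x := fun g hg => by
    have h1 := c.Cz_eq (((MulAut.conj g).orderOf_eq _).trans hs) hg
    have h2 : g⁻¹ * x * g ∈ Cz (v * v) := by
      have := mem_Cz.mp (h1 ▸ c.comm : x ∈ Cz (MulAut.conj g (v * v)))
      rw [MulAut.conj_apply] at this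
      rw [mem_Cz]
      calc g⁻¹ * x * g * (v * v) = g⁻¹ * (x * (g * (v * v) * g⁻¹)) * g := by group
        _ = _ := by rw [this]; group
    have h3 : Odd (orderOf (g⁻¹ * x * g)) := by rw [Local.orderOf_conj']; exact c.odd
    have h4 := c.mem_K_of_odd (mem_of_pow_mem (n := 2) (by rw [sq]; exact sqH _ h2)
      (Nat.coprime_two_right.mpr h3)) h3
    have h5 := c.inverts (mul_mem hv hv) hvK hv4 h4
    rw [mem_Cz'.mp (mem_Cz_comm.mp h2), ← mul_eq_one_iff_eq_inv] at h5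
    have h6 := eq_one_of_odd_of_two_pow h3 (k := 1) (by rw [pow_one, sq, h5])
    exact c.x_ne (by rw [← conj_eq_one_iff (a := g⁻¹), inv_inv, h6])
  obtain ⟨g, hg, hg1⟩ := exists_conj_ne hO hZ hs
  have ho : orderOf (g * (v * v) * g⁻¹) = 2 := ((MulAut.conj g).orderOf_eq _).trans hs
  have cen : ∀ a, a ∈ Cz t → a ∉ Cz x → a * a = 1 → a ∈ Cz (v * v) → a ≠ v * v →
      Cz (v * v * a) = Cz t := fun a ha haK ha2 has ha1 => c.Cz_eq (orderOf_eq_two
        (fun e => ha1 (by rw [← inv_eq_of_sq hv4, eq_inv_of_mul_eq_one_right e])) (by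
          calc v * v * a * (v * v * a) = v * v * (a * (v * v)) * a := by group
            _ = v * v * (v * v) * (a * a) := by rw [mem_Cz.mp has]; group
            _ = 1 := by rw [hv4, ha2, mul_one]))
      (c.mul_mem_of_sq (mul_mem hv hv) ha hvK haK hv4 ha2)
  obtain ⟨w, hw, hw2⟩ : ∃ w ∈ Cz (g * (v * v) * g⁻¹), w * w = v * v := by
    rcases conj_four hv4 hs1 (n1 ▸ hg) with h1 | h1
    · exact ⟨v, mem_Cz_comm.mp (mem_Cz'.mpr h1), rfl⟩
    rcases act _ hg with h2 | h2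
    · have h3 := cen _ (mem_Cz'.mpr h2) (noK g) (sq_of_orderOf ho).2 hg hg1 ▸ hv
      refine ⟨v, mem_Cz.mpr (mul_left_cancel (a := v * v) ?_), rfl⟩
      rw [← mul_assoc (v * v) _ v, ← mem_Cz.mp h3]
      group
    · refine ⟨v * t, mem_Cz_comm.mp (mem_Cz'.mpr ?_), e1⟩
      rw [← conj_mul, h1, h2]
      group
  have h1 : g⁻¹ * w * g ∈ Cz (v * v) := by
    rw [mem_Cz] at hw ⊢
    calc g⁻¹ * w * g * (v * v) = g⁻¹ * (w * (g * (v * v) * g⁻¹)) * g := by group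
      _ = _ := by rw [hw]; group
  have h2 : g⁻¹ * w * g * (g⁻¹ * w * g) = g⁻¹ * (v * v) * g⁻¹⁻¹ := by rw [← hw2]; group
  have h3 : g⁻¹ * (v * v) * g⁻¹⁻¹ ≠ v * v := fun e => hg1 (by
    conv_lhs => rw [← e]
    group)
  have h4 : g⁻¹ * (v * v) * g⁻¹⁻¹ * (g⁻¹ * (v * v) * g⁻¹⁻¹) = 1 := by
    rw [conj_mul, hv4]; simp
  have h5 := cen _ (h2 ▸ sqH _ h1) (noK g⁻¹) h4 (h2 ▸ mul_mem h1 h1) h3
  refine h3 (h2 ▸ c.sq_eq_of_four hv hvK hv4 (h5 ▸ ?_) (h2 ▸ noK g⁻¹) (h2 ▸ h4) h1)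
  rw [← h2, mem_Cz, ← mul_assoc, mem_Cz.mp h1]
  group

theorem sq_eq_one (c : Cfg t x p) (hO : oddCore G = ⊥) (hZ : center G = ⊥) {w : G} (hw : w ∈ Cz t)
    (hwK : w ∉ Cz x) : w * w = 1 := by
  obtain ⟨k, m, hm, e⟩ := Nat.exists_eq_pow_mul_and_not_dvd (orderOf_pos w).ne' 2 (by norm_num)
  have h1 : w ^ 2 ^ k = 1 := c.eq_one_of_mem hw hwK (npow_mem_zpowers _ _)
    (c.mem_K_of_odd (pow_mem hw _) (by
      rw [orderOf_pow, e, Nat.gcd_mul_right_left, Nat.mul_div_cancel_left _ (by positivity)]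
      exact Nat.odd_iff.mpr (by omega)))
  rcases k with _ | _ | k
  · rw [pow_zero, pow_one] at h1; simp [h1]
  · simpa [sq] using h1
  have h2 : w ^ 2 ^ k * w ^ 2 ^ k = w ^ 2 ^ (k + 1) := by rw [← pow_add, pow_succ, mul_two]
  refine (c.not_four hO hZ (pow_mem hw (2 ^ k)) (fun h => ?_) ?_).elim
  · rw [h2] at h
    have h3 := orderOf_dvd_of_pow_eq_one (c.eq_one_of_mem hw hwK (npow_mem_zpowers _ _) h)
    rw [e] at h3
    have := (Nat.pow_dvd_pow_iff_le_right (by norm_num)).mp ((dvd_mul_right _ _).trans h3)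
    omega
  · rw [h2, ← pow_add, ← mul_two, ← pow_succ, h1]

theorem mul_mem_K (c : Cfg t x p) (hO : oddCore G = ⊥) (hZ : center G = ⊥) {a b : G}
    (ha : a ∈ Cz t) (hb : b ∈ Cz t) (haK : a ∉ Cz x) (hbK : b ∉ Cz x) : a * b ∈ Cz x :=
  c.mul_mem_of_sq ha hb haK hbK (c.sq_eq_one hO hZ ha haK) (c.sq_eq_one hO hZ hb hbK)

end Cfg

end Cfsg.Lib.Recog
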