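import Cfsg.Agent.Recog.CycNorm
import Cfsg.Agent.Local.Dihedral
import Cfsg.Agent.Solv.UniqueInvol
import Cfsg.Agent.Solv.CyclicP
import Cfsg.Agent.Chev.SuzukiSol
import Cfsg.Agent.Gate.S0508
import Cfsg.Agent.S3224

/-!
Simple groups in which all non-trivial subgroups of a cyclic subgroup of even order have the same
normaliser.
-/

set_option autoImplicit false

universe u

namespace Cfsg.Lib.Recog

open Subgroup Cfsg.Lib.CIT Cfsg.Lib.Solv Cfsg.Lib.CITCor Cfsg.Agent Pointwise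
open scoped MatrixGroups

variable {G : Type u} [Group G] [Finite G]

omit [Finite G] in
theorem conj_mem_Cz_conj {g a b : G} : g * a * g⁻¹ ∈ Cz (g * b * g⁻¹) ↔ a ∈ Cz b := by
  rw [Cz, ← conj_smul_centralizer_singleton, conj_mem_conj_smul_iff]

namespace Cfg

variable {t x : G} {p : ℕ}

theorem invol_unique (c : Cfg t x p) (hO : oddCore G = ⊥) (hZ : center G = ⊥)
    (hG : ∀ H : Subgroup G, H.index ≠ 2) {s : G} (hs : s ∈ Cz t) (hsK : s ∉ Cz x) {a : G}
    (ha : orderOf a = 2) (haK : a ∈ Cz x) : a = t := by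
  have := Fact.mk Nat.prime_two
  by_contra hat
  have hta : t * a = a * t := mem_Cz.mp (c.Cz_eq ha haK ▸ mem_Cz.mpr rfl)
  have hta2 : orderOf (t * a) = 2 := orderOf_eq_two
    (fun e => hat (by rw [← inv_eq_of_sq (sq_of_orderOf c.ht).2, eq_inv_of_mul_eq_one_right e])) (by
      calc t * a * (t * a) = t * (a * t) * a := by group
        _ = t * t * (a * a) := by rw [← hta]; group
        _ = 1 := by rw [(sq_of_orderOf c.ht).2, (sq_of_orderOf ha).2, mul_one])
  have SC : ∀ b ∈ Cz x, orderOf b = 2 → ∀ g : G, g * b * g⁻¹ ∈ Cz t → g * b * g⁻¹ ∈ Cz x := by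
    intro b hb ho g hg
    by_contra hgK
    have key : ∀ e ∈ Cz x, orderOf e = 2 → g * e * g⁻¹ ∈ Cz t ∧ g * e * g⁻¹ ∉ Cz x := by
      intro e he hoe
      have h1 : Cz (g * e * g⁻¹) = Cz (g * b * g⁻¹) := by
        rw [Cz, Cz, ← conj_smul_centralizer_singleton, ← conj_smul_centralizer_singleton]
        exact congrArg _ ((c.Cz_eq hoe he).trans (c.Cz_eq ho hb).symm)
      refine ⟨mem_Cz_comm.mp (h1 ▸ mem_Cz_comm.mp hg), fun h2 => hgK (mem_Cz_comm.mp ?_)⟩
      rw [← h1, c.Cz_eq ((Local.orderOf_conj g e).trans hoe) h2]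
      exact c.comm
    refine (key _ (mul_mem c.t_mem haK) hta2).2 ?_
    rw [← conj_mul]
    exact c.mul_mem_K hO hZ (key t c.t_mem c.ht).1 (key a haK ha).1 (key t c.t_mem c.ht).2
      (key a haK ha).2
  have cen : ∀ b ∈ Cz x, b * b = 1 → ∀ h ∈ Cz t, h * b = b * h := fun b hb hb2 h hh => by
    by_cases hb1 : b = 1
    · simp [hb1]
    · exact mem_Cz.mp (c.Cz_eq (orderOf_eq_two hb1 hb2) hb ▸ hh)
  let A : Subgroup G :=
    { carrier := {b | b ∈ Cz x ∧ b * b = 1}
      one_mem' := ⟨one_mem _, mul_one 1⟩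
      inv_mem' := fun {b} hb => by rwa [inv_eq_of_sq hb.2]
      mul_mem' := fun {b d} hb hd => ⟨mul_mem hb.1 hd.1, by
        calc b * d * (b * d) = b * (d * b) * d := by group
          _ = b * b * (d * d) := by rw [cen b hb.1 hb.2 d (c.K_le hd.1)]; group
          _ = 1 := by rw [hb.2, hd.2, mul_one]⟩ }
  have htA : t ∈ A := ⟨c.t_mem, (sq_of_orderOf c.ht).2⟩
  obtain ⟨U, hU⟩ := (isPGroup_of_sq (V := A) fun v hv => hv.2).exists_le_sylow
  set R := (U : Subgroup G) ⊓ normalizer (A : Set G) with hR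
  have hAR : A ≤ R := le_inf hU le_normalizer
  have hRH : R ≤ Cz t := by
    obtain ⟨⟨e, he, heC⟩, he1⟩ := ne_bot_iff_exists_ne_one.mp
      (PG.inf_centralizer_ne_bot_of_isNilpotent (S := R) U.isPGroup'.to_inf_left.isNilpotent hAR
        inf_le_right fun h => (sq_of_orderOf c.ht).1 (mem_bot.mp (h ▸ htA)))
    rw [← c.Cz_eq (orderOf_eq_two (fun h => he1 (Subtype.ext h)) he.2) he.1]
    exact fun r hr => mem_Cz.mpr (heC r hr)
  have hUH : (U : Subgroup G) ≤ Cz t := by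
    refine le_trans (le_of_eq (inf_le_left.eq_of_not_lt fun h => ?_).symm) hRH
    obtain ⟨u, ⟨hu, huN⟩, huR⟩ := SetLike.exists_of_lt
      (PG.lt_inf_normalizer_of_isNilpotent U.isPGroup'.isNilpotent h)
    refine huR ⟨hu, mem_normalizer_of_conj_mem fun b hb => ?_⟩
    by_cases hb1 : b = 1
    · simp [hb1]
    exact ⟨SC b hb.1 (orderOf_eq_two hb1 hb.2) u (hRH (conj_mem_of_mem_normalizer huN (hAR hb))),
      by rw [conj_mul, hb.2]; simp⟩
  have hs2 : orderOf s = 2 := orderOf_eq_two (fun e => hsK (e ▸ one_mem _)) (c.sq_eq_one hO hZ hs hsK)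
  obtain ⟨u, hu, -, huK⟩ := Local.thompson_idx' hG U (M := Cz x)
    (fun a ha b hb => c.mul_mem_K hO hZ (hUH ha) (hUH hb)) hs2
  obtain ⟨g, rfl⟩ := isConj_iff.mp hu.symm
  exact hsK (SC u huK (by rwa [Local.orderOf_conj] at hs2) g hs)

theorem x_mem_core (c : Cfg t x p) : x ∈ (oddCore (Cz t)).map (Cz t).subtype :=
  le_map_pPrimeCore (zpowers_le.mpr c.comm) c.Nz_x.ge
    (by rw [Nat.card_zpowers]; exact Nat.coprime_two_right.mpr c.odd) (mem_zpowers x)

theorem exists_not_mem [Gate.BenderCore.{u}] [Gate.S1136.{u, u}] [IsSimpleGroup G]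
    (c : Cfg t x p) (hO : oddCore G = ⊥) (hZ : center G = ⊥) : ∃ s ∈ Cz t, s ∉ Cz x := by
  have := Fact.mk Nat.prime_two
  by_contra hcon
  push Not at hcon
  obtain ⟨S, hS⟩ := (Local.isPGroup_zpowers_of_orderOf_eq c.ht).exists_le_sylow
  have htS := hS (mem_zpowers t)
  obtain ⟨z, hz, hz2, hzc⟩ := Local.exists_central_orderOf_eq S.isPGroup'
    fun h => (sq_of_orderOf c.ht).1 (mem_bot.mp (h ▸ htS))
  have hSH : (S : Subgroup G) ≤ Cz t := by
    rw [← c.Cz_eq hz2 (hcon z (mem_Cz.mpr (hzc t htS)))]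
    exact fun s hs => mem_Cz.mpr (hzc s hs).symm
  have hse : Local.SE 2 (normalizer (Cz t : Set G)) := by
    refine Local.SE.of_centralizer_normalizer (fun h => ?_) S (fun g hg => ?_) fun a ha ho => ?_
    · rcases (normalizer_eq_top_iff.mp h).eq_bot_or_eq_top with e | e
      · exact (sq_of_orderOf c.ht).1 (mem_bot.mp (e ▸ mem_Cz.mpr rfl))
      · exact (sq_of_orderOf c.ht).1 (mem_bot.mp (hZ ▸ mem_center_iff.mpr fun g =>
          mem_Cz.mp (e ▸ mem_top g)))
    · rw [mem_normalizer_iff_conj_smul_eq, conj_smul_centralizer_singleton]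
      exact c.Cz_eq ((Local.orderOf_conj g t).trans c.ht)
        (hcon _ (hSH (conj_mem_of_mem_normalizer hg htS)))
    · exact (c.Cz_eq ho (hcon a (hSH ha))).le.trans le_normalizer
  have h1 := (Bender.core_of_gate _).le_oddCore hse (N := (oddCore (Cz t)).map (Cz t).subtype)
    ((map_subtype_le _).trans le_normalizer)
    (Nat.coprime_two_right.mp (coprime_card_map_pPrimeCore 2 _))
    fun h hh n hn => conj_mem_of_mem_normalizer (normalizer_le_normalizer_map_pPrimeCore 2 _ hh) hn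
  exact c.x_ne (mem_bot.mp (hO ▸ h1 c.x_mem_core))

theorem central [Gate.S0508.{u}] [IsSimpleGroup G] (c : Cfg t x p) (hO : oddCore G = ⊥)
    (hZ : center G = ⊥) (hG : ∀ H : Subgroup G, H.index ≠ 2) {s : G} (hs : s ∈ Cz t)
    (hsK : s ∉ Cz x) (S : Sylow 2 G) (htS : t ∈ (S : Subgroup G)) (hSH : (S : Subgroup G) ≤ Cz t) :
    ∃ (F : Type) (_ : Field F) (_ : Fintype F), Odd (Fintype.card F) ∧ Nonempty (G ≃* PSL(2, F)) := by
  have := Fact.mk Nat.prime_two
  have uniq := fun a => c.invol_unique hO hZ hG hs hsK (a := a)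
  have hs2 := c.sq_eq_one hO hZ hs hsK
  have comm : ∀ a ∈ Cz x, ∀ b ∈ Cz x, a * b = b * a := fun a ha b hb => by
    rw [← inv_inj, ← c.inverts hs hsK hs2 (mul_mem ha hb), ← conj_mul, c.inverts hs hsK hs2 ha,
      c.inverts hs hsK hs2 hb, mul_inv_rev]
  obtain ⟨h, hh, hsS⟩ := Local.exists_conj_le_sylow S hSH (zpowers_le.mpr hs)
    (Local.isPGroup_zpowers_of_orderOf_eq (orderOf_eq_two (fun e => hsK (e ▸ one_mem _)) hs2))
  replace hsS := hsS s (mem_zpowers s)
  replace hsK : h * s * h⁻¹ ∉ Cz x := fun e => hsK (by simpa [mul_assoc] using c.conj_mem_K (inv_mem hh) e)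
  generalize h * s * h⁻¹ = r at hsS hsK
  have hr2 := c.sq_eq_one hO hZ (hSH hsS) hsK
  set D := (S : Subgroup G) ⊓ Cz x with hD
  have hcyc : IsCyclic D := by
    refine (PG.isCyclic_or_exists_gens_of_unique_involution S.isPGroup'.to_inf_left fun a b ha hb =>
      Subtype.ext ((uniq a (by rw [orderOf_coe, ha]) a.2.2).trans
        (uniq b (by rw [orderOf_coe, hb]) b.2.2).symm)).resolve_right ?_
    rintro ⟨a, b, n, hn, ha, -, -, -, e, -⟩
    rw [show b * a = a * b from Subtype.ext (comm _ b.2.2 _ a.2.2), mul_inv_cancel_right,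
      ← mul_eq_one_iff_eq_inv, ← sq, ← orderOf_dvd_iff_pow_eq_one, ha] at e
    have := (Nat.pow_dvd_pow_iff_le_right (k := n) (l := 1) one_lt_two).mp e
    omega
  obtain ⟨a, ha⟩ := PG.exists_zpowers_eq D
  have haD : a ∈ D := ha ▸ mem_zpowers a
  have hinv := c.inverts (hSH hsS) hsK hr2 haD.2
  have hS : closure {r, a} = S := by
    refine le_antisymm ((closure_le _).mpr (Set.pair_subset hsS haD.1)) fun y hy => ?_
    have h1 : D ≤ closure {r, a} := ha ▸ zpowers_le.mpr (subset_closure (by simp))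
    by_cases hyK : y ∈ Cz x
    · exact h1 ⟨hy, hyK⟩
    · exact (mul_mem_cancel_left (subset_closure (by simp))).mp
        (h1 ⟨mul_mem hsS hy, c.mul_mem_K hO hZ (hSH hsS) (hSH hy) hsK hyK⟩)
  have hOK : (oddCore (Cz t)).map (Cz t).subtype ≤ Cz x := fun y hy =>
    c.mem_K_of_odd (map_subtype_le _ hy) ((Nat.coprime_two_right.mp
      (coprime_card_map_pPrimeCore 2 _)).of_dvd_nat (orderOf_dvd_natCard _ hy))
  have hC : ∀ y, y ∈ centralizer ((oddCore (Cz t)).map (Cz t).subtype : Set G) ↔ y ∈ Cz x :=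
    fun y => ⟨fun h => mem_Cz.mpr (h x c.x_mem_core).symm, fun h b hb => comm b (hOK hb) y h⟩
  have hC' : centralizer ((oddCore (Cz t)).map (Cz t).subtype : Set G) = Cz x := ext hC
  refine Gate.S0508.out S (orderOf a) ?_ ⟨(MulEquiv.subgroupCongr ((Local.dihedralHom_range _ _ _).trans
    hS)).symm.trans (MonoidHom.ofInjective (Local.dihedralHom_injective hr2 hinv
      fun e => hsK (ha.le e).2)).symm⟩ t c.ht htS (fun s hs => mem_Cz.mp (hSH hs)) _ rfl
    (fun _ => ?_) (fun s hs hsC y hy => ?_) fun Y hY hY1 g hg => ?_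
  · have h1 := orderOf_dvd_of_mem_zpowers (ha.ge (⟨htS, c.t_mem⟩ : t ∈ D))
    rw [c.ht] at h1
    exact Nat.le_of_dvd (orderOf_pos a) h1
  · rw [hC']
    refine ⟨hcyc, index_eq_two_iff.mpr ⟨⟨r, hsS⟩, fun b => ?_⟩⟩
    by_cases hb : (b : G) ∈ Cz x
    · exact Or.inr ⟨⟨b.2, hb⟩, fun h => hsK ((mul_mem_cancel_left hb).mp h.2)⟩
    · exact Or.inl ⟨⟨mul_mem b.2 hsS, c.mul_mem_K hO hZ (hSH b.2) (hSH hsS) hb hsK⟩, fun h => hb h.2⟩
  · rw [hC] at hsC
    exact c.inverts (hSH hs) hsC (c.sq_eq_one hO hZ (hSH hs) hsC) (hOK hy)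
  · obtain ⟨⟨y, hy⟩, hy1⟩ := ne_bot_iff_exists_ne_one.mp hY1
    replace hy1 : g * y * g⁻¹ ≠ 1 := fun e => hy1 (Subtype.ext (conj_eq_one_iff.mp e))
    have h1 := hY (conj_mem_of_mem_normalizer hg hy)
    have h2 := (Local.orderOf_conj g t).trans c.ht
    have h3 := c.cn.Nz_odd h2 ((Nat.coprime_two_right.mp
      (coprime_card_map_pPrimeCore 2 _)).of_dvd_nat (orderOf_dvd_natCard _ h1)) hy1
      (conj_mem_Cz_conj.mpr (map_subtype_le _ (hY hy)))
    rw [c.Nz_eq (hOK h1) hy1] at h3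
    exact mem_Cz'.mpr (uniq _ h2 (mem_Cz_comm.mp (h3 ▸ c.comm)))

end Cfg

theorem CN.not_quasiDihedral (h : CN G) : ¬ IsQuasiDihedral G := by
  rintro ⟨n, hn, -, a, b, ha, hb, e⟩
  obtain ⟨n, rfl⟩ : ∃ m, n = m + 1 := ⟨n - 1, by omega⟩
  rw [Nat.add_sub_cancel] at e
  have h4 : 4 ≤ 2 ^ n := Nat.pow_le_pow_right (n := 2) (i := 2) (by norm_num) (by omega)
  have hb2 := (sq_of_orderOf hb).2
  have h1 : a * b * (a * b) = a ^ 2 ^ n := by
    rw [show a * b * (a * b) = a * (b * a * b⁻¹) * (b * b) by group, e, hb2, mul_one, ← pow_succ',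
      Nat.sub_add_cancel (by omega)]
  have h2 : a ^ 2 ^ n ≠ 1 := pow_ne_one_of_lt_orderOf (by omega) (by rw [ha, pow_succ]; omega)
  have h3 : a ^ 2 ^ n * a ^ 2 ^ n = 1 := by rw [← pow_add, ← mul_two, ← pow_succ, ← ha, pow_orderOf_eq_one]
  have h5 : a ∈ Nz (a * b) := by
    rw [h.Nz_eq_Cz (orderOf_eq_two h2 h3) (h1 ▸ mul_mem (mem_zpowers _) (mem_zpowers _)), mem_Cz,
      ← pow_succ, ← pow_succ']
  rcases conj_four (by rwa [h1]) (by rwa [h1]) h5 with h6 | h6
  · rw [mul_assoc, mul_right_inj, mul_inv_eq_iff_eq_mul] at h6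
    have h7 : b * a * b⁻¹ = a := by rw [← h6, mul_inv_cancel_right]
    rw [h7, show 2 ^ n - 1 = 2 ^ n - 2 + 1 by omega, pow_succ, right_eq_mul] at e
    exact pow_ne_one_of_lt_orderOf (by omega) (by rw [ha, pow_succ]; omega) e
  · rw [mul_inv_rev, mul_left_inj, inv_eq_of_sq hb2, ← mul_assoc, mul_eq_right, ← sq] at h6
    exact pow_ne_one_of_lt_orderOf (by omega) (by rw [ha, pow_succ]; omega) h6

theorem Cfg.dihedral {t x : G} {p : ℕ} (c : Cfg t x p) (hO : oddCore G = ⊥)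
    (hZ : center G = ⊥) (hG : ∀ H : Subgroup G, H.index ≠ 2) {s : G} (hs : s ∈ Cz t)
    (hsK : s ∉ Cz x) (S : Sylow 2 G) (htS : t ∈ (S : Subgroup G))
    (hSH : ¬ (S : Subgroup G) ≤ Cz t) : ∃ n, 2 ≤ n ∧ Nonempty (S ≃* DihedralGroup n) := by
  have := Fact.mk Nat.prime_two
  have uniq := fun a => c.invol_unique hO hZ hG hs hsK (a := a)
  set T := (S : Subgroup G) ⊓ Cz t with hT
  have hlt : T < S := inf_lt_left.mpr hSH
  obtain ⟨u, ⟨hu, huN⟩, huT⟩ := SetLike.exists_of_lt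
    (PG.lt_inf_normalizer_of_isNilpotent S.isPGroup'.isNilpotent hlt)
  have htT : t ∈ T := ⟨htS, mem_Cz.mpr rfl⟩
  have h1 := conj_mem_of_mem_normalizer huN htT
  have h2 := (Local.orderOf_conj u t).trans c.ht
  have h3 : u * t * u⁻¹ ∉ Cz x := fun e => huT ⟨hu, mem_Cz'.mpr (uniq _ h2 e)⟩
  have h4 : Cz x ⊓ T = zpowers t := by
    refine le_antisymm (fun y hy => ?_) (zpowers_le.mpr ⟨c.t_mem, htT⟩)
    by_cases hy1 : y = 1
    · exact hy1 ▸ one_mem _
    have h5 := conj_mem_Cz_conj (g := u).mpr (inv_conj_mem_of_mem_normalizer huN hy.2).2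
    rw [show u * (u⁻¹ * y * u) * u⁻¹ = y by group, mem_Cz_comm, mem_Cz',
      c.inverts h1.2 h3 (sq_of_orderOf h2).2 hy.1, inv_eq_iff_mul_eq_one] at h5
    exact uniq y (orderOf_eq_two hy1 h5) hy.1 ▸ mem_zpowers t
  have h5 : (Cz x).relIndex T = 2 := index_eq_two_iff.mpr ⟨⟨_, h1⟩, fun b => by
    by_cases hb : (b : G) ∈ Cz x
    · exact Or.inr ⟨hb, fun h => h3 ((mul_mem_cancel_left hb).mp h)⟩
    · exact Or.inl ⟨c.mul_mem_K hO hZ b.2.2 h1.2 hb h3, hb⟩⟩
  have h6 := card_inf_mul_relIndex (Cz x) T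
  rw [h4, h5, Nat.card_zpowers, c.ht] at h6
  have h7 := card_lt_of_lt hlt
  rcases S3224.result S.isPGroup' ⟨t, htS⟩ (by rw [← orderOf_coe, c.ht]) (by
    rw [Known.GL2.card_centralizer_subgroup, inf_comm, ← h6]) with ⟨n, ⟨e⟩⟩ | h | h
  · have := Nat.card_congr e.toEquiv
    rw [DihedralGroup.nat_card] at this
    exact ⟨n, by omega, ⟨e⟩⟩
  · exact absurd h (c.cn.of_injective _ (S : Subgroup G).subtype_injective).not_quasiDihedral
  · omega

theorem CN.exists_cfg (h : CN G) {t : G} (ht : orderOf t = 2) (hC : ¬ IsPGroup 2 (Cz t)) :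
    ∃ x p, Cfg t x p := by
  obtain ⟨x, hx, ho, hx1⟩ := exists_odd_of_not_isPGroup hC
  obtain ⟨r, hr, hd⟩ := Nat.exists_prime_and_dvd (mt orderOf_eq_one_iff.mp hx1)
  exact ⟨x ^ (orderOf x / r), r, h, ht, hr, by
    rintro rfl
    exact Nat.not_even_iff_odd.mpr ho (even_iff_two_dvd.mpr hd),
    orderOf_pow_orderOf_div (orderOf_pos x).ne' hd, pow_mem hx _⟩

theorem CN.card_le (h : CN G) {y : G} (hy : orderOf y = 4) :
    Nat.card (Cz (y ^ 2)) ≤ 2 * Nat.card (Cz y) := by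
  have h1 : orderOf (y ^ 2) = 2 := by rw [orderOf_pow, hy]; rfl
  have h2 := (zpowers y).normalizerMonoidHom.range.card_subgroup_dvd_card
  rw [← index_ker, normalizerMonoidHom_ker, IsCyclic.card_mulAut, Nat.card_zpowers, hy] at h2
  rw [← h.Nz_eq_Cz h1 (npow_mem_zpowers y 2), ← card_mul_relIndex_of_le (Cz_le_Nz y), mul_comm]
  refine Nat.mul_le_mul_right _ (Nat.le_of_dvd two_pos ?_)
  rw [Cz, ← centralizer_closure, ← zpowers_eq_closure]
  exact h2

theorem CN.not_szModel (h : CN G) {F : Type*} [Field F] [Fintype F] {τ : Chev.Tw F}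
    (M : Chev.SzModel τ G) : False := by
  have := Fact.mk Nat.prime_two
  have h1 := h.card_le (y := M.T 1 0) (orderOf_eq_prime_pow (n := 1) (p := 2)
    (by simp [M.T_sq_eq_one]) (M.T_pow_four 1 0))
  rw [M.card_centralizer_T one_ne_zero, Cz, M.centralizer_of_mem_Zat (p := M.inf)
    (by rw [M.Zat_inf, M.T_sq]; exact M.T_mem_Z _) (by simp [M.T_sq_eq_one]), M.card_Pat] at h1
  have := M.eight_le_card
  nlinarith

open Cfsg.Lib.Spor Cfsg.Lib.Spor.MP in
theorem not_CN_M21 : ¬ CN M21 := fun h => by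
  have hc := isClassList_M21
  have hr : (960096114190174093962263871970478112, 4, 16) ∈ reps21 := by decide
  have h1 := h.card_le (y := ⟨_, (hc.mem _ hr).2⟩) (by rw [← orderOf_coe]; exact hc.ord _ hr)
  rw [Known.GL2.card_centralizer_subgroup, Known.GL2.card_centralizer_subgroup, inf_comm,
    inf_comm _ M21, hc.cent _ hr] at h1
  obtain ⟨r, hr', g, hg, e⟩ := hc.exists_of_order (pow_mem (hc.mem _ hr).2 2) (k := 2)
    (by rw [orderOf_pow, hc.ord _ hr]; rfl)
  obtain rfl : r = (981818691054096003685363657089320992, 2, 64) := by simpa [reps21] using hr'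
  rw [coe_pow, hc.card_cent_conj (List.mem_filter.mp hr').1 hg e] at h1
  norm_num at h1

theorem three_lt_of_simple [IsSimpleGroup G] {F : Type*} [Field F] [Fintype F]
    (hF : Odd (Fintype.card F)) (e : G ≃* PSL(2, F)) : 3 < Fintype.card F := by
  have := Fact.mk Nat.prime_two
  refine (Known.GL2.three_le_card_of_odd hF).lt_of_ne fun h3 => ?_
  have h1 := Known.GL2.two_mul_card_PSL2 (F := F) (Known.GL2.two_ne_zero_of_odd hF)
  rw [← Nat.card_congr e.toEquiv, ← h3] at h1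
  obtain ⟨P⟩ : Nonempty (Sylow 2 G) := inferInstance
  have h2 : Nat.card P = 4 := by
    rw [P.card_eq_multiplicity, show Nat.card G = 12 by omega]; decide +kernel
  have h4 := (P : Subgroup G).card_mul_index
  rw [h2] at h4
  have h5 := card_dvd_of_injective (MulAction.toPermHom G (G ⧸ (P : Subgroup G))) (by
    rw [← MonoidHom.ker_eq_bot_iff, ← normalCore_eq_ker]
    exact Bender.normalCore_eq_bot_of_simple fun h => by rw [h, index_top] at h4; omega)
  rw [Nat.card_perm, ← index_eq_card, show (P : Subgroup G).index = 3 by omega,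
    show Nat.card G = 12 by omega] at h5
  exact absurd h5 (by decide)

/-- The simple groups with this property are the groups `PSL₂(q)`. -/
theorem CN.simple [Gate.CITStrong.{u}] [Gate.BenderCore.{u}] [Gate.S1136.{u, u}] [Gate.S0508.{u}]
    [IsSimpleGroup G] (h : CN G) (hna : ∃ a b : G, a * b ≠ b * a) :
    ∃ (F : Type) (_ : Field F) (_ : Fintype F), 3 < Fintype.card F ∧ Nonempty (G ≃* PSL(2, F)) := by
  have := Fact.mk Nat.prime_two
  by_cases hcit : IsCIT G
  · rcases Gate.CITStrong.out hna hcit with ⟨F, _, _, hF, e⟩ | ⟨F, _, _, hF, ⟨e⟩⟩ |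
      ⟨F, _, _, m, hm, hF, ⟨e⟩⟩
    · refine ⟨F, inferInstance, inferInstance, ?_, e⟩
      rcases hF with hF | ⟨n, hn, hF⟩ | hF
      · omega
      · have : 2 ^ 2 ≤ 2 ^ n := Nat.pow_le_pow_right (by norm_num) hn
        omega
      · omega
    · obtain ⟨e'⟩ := Spor.MP.M21_equiv_PSL F hF
      exact (not_CN_M21 (h.of_injective (e'.trans e.symm).toMonoidHom (e'.trans e.symm).injective)).elim
    · exact (h.not_szModel ((Chev.lieSzModel hm hF).ofEquiv e)).elim
  simp only [IsCIT, not_forall] at hcit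
  obtain ⟨t, ht, hC⟩ := hcit
  obtain ⟨x, p, c⟩ := h.exists_cfg ht hC
  have hO := Bender.oddCore_eq_bot_of_simple (G := G)
    (even_iff_two_dvd.mpr (ht ▸ orderOf_dvd_natCard t))
  obtain ⟨a, b, hab⟩ := hna
  have hZ : center G = ⊥ := (IsSimpleGroup.eq_bot_or_eq_top_of_normal _ inferInstance).resolve_right fun e =>
    hab (mem_center_iff.mp (e ▸ mem_top b) a)
  have hG : ∀ H : Subgroup G, H.index ≠ 2 := fun H hH => by
    rcases (normal_of_index_eq_two hH).eq_bot_or_eq_top with rfl | rfl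
    · rw [index_bot] at hH
      have := isCyclic_of_prime_card hH
      exact hab (IsCyclic.isMulCommutative.is_comm.comm a b)
    · rw [index_top] at hH; omega
  suffices ∃ (F : Type) (_ : Field F) (_ : Fintype F), Odd (Fintype.card F) ∧
      Nonempty (G ≃* PSL(2, F)) by
    obtain ⟨F, _, _, hF, ⟨e⟩⟩ := this
    exact ⟨F, _, _, three_lt_of_simple hF e, ⟨e⟩⟩
  obtain ⟨S, hS⟩ := (Local.isPGroup_zpowers_of_orderOf_eq ht).exists_le_sylow
  have htS := hS (mem_zpowers t)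
  obtain ⟨s, hs, hsK⟩ := c.exists_not_mem hO hZ
  by_cases hSH : (S : Subgroup G) ≤ Cz t
  · exact c.central hO hZ hG hs hsK S htS hSH
  obtain ⟨n, hn, e⟩ := c.dihedral hO hZ hG hs hsK S htS hSH
  obtain ⟨z, hz, hz2, hzc⟩ := Local.exists_central_orderOf_eq S.isPGroup'
    fun h => (sq_of_orderOf c.ht).1 (mem_bot.mp (h ▸ htS))
  by_cases hzC : IsPGroup 2 (Cz z)
  · have h1 : (oddCore (Cz z)).map (Cz z).subtype = ⊥ := by
      rw [← inf_eq_bot_of_isPGroup_of_coprime hzC (coprime_card_map_pPrimeCore 2 (Cz z)),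
        inf_eq_right.mpr (map_subtype_le _)]
    exact Gate.S0508.out S n hn e z hz2 hz (fun s hs => (hzc s hs).symm) ⊥ h1.symm
      (fun h => absurd rfl h) (fun s _ _ y hy => by simp [mem_bot.mp hy])
      fun Y hY h => absurd (le_bot_iff.mp hY) h
  obtain ⟨x', p', c'⟩ := h.exists_cfg hz2 hzC
  obtain ⟨s', hs', hsK'⟩ := c'.exists_not_mem hO hZ
  exact c'.central hO hZ hG hs' hsK' S hz fun s hs => mem_Cz.mpr (hzc s hs).symm

end Cfsg.Lib.Recog
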