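import Cfsg.Agent.GW.Assembly
import Cfsg.Agent.GW.L2Tor
import Cfsg.Agent.GW.A7Perm
import Cfsg.Agent.GW.Cor
import Cfsg.Agent.Inst.S0483
import Cfsg.Agent.Solv.PGroupNormal

/-!
D-groups as involution centralizers: basic facts and the case of dihedral Sylow 2-subgroups.
-/

set_option autoImplicit false

namespace Cfsg.Lib.DGp

open Subgroup Cfsg.Lib.GW Cfsg.Lib.Known Cfsg.Lib.Trans
open scoped MatrixGroups commutatorElement

universe u

/-- `K` is a D-group with respect to `A`. -/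
structure DG {G : Type*} [Group G] (K A : Subgroup G) : Prop where
  lt : A < K
  sq : ∀ x ∈ K, x ∉ A → x * x = 1

/-- The target groups. -/
def Tgt (X : Type*) [Group X] : Prop :=
  ∃ (F : Type) (_ : Field F) (_ : Fintype F), 3 < Fintype.card F ∧
    (Nonempty (X ≃* Matrix.ProjectiveSpecialLinearGroup (Fin 2) F) ∨
      Nonempty (X ≃* Matrix.ProjGenLinGroup (Fin 2) F))

theorem Tgt.of_equiv {X Y : Type*} [Group X] [Group Y] (h : Tgt X) (e : X ≃* Y) : Tgt Y := by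
  obtain ⟨F, i1, i2, h3, ⟨⟨f⟩⟩ | ⟨⟨f⟩⟩⟩ := h
  · exact ⟨F, i1, i2, h3, Or.inl ⟨e.symm.trans f⟩⟩
  · exact ⟨F, i1, i2, h3, Or.inr ⟨e.symm.trans f⟩⟩

theorem mem_of_coprime {G : Type*} [Group G] {H : Subgroup G} {g : G} {a b : ℕ}
    (h : a.Coprime b) (ha : g ^ a ∈ H) (hb : g ^ b ∈ H) : g ∈ H := by
  have h1 := Nat.gcd_eq_gcd_ab a b
  rw [h] at h1
  have : g = (g ^ a) ^ (Nat.gcdA a b) * (g ^ b) ^ (Nat.gcdB a b) := by
    rw [← zpow_natCast, ← zpow_natCast, ← zpow_mul, ← zpow_mul, ← zpow_add, ← h1]; simp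
  rw [this]
  exact mul_mem (zpow_mem ha _) (zpow_mem hb _)

namespace DG

variable {G : Type*} [Group G] {K A : Subgroup G} (h : DG K A)
include h

theorem le : A ≤ K := h.lt.le

theorem exists_not_mem : ∃ x ∈ K, x ∉ A := SetLike.exists_of_lt h.lt

theorem inv {x a : G} (hx : x ∈ K) (hx' : x ∉ A) (ha : a ∈ A) : x * a * x⁻¹ = a⁻¹ := by
  have h1 := h.sq x hx hx'
  have h2 := h.sq (x * a) (mul_mem hx (h.le ha)) (fun h' => hx' (by simpa using mul_mem h' (inv_mem ha)))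
  rw [inv_eq_of_mul_eq_one_right h1]
  exact eq_inv_of_mul_eq_one_left (by simpa only [mul_assoc] using h2)

theorem comm {a b : G} (ha : a ∈ A) (hb : b ∈ A) : a * b = b * a := by
  obtain ⟨x, hx, hx'⟩ := h.exists_not_mem
  have h1 := h.inv hx hx' (mul_mem ha hb)
  rw [← conj_mul, h.inv hx hx' ha, h.inv hx hx' hb, mul_inv_rev] at h1
  simpa using congrArg Inv.inv h1.symm

/-- An element commuting with an element of `A` of order greater than two lies in `A`. -/
theorem mem_of_comm {x a : G} (hx : x ∈ K) (ha : a ∈ A) (h2 : a * a ≠ 1) (hc : x * a = a * x) :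
    x ∈ A := by
  by_contra hx'
  have := h.inv hx hx' ha
  rw [hc, mul_inv_cancel_right] at this
  exact h2 (mul_eq_one_iff_eq_inv.2 this)

theorem mem_of_sq {x : G} (hx : x ∈ K) (h2 : x * x ≠ 1) : x ∈ A := by
  by_contra hx'
  exact h2 (h.sq x hx hx')

theorem mem_of_odd {x : G} (hx : x ∈ K) (h2 : Odd (orderOf x)) : x ∈ A := by
  by_contra hx'
  have := L2.eq_one_of_odd h2 (h.sq x hx hx')
  exact hx' (this ▸ one_mem _)

/-- An involution of `A` is central in `K`. -/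
theorem comm_of_sq {x a : G} (hx : x ∈ K) (ha : a ∈ A) (h2 : a * a = 1) : x * a = a * x := by
  by_cases hx' : x ∈ A
  · exact h.comm hx' ha
  · have := h.inv hx hx' ha
    rw [inv_eq_of_mul_eq_one_right h2] at this
    exact mul_inv_eq_iff_eq_mul.1 this

theorem conj_mem {x a : G} (hx : x ∈ K) (ha : a ∈ A) : x * a * x⁻¹ ∈ A := by
  by_cases hx' : x ∈ A
  · exact mul_mem (mul_mem hx' ha) (inv_mem hx')
  · rw [h.inv hx hx' ha]; exact inv_mem ha

theorem mul_mem_of_not_mem {a₀ x y : G} (ha : a₀ ∈ A) (h2 : a₀ * a₀ ≠ 1) (hx : x ∈ K) (hx' : x ∉ A)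
    (hy : y ∈ K) (hy' : y ∉ A) : x * y ∈ A := by
  refine h.mem_of_comm (mul_mem hx hy) ha h2 ?_
  have h1 := h.inv hy hy' ha
  have h3 := h.inv hx hx' (inv_mem ha)
  rw [inv_inv, ← h1] at h3
  rw [← mul_inv_eq_iff_eq_mul]
  calc x * y * a₀ * (x * y)⁻¹ = x * (y * a₀ * y⁻¹) * x⁻¹ := by group
    _ = a₀ := h3

/-- A subgroup containing all involutions contains a D-group. -/
theorem le_of_invol {P : Subgroup G} (hP : ∀ x, orderOf x = 2 → x ∈ P) : K ≤ P := by
  have key : ∀ x ∈ K, x ∉ A → x ∈ P := fun x hx hx' =>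
    hP x (L2.orderOf_of_mul_self (h.sq x hx hx') (fun h1 => hx' (h1 ▸ one_mem _)))
  intro g hg
  by_cases hg' : g ∈ A
  · obtain ⟨x, hx, hx'⟩ := h.exists_not_mem
    have := key (x * g) (mul_mem hx hg) (fun h' => hx' (by simpa using mul_mem h' (inv_mem hg')))
    simpa using mul_mem (inv_mem (key x hx hx')) this
  · exact key g hg hg'

theorem map {G' : Type*} [Group G'] (f : G →* G') (hf : K ⊓ f.ker ≤ A) :
    DG (K.map f) (A.map f) where
  lt := by
    refine lt_of_le_of_ne (map_mono h.le) fun he => ?_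
    obtain ⟨x, hx, hx'⟩ := h.exists_not_mem
    obtain ⟨a, ha, h1⟩ := he.ge (mem_map_of_mem f hx)
    have : a⁻¹ * x ∈ A := hf (mem_inf.2 ⟨mul_mem (inv_mem (h.le ha)) hx, by
      change f (a⁻¹ * x) = 1
      rw [map_mul, map_inv, h1, inv_mul_cancel]⟩)
    exact hx' (by simpa using mul_mem ha this)
  sq := by
    rintro _ ⟨x, hx, rfl⟩ h1
    rw [← map_mul, h.sq x hx (fun h2 => h1 (mem_map_of_mem f h2)), map_one]

theorem conj_mem_of_normalizer {a₀ g a : G} (ha₀ : a₀ ∈ A) (h2 : a₀ * a₀ ≠ 1)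
    (hg : ∀ x ∈ K, g * x * g⁻¹ ∈ K) (ha : a ∈ A) : g * a * g⁻¹ ∈ A := by
  have h3 : g * a₀ * g⁻¹ * (g * a₀ * g⁻¹) ≠ 1 := by
    rw [conj_mul]
    intro h4
    exact h2 (by simpa using h4)
  refine h.mem_of_comm (hg a (h.le ha)) (h.mem_of_sq (hg a₀ (h.le ha₀)) h3) h3 ?_
  rw [conj_mul, conj_mul, h.comm ha ha₀]

end DG

variable {X : Type u} [Group X] [Finite X]

theorem exists_comp (hns : ¬ Group.IsSolvable X) (hO : oddCore X = ⊥) (hX : Dih2 X) :
    ∃ E : Subgroup X, E.Normal ∧ centralizer (E : Set X) = ⊥ ∧ IsL2A7 E := by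
  obtain ⟨n, hn⟩ : ∃ n, derivedSeries X (n + 1) = derivedSeries X n := by
    by_contra h
    push Not at h
    have hs : StrictAnti (derivedSeries X) := strictAnti_nat_of_succ_lt fun n =>
      lt_of_le_of_ne (commutator_le_left _ _) (h n)
    exact (Finite.of_injective _ hs.injective).false
  set E := derivedSeries X n with hE
  have hp : ⁅E, E⁆ = E := hn
  have h0 : E ≠ ⊥ := fun h => hns ⟨⟨n, h⟩⟩
  haveI : E.Normal := derivedSeries_normal X n
  haveI : Nontrivial E := (nontrivial_iff_ne_bot E).2 h0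
  have hc : commutator E = ⊤ := by
    apply map_injective E.subtype_injective
    rw [_root_.commutator_def, map_commutator, ← MonoidHom.range_eq_map, range_subtype, hp]
  have hs : IsSimpleGroup E := Dih2.isSimpleGroup (hX.subgroup E) hc
    (Solv.pPrimeCore_eq_bot_of_isSubnormal (Normal.isSubnormal inferInstance) hO)
  have hna : ¬ IsMulCommutative E := fun h => by
    have : commutator E = ⊥ := by
      rw [_root_.commutator_def, commutator_eq_bot_iff_le_centralizer]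
      intro x _ y _
      exact mul_comm' y x
    rw [hc] at this
    exact top_ne_bot this
  refine ⟨E, inferInstance, ?_, (hX.subgroup E).isL2A7 hna⟩
  obtain ⟨Q, hQ⟩ := exists_isSylowIn (p := 2) (centralizer (E : Set X))
  have h1 : Q = ⊥ := hX.eq_bot_of_perfect hp h0 hQ.isPGroup
    ((le_centralizer_iff.1 hQ.le).trans (centralizer_le_normalizer _))
  have h2 := hQ.eq_bot_iff.1 h1
  exact le_bot_iff.1 (hO ▸ Solv.le_pPrimeCore inferInstance
    ((Nat.coprime_comm.1 ((Nat.Prime.coprime_iff_not_dvd Nat.prime_two).2 h2))))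

theorem not_a7 (hX : Dih2 X) {z w w' c : X} (D : Lift.A7Data X z w w' c) {j : X}
    (hj : orderOf j = 2) {A : Subgroup X} (h : DG (C1 j) A) : False := by
  haveI := D.simple
  have hna : ¬ IsMulCommutative X := fun _ => D.cw' (mem_C1.2 (mul_comm' _ _))
  obtain ⟨g, hg⟩ := hX.isConj hna hj (orderOf_left D.zw)
  have h' := h.map (MulAut.conj g).toMonoidHom (by
    rw [(MonoidHom.ker_eq_bot_iff _).2 (MulAut.conj g).injective]; simp)
  have h1 : (C1 j).map (MulAut.conj g).toMonoidHom = C1 z := hg ▸ cj_C1 g j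
  rw [h1] at h'
  have hc : c * c ≠ 1 := fun h2 => by
    have := orderOf_dvd_of_pow_eq_one (x := c) (n := 2) (by rwa [pow_two])
    rw [D.oc3] at this
    omega
  have hcA := h'.mem_of_sq D.cz hc
  have hwA := h'.mem_of_comm (right_mem_C1 D.zw) hcA hc (mem_C1.1 D.cw).symm
  have h3 := h'.comm_of_sq (right_mem_C1 D.zw') hwA D.zw.sq_b
  have h4 := L2.dih2_mem_four hX D.zw D.zw'.sq_b (mem_C1.1 (right_mem_C1 D.zw')) h3
  exact D.cw' (mem_C1_comm.1 ((four_le_iff (H := C1 c)).2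
    ⟨mem_C1_comm.1 D.cz, mem_C1_comm.1 D.cw⟩ h4))

theorem tgt_of_dih (hns : ¬ Group.IsSolvable X) (hO : oddCore X = ⊥) (hX : Dih2 X) {j : X}
    (hj : orderOf j = 2) {A : Subgroup X} (h : DG (C1 j) A) : Tgt X := by
  obtain ⟨E, hEn, hC, ⟨F, _, _, ho, h3, ⟨e⟩⟩ | ⟨⟨e⟩⟩⟩ := exists_comp hns hO hX
  swap
  · obtain ⟨-, z, w, w', c, D⟩ := Lift.exists_a7Data hX E hC e
    exact (not_a7 hX D hj h).elim
  have ho' := ho
  have h3' := h3
  rw [← Nat.card_eq_fintype_card] at ho' h3'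
  obtain ⟨M, rfl⟩ := L2.exists_PM ho' E hC e
  obtain ⟨κ, ε, H⟩ := L2.exists_par ho' h3'
  obtain ⟨a, ha, b, hb, hab⟩ := L2.PM.exists_four (M := M) H
  have hI := L2.PM.mem_P_of_invol (M := M) H hX
  have hEP : M.E ≤ M.P := L2.PM.up_le_P _
  have h2P : ∀ Q : Subgroup X, IsPGroup 2 Q → Q ≤ M.P := fun Q hQ =>
    L2.dih2_le_of_invol hX hab hI hQ
  have hjP : C1 j ≤ M.P := h.le_of_invol hI
  -- an involution of `E` commuting with `j`
  obtain ⟨T, hT⟩ := (Lift.pgrp_zpowers (p := 2) (k := 1) (x := j)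
    (by rw [pow_one, ← hj, pow_orderOf_eq_one])).exists_le_sylow
  have hTE := isSylowIn_inf_of_normal T M.E
  have h0 : (T : Subgroup X) ⊓ M.E ≠ ⊥ := fun h0 => hTE.eq_bot_iff.1 h0
    (orderOf_left hab ▸ orderOf_dvd_natCard M.E ha)
  obtain ⟨z, hz, hzT, -, hz2⟩ := Solv.PG.exists_mem_centralizer_orderOf_eq T.isPGroup'
    hTE.isPGroup (le_inf le_normalizer le_normalizer_of_normal |>.trans
      inf_normalizer_le_normalizer_inf) h0
  have hjz : j ∈ C1 z := mem_C1.2 (hzT j (hT (mem_zpowers j)))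
  have hU : UU z ≤ M.P := fun u hu => by
    obtain ⟨c, hc, y, -, -, hy, rfl⟩ := exists_mul_of_odd hj (C1_le_normalizer_UU z hjz)
      (odd_card_UU z) hu
    refine mul_mem (hjP hc.2) (hEP ((commutator_le.2 fun s _ t _ => ?_) hy))
    exact L2.PM.commutator_mem_E H.two_ne_zero s t
  have hzP : C1 z ≤ M.P := fun x hx => by
    obtain ⟨k, m, hm, hk⟩ := Nat.exists_eq_two_pow_mul_odd (orderOf_pos x).ne'
    refine mem_of_coprime (a := 2 ^ k) (b := m)
      (Nat.Coprime.pow_left _ (Nat.coprime_two_left.2 hm)) ?_ ?_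
    · refine hU (hX.mem_UU hz2 (pow_mem hx _) (hm.of_dvd_nat (orderOf_dvd_of_pow_eq_one ?_)))
      rw [← pow_mul, ← hk, pow_orderOf_eq_one]
    · refine h2P _ (Lift.pgrp_zpowers (p := 2) (k := k) ?_) (mem_zpowers _)
      rw [← pow_mul, mul_comm, ← hk, pow_orderOf_eq_one]
  have hP : (⊤ : Subgroup X) ≤ M.P := fun g _ => by
    obtain ⟨s, hs, h1⟩ := L2.PM.conj (M := M) z hz.2 (g * z * g⁻¹) (hEn.conj_mem _ hz.2 g) hz2
      (by rw [GW.orderOf_conj_eq, hz2])
    have : s⁻¹ * g ∈ C1 z := mem_C1_iff_conj.2 (by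
      rw [mul_inv_rev, inv_inv]
      calc s⁻¹ * g * z * (g⁻¹ * s) = s⁻¹ * (g * z * g⁻¹) * s := by group
        _ = z := by rw [← h1]; group)
    simpa using mul_mem (hEP hs) (hzP this)
  have hle : Class.psl2 F ≤ M.down ⊤ := fun g hg => by
    obtain ⟨x, -, hx⟩ := L2.PM.exists_R' (M := M) hg
    exact ⟨x, mem_top _, hx⟩
  have e1 : X ≃* M.down ⊤ := topEquiv.symm.trans (L2.PM.downEquiv hP)
  have hco := Solv.PG.isCoatom_of_index_prime (M := Class.psl2 F)
    (by rw [Class.index_psl2_eq_two (ringChar_ne_two ho')]; exact Nat.prime_two)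
  refine ⟨F, inferInstance, inferInstance, h3, ?_⟩
  rcases hle.eq_or_lt with h1 | h1
  · exact Or.inl ⟨e1.trans ((MulEquiv.subgroupCongr h1.symm).trans (Class.pslEquivPsl2 F).symm)⟩
  · exact Or.inr ⟨e1.trans ((MulEquiv.subgroupCongr (hco.2 _ h1)).trans topEquiv)⟩

end Cfsg.Lib.DGp
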