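import Cfsg.Agent.Recog.DGrpA
import Cfsg.Agent.CITCor.L2Even
import Cfsg.Agent.Cor.OddSol
import Cfsg.Agent.Block.ZStarElt
import Cfsg.Agent.Trans.TransferTools
import Cfsg.Agent.Solv.Conj
import Cfsg.Agent.Solv.SchurZassenhaus
import Cfsg.Agent.Solv.CoprimeAbelian
import Cfsg.Agent.Inst.BenderCore
import Cfsg.Agent.Inst.S1136

/-!
D-groups as involution centralizers: the cases leading to `L₂(2ⁿ)`.
-/

set_option autoImplicit false

namespace Cfsg.Lib.DGp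

open Subgroup Cfsg.Lib.GW Cfsg.Lib.Known Cfsg.Lib.Trans Cfsg.Lib.CITCor
open scoped MatrixGroups commutatorElement

universe u

/-- The conclusion of the theorem. -/
def Concl (G : Type*) [Group G] : Prop :=
  ∃ (N : Subgroup G) (_ : N.Normal),
    (Odd (Nat.card N) ∨ ∃ m : ℕ, Odd m ∧ Nat.card N = 2 * m) ∧ Tgt (G ⧸ N)

variable {G : Type u} [Group G] [Finite G]

theorem concl_odd (h : Tgt (G ⧸ oddCore G)) : Concl G :=
  ⟨_, inferInstance, Or.inl (Solv.odd_card_oddCore G), h⟩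

theorem concl_two {d : G ⧸ oddCore G} (hd : orderOf d = 2) [(zpowers d).Normal]
    (h : Tgt ((G ⧸ oddCore G) ⧸ zpowers d)) : Concl G := by
  let f := (QuotientGroup.mk' (zpowers d)).comp (QuotientGroup.mk' (oddCore G))
  have hf : Function.Surjective f :=
    (QuotientGroup.mk'_surjective _).comp (QuotientGroup.mk'_surjective _)
  refine ⟨f.ker, inferInstance, Or.inr ⟨_, Solv.odd_card_oddCore G, ?_⟩,
    h.of_equiv (QuotientGroup.quotientKerEquivOfSurjective f hf).symm⟩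
  have : f.ker = (zpowers d).comap (QuotientGroup.mk' (oddCore G)) := by
    rw [← MonoidHom.comap_ker, QuotientGroup.ker_mk']
  rw [this, Solv.card_comap_mk', Nat.card_zpowers, hd]

theorem tgt_of_l2 {X : Type*} [Group X] (h : IsL2Even X) : Tgt X := by
  obtain ⟨F, i1, i2, ⟨n, hn, hF⟩, e⟩ := h
  refine ⟨F, i1, i2, ?_, Or.inl e⟩
  have := Nat.pow_le_pow_right two_pos hn
  omega

theorem sq_of_l2 {X : Type*} [Group X] (h : IsL2Even X) {x : X} {k : ℕ} (hx : x ^ 2 ^ k = 1) :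
    x * x = 1 := by
  obtain ⟨F, i1, i2, ⟨n, hn, hF⟩, ⟨e⟩⟩ := h
  obtain ⟨ι, hι, -⟩ := exists_hom_psl2 e
  haveI : CharP F 2 := CharTwo.of_one_ne_zero_of_two_eq_zero one_ne_zero
    (two_eq_zero_of_card (by omega) hF)
  by_contra h2
  have h3 : ι x ^ 2 ≠ 1 := by rw [← map_pow, ← map_one ι, hι.ne_iff, pow_two]; exact h2
  obtain ⟨a, b, hT, hab⟩ := Class.exists_torusPair 2 h3
  have h4 : Odd (Nat.card (Class.fixPair (F := F) a b)) := by
    have h5 : Even (Nat.card F) := by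
      rw [Nat.card_eq_fintype_card, hF]
      exact (Nat.even_pow.2 ⟨even_two, by omega⟩)
    have h6 : 0 < Nat.card F := Nat.card_pos
    rcases hT.card_fixPair with h7 | h7 <;> rw [h7]
    · exact Nat.Even.sub_odd h6 h5 odd_one
    · exact h5.add_one
  have h8 := odd_orderOf_of_mem h4 hab
  rw [orderOf_injective ι hι] at h8
  have h9 := ((Nat.coprime_two_right.2 h8).pow_right k).eq_one_of_dvd
    (orderOf_dvd_of_pow_eq_one hx)
  exact h2 (by rw [orderOf_eq_one_iff.1 h9, mul_one])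

theorem l2_of_abCent (h : AbCent G) (hns : ¬ Group.IsSolvable G) (h2 : Chev.RankOne.TwoRank G) :
    IsL2Even (G ⧸ oddCore G) := by
  obtain ⟨S⟩ := (inferInstance : Nonempty (Sylow 2 G))
  exact h.isL2Even_quotient S (fun hn => hns (Cor.isSolvable_of_normal_sylow_two S hn)) h2

omit [Finite G] in
theorem comm_of_sq {K : Subgroup G} (h : ∀ x ∈ K, x * x = 1) {a b : G} (ha : a ∈ K) (hb : b ∈ K) :
    a * b = b * a := by
  have h1 := inv_eq_of_mul_eq_one_right (h _ (mul_mem ha hb))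
  rw [mul_inv_rev, inv_eq_of_mul_eq_one_right (h _ ha), inv_eq_of_mul_eq_one_right (h _ hb)] at h1
  exact h1.symm

omit [Finite G] in
theorem pgrp_of_sq {x : G} (h : x * x = 1) : IsPGroup 2 (zpowers x) :=
  Lift.pgrp_zpowers (p := 2) (k := 1) (by rwa [pow_one, pow_two])

theorem exists_conj_mem {T K : Subgroup G} (hT : IsSylowIn 2 T K) {x : G} (hx : x ∈ K)
    (h : x * x = 1) : ∃ g ∈ K, g * x * g⁻¹ ∈ T := by
  obtain ⟨g, hg, h1⟩ := hT.exists_cj_le (pgrp_of_sq h) (zpowers_le.2 hx)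
  exact ⟨g, hg, cj_le_iff.1 h1 x (mem_zpowers x)⟩

omit [Finite G] in
theorem conj_comm {g a b : G} : g * a * g⁻¹ * (g * b * g⁻¹) = g * b * g⁻¹ * (g * a * g⁻¹) ↔
    a * b = b * a := by
  rw [conj_mul, conj_mul, mul_left_inj, mul_right_inj]

omit [Finite G] in
theorem exists_not_mem_zpowers {K : Subgroup G} (h4 : 4 ∣ Nat.card K) {x : G} (h : x * x = 1) :
    ∃ y ∈ K, y ∉ zpowers x := by
  by_contra h1
  push Not at h1
  have h2 := card_dvd_of_le (show K ≤ zpowers x from h1)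
  rw [Nat.card_zpowers] at h2
  have := h4.trans (h2.trans (orderOf_dvd_of_pow_eq_one (n := 2) (by rwa [pow_two])))
  omega

omit [Finite G] in
theorem normal_zpowers {d : G} (h : d ∈ center G) : (zpowers d).Normal :=
  ⟨fun x hx g => by
    rw [mem_center_iff.1 (zpowers_le.2 h hx) g, mul_inv_cancel_right]; exact hx⟩

omit [Finite G] in
theorem mem_zpowers_two {d x : G} (h : d * d = 1) (hx : x ∈ zpowers d) : x = 1 ∨ x = d := by
  obtain ⟨k, rfl⟩ := hx
  have h2 : d ^ (2 : ℤ) = 1 := by rw [zpow_two, h]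
  rcases Int.even_or_odd' k with ⟨m, rfl | rfl⟩
  · left; simp only [zpow_mul, h2, one_zpow]
  · right; simp only [zpow_add, zpow_mul, h2, one_zpow, zpow_one, one_mul]

/-- The hypotheses of the theorem. -/
structure Hyp (H A : Subgroup G) : Prop extends DG H A where
  four : 4 ∣ Nat.card H
  cent : ∀ j ∈ H, orderOf j = 2 → (∀ h ∈ H, h * j = j * h) → C1 j = H

namespace Hyp

variable {H A : Subgroup G} (h : Hyp H A)
include h

omit [Finite G] in
theorem C1_eq {j : G} (hj : j ∈ A) (hj2 : orderOf j = 2) : C1 j = H :=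
  h.cent j (h.le hj) hj2 fun _ hx => h.comm_of_sq hx hj (mul_self_of_two hj2)

theorem caseE (hE : ∀ x ∈ H, x * x = 1) (hns : ¬ Group.IsSolvable G) : Concl G := by
  have hC : ∀ t ∈ H, orderOf t = 2 → C1 t = H := fun t ht h2 =>
    h.cent t ht h2 fun x hx => DGp.comm_of_sq hE hx ht
  have hp : IsPGroup 2 H := Solv.PG.isPGroup_of_forall_mem fun x hx =>
    ⟨1, by rw [pow_one, pow_two, hE x hx]⟩
  obtain ⟨T, hT⟩ := hp.exists_le_sylow
  obtain ⟨a, ha, ha'⟩ := exists_not_mem_zpowers h.four (mul_one (1 : G))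
  obtain ⟨b, hb, hb'⟩ := exists_not_mem_zpowers h.four (hE a ha)
  have ha1 : a ≠ 1 := fun h1 => ha' (by rw [h1]; exact one_mem _)
  have hTH : (T : Subgroup G) ≤ H := by
    obtain ⟨z, -, hzT, -, hz2⟩ := Solv.PG.exists_mem_centralizer_orderOf_eq T.isPGroup'
      T.isPGroup' le_normalizer (fun h0 => ha1 (mem_bot.1 (h0 ▸ hT ha)))
    have hz : z ∈ H := hC a ha (L2.orderOf_of_mul_self (hE a ha) ha1) ▸
      mem_C1.2 (hzT a (hT ha)).symm
    exact fun t ht => hC z hz hz2 ▸ mem_C1.2 (hzT t ht)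
  refine concl_odd (tgt_of_l2 (l2_of_abCent (fun t x y ht hx hy => ?_) hns
    ⟨a, b, ha1, fun h1 => hb' (h1 ▸ one_mem _), fun h1 => hb' (h1 ▸ mem_zpowers _), hE a ha,
      hE b hb, DGp.comm_of_sq hE ha hb⟩))
  obtain ⟨g, -, hg⟩ := exists_conj_mem (isSylowIn_top T) (mem_top t) (mul_self_of_two ht)
  have h1 := hC _ (hTH hg) (by rw [GW.orderOf_conj_eq, ht])
  exact conj_comm.1 (DGp.comm_of_sq hE (h1 ▸ mem_C1.2 (conj_comm.2 hx))
    (h1 ▸ mem_C1.2 (conj_comm.2 hy)))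

omit [Finite G] in
theorem norm_of_conj {j g : G} (hj : j ∈ A) (hj2 : orderOf j = 2) (hg : g * j * g⁻¹ ∈ A) :
    ∀ x ∈ H, g * x * g⁻¹ ∈ H := by
  have h1 := cj_C1 g j
  rw [h.C1_eq hj hj2, h.C1_eq hg (by rw [GW.orderOf_conj_eq, hj2])] at h1
  exact cj_le_iff.1 h1.le

section R2

variable {a₀ j₁ j₂ : G} (ha₀ : a₀ ∈ A) (h2 : a₀ * a₀ ≠ 1) (hj₁ : j₁ ∈ A) (hj₂ : j₂ ∈ A)
  (hj : IsFourPair j₁ j₂)
include ha₀ h2 hj₁ hj₂ hj

omit [Finite G] in
theorem one_of_three {g : G} (h1 : g * j₁ * g⁻¹ ∈ H) (h3 : g * j₂ * g⁻¹ ∈ H) :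
    ∃ j ∈ A, orderOf j = 2 ∧ g * j * g⁻¹ ∈ A := by
  by_cases c1 : g * j₁ * g⁻¹ ∈ A
  · exact ⟨j₁, hj₁, orderOf_left hj, c1⟩
  by_cases c2 : g * j₂ * g⁻¹ ∈ A
  · exact ⟨j₂, hj₂, orderOf_right hj, c2⟩
  refine ⟨j₁ * j₂, mul_mem hj₁ hj₂, orderOf_right hj.mul_right, ?_⟩
  rw [← conj_mul]
  exact h.mul_mem_of_not_mem ha₀ h2 h1 c1 h3 c2

omit [Finite G] in
theorem fus {a g : G} (ha : a ∈ A) (hg : g * a * g⁻¹ ∈ H) : g * a * g⁻¹ ∈ A := by
  by_cases c1 : a * a = 1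
  swap
  · refine h.mem_of_sq hg fun h3 => c1 ?_
    rw [conj_mul] at h3
    simpa using h3
  by_cases c2 : a = 1
  · simp [c2]
  have key : ∀ j ∈ A, j * j = 1 → g⁻¹ * j * g⁻¹⁻¹ ∈ H := fun j hjA hjj => by
    rw [← h.C1_eq ha (L2.orderOf_of_mul_self c1 c2), mem_C1]
    refine (conj_comm (g := g)).1 ?_
    have : g * (g⁻¹ * j * g⁻¹⁻¹) * g⁻¹ = j := by group
    rw [this]
    exact (h.comm_of_sq hg hjA hjj).symm
  obtain ⟨j, hjA, hjj, h3⟩ := h.one_of_three ha₀ h2 hj₁ hj₂ hj (key _ hj₁ hj.sq_a)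
    (key _ hj₂ hj.sq_b)
  refine h.conj_mem_of_normalizer ha₀ h2 (h.norm_of_conj h3 (by rw [GW.orderOf_conj_eq, hjj]) ?_) ha
  have : g * (g⁻¹ * j * g⁻¹⁻¹) * g⁻¹ = j := by group
  rwa [this]

omit [Finite G] in
theorem fus_iff {x g : G} (hx : x ∈ H) (hg : g * x * g⁻¹ ∈ H) : g * x * g⁻¹ ∈ A ↔ x ∈ A := by
  refine ⟨fun h1 => ?_, fun h1 => h.fus ha₀ h2 hj₁ hj₂ hj h1 hg⟩
  have h3 : g⁻¹ * (g * x * g⁻¹) * g⁻¹⁻¹ = x := by group
  have := h.fus ha₀ h2 hj₁ hj₂ hj (g := g⁻¹) h1 (by rwa [h3])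
  rwa [h3] at this

theorem exists_sylow_le : ∃ T : Sylow 2 G, (T : Subgroup G) ≤ H ∧ j₁ ∈ (T : Subgroup G) ∧
    j₂ ∈ (T : Subgroup G) := by
  obtain ⟨S, hS, h4⟩ := exists_isSylowIn_ge (isPGroup_four hj)
    (four_le_iff.2 ⟨h.le hj₁, h.le hj₂⟩)
  obtain ⟨T, hT⟩ := hS.exists_sylow_inf
  have hST : S ≤ T := hT ▸ inf_le_left
  have m1 := h4 (left_mem_four _ _)
  have m2 := h4 (right_mem_four _ _)
  refine ⟨T, ?_, hST m1, hST m2⟩
  by_contra hTH
  have hlt : S < T := lt_of_le_of_ne hST fun he => hTH (he ▸ hS.le)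
  obtain ⟨t, ⟨htT, htN⟩, htS⟩ := SetLike.exists_of_lt (lt_inf_normalizer T.isPGroup' hlt)
  have hN : ∀ s ∈ S, t * s * t⁻¹ ∈ S := fun s hs => (mem_normalizer_iff.1 htN s).1 hs
  have h5 : t ∈ normalizer ((S ⊓ A : Subgroup G) : Set G) := mem_normalizer_fintype
    fun s hs => ⟨hN s hs.1, h.fus ha₀ h2 hj₁ hj₂ hj hs.2 (hS.le (hN s hs.1))⟩
  obtain ⟨z, hz, hzt, -, hz2⟩ := Solv.PG.exists_mem_centralizer_orderOf_eq
    (T.isPGroup'.to_le (zpowers_le.2 htT)) (hS.isPGroup.to_le (inf_le_left (b := A)))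
    (zpowers_le.2 h5) (fun h0 => hj.a_ne (mem_bot.1 (h0 ▸ mem_inf.2 ⟨m1, hj₁⟩)))
  exact htS (hT ▸ mem_inf.2 ⟨htT, h.C1_eq hz.2 hz2 ▸ mem_C1.2 (hzt t (mem_zpowers t))⟩)

theorem exists_hom {T : Sylow 2 G} (hT : (T : Subgroup G) ≤ H) :
    ∃ V : G →* ℤˣ, ∀ x ∈ (T : Subgroup G), V x = 1 ↔ x ∈ A := by
  classical
  let φ : (T : Subgroup G) →* ℤˣ := MonoidHom.mk' (fun t => if (t : G) ∈ A then 1 else -1)
    fun a b => by
      by_cases ha : (a : G) ∈ A <;> by_cases hb : (b : G) ∈ A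
      · simp [ha, hb, mul_mem]
      · have : (a : G) * b ∉ A := fun h1 => hb (by simpa using mul_mem (inv_mem ha) h1)
        simp [ha, hb, this]
      · have : (a : G) * b ∉ A := fun h1 => ha (by simpa using mul_mem h1 (inv_mem hb))
        simp [ha, hb, this]
      · have := h.mul_mem_of_not_mem ha₀ h2 (hT a.2) ha (hT b.2) hb
        simp [ha, hb, this]
  have hφ : ∀ t : (T : Subgroup G), φ t = if (t : G) ∈ A then 1 else -1 := fun _ => rfl
  refine ⟨φ.transfer, fun x hx => ?_⟩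
  have h1 := transfer_eq_pow_of_conj φ ⟨x, hx⟩ fun k a ha => by
    rw [← map_pow, hφ, hφ]
    have := h.fus_iff ha₀ h2 hj₁ hj₂ hj (g := a⁻¹) (hT (pow_mem hx k)) (by rw [inv_inv]; exact hT ha)
    rw [inv_inv] at this
    exact if_congr this rfl rfl
  have ho : Odd (T : Subgroup G).index :=
    Nat.odd_iff.2 (Nat.two_dvd_ne_zero.1 T.not_dvd_index)
  change φ.transfer (⟨x, hx⟩ : (T : Subgroup G)) = 1 ↔ _
  rw [h1, hφ]
  by_cases c : x ∈ A
  · simp [c]
  · simp [c, ho.neg_one_pow]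

theorem caseR2 (hns : ¬ Group.IsSolvable G) : Concl G := by
  obtain ⟨T, hT, m1, m2⟩ := h.exists_sylow_le ha₀ h2 hj₁ hj₂ hj
  obtain ⟨V, hV⟩ := h.exists_hom ha₀ h2 hj₁ hj₂ hj hT
  have hVc : ∀ g x : G, V (g * x * g⁻¹) = V x := fun g x => by
    rw [map_mul, map_mul, map_inv, mul_inv_cancel_comm]
  have hTH := isSylowIn_of_le T hT
  have hH : ∀ y ∈ H, V y = 1 → y ∈ A := fun y hy h1 => by
    by_contra hy'
    obtain ⟨g, hg, h3⟩ := exists_conj_mem hTH hy (h.sq y hy hy')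
    exact hy' ((h.fus_iff ha₀ h2 hj₁ hj₂ hj hy (hT h3)).1 ((hV _ h3).1 (by rw [hVc, h1])))
  obtain ⟨x, hxT, hx⟩ : ∃ x ∈ (T : Subgroup G), V x ≠ 1 := by
    obtain ⟨y, hy, hy'⟩ := h.exists_not_mem
    obtain ⟨g, hg, h3⟩ := exists_conj_mem hTH hy (h.sq y hy hy')
    exact ⟨_, h3, fun h1 => hy' (hH y hy (by rwa [hVc] at h1))⟩
  have hL : IsL2Even (V.ker ⧸ oddCore V.ker) := by
    refine l2_of_abCent (fun t a b ht ha hb => ?_)
      (fun hs => hns (Group.isSolvable_of_ker_le_range V.ker.subtype V (by simp)))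
      ⟨⟨j₁, (hV _ m1).2 hj₁⟩, ⟨j₂, (hV _ m2).2 hj₂⟩, fun h1 => hj.a_ne (congrArg Subtype.val h1),
        fun h1 => hj.b_ne (congrArg Subtype.val h1), fun h1 => hj.ne (congrArg Subtype.val h1),
        Subtype.ext hj.sq_a, Subtype.ext hj.sq_b, Subtype.ext hj.comm.symm⟩
    rw [← orderOf_coe] at ht
    obtain ⟨g, -, hg⟩ := exists_conj_mem (isSylowIn_top T) (mem_top (t : G)) (mul_self_of_two ht)
    have h1 := h.C1_eq ((hV _ hg).1 (by rw [hVc]; exact t.2)) (by rw [GW.orderOf_conj_eq, ht])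
    have key : ∀ c : V.ker, c * t = t * c → g * c * g⁻¹ ∈ A := fun c hc =>
      hH _ (h1 ▸ mem_C1.2 (conj_comm.2 (congrArg Subtype.val hc))) (by rw [hVc]; exact c.2)
    exact Subtype.ext (conj_comm.1 (h.comm (key a ha) (key b hb)))
  have hTE : ∀ t ∈ (T : Subgroup G), t * t = 1 := fun t ht => by
    by_cases c : t ∈ A
    swap
    · exact h.sq t (hT ht) c
    obtain ⟨k, hk⟩ := Solv.PG.exists_pow_prime_pow_eq_one T.isPGroup' ht
    let s : V.ker := ⟨t, (hV t ht).2 c⟩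
    have h3 : s ^ 2 ^ k = 1 := Subtype.ext hk
    have h4 := sq_of_l2 hL (x := (s : V.ker ⧸ oddCore V.ker)) (k := k)
      (by rw [← QuotientGroup.mk_pow, h3, QuotientGroup.mk_one])
    rw [← QuotientGroup.mk_mul, QuotientGroup.eq_one_iff] at h4
    have h5 := odd_orderOf_of_mem (Solv.odd_card_oddCore _) h4
    have h6 : (s * s) ^ 2 ^ k = 1 := by rw [← pow_two, ← pow_mul, mul_comm, pow_mul, h3, one_pow]
    have h7 := ((Nat.coprime_two_right.2 h5).pow_right k).eq_one_of_dvd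
      (orderOf_dvd_of_pow_eq_one h6)
    exact congrArg Subtype.val (orderOf_eq_one_iff.1 h7)
  haveI hTc : IsMulCommutative (T : Subgroup G) :=
    ⟨⟨fun a b => Subtype.ext (DGp.comm_of_sq hTE a.2 b.2)⟩⟩
  have hN := isSylowIn_of_le T (le_normalizer (H := (T : Subgroup G)))
  have hco : (Nat.card (T : Subgroup G)).Coprime
      ((T : Subgroup G).relIndex (normalizer ((T : Subgroup G) : Set G))) :=
    Solv.coprime_card_of_isPGroup T.isPGroup'
      ((Nat.coprime_comm.1 ((Nat.Prime.coprime_iff_not_dvd Nat.prime_two).2 hN.not_dvd)))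
  obtain ⟨E, hE, hE1, -, hE2⟩ := Solv.exists_complement_ambient (T : Subgroup G) _ le_normalizer
    le_rfl hco
  have h3 := Solv.Coprime.centralizer_sup_commutator_of_comm hE (hE2 ▸ hco.symm)
  obtain ⟨d, ⟨hdT, hdE⟩, hd⟩ : ∃ d ∈ (T : Subgroup G) ⊓ centralizer (E : Set G), d ∉ V.ker := by
    by_contra h4
    push Not at h4
    refine hx ((h3.ge.trans (sup_le h4 (commutator_le.2 fun a _ b _ => ?_))) hxT)
    change V _ = 1
    rw [map_commutatorElement, commutatorElement_eq_one_iff_mul_comm, mul_comm]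
  have hNd : normalizer ((T : Subgroup G) : Set G) ≤ C1 d := hE1 ▸ sup_le
    (fun t ht => mem_C1.2 (DGp.comm_of_sq hTE ht hdT)) (fun e he => mem_C1.2 (hdE e he))
  have hZ := Block.Princ.zstar_elt_quotient T hdT fun g hg => by
    obtain ⟨n, hn, h4⟩ := T.conj_eq_normalizer_conj_of_mem d g⁻¹ hdT (by rw [inv_inv]; exact hg)
    rw [inv_inv] at h4
    rw [h4]
    simpa using mem_C1_iff_conj.1 (inv_mem (hNd hn))
  have hO : oddCore G ≤ V.ker := fun o ho => by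
    have h4 := odd_orderOf_of_mem (Solv.odd_card_oddCore _) ho
    have h5 : V o ^ orderOf o = 1 := by rw [← map_pow, pow_orderOf_eq_one, map_one]
    rcases Int.units_eq_one_or (V o) with h6 | h6
    · exact h6
    · rw [h6, h4.neg_one_pow] at h5
      exact absurd h5 (by decide)
  have hd2 : orderOf (d : G ⧸ oddCore G) = 2 := L2.orderOf_of_mul_self
    (by rw [← QuotientGroup.mk_mul, hTE d hdT, QuotientGroup.mk_one])
    fun h4 => hd (hO ((QuotientGroup.eq_one_iff _).1 h4))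
  haveI : (zpowers (d : G ⧸ oddCore G)).Normal := normal_zpowers hZ
  refine concl_two hd2 ?_
  let f := (QuotientGroup.mk' (zpowers (d : G ⧸ oddCore G))).comp (QuotientGroup.mk' (oddCore G))
  have hfd : f d = 1 := (QuotientGroup.eq_one_iff _).2 (mem_zpowers _)
  have hk : f.ker ⊓ V.ker = ppCoreOf 2 V.ker := by
    rw [ppCoreOf, Solv.map_pPrimeCore_eq_inf_of_normal]
    apply le_antisymm
    · refine fun g hg => ⟨?_, hg.2⟩
      have h4 : (g : G ⧸ oddCore G) ∈ zpowers (d : G ⧸ oddCore G) :=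
        (QuotientGroup.eq_one_iff _).1 hg.1
      rcases mem_zpowers_two (mul_self_of_two hd2) h4 with h5 | h5
      · exact (QuotientGroup.eq_one_iff _).1 h5
      · exact (hd (by simpa using mul_mem hg.2 (hO (QuotientGroup.eq.1 h5)))).elim
    · refine fun g hg => ⟨?_, hg.2⟩
      change QuotientGroup.mk' _ (g : G ⧸ oddCore G) = 1
      rw [(QuotientGroup.eq_one_iff g).2 hg.1, map_one]
  obtain ⟨e⟩ := nonempty_quotient_equiv_map f hk
  have hs : V.ker.map f = ⊤ := by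
    rw [eq_top_iff]
    intro y _
    obtain ⟨g, rfl⟩ := ((QuotientGroup.mk'_surjective _).comp (QuotientGroup.mk'_surjective _) :
      Function.Surjective f) y
    rcases Int.units_eq_one_or (V g) with h4 | h4
    · exact mem_map_of_mem f h4
    · refine ⟨g * d, ?_, by rw [map_mul, hfd, mul_one]; rfl⟩
      change V _ = 1
      rw [map_mul, h4, (Int.units_eq_one_or (V d)).resolve_left hd]
      decide
  exact (tgt_of_l2 hL).of_equiv (e.trans ((MulEquiv.subgroupCongr hs).trans topEquiv))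

end R2

end Hyp

end Cfsg.Lib.DGp
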