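import Cfsg.Agent.Recog.DGrpB
import Cfsg.Agent.CITCor.ClsH2
import Cfsg.Agent.Block.TameGrp
import Cfsg.Agent.Fus.EssTau
import Cfsg.Agent.Char.BSLocal

/-!
D-groups as involution centralizers: the case of a unique involution in `A`.
-/

set_option autoImplicit false

namespace Cfsg.Lib.DGp

open Subgroup Cfsg.Lib.GW Cfsg.Lib.Known Cfsg.Lib.Trans Cfsg.Lib.CITCor
open scoped MatrixGroups commutatorElement

universe u

variable {G : Type u} [Group G] [Finite G]

theorem qd_end (hns : ¬ Group.IsSolvable G) (hO : oddCore G = ⊥) {j z x y : G}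
    (hjz : IsFourPair j z) (hzc : z ∈ center G) [(zpowers z).Normal] (hC : C1 j ≤ four j z)
    {T : Subgroup G} (hT : IsSylowIn 2 T ⊤) (hy : y * y = 1) (hxy : x * y * (x * y) = z)
    (hgen : ∀ t ∈ T, t ∈ zpowers x ∨ t * y⁻¹ ∈ zpowers x) : Tgt (G ⧸ zpowers z) := by
  let π := QuotientGroup.mk' (zpowers z)
  have hπ : ∀ g, π g = 1 ↔ g = 1 ∨ g = z := fun g =>
    (QuotientGroup.eq_one_iff g).trans ⟨mem_zpowers_two hjz.sq_b, by
      rintro (rfl | rfl)
      · exact one_mem _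
      · exact mem_zpowers _⟩
  have hp := pgrp_of_sq hjz.sq_b
  have hT' := hT.map π
  rw [map_top_of_surjective _ (QuotientGroup.mk'_surjective _)] at hT'
  obtain ⟨T', hT''⟩ := hT'.exists_sylow_eq
  have hx : π x ∈ four (π y) (π (x * y)) := by
    have := mul_mem (right_mem_four (π y) (π (x * y))) (inv_mem (left_mem_four (π y) (π (x * y))))
    rwa [map_mul π x y, mul_inv_cancel_right, ← map_mul] at this
  have hx' : zpowers x ≤ (four (π y) (π (x * y))).comap π := zpowers_le.2 hx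
  have hD : Dih2 (G ⧸ zpowers z) := dih2_of_sylow T' (a := π y) (b := π (x * y))
    (by rw [← map_mul, hy, map_one]) (by rw [← map_mul, hxy]; exact (hπ z).2 (Or.inr rfl)) (by
      rw [hT'']
      rintro _ ⟨t, ht, rfl⟩
      rcases hgen t ht with h1 | h1
      · exact hx' h1
      · have := mul_mem (hx' h1 : π _ ∈ _) (left_mem_four (π y) (π (x * y)))
        rwa [← map_mul, inv_mul_cancel_right] at this)
  have hj1 : π j ≠ 1 := fun h1 => ((hπ j).1 h1).elim hjz.a_ne hjz.ne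
  refine tgt_of_dih (fun hs => hns (Cor.isSolvable_of_normal_quotient _
      (Cor.isSolvable_of_isPGroup hp) hs))
    (Block.Princ.pPrimeCore_quotient_central _ hp (zpowers_le.2 hzc) hO) hD (j := π j)
    (L2.orderOf_of_mul_self (by rw [← map_mul, hjz.sq_a, map_one]) hj1) (A := ⊥)
    ⟨bot_lt_iff_ne_bot.2 fun h0 => hj1 (mem_bot.1 (h0 ▸ self_mem_C1 _)), fun g hg _ => ?_⟩
  obtain ⟨g, rfl⟩ := QuotientGroup.mk'_surjective _ g
  have h1 : π (g * j * g⁻¹ * j⁻¹) = 1 := by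
    rw [map_mul, map_mul, map_mul, map_inv, map_inv, mem_C1_iff_conj.1 hg, mul_inv_cancel]
  change π g * π g = 1
  rw [← map_mul, hπ]
  rcases (hπ _).1 h1 with h2 | h2
  · exact Or.inl (hjz.mul_self (hC (mem_C1_iff_conj.2 (mul_inv_eq_one.1 h2))))
  have h3 : g * j * g⁻¹ = z * j := mul_inv_eq_iff_eq_mul.1 h2
  have hgz : g * z * g⁻¹ = z := by rw [mem_center_iff.1 hzc g, mul_inv_cancel_right]
  have h4 : g * g ∈ C1 j := mem_C1_iff_conj.2 (by
    calc g * g * j * (g * g)⁻¹ = g * (g * j * g⁻¹) * g⁻¹ := by group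
      _ = j := by rw [h3, ← conj_mul, hgz, h3, ← mul_assoc, hjz.sq_b, one_mul])
  have h5 : g * (g * g) * g⁻¹ = g * g := by group
  rcases hjz.mem_iff.1 (hC h4) with h6 | h6 | h6 | h6
  · exact Or.inl h6
  · rw [h6, h3] at h5
    exact (hjz.b_ne (by simpa using h5)).elim
  · exact Or.inr h6
  · rw [h6, ← conj_mul, h3, hgz] at h5
    exact (hjz.b_ne (by simpa using h5)).elim

theorem dg_quot {j : G} (hj : orderOf j = 2) {A : Subgroup G} (h : DG (C1 j) A) :
    DG (C1 (j : G ⧸ oddCore G)) (A.map (QuotientGroup.mk' (oddCore G))) := by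
  have h1 := h.map (QuotientGroup.mk' (oddCore G)) fun x hx => h.mem_of_odd hx.1
    (odd_orderOf_of_mem (Solv.odd_card_oddCore G) (QuotientGroup.ker_mk' (oddCore G) ▸ hx.2))
  rwa [Cls.map_cent_of_coprime (oddCore G)
    (by rw [hj]; exact Nat.coprime_two_left.2 (Solv.odd_card_oddCore G))] at h1

theorem orderOf_quot {j : G} (hj : orderOf j = 2) : orderOf (j : G ⧸ oddCore G) = 2 :=
  L2.orderOf_of_mul_self (by rw [← QuotientGroup.mk_mul, mul_self_of_two hj, QuotientGroup.mk_one])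
    fun h => by
      have := odd_orderOf_of_mem (Solv.odd_card_oddCore G) ((QuotientGroup.eq_one_iff _).1 h)
      rw [hj] at this
      exact absurd this (by decide)

theorem concl_of_dih (hns : ¬ Group.IsSolvable G) (hD : Dih2 G) {j : G} (hj : orderOf j = 2)
    {A : Subgroup G} (h : DG (C1 j) A) : Concl G :=
  concl_odd (tgt_of_dih
    (fun hs => hns (Cor.isSolvable_of_normal_odd _ (Solv.odd_card_oddCore G) hs))
    (Solv.pPrimeCore_quotient_pPrimeCore 2 G) (hD.quotient _ (Solv.odd_card_oddCore G))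
    (orderOf_quot hj) (dg_quot hj h))

theorem caseR1 (hns : ¬ Group.IsSolvable G) {j a₀ : G} (hj : orderOf j = 2) {A : Subgroup G}
    (h : DG (C1 j) A) (hjA : j ∈ A) (ha₀ : a₀ ∈ A) (h2 : a₀ * a₀ ≠ 1)
    (hu : ∀ a ∈ A, a * a = 1 → a = 1 ∨ a = j) : Concl G := by
  obtain ⟨S, hS, hjS⟩ := exists_isSylowIn_ge (pgrp_of_sq (mul_self_of_two hj))
    (zpowers_le.2 (self_mem_C1 j))
  replace hjS : j ∈ S := hjS (mem_zpowers j)
  obtain ⟨T, hT⟩ := hS.exists_sylow_inf
  have hST : S ≤ T := hT ▸ inf_le_left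
  have hmul : ∀ w ∈ S, w ∉ A → ∀ s ∈ S, s ∉ A → w * s ∈ S ⊓ A := fun w hw hw' s hs hs' =>
    ⟨mul_mem hw hs, h.mul_mem_of_not_mem ha₀ h2 (hS.le hw) hw' (hS.le hs) hs'⟩
  rcases hST.eq_or_lt with he | hlt
  · obtain ⟨x, hx, hx'⟩ : ∃ x ∈ S, x ∉ A := by
      obtain ⟨y, hy, hy'⟩ := h.exists_not_mem
      obtain ⟨g, hg, h3⟩ := exists_conj_mem hS hy (h.sq y hy hy')
      refine ⟨_, h3, fun h1 => hy' ?_⟩
      have := h.conj_mem (inv_mem hg) h1
      simpa [mul_assoc] using this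
    have hc : IsCyclic (⊤ : Subgroup (S ⊓ A : Subgroup G)) := by
      refine isCyclic_of_not_twoRank ?_ (Solv.PG.isPGroup_top (hS.isPGroup.to_le inf_le_left))
        fun a _ b _ => Subtype.ext (h.comm a.2.2 b.2.2)
      rintro ⟨a, b, ha, hb, hab, ha2, hb2, -⟩
      refine hab (Subtype.ext ?_)
      rw [(hu a a.2.2 (congrArg Subtype.val ha2)).resolve_left fun h1 => ha (Subtype.ext h1),
        (hu b b.2.2 (congrArg Subtype.val hb2)).resolve_left fun h1 => hb (Subtype.ext h1)]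
    have hc' : IsCyclic (S ⊓ A : Subgroup G) := isCyclic_of_surjective _ topEquiv.surjective
    obtain ⟨b, hb⟩ := hc'.exists_generator
    have hb' : ∀ s ∈ S ⊓ A, s ∈ four x (x * b) := fun s hs => by
      obtain ⟨k, hk⟩ := hb ⟨s, hs⟩
      have h3 : (b : G) ∈ four x (x * b) := by
        simpa using mul_mem (inv_mem (left_mem_four x (x * b))) (right_mem_four x (x * b))
      have h4 : (b : G) ^ k = s := congrArg Subtype.val hk
      exact h4 ▸ zpow_mem h3 k
    refine concl_of_dih hns (dih2_of_sylow T (a := x) (b := x * b) (h.sq x (hS.le hx) hx')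
      (h.sq _ (hS.le (mul_mem hx b.2.1)) fun h1 => hx' (by simpa using mul_mem h1 (inv_mem b.2.2)))
      fun s hs => ?_) hj h
    rw [← he] at hs
    by_cases c : s ∈ A
    · exact hb' s ⟨hs, c⟩
    · simpa using mul_mem (inv_mem (left_mem_four x (x * b))) (hb' _ (hmul x hx hx' s hs c))
  obtain ⟨t, ⟨htT, htN⟩, htS⟩ := SetLike.exists_of_lt (lt_inf_normalizer T.isPGroup' hlt)
  have hN : ∀ s ∈ S, t * s * t⁻¹ ∈ S := fun s hs => (mem_normalizer_iff.1 htN s).1 hs
  have hN' : ∀ s ∈ S, t⁻¹ * s * t⁻¹⁻¹ ∈ S := fun s hs => (mem_normalizer_iff.1 (inv_mem htN) s).1 hs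
  have hj'2 : orderOf (t * j * t⁻¹) = 2 := by rw [GW.orderOf_conj_eq, hj]
  have hj'A : t * j * t⁻¹ ∉ A := fun h1 => by
    rcases hu _ h1 (mul_self_of_two hj'2) with h3 | h3
    · exact ne_one_of_two hj'2 h3
    · exact htS (hT ▸ mem_inf.2 ⟨htT, mem_C1_iff_conj.2 h3⟩)
  have hB : ∀ s ∈ S ⊓ A, s = 1 ∨ s = j := fun s hs => hu s hs.2 (by
    have h3 := h.inv (hS.le (hN j hjS)) hj'A hs.2
    have h4 : s * (t * j * t⁻¹) = t * j * t⁻¹ * s := by
      have h5 := (conj_comm (g := t)).2 (mem_C1.1 (hS.le (hN' s hs.1)))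
      have h6 : t * (t⁻¹ * s * t⁻¹⁻¹) * t⁻¹ = s := by group
      rwa [h6] at h5
    rw [← h4, mul_inv_cancel_right] at h3
    exact mul_eq_one_iff_eq_inv.2 h3)
  have hfour : ∀ w ∈ S, w ∉ A → IsFourPair j w ∧ S ≤ four j w := fun w hw hw' => by
    refine ⟨isFourPair_iff.2 ⟨hj, L2.orderOf_of_mul_self (h.sq w (hS.le hw) hw')
      (fun h1 => hw' (h1 ▸ one_mem _)), fun h1 => hw' (h1 ▸ hjA), hS.le hw⟩, fun s hs => ?_⟩
    have key : ∀ s ∈ S ⊓ A, s ∈ four j w := fun s hs => by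
      rcases hB s hs with rfl | rfl
      · exact one_mem _
      · exact left_mem_four _ _
    by_cases c : s ∈ A
    · exact key s ⟨hs, c⟩
    · simpa using mul_mem (inv_mem (right_mem_four j w)) (key _ (hmul w hw hw' s hs c))
  obtain ⟨hjj', hS4⟩ := hfour _ (hN j hjS) hj'A
  have hS4' : S = four j (t * j * t⁻¹) := le_antisymm hS4 (four_le_iff.2 ⟨hjS, hN j hjS⟩)
  have hm := Fus.Ess.two_maxClass_of_selfCent T.isPGroup' (X := S.subgroupOf T)
    (fun h1 => hlt.not_ge (subgroupOf_eq_top.1 h1))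
    (Or.inl (by rw [Nat.card_congr (subgroupOfEquivOfLe hST).toEquiv, hS4', hjj'.card_four]))
    (fun c hc => by
      have h3 := congrArg Subtype.val (hc ⟨j, hST hjS⟩ (mem_subgroupOf.2 hjS))
      exact mem_subgroupOf.2 (hT ▸ mem_inf.2 ⟨c.2, mem_C1.2 h3.symm⟩))
  rcases hm with ⟨m, ⟨e⟩⟩ | ⟨m, ⟨e⟩⟩ | hq
  · exact concl_of_dih hns (dih2_of_mulEquiv T e) hj h
  · exact (hjj'.ne (Char.quat_eq_of_commute T e hjj'.sq_a hjj'.sq_b hjj'.a_ne hjj'.b_ne
      hjj'.comm.symm)).elim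
  obtain ⟨x, y, z, m, M, hm, hrel, hy⟩ := Block.Tame.exists_mc_semidihedral hq
  have hzS : z ∈ S := hT ▸ mem_inf.2 ⟨M.mz, mem_C1.2 (M.commute_z (hST hjS)).symm⟩
  have hTj : ∀ g : G, g * z * g⁻¹ ≠ j := fun g hg => by
    have h3 : cj g (T : Subgroup G) ≤ C1 j := hg ▸ cj_C1 g z ▸ cj_mono g M.le_cent_z
    have h4 := hS.card_le ((isSylowIn_top T).cj g).isPGroup h3
    rw [card_cj] at h4
    exact (card_lt_of_lt hlt).not_ge h4
  have hzj : z ≠ j := by simpa using hTj 1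
  have hzA : z ∉ A := fun h1 => (hu z h1 M.z_mul_z).elim M.z_ne_one hzj
  obtain ⟨hjz, hSz⟩ := hfour z hzS hzA
  have hjx : j ∉ zpowers x := fun h1 =>
    (M.eq_of_sq h1 (by rw [pow_two, hjz.sq_a])).elim hjz.a_ne hjz.ne
  obtain ⟨d, -, hd⟩ := M.exists_conj_of_sq hm hrel hy (hST hjS) hjx (by rw [pow_two, hjz.sq_a])
  have hZ := Block.Princ.zstar_elt_quotient T M.mz fun g hg => by
    have h3 : (g * z * g⁻¹) ^ 2 = 1 := by rw [conj_pow, M.z_sq]; group
    by_cases c : g * z * g⁻¹ ∈ zpowers x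
    · exact (M.eq_of_sq c h3).resolve_left fun h4 => M.z_ne_one (by simpa using h4)
    · obtain ⟨d', -, hd'⟩ := M.exists_conj_of_sq hm hrel hy hg c h3
      refine (hTj (d * d'⁻¹ * g) ?_).elim
      calc d * d'⁻¹ * g * z * (d * d'⁻¹ * g)⁻¹ = d * d'⁻¹ * (g * z * g⁻¹) * d' * d⁻¹ := by group
        _ = j := by rw [← hd', ← hd]; group
  let π := QuotientGroup.mk' (oddCore G)
  have h' := dg_quot hj h
  have hmap : (C1 j).map π = C1 (π j) := Cls.map_cent_of_coprime (oddCore G)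
    (by rw [hj]; exact Nat.coprime_two_left.2 (Solv.odd_card_oddCore G))
  have hz' : π z ∈ C1 (π j) := hmap ▸ mem_map_of_mem π (hS.le hzS)
  have hzA' : π z ∉ A.map π := by
    rintro ⟨a, ha, h3⟩
    have h4 : a⁻¹ * z ∈ A := h.mem_of_odd (mul_mem (inv_mem (h.le ha)) (hS.le hzS))
      (odd_orderOf_of_mem (Solv.odd_card_oddCore G) (QuotientGroup.eq.1 h3))
    exact hzA (by simpa using mul_mem ha h4)
  have hp : IsPGroup 2 (C1 (π j)) := Solv.PG.isPGroup_of_forall_mem fun g hg => ⟨1, by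
    rw [pow_one, pow_two]
    by_cases c : g ∈ A.map π
    · have h3 := h'.inv hz' hzA' c
      have h4 : g * π z = π z * g := mem_center_iff.1 hZ g
      rw [← h4, mul_inv_cancel_right] at h3
      exact mul_eq_one_iff_eq_inv.2 h3
    · exact h'.sq g hg c⟩
  have hS' := hS.map π
  rw [hmap] at hS'
  have hT' := (isSylowIn_top T).map π
  rw [map_top_of_surjective _ (QuotientGroup.mk'_surjective _)] at hT'
  haveI : (zpowers (π z)).Normal := normal_zpowers hZ
  refine concl_two (d := π z) (orderOf_quot M.orderOf_z) (qd_end (j := π j) (z := π z) (x := π x) (y := π y)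
    (fun hs => hns (Cor.isSolvable_of_normal_odd _ (Solv.odd_card_oddCore G) hs))
    (Solv.pPrimeCore_quotient_pPrimeCore 2 G)
    (isFourPair_iff.2 ⟨orderOf_quot hj, orderOf_quot M.orderOf_z,
      fun h3 => hzA' (h3 ▸ mem_map_of_mem π hjA), hz'⟩) hZ
    ((hS'.eq_of_le hp hS'.le le_rfl).le.trans ((map_mono hSz).trans (map_four π j z).le)) hT'
    (by rw [← map_mul, ← pow_two, hy, map_one]) ?_ ?_)
  · rw [← map_mul, ← map_mul]
    congr 1
    calc x * y * (x * y) = x * (y * x * y⁻¹) * y ^ 2 := by group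
      _ = z := by rw [hrel, hy]; group
  · rintro _ ⟨s, hs, rfl⟩
    rw [← map_inv, ← map_mul, ← MonoidHom.map_zpowers]
    exact (M.cases s hs).imp (mem_map_of_mem π) (mem_map_of_mem π)

theorem Hyp.concl {H A : Subgroup G} (h : Hyp H A) (hns : ¬ Group.IsSolvable G) : Concl G := by
  by_cases hE : ∀ x ∈ H, x * x = 1
  · exact h.caseE hE hns
  push Not at hE
  obtain ⟨a₀, ha, h2⟩ := hE
  have ha₀ := h.mem_of_sq ha h2
  obtain ⟨j, hjA, hj⟩ : ∃ j ∈ A, orderOf j = 2 := by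
    refine L2.exists_invol_of_dvd ?_
    obtain ⟨x, hx, hx'⟩ := h.exists_not_mem
    have h1 : A.relIndex H = 2 := relIndex_eq_two_iff.2 ⟨x, hx, fun b hb => by
      by_cases c : b ∈ A
      · exact Or.inr ⟨c, fun h3 => hx' (by simpa using mul_mem (inv_mem c) h3)⟩
      · exact Or.inl ⟨h.mul_mem_of_not_mem ha₀ h2 hb c hx hx', c⟩⟩
    have h3 := card_mul_relIndex h.le
    have h4 := h.four
    rw [h1] at h3
    omega
  by_cases hu : ∀ a ∈ A, a * a = 1 → a = 1 ∨ a = j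
  · exact caseR1 hns hj (h.C1_eq hjA hj ▸ h.toDG) hjA ha₀ h2 hu
  push Not at hu
  obtain ⟨a, haA, h3, h4, h5⟩ := hu
  exact h.caseR2 ha₀ h2 hjA haA (isFourPair_iff.2 ⟨hj, L2.orderOf_of_mul_self h3 h4, h5.symm,
    mem_C1.2 (h.comm haA hjA)⟩) hns

end Cfsg.Lib.DGp
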