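import Cfsg.Agent.Recog.C22Br

/-!
Three commuting quaternion groups acting on a space of dimension six over the field with three elements.
-/

set_option autoImplicit false

namespace Cfsg.Lib.C22.E6Br

open Module LinearMap

variable {V : Type*} [AddCommGroup V] [Module F3 V] [Finite V]

omit [Finite V] in
theorem neg_self {v : V} (h : -v = v) : v = 0 := by
  have : (2 : F3) • v = 0 := by rw [two_smul]; nth_rw 1 [← h]; exact neg_add_cancel v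
  exact (smul_eq_zero.1 this).resolve_left (by decide)

theorem dbl {U : Submodule F3 V} {X Y : End F3 V} (hX : ∀ u ∈ U, X u ∈ U) (hY : ∀ u ∈ U, Y u ∈ U)
    (x2 : ∀ u ∈ U, X (X u) = u) (xy : ∀ u ∈ U, X (Y u) = -Y (X u)) (hi : Function.Injective Y) (h0 : U ≠ ⊥) :
    U ⊓ eqLocus X 1 ≠ ⊥ ∧ 2 * finrank F3 ↥(U ⊓ eqLocus X 1) ≤ finrank F3 U := by
  constructor
  · obtain ⟨w, hw, w0⟩ := (Submodule.ne_bot_iff _).1 h0
    refine (Submodule.ne_bot_iff _).2 ?_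
    by_cases c : w + X w = 0
    · refine ⟨Y w, ⟨hY w hw, ?_⟩, fun e => w0 (hi (e.trans (map_zero Y).symm))⟩
      change X (Y w) = Y w
      rw [xy w hw, eq_neg_of_add_eq_zero_right c, map_neg, neg_neg]
    · refine ⟨_, ⟨add_mem hw (hX w hw), ?_⟩, c⟩
      change X (w + X w) = w + X w
      rw [map_add, x2 w hw, add_comm]
  · have h1 := Submodule.finrank_sup_add_finrank_inf_eq (U ⊓ eqLocus X 1) ((U ⊓ eqLocus X 1).map Y)
    have h2 : U ⊓ eqLocus X 1 ⊓ (U ⊓ eqLocus X 1).map Y = ⊥ := eq_bot_iff.2 (by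
      rintro _ ⟨⟨-, e⟩, u, ⟨hu, e'⟩, rfl⟩
      have e : X (Y u) = Y u := e
      have e' : X u = u := e'
      rw [xy u hu, e'] at e
      exact neg_self e)
    have h3 := Submodule.finrank_mono (show U ⊓ eqLocus X 1 ⊔ (U ⊓ eqLocus X 1).map Y ≤ U from
      sup_le inf_le_left (by rintro _ ⟨u, hu, rfl⟩; exact hY u hu.1))
    rw [h2, finrank_bot, ← (Submodule.equivMapOfInjective Y hi _).finrank_eq] at h1
    omega

theorem two {U : Submodule F3 V} {a : End F3 V} (ha : ∀ u ∈ U, a u ∈ U) (a2 : ∀ u ∈ U, a (a u) = -u)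
    (h0 : U ≠ ⊥) : 2 ≤ finrank F3 U := by
  by_contra h
  obtain ⟨w, hw, w0⟩ := (Submodule.ne_bot_iff _).1 h0
  have h1 : finrank F3 U = 1 := by
    have := Submodule.finrank_eq_zero.not.2 h0
    omega
  obtain ⟨k, e⟩ := exists_smul_eq_of_finrank_eq_one h1 (x := ⟨w, hw⟩) (fun e => w0 (congrArg Subtype.val e))
    ⟨_, ha w hw⟩
  have e : k • w = a w := congrArg Subtype.val e
  have := a2 w hw
  rw [← e, map_smul, ← e, smul_smul, eq_neg_iff_add_eq_zero] at this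
  nth_rw 2 [← one_smul F3 w] at this
  rw [← add_smul] at this
  exact w0 ((smul_eq_zero.1 this).resolve_left ((by decide : ∀ k : F3, k * k + 1 ≠ 0) k))

/-- Three commuting quaternion groups. -/
structure QG (a b c : Fin 3 → End F3 V) : Prop where
  a2 : ∀ i, a i * a i = c i
  b2 : ∀ i, b i * b i = c i
  c2 : ∀ i, c i * c i = 1
  ab : ∀ i, a i * b i = c i * (b i * a i)
  aa : ∀ i j, a i * a j = a j * a i
  ab' : ∀ i j, i ≠ j → a i * b j = b j * a i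
  ca : ∀ i j, c i * a j = a j * c i
  cb : ∀ i j, c i * b j = b j * c i
  c1 : ∀ i, c i ≠ 1
  cc : ∀ i j, i ≠ j → c i * c j ≠ 1

/-- The eigenspace for the eigenvalue `-1`. -/
def Ng (c : End F3 V) : Submodule F3 V := eqLocus c (-1)

omit [Finite V] in
theorem mem_Ng {c : End F3 V} {v : V} : v ∈ Ng c ↔ c v = -v := Iff.rfl

omit [Finite V] in
theorem ap {x y x' y' : End F3 V} (h : x * y = x' * y') (v : V) : x (y v) = x' (y' v) := LinearMap.congr_fun h v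

omit [Finite V] in
theorem Ng_inv {c x : End F3 V} (h : c * x = x * c) {v : V} (hv : v ∈ Ng c) : x v ∈ Ng c := by
  rw [mem_Ng, ap h, mem_Ng.1 hv, map_neg]

namespace QG

variable {a b c : Fin 3 → End F3 V} (h : QG a b c)
include h

omit [Finite V] in
theorem ccm (i j : Fin 3) : c i * c j = c j * c i := by
  rw [← h.a2 j, ← mul_assoc, h.ca, mul_assoc, h.ca, mul_assoc]

omit [Finite V] in
theorem sub_mem (i : Fin 3) (v : V) : v - c i v ∈ Ng (c i) := by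
  rw [mem_Ng, map_sub, show c i (c i v) = v from LinearMap.congr_fun (h.c2 i) v, neg_sub]

omit [Finite V] in
theorem ne_bot (i : Fin 3) : Ng (c i) ≠ ⊥ := fun e => h.c1 i (LinearMap.ext fun v =>
  (sub_eq_zero.1 ((Submodule.mem_bot F3).1 (e ▸ h.sub_mem i v))).symm)

omit [Finite V] in
theorem triv {i j : Fin 3} (e : Ng (c i) ⊓ Ng (c j) = ⊥) {v : V} (hv : v ∈ Ng (c i)) : c j v = v :=
  (sub_eq_zero.1 ((Submodule.mem_bot F3).1 (e ▸ ⟨Submodule.sub_mem _ hv (Ng_inv (h.ccm i j) hv),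
    h.sub_mem j v⟩))).symm

theorem step {U : Submodule F3 V} {i j : Fin 3} (e : i ≠ j) (hi : U ≤ Ng (c i)) (hj : U ≤ Ng (c j))
    (h1 : ∀ u ∈ U, a i (a j u) ∈ U) (h2 : ∀ u ∈ U, b j u ∈ U) (h0 : U ≠ ⊥) :
    U ⊓ eqLocus (a i * a j) 1 ≠ ⊥ ∧ 2 * finrank F3 ↥(U ⊓ eqLocus (a i * a j) 1) ≤ finrank F3 U := by
  refine dbl h1 h2 (fun u hu => ?_) (fun u hu => ?_) (fun u v e => ?_) h0
  · change a i (a j (a i (a j u))) = u
    rw [ap (h.aa j i), ← End.mul_apply (a j), h.a2, mem_Ng.1 (hj hu), ← End.mul_apply, h.a2, map_neg,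
      mem_Ng.1 (hi hu), neg_neg]
  · change a i (a j (b j u)) = -b j (a i (a j u))
    rw [ap (h.ab j), End.mul_apply, ap (h.cb j j), ap (h.ca j j), mem_Ng.1 (hj hu), map_neg, map_neg, map_neg,
      ap (h.ab' i j e)]
  · have := congrArg (c j * b j) e
    simpa only [← End.mul_apply, mul_assoc, h.b2, h.c2, End.one_apply] using this

theorem two' {U : Submodule F3 V} {i : Fin 3} (hi : U ≤ Ng (c i)) (h1 : ∀ u ∈ U, a i u ∈ U) (h0 : U ≠ ⊥) :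
    2 ≤ finrank F3 U :=
  two h1 (fun u hu => by rw [← End.mul_apply, h.a2, mem_Ng.1 (hi hu)]) h0

omit [Finite V] in
theorem eq_inv {i j : Fin 3} {x : End F3 V} (e1 : a i * x = x * a i) (e2 : a j * x = x * a j) {v : V}
    (hv : v ∈ eqLocus (a i * a j) 1) : x v ∈ eqLocus (a i * a j) 1 := by
  change a i (a j (x v)) = x v
  rw [ap e2, ap e1, show a i (a j v) = v from hv]

theorem four {i j : Fin 3} (e : i ≠ j) (h0 : Ng (c i) ⊓ Ng (c j) ≠ ⊥) : 4 ≤ finrank F3 ↥(Ng (c i) ⊓ Ng (c j)) := by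
  have ha : ∀ k, ∀ u ∈ Ng (c i) ⊓ Ng (c j), a k u ∈ Ng (c i) ⊓ Ng (c j) := fun k u hu =>
    ⟨Ng_inv (h.ca _ _) hu.1, Ng_inv (h.ca _ _) hu.2⟩
  obtain ⟨h1, h2⟩ := h.step e inf_le_left inf_le_right (fun u hu => ha _ _ (ha _ _ hu))
    (fun u hu => ⟨Ng_inv (h.cb _ _) hu.1, Ng_inv (h.cb _ _) hu.2⟩) h0
  have := h.two' (i := i) (inf_le_left.trans inf_le_left)
    (fun u hu => ⟨ha _ _ hu.1, h.eq_inv (h.aa _ _) (h.aa _ _) hu.2⟩) h1
  omega

theorem eight {i j k : Fin 3} (e : i ≠ j) (e' : i ≠ k) (e'' : j ≠ k) (h0 : Ng (c i) ⊓ Ng (c j) ⊓ Ng (c k) ≠ ⊥) :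
    8 ≤ finrank F3 ↥(Ng (c i) ⊓ Ng (c j) ⊓ Ng (c k)) := by
  have ha : ∀ l, ∀ u ∈ Ng (c i) ⊓ Ng (c j) ⊓ Ng (c k), a l u ∈ Ng (c i) ⊓ Ng (c j) ⊓ Ng (c k) := fun _ u hu =>
    ⟨⟨Ng_inv (h.ca _ _) hu.1.1, Ng_inv (h.ca _ _) hu.1.2⟩, Ng_inv (h.ca _ _) hu.2⟩
  have hb : ∀ l, ∀ u ∈ Ng (c i) ⊓ Ng (c j) ⊓ Ng (c k), b l u ∈ Ng (c i) ⊓ Ng (c j) ⊓ Ng (c k) := fun _ u hu =>
    ⟨⟨Ng_inv (h.cb _ _) hu.1.1, Ng_inv (h.cb _ _) hu.1.2⟩, Ng_inv (h.cb _ _) hu.2⟩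
  obtain ⟨h1, h2⟩ := h.step e (inf_le_left.trans inf_le_left) (inf_le_left.trans inf_le_right)
    (fun u hu => ha _ _ (ha _ _ hu)) (hb _) h0
  have ha' : ∀ l, ∀ u ∈ Ng (c i) ⊓ Ng (c j) ⊓ Ng (c k) ⊓ eqLocus (a i * a j) 1,
      a l u ∈ Ng (c i) ⊓ Ng (c j) ⊓ Ng (c k) ⊓ eqLocus (a i * a j) 1 := fun _ u hu =>
    ⟨ha _ _ hu.1, h.eq_inv (h.aa _ _) (h.aa _ _) hu.2⟩
  obtain ⟨h3, h4⟩ := h.step e' (inf_le_left.trans (inf_le_left.trans inf_le_left)) (inf_le_left.trans inf_le_right)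
    (fun u hu => ha' _ _ (ha' _ _ hu)) (fun u hu => ⟨hb _ _ hu.1, h.eq_inv (h.ab' _ _ e') (h.ab' _ _ e'') hu.2⟩) h1
  have := h.two' (i := i) (inf_le_left.trans (inf_le_left.trans (inf_le_left.trans inf_le_left)))
    (fun u hu => ⟨ha' _ _ hu.1, h.eq_inv (h.aa _ _) (h.aa _ _) hu.2⟩) h3
  omega

theorem two_le (i : Fin 3) : 2 ≤ finrank F3 (Ng (c i)) :=
  h.two' le_rfl (fun _ hu => Ng_inv (h.ca _ _) hu) (h.ne_bot i)

theorem disj (h6 : finrank F3 V = 6) {i j : Fin 3} (e : i ≠ j) : Ng (c i) ⊓ Ng (c j) = ⊥ := by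
  by_contra h0
  obtain ⟨k, e', e''⟩ := (by decide : ∀ i j : Fin 3, ∃ k, i ≠ k ∧ j ≠ k) i j
  have h1 : Ng (c i) ⊓ Ng (c j) ⊓ Ng (c k) = ⊥ := by
    by_contra h1
    have := (h.eight e e' e'' h1).trans (Submodule.finrank_le _)
    omega
  have h2 := Submodule.finrank_sup_add_finrank_inf_eq (Ng (c i) ⊓ Ng (c j)) (Ng (c k))
  have h3 := Submodule.finrank_le (Ng (c i) ⊓ Ng (c j) ⊔ Ng (c k))
  have h4 := h.four e h0
  have h5 := h.two_le k
  rw [h1, finrank_bot] at h2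
  have h7 : ∀ l, k ≠ l → Ng (c k) ⊓ Ng (c l) = ⊥ := fun l el => by
    by_contra n
    have := (h.four el n).trans (Submodule.finrank_mono inf_le_left)
    omega
  have h8 : Ng (c i) ⊓ Ng (c j) ⊔ Ng (c k) ≤ eqLocus (c i * c j) 1 := sup_le (fun v hv => by
    change c i (c j v) = v
    rw [mem_Ng.1 hv.2, map_neg, mem_Ng.1 hv.1, neg_neg]) fun v hv => by
    change c i (c j v) = v
    rw [h.triv (h7 j e''.symm) hv, h.triv (h7 i e'.symm) hv]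
  rw [Submodule.eq_top_of_finrank_eq (S := _ ⊔ _) (by omega)] at h8
  exact h.cc i j e (LinearMap.ext fun v => h8 (Submodule.mem_top (x := v)))

theorem main (h6 : finrank F3 V = 6) : (∀ i j, i ≠ j → ∀ v ∈ Ng (c i), c j v = v) ∧
    (∀ i, finrank F3 (Ng (c i)) = 2) ∧ Ng (c 0) ⊔ Ng (c 1) ⊔ Ng (c 2) = ⊤ := by
  have t : ∀ i j, i ≠ j → ∀ v ∈ Ng (c i), c j v = v := fun i j e v hv => h.triv (h.disj h6 e) hv
  have h1 := Submodule.finrank_sup_add_finrank_inf_eq (Ng (c 0)) (Ng (c 1))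
  have h2 := Submodule.finrank_sup_add_finrank_inf_eq (Ng (c 0) ⊔ Ng (c 1)) (Ng (c 2))
  have h3 := Submodule.finrank_le (Ng (c 0) ⊔ Ng (c 1) ⊔ Ng (c 2))
  have h4 : (Ng (c 0) ⊔ Ng (c 1)) ⊓ Ng (c 2) = ⊥ := eq_bot_iff.2 fun v hv => neg_self ((mem_Ng.1 hv.2).symm.trans
    ((sup_le (t 0 2 (by decide)) (t 1 2 (by decide)) : _ ≤ eqLocus (c 2) 1) hv.1))
  rw [h.disj h6 (by decide), finrank_bot] at h1
  rw [h4, finrank_bot] at h2
  have a0 := h.two_le 0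
  have a1 := h.two_le 1
  have a2 := h.two_le 2
  refine ⟨t, fun i => ?_, Submodule.eq_top_of_finrank_eq (by omega)⟩
  fin_cases i
  · change finrank F3 (Ng (c 0)) = 2; omega
  · change finrank F3 (Ng (c 1)) = 2; omega
  · change finrank F3 (Ng (c 2)) = 2; omega

end QG

end Cfsg.Lib.C22.E6Br
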