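import Cfsg.Agent.Recog.HayA
import Cfsg.Agent.S0246
import Cfsg.Prelude.Def_Classical
import Mathlib.GroupTheory.Sylow

/-!
Coordinates for the Borel subgroup of the centraliser of a transvection in `PSp₄(q)`.
-/

set_option autoImplicit false
set_option linter.unusedSectionVars false
set_option linter.unusedVariables false

namespace Cfsg.Lib.Hay

open Subgroup

variable {F : Type*} [Field F] {G : Type*} [Group G]

/-- The relations between the Siegel radical `m` and the Borel subgroup `b` of the Levi factor. -/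
structure Fm₀ (m : F × F × F → G) (b : F → Fˣ → G) : Prop where
  m_mul : ∀ v w, m (v + w) = m v * m w
  m_inj : ∀ v, m v = 1 → v = 0
  b_mul : ∀ r l r' l', b r l * b r' l' = b (r' + r * l') (l * l')
  bm : ∀ r l v, b r l * m v = m (B r l l.ne_zero v) * b r l

/-- The frame inside the centraliser `C` of a long root element. -/
structure Fm (C : Subgroup G) (m : F × F × F → G) (b : F → Fˣ → G) : Prop extends Fm₀ m b where
  mC : ∀ v, m v ∈ C
  bC : ∀ r l, b r l ∈ C
  cen : ∀ c ∈ C, ∀ a, c * m (a, 0, 0) = m (a, 0, 0) * c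
  norm : ∀ g ∈ C, ∀ w, g * m (1, 0, 1) * g⁻¹ = m w → ∃ v r l, g = m v * b r l

theorem Fm.map {C : Subgroup G} {m : F × F × F → G} {b : F → Fˣ → G} (h : Fm C m b)
    {G' : Type*} [Group G'] {C' : Subgroup G'} (e : C ≃* C') :
    Fm C' (fun v => e ⟨m v, h.mC v⟩) (fun r l => e ⟨b r l, h.bC r l⟩) := by
  have key : ∀ x y : C, (x : G) = y → (e x : G') = e y := fun x y h => by rw [Subtype.ext h]
  refine ⟨⟨fun v w => ?_, fun v hv => h.m_inj v ?_, fun r l r' l' => ?_, fun r l v => ?_⟩,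
    fun v => (e _).2, fun r l => (e _).2, fun c hc a => ?_, fun g hg w hw => ?_⟩
  · rw [← coe_mul, ← map_mul]; exact key _ _ (h.m_mul v w)
  · exact congrArg Subtype.val (e.map_eq_one_iff.mp (Subtype.ext hv))
  · rw [← coe_mul, ← map_mul]; exact key _ _ (h.b_mul r l r' l')
  · rw [← coe_mul, ← map_mul, ← coe_mul, ← map_mul]; exact key _ _ (h.bm r l v)
  · obtain ⟨c, hc⟩ := e.surjective ⟨c, hc⟩
    obtain rfl := congrArg Subtype.val hc
    rw [← coe_mul, ← map_mul, ← coe_mul, ← map_mul]; exact key _ _ (h.cen c c.2 a)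
  · obtain ⟨g, hg⟩ := e.surjective ⟨g, hg⟩
    obtain rfl := congrArg Subtype.val hg
    rw [← coe_inv, ← coe_mul, ← coe_mul, ← map_inv, ← map_mul, ← map_mul] at hw
    obtain ⟨v, r, l, e'⟩ := h.norm g g.2 w (congrArg Subtype.val (e.injective (Subtype.ext hw)))
    exact ⟨v, r, l, by rw [← coe_mul, ← map_mul]; exact key _ _ e'⟩

namespace Fm₀

variable {m : F × F × F → G} {b : F → Fˣ → G} (h : Fm₀ m b)
include h

theorem m_zero : m 0 = 1 := by simpa using h.m_mul 0 0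

theorem b_one : b 0 1 = 1 := by simpa using h.b_mul 0 1 0 1

theorem m_neg (v : F × F × F) : m (-v) = (m v)⁻¹ :=
  eq_inv_of_mul_eq_one_left (by rw [← h.m_mul, neg_add_cancel, h.m_zero])

theorem inj : Function.Injective m := fun v w e => sub_eq_zero.mp (h.m_inj _ (by
  rw [sub_eq_add_neg, h.m_mul, h.m_neg, e, mul_inv_cancel]))

theorem m_pow (v : F × F × F) (n : ℕ) : m v ^ n = m ((n : F) • v) := by
  induction n with
  | zero => simp [h.m_zero]
  | succ n ih => rw [pow_succ, ih, ← h.m_mul, Nat.cast_succ, add_smul, one_smul]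

theorem mb_mul (v w : F × F × F) (r r' : F) (l l' : Fˣ) : m v * b r l * (m w * b r' l') =
    m (v + B r l l.ne_zero w) * b (r' + r * l') (l * l') := by
  rw [mul_assoc, ← mul_assoc (b r l), h.bm, h.m_mul, ← h.b_mul]; group

/-- The Siegel radical. -/
def M : Subgroup G where
  carrier := Set.range m
  one_mem' := ⟨0, h.m_zero⟩
  mul_mem' := by rintro _ _ ⟨v, rfl⟩ ⟨w, rfl⟩; exact ⟨_, h.m_mul v w⟩
  inv_mem' := by rintro _ ⟨v, rfl⟩; exact ⟨_, h.m_neg v⟩

theorem b_inv (r : F) : (b r 1)⁻¹ = b (-r) 1 :=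
  inv_eq_of_mul_eq_one_right (by simp [h.b_mul, h.b_one])

/-- The root subgroup of the Levi factor. -/
def A : Subgroup G where
  carrier := Set.range fun r => b r 1
  one_mem' := ⟨0, h.b_one⟩
  mul_mem' := by rintro _ _ ⟨v, rfl⟩ ⟨w, rfl⟩; exact ⟨_, by simp only [h.b_mul, mul_one]; rfl⟩
  inv_mem' := by rintro _ ⟨v, rfl⟩; exact ⟨_, (h.b_inv v).symm⟩

/-- The unipotent radical of the Borel subgroup. -/
def U : Subgroup G where
  carrier := {g | ∃ v r, g = m v * b r 1}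
  one_mem' := ⟨0, 0, by rw [h.m_zero, h.b_one, mul_one]⟩
  mul_mem' := by
    rintro _ _ ⟨v, r, rfl⟩ ⟨w, s, rfl⟩
    exact ⟨_, _, by rw [h.mb_mul, mul_one]⟩
  inv_mem' := by
    rintro _ ⟨v, r, rfl⟩
    exact ⟨_, _, by rw [mul_inv_rev, h.b_inv, ← h.m_neg, h.bm]⟩

theorem mU (v : F × F × F) : m v ∈ h.U := ⟨v, 0, by rw [h.b_one, mul_one]⟩

theorem bU (r : F) : b r 1 ∈ h.U := ⟨0, r, by rw [h.m_zero, one_mul]⟩

theorem mb_pow (v : F × F × F) (r : F) (l : Fˣ) (n : ℕ) :
    ∃ w s, (m v * b r l) ^ n = m w * b s (l ^ n) ∧ (l = 1 → s = n * r) := by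
  induction n with
  | zero => exact ⟨0, 0, by simp [h.m_zero, h.b_one], by simp⟩
  | succ n ih =>
    obtain ⟨w, s, e, e'⟩ := ih
    exact ⟨_, _, by rw [pow_succ, e, h.mb_mul, pow_succ], fun hl => by simp [e' hl, hl]; ring⟩

theorem pow_U {p : ℕ} (hp : (p : F) = 0) {g : G} (hg : g ∈ h.U) : g ^ p ^ 2 = 1 := by
  obtain ⟨v, r, rfl⟩ := hg
  obtain ⟨w, s, e, e'⟩ := h.mb_pow v r 1 p
  rw [pow_two, pow_mul, e, e' rfl, hp, zero_mul, one_pow, h.b_one, mul_one, h.m_pow, hp, zero_smul,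
    h.m_zero]

theorem isPGroup_U {p : ℕ} (hp : (p : F) = 0) : IsPGroup p h.U :=
  fun g => ⟨2, Subtype.ext (h.pow_U hp g.2)⟩

theorem act {v w w' : F × F × F} {r : F} {l : Fˣ} (e : m v * b r l * m w = m w' * (m v * b r l)) :
    w' = B r l l.ne_zero w := by
  rw [mul_assoc, h.bm, ← mul_assoc, ← mul_assoc, mul_left_inj, ← h.m_mul, ← h.m_mul] at e
  exact (add_right_cancel ((add_comm _ _).trans (h.inj e))).symm

theorem eq_one (h2 : (2 : F) ≠ 0) {v : F × F × F} {r : F} {l : Fˣ}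
    (e : m v * b r l * m (0, 1, 0) = m (0, 1, 0) * (m v * b r l)) : r = 0 ∧ l = 1 := by
  have := h.act e
  simp [h2] at this
  exact ⟨this.1, Units.ext this.2.symm⟩

end Fm₀

open Matrix

/-- Siegel radical of `Sp₄`. -/
def m₀ (v : F × F × F) : symplecticGroup (Fin 2) F :=
  ⟨fromBlocks 1 !![v.1, v.2.1; v.2.1, v.2.2] 0 1, SymplecticGroup.fromBlocks_mem_iff.mpr
    ⟨by simp, by ext i j; fin_cases i <;> fin_cases j <;> simp, by simp⟩⟩

/-- Borel subgroup of the Levi factor fixing the first basis vector. -/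
def b₀ (r : F) (l : Fˣ) : symplecticGroup (Fin 2) F :=
  ⟨fromBlocks !![1, r; 0, l] 0 0 !![1, 0; -r / l, 1 / l], SymplecticGroup.fromBlocks_mem_iff.mpr
    ⟨by simp, by simp, by
      ext i j; fin_cases i <;> fin_cases j <;> simp [Matrix.mul_apply]; field_simp; ring⟩⟩

theorem fm₀ : Fm₀ (m₀ (F := F)) b₀ := by
  refine ⟨fun v w => Subtype.ext ?_, fun ⟨a, b, c⟩ e => ?_, fun r l r' l' => Subtype.ext ?_,
    fun r l ⟨a, b, c⟩ => Subtype.ext ?_⟩
  · simp [m₀, fromBlocks_multiply, add_comm]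
  · have := congrArg (fun g : symplecticGroup (Fin 2) F => g.1.toBlocks₁₂) e
    have h1 := congrFun (congrFun this 0) 0
    have h2 := congrFun (congrFun this 0) 1
    have h3 := congrFun (congrFun this 1) 1
    simp [m₀, toBlocks₁₂] at h1 h2 h3
    simp [h1, h2, h3]
  · simp [b₀, fromBlocks_multiply]
    constructor <;> field_simp
  · simp [b₀, m₀, fromBlocks_multiply]
    refine ⟨⟨?_, ?_⟩, ?_, ?_⟩ <;> field_simp <;> ring

theorem norm₀ {g : symplecticGroup (Fin 2) F} {w : F × F × F} {a : F} (ha : a ≠ 0)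
    (e : g * m₀ (1, 0, 1) = m₀ w * g) (e' : g * m₀ (a, 0, 0) = m₀ (a, 0, 0) * g) :
    ∃ z ∈ center (symplecticGroup (Fin 2) F), ∃ v r l, g = m₀ v * b₀ r l * z := by
  obtain ⟨g, hg⟩ := g
  obtain ⟨A, B, C, D, rfl⟩ : ∃ A B C D, g = fromBlocks A B C D :=
    ⟨_, _, _, _, (fromBlocks_toBlocks g).symm⟩
  replace e := congrArg Subtype.val e
  replace e' := congrArg Subtype.val e'
  simp only [m₀, Submonoid.coe_mul, fromBlocks_multiply, fromBlocks_inj, ← one_fin_two] at e e'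
  obtain rfl : C = 0 := by simpa using e.2.2.2
  have h1 := congrFun (congrFun e'.2.1 0) 0
  have h2 := congrFun (congrFun e'.2.1 1) 0
  have h3 := (SymplecticGroup.fromBlocks_mem_iff.mp hg).2.2
  have h4 := SymplecticGroup.transpose_mem hg
  rw [fromBlocks_transpose, SymplecticGroup.fromBlocks_mem_iff] at h4
  have h5 := congrFun (congrFun h4.1 0) 1
  have h00 := congrFun (congrFun h3 0) 0
  have h01 := congrFun (congrFun h3 0) 1
  have h10 := congrFun (congrFun h3 1) 0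
  have h11 := congrFun (congrFun h3 1) 1
  simp [Matrix.mul_apply, vecMul, dotProduct, ha, add_comm (B 0 0), mul_comm a] at h1 h2
  simp [Matrix.mul_apply] at h5 h00 h01 h10 h11
  clear e e' h3 h4
  revert hg
  rw [eta_fin_two A, eta_fin_two B, eta_fin_two D]
  intro hg
  generalize A 0 0 = p, A 0 1 = q, A 1 0 = r, A 1 1 = s, B 0 0 = b₁, B 0 1 = b₂, B 1 0 = b₃,
    B 1 1 = b₄, D 0 0 = d₁, D 0 1 = d₂, D 1 0 = d₃, D 1 1 = d₄ at *
  subst h1 h2
  have hp : p * p = 1 := by simpa using h00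
  have hp0 : p ≠ 0 := left_ne_zero_of_mul_eq_one hp
  obtain rfl : d₂ = 0 := by simpa [hp0] using h01
  have hs : s * d₄ = 1 := by simpa using h11
  have hs0 : s ≠ 0 := left_ne_zero_of_mul_eq_one hs
  obtain rfl : d₄ = 1 / s := by field_simp; exact mul_comm s d₄ ▸ hs
  obtain rfl : d₃ = -(q * p) / s := by field_simp; linear_combination h10
  obtain rfl : b₃ = p * (b₂ * s - q * b₄) := by linear_combination p * h5 - b₃ * hp
  refine ⟨⟨p • 1, by rcases mul_self_eq_one_iff.mp hp with e | e <;>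
      simp [e, SymplecticGroup.neg_mem, one_mem]⟩, (Agent.S0246.mem_center_iff _).mpr
    ((mul_self_eq_one_iff.mp hp).imp (fun e => by simp [e]) fun e => by simp [e]),
    (b₁ * p + b₂ * q, b₂ * s, b₄ * s), p * q, Units.mk0 (p * s) (mul_ne_zero hp0 hs0),
    Subtype.ext ?_⟩
  rcases mul_self_eq_one_iff.mp hp with rfl | rfl <;>
  · simp [m₀, b₀, fromBlocks_multiply, fromBlocks_neg]
    field_simp
    ring_nf
    simp

theorem eq_of_mk_eq {x y : symplecticGroup (Fin 2) F} {n : ℕ} (hn : Odd n) (hx : x ^ n = 1)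
    (hy : y ^ n = 1) (e : (x : PSp 2 F) = y) : x = y := by
  obtain ⟨z, hz, rfl⟩ := (QuotientGroup.mk'_eq_mk' _).mp e
  rw [(show Commute x z from mem_center_iff.mp hz x).mul_pow, hx, one_mul] at hy
  rcases (Agent.S0246.mem_center_iff _).mp hz with e | e
  · rw [show z = 1 from Subtype.ext e, mul_one]
  · have := congrArg Subtype.val hy
    rw [SubmonoidClass.coe_pow, e, hn.neg_one_pow, ← e] at this
    rw [show z = 1 from Subtype.ext this, mul_one]

theorem comm_of_mk {g x y : symplecticGroup (Fin 2) F} {n : ℕ} (hn : Odd n) (hx : x ^ n = 1)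
    (hy : y ^ n = 1) (e : (g : PSp 2 F) * x = y * g) : g * x = y * g :=
  mul_inv_eq_iff_eq_mul.mp (eq_of_mk_eq hn (by rw [conj_pow, hx]; simp) hy
    (by rw [QuotientGroup.mk_mul, QuotientGroup.mk_mul, e]; simp))

variable {p : ℕ} (hp : (p : F) = 0) (hp2 : Odd p)
include hp hp2

theorem fmP₀ : Fm₀ (fun v => ((m₀ v : symplecticGroup (Fin 2) F) : PSp 2 F))
    fun r l => ((b₀ r l : symplecticGroup (Fin 2) F) : PSp 2 F) :=
  ⟨fun v w => by rw [fm₀.m_mul, QuotientGroup.mk_mul], fun v e => fm₀.m_inj v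
    (eq_of_mk_eq hp2.pow (fm₀.pow_U hp (fm₀.mU v)) (one_pow _) e),
    fun r l r' l' => by rw [← QuotientGroup.mk_mul, fm₀.b_mul],
    fun r l v => by rw [← QuotientGroup.mk_mul, fm₀.bm, QuotientGroup.mk_mul]⟩

theorem two_ne : (2 : F) ≠ 0 := fun e => by
  obtain ⟨k, rfl⟩ := hp2
  simp [e] at hp

theorem fmP {a : F} (ha : a ≠ 0) : Fm (centralizer {((m₀ (a, 0, 0) : symplecticGroup (Fin 2) F) :
    PSp 2 F)}) (fun v => ((m₀ v : symplecticGroup (Fin 2) F) : PSp 2 F))
    fun r l => ((b₀ r l : symplecticGroup (Fin 2) F) : PSp 2 F) := by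
  have h := fmP₀ hp hp2
  have hm := fun v => fm₀.pow_U hp (fm₀.mU v)
  refine ⟨h, fun v => mem_centralizer_singleton_iff.mpr (by rw [← h.m_mul, ← h.m_mul, add_comm]),
    fun r l => mem_centralizer_singleton_iff.mpr (by simpa using h.bm r l (a, 0, 0)),
    fun c hc b => ?_, fun g hg w hw => ?_⟩
  · obtain ⟨c, rfl⟩ := QuotientGroup.mk_surjective c
    have := congrArg Subtype.val
      (comm_of_mk hp2.pow (hm _) (hm _) (mem_centralizer_singleton_iff.mp hc))
    rw [← QuotientGroup.mk_mul, ← QuotientGroup.mk_mul]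
    refine congrArg _ (Subtype.ext ?_)
    have h1 : ∀ b : F, (m₀ (b, 0, 0)).1 = 1 + b • single (Sum.inl 0) (Sum.inr 0) 1 := fun b => by
      ext (i | i) (j | j) <;> fin_cases i <;> fin_cases j <;> simp [m₀]
    simp only [Submonoid.coe_mul, h1, mul_add, add_mul, mul_one, one_mul, add_right_inj,
      Matrix.mul_smul, Matrix.smul_mul] at this ⊢
    rw [smul_right_injective _ ha this]
  · obtain ⟨g, rfl⟩ := QuotientGroup.mk_surjective g
    obtain ⟨z, hz, v, r, l, rfl⟩ := norm₀ ha (comm_of_mk hp2.pow (hm _) (hm _)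
      (mul_inv_eq_iff_eq_mul.mp hw))
      (comm_of_mk hp2.pow (hm _) (hm _) (mem_centralizer_singleton_iff.mp hg))
    exact ⟨v, r, l, by simp [(QuotientGroup.eq_one_iff z).mpr hz]⟩

theorem exists_fmP [Finite F] [Fact p.Prime] {x : PSp 2 F} (hx : x ≠ 1) (P : Sylow p (PSp 2 F))
    (hxc : ∀ y ∈ (P : Subgroup (PSp 2 F)), y * x = x * y) :
    ∃ (m : F × F × F → PSp 2 F) (b : F → Fˣ → PSp 2 F), Fm (centralizer {x}) m b := by
  have h := fmP₀ hp hp2
  have hm := fun v => fm₀.pow_U hp (fm₀.mU v)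
  obtain ⟨Q, hQ⟩ := (h.isPGroup_U hp).exists_le_sylow
  obtain ⟨g, rfl⟩ := MulAction.exists_smul_eq (PSp 2 F) Q P
  obtain ⟨y, hy⟩ := QuotientGroup.mk_surjective (g⁻¹ * x * g)
  have h1 : ∀ u ∈ h.U, y * u = u * y := fun u hu => by
    have := hxc (g * u * g⁻¹) ⟨u, hQ hu, rfl⟩
    rw [hy]
    calc g⁻¹ * x * g * u = g⁻¹ * (x * (g * u * g⁻¹)) * g := by group
      _ = u * (g⁻¹ * x * g) := by rw [← this]; group
  obtain ⟨z, hz, ⟨a, b, c⟩, r, l, e⟩ := norm₀ one_ne_zero (comm_of_mk hp2.pow (hm _) (hm _)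
    (h1 _ (h.mU _))) (comm_of_mk hp2.pow (hm _) (hm _) (h1 _ (h.mU _)))
  replace e := congrArg (QuotientGroup.mk (s := center _)) e
  rw [QuotientGroup.mk_mul, QuotientGroup.mk_mul, (QuotientGroup.eq_one_iff z).mpr hz, mul_one] at e
  have h2 := two_ne hp hp2
  obtain ⟨rfl, rfl⟩ := h.eq_one h2 (e ▸ h1 _ (h.mU _))
  rw [h.b_one, mul_one] at e
  have h3 := h.inj (mul_right_cancel ((e ▸ h1 _ (h.bU 1)).trans (h.bm 1 1 _)))
  simp only [B_apply, Prod.mk.injEq, Units.val_one] at h3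
  obtain rfl : c = 0 := by linear_combination -h3.2.1
  obtain rfl : b = 0 := mul_left_cancel₀ h2 (by linear_combination -h3.1)
  have ha : a ≠ 0 := by
    rintro rfl
    exact hx (by simpa [mul_assoc, inv_mul_eq_one] using hy.symm.trans (e.trans h.m_zero))
  refine ⟨_, _, (fmP hp hp2 ha).map (((MulAut.conj g).subgroupMap _).trans
    (MulEquiv.subgroupCongr ?_))⟩
  rw [← e, hy]
  ext w
  refine mem_map_equiv.trans ?_
  simp only [mem_centralizer_singleton_iff, MulAut.conj_symm_apply]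
  constructor <;> intro e
  · calc w * x = g * (g⁻¹ * w * g * (g⁻¹ * x * g)) * g⁻¹ := by group
      _ = x * w := by rw [e]; group
  · calc g⁻¹ * w * g * (g⁻¹ * x * g) = g⁻¹ * (w * x) * g := by group
      _ = _ := by rw [e]; group

end Cfsg.Lib.Hay
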