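import Cfsg.Agent.Recog.HayB
import Cfsg.Agent.Block.SylowIn
import Cfsg.Agent.Solv.Gaschutz

/-!
The normaliser of the rank three elementary abelian subgroup in groups of type `PSp₄(q)`.
-/

set_option autoImplicit false
set_option linter.unusedSectionVars false
set_option linter.unusedVariables false
set_option linter.style.haveILetI false

namespace Cfsg.Lib.Hay

open Subgroup Block

variable {F : Type*} [Field F] [Fintype F] {G : Type*} [Group G] [Finite G]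
  {m : F × F × F → G} {b : F → Fˣ → G}

theorem Fm₀.fix_U (h : Fm₀ m b) (h2 : (2 : F) ≠ 0) {v w : F × F × F} {r : F} (hr : r ≠ 0)
    (e : m v * b r 1 * m w = m w * (m v * b r 1)) : ∃ a, w = (a, 0, 0) := by
  obtain ⟨p, q, s⟩ := w
  have h3 := h.act e
  simp only [B_apply, Prod.mk.injEq, Units.val_one] at h3
  obtain rfl : s = 0 := mul_left_cancel₀ hr (by linear_combination -h3.2.1)
  obtain rfl : q = 0 := mul_left_cancel₀ (mul_ne_zero h2 hr) (by linear_combination -h3.1)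
  exact ⟨p, rfl⟩

theorem Fm₀.uniq (h : Fm₀ m b) (h2 : (2 : F) ≠ 0) {M : Subgroup G} (hM : M ≤ h.U)
    (hc : ∀ x ∈ M, ∀ y ∈ M, x * y = y * x) (hcard : Nat.card M = Fintype.card F ^ 3) : M = h.M := by
  refine eq_of_le_of_card_ge (fun g hg => ?_) ?_
  · obtain ⟨v, r, rfl⟩ := hM hg
    rcases eq_or_ne r 0 with rfl | hr
    · exact ⟨v, by rw [h.b_one, mul_one]⟩
    choose f s e using fun x : M => hM x.2
    have : Function.Injective fun x => ((f x).1, s x) := fun x y e' => by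
      obtain ⟨e1, e2⟩ := Prod.mk.inj e'
      have h3 : (x : G) * (y : G)⁻¹ = m (f x - f y) := by
        rw [e x, e y, e2, sub_eq_add_neg, h.m_mul, h.m_neg]; group
      obtain ⟨a, ha⟩ := h.fix_U h2 hr (hc _ hg _ (h3 ▸ mul_mem x.2 (inv_mem y.2)))
      obtain rfl : a = 0 := (congrArg Prod.fst ha).symm.trans (sub_eq_zero.mpr e1)
      exact Subtype.ext (mul_inv_eq_one.mp (h3.trans (ha ▸ h.m_zero)))
    have h4 := Nat.card_le_card_of_injective _ this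
    rw [hcard, Nat.card_prod, Nat.card_eq_fintype_card, ← pow_two] at h4
    exact absurd (Nat.pow_lt_pow_right Fintype.one_lt_card (by omega : 2 < 3)) (not_lt.mpr h4)
  · rw [hcard, show Nat.card h.M = _ from Nat.card_range_of_injective h.inj]
    simp [pow_succ, mul_assoc]

variable {C : Subgroup G} {p : ℕ} [hp : Fact p.Prime] [CharP F p]

theorem Fm.mem_U (h : Fm C m b) (h2 : (2 : F) ≠ 0) {g : G} (hg : g ∈ C)
    (hn : g ∈ normalizer (h.M : Set G)) {k : ℕ} (hk : g ^ p ^ k = 1) : g ∈ h.U := by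
  obtain ⟨w, hw⟩ := (mem_normalizer_iff.mp hn _).mp ⟨(1, 0, 1), rfl⟩
  obtain ⟨v, r, l, rfl⟩ := h.norm g hg w hw.symm
  obtain ⟨w, s, e, -⟩ := h.mb_pow v r l (p ^ k)
  have h3 := congrArg Units.val (h.eq_one h2 (v := w) (r := s) (l := l ^ p ^ k)
    (by rw [← e, hk, one_mul, mul_one])).2
  rw [Units.val_pow_eq_pow_val, Units.val_one, ← mul_one (p ^ k),
    ExpChar.pow_prime_pow_mul_eq_one_iff, pow_one] at h3
  exact ⟨v, r, by rw [show l = 1 from Units.ext h3]⟩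

theorem Fm₀.comm (h : Fm₀ m b) : ∀ x ∈ h.M, ∀ y ∈ h.M, x * y = y * x := by
  rintro _ ⟨v, rfl⟩ _ ⟨w, rfl⟩
  rw [← h.m_mul, ← h.m_mul, add_comm]

theorem Fm₀.bN (h : Fm₀ m b) (r : F) (l : Fˣ) : b r l ∈ normalizer (h.M : Set G) :=
  mem_normalizer_fintype (by
    rintro _ ⟨v, rfl⟩
    exact ⟨_, by rw [h.bm, mul_inv_cancel_right]⟩)

theorem Fm₀.UN (h : Fm₀ m b) : h.U ≤ normalizer (h.M : Set G) := by
  rintro _ ⟨v, r, rfl⟩
  exact mul_mem (le_normalizer ⟨v, rfl⟩) (h.bN r 1)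

theorem Fm.eq_U (h : Fm C m b) (h2 : (2 : F) ≠ 0) {P : Subgroup G} (hP : IsPGroup p P)
    (hPC : P ≤ C) (hU : h.U ≤ P) : P = h.U := by
  by_contra hn
  obtain ⟨g, hg, hgU⟩ := SetLike.exists_of_lt (lt_inf_normalizer_of_lt hP (hU.lt_of_ne' hn))
  obtain ⟨k, hk⟩ := hP ⟨g, hg.1⟩
  refine hgU (h.mem_U h2 (hPC hg.1) (map_conj_eq_self_iff.mp (h.uniq h2 ?_ ?_ ?_))
    (congrArg Subtype.val hk))
  · rintro _ ⟨_, ⟨v, rfl⟩, rfl⟩
    exact (mem_normalizer_iff.mp hg.2 _).mp (h.mU v)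
  · rintro _ ⟨x, hx, rfl⟩ _ ⟨y, hy, rfl⟩
    rw [← map_mul, ← map_mul, h.comm x hx y hy]
  · rw [card_map_conj, show Nat.card h.M = _ from Nat.card_range_of_injective h.inj]
    simp [pow_succ, mul_assoc]

theorem Fm₀.exists_rho (h : Fm₀ m b) : ∃ ρ : normalizer (h.M : Set G) →* Equiv.Perm (F × F × F),
    ∀ g v, m (ρ g v) = g * m v * (g : G)⁻¹ := by
  choose f hf using fun (g : normalizer (h.M : Set G)) v =>
    (mem_normalizer_iff.mp g.2 _).mp (⟨v, rfl⟩ : m v ∈ h.M)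
  exact ⟨MonoidHom.toHomPerm
    { toFun := f
      map_one' := funext fun v => h.inj (by simp [hf]; rfl)
      map_mul' := fun a b => funext fun v => h.inj (by
        change _ = m (f a (f b v))
        simp [hf, mul_assoc]) }, hf⟩

theorem Fm.main (h : Fm C m b) (hq : ¬IsSquare (-1 : F))
    (hb : ∀ z ∈ C, z ≠ 1 → (∀ c ∈ C, c * z = z * c) → centralizer ({z} : Set G) = C)
    (hc : ∃ (u v : G) (Pu Pv : Sylow p G), orderOf u = p ∧ orderOf v = p ∧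
      u ∈ (Pu : Subgroup G) ∧ (∀ y ∈ (Pu : Subgroup G), y * u = u * y) ∧
      v ∈ (Pv : Subgroup G) ∧ (∀ y ∈ (Pv : Subgroup G), y * v = v * y) ∧ ∀ g : G, g * u * g⁻¹ ≠ v)
    (P : Sylow p G) (hP : (P : Subgroup G) = h.U)
    (hnc : ∃ Q R : Sylow p (normalizer (h.M : Set G)), Q ≠ R) :
    ∃ J : Subgroup G, J ≤ normalizer (h.M : Set G) ∧ h.M ⊔ J = normalizer (h.M : Set G) ∧
      h.M ⊓ J = ⊥ ∧ Nonempty (J ≃* Matrix.ProjGenLinGroup (Fin 2) F ×
        Multiplicative (ZMod ((Fintype.card F - 1) / 2))) := by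
  have h2 : (2 : F) ≠ 0 := fun e => hq ⟨1, by linear_combination -e⟩
  obtain ⟨ρ, hρ⟩ := h.exists_rho
  have hC : ∀ a ≠ 0, ∀ g, g * m (a, 0, 0) = m (a, 0, 0) * g → g ∈ C := fun a ha g e =>
    hb _ (h.mC _) (fun e => ha (congrArg Prod.fst (h.m_inj _ e))) (fun c hc => h.cen c hc a) ▸
      mem_centralizer_singleton_iff.mpr e
  have h1 : ∀ g a, a ≠ 0 → ρ g (a, 0, 0) = (a, 0, 0) → ∃ v r l, g = m v * b r l ∧
      ρ g = B r l l.ne_zero := fun g a ha e => by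
    obtain ⟨v, r, l, e⟩ := h.norm g (hC a ha g (by
      rw [← mul_inv_eq_iff_eq_mul, ← hρ, e])) _ (hρ g _).symm
    exact ⟨v, r, l, e, Equiv.ext fun w => h.act (v := v) (by rw [hρ, ← e, inv_mul_cancel_right])⟩
  have h3 : ∀ (u : G) (Q : Sylow p G), orderOf u = p → u ∈ (Q : Subgroup G) →
      (∀ y ∈ (Q : Subgroup G), y * u = u * y) → ∃ g, ∃ a ≠ 0, g * u * g⁻¹ = m (a, 0, 0) :=
    fun u Q hu huQ e => by
      obtain ⟨g, rfl⟩ := MulAction.exists_smul_eq G Q P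
      have e' : ∀ y ∈ h.U, y * (g * u * g⁻¹) = g * u * g⁻¹ * y := fun y hy => by
        obtain ⟨y', hy', rfl⟩ := hP.ge hy
        change g * y' * g⁻¹ * _ = _ * (g * y' * g⁻¹)
        rw [conj_mul, conj_mul, e y' hy']
      obtain ⟨v, r, e1⟩ := hP.le (x := g * u * g⁻¹) ⟨u, huQ, rfl⟩
      obtain ⟨rfl, -⟩ := h.eq_one h2 (e1 ▸ (e' _ (h.mU _)).symm)
      rw [h.b_one, mul_one] at e1
      obtain ⟨a, rfl⟩ := h.fix_U h2 one_ne_zero (e1 ▸ e' _ ⟨0, 1, rfl⟩)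
      refine ⟨g, a, ?_, e1⟩
      rintro rfl
      rw [show u = 1 by simpa using e1.trans h.m_zero, orderOf_one] at hu
      exact hp.out.ne_one hu.symm
  have hy : Hy ρ.range := by
    refine ⟨hq, ?_, fun r l hl => ⟨⟨_, h.bN r (Units.mk0 l hl)⟩, Equiv.ext fun v => h.inj
      (by rw [hρ, h.bm, mul_inv_cancel_right]; rfl)⟩, ?_, ?_⟩
    · rintro _ ⟨g, rfl⟩ v w
      exact h.inj (by rw [h.m_mul, hρ, hρ, hρ, h.m_mul, conj_mul])
    · rintro _ ⟨g, rfl⟩ a ha e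
      obtain ⟨v, r, l, -, e⟩ := h1 g a ha e
      exact ⟨r, l, _, e⟩
    · obtain ⟨u, v, Pu, Pv, h4, h5, h6, h7, h8, h9, h10⟩ := hc
      obtain ⟨g, a, ha, e⟩ := h3 u Pu h4 h6 h7
      obtain ⟨g', a', ha', e'⟩ := h3 v Pv h5 h8 h9
      refine ⟨a, ha, a', ha', ?_⟩
      rintro _ ⟨k, rfl⟩ e''
      have := hρ k (a, 0, 0)
      rw [e'', ← e, ← e'] at this
      refine h10 (g'⁻¹ * k * g) ?_
      calc _ = g'⁻¹ * (k * (g * u * g⁻¹) * (k : G)⁻¹) * g' := by group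
        _ = v := by rw [← this]; group
  have hPN := hP.le.trans h.UN
  obtain ⟨e⟩ := hy.main (by
    by_contra hn
    push Not at hn
    haveI : (P.subtype hPN : Subgroup (normalizer (h.M : Set G))).Normal := ⟨fun y hy' g => by
      obtain ⟨a, ha⟩ := hn _ ⟨g, rfl⟩
      obtain ⟨k, hk⟩ := P.isPGroup' ⟨y, hy'⟩
      refine hP.ge (h.mem_U (p := p) h2 (hC a (fun e => ?_) _ ?_) (g * y * g⁻¹).2 (k := k) ?_)
      · exact hy.ne_zero ⟨g, rfl⟩ one_ne_zero (by rw [ha, e])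
      · obtain ⟨v, r, e⟩ := hP.le (x := y) hy'
        rw [← ha, hρ]
        change g * y * (g : G)⁻¹ * _ = _ * (g * y * (g : G)⁻¹)
        rw [conj_mul, conj_mul, h.cen _ (e ▸ mul_mem (h.mC v) (h.bC r 1))]
      · change (g * y * (g : G)⁻¹) ^ _ = 1
        rw [conj_pow, show (y : G) ^ p ^ k = 1 from congrArg Subtype.val hk]; simp⟩
    obtain ⟨Q, R, h4⟩ := hnc
    haveI := Sylow.unique_of_normal _ this
    exact h4 (Subsingleton.elim _ _))
  have hk : ρ.ker = h.M.subgroupOf _ := by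
    ext g
    refine ⟨fun e => ?_, fun hg => Equiv.ext fun v => h.inj ?_⟩
    · obtain ⟨v, r, l, e', -⟩ := h1 g 1 one_ne_zero (by rw [e]; rfl)
      obtain ⟨rfl, rfl⟩ := h.eq_one h2 (v := v) (r := r) (l := l)
        (by rw [← e', ← mul_inv_eq_iff_eq_mul, ← hρ, e]; rfl)
      exact ⟨v, by rw [h.b_one, mul_one] at e'; exact e'.symm⟩
    · rw [hρ, h.comm g hg _ ⟨v, rfl⟩, mul_inv_cancel_right]; rfl
  haveI : IsMulCommutative ρ.ker := hk ▸ ⟨⟨fun x y => Subtype.ext (Subtype.ext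
    (h.comm _ x.2 _ y.2))⟩⟩
  have hMU : h.M ≤ h.U := by rintro _ ⟨v, rfl⟩; exact h.mU v
  have hAU : h.A ≤ h.U := by rintro _ ⟨v, rfl⟩; exact h.bU v
  have h4 : ρ.ker ≤ P.subtype hPN := fun g hg => hP.ge (hMU (hk.le hg))
  obtain ⟨H, hH⟩ := Solv.gaschutz_exists ρ.ker (P.subtype hPN) h4 (by
      obtain ⟨k, hk⟩ := IsPGroup.iff_card.mp ((P.subtype hPN).isPGroup'.to_le h4)
      exact hk ▸ ((Nat.Prime.coprime_iff_not_dvd hp.out).mpr (Sylow.not_dvd_index _)).pow_left k)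
    (h.A.subgroupOf _) (by
      rw [hk, eq_bot_iff]
      rintro g ⟨⟨r, hr⟩, v, hv⟩
      obtain ⟨rfl, -⟩ := h.eq_one h2 (v := 0) (r := r) (l := 1) (by
        rw [h.m_zero, one_mul, show b r 1 = m v from hr.trans hv.symm, ← h.m_mul, ← h.m_mul,
          add_comm])
      exact Subtype.ext (hr.symm.trans h.b_one))
    (le_antisymm (sup_le h4 fun g hg => hP.ge (hAU hg)) fun g hg => by
      obtain ⟨v, r, e⟩ := hP.le hg
      rw [show g = ⟨m v, le_normalizer ⟨v, rfl⟩⟩ * ⟨_, h.bN r 1⟩ from Subtype.ext e]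
      exact mul_mem_sup (hk.ge ⟨v, rfl⟩) ⟨r, rfl⟩)
  have h5 := map_subgroupOf_eq_of_le (le_normalizer (H := h.M))
  rw [← hk] at h5
  refine ⟨H.map (Subgroup.subtype _), map_subtype_le _, (congrArg (· ⊔ _) h5.symm).trans ?_,
    (congrArg (· ⊓ _) h5.symm).trans ?_,
    ⟨((equivMapOfInjective H _ (subtype_injective _)).symm.trans
      (hH.symm.QuotientMulEquiv.symm.trans (QuotientGroup.quotientKerEquivRange ρ))).trans e⟩⟩
  · rw [← Subgroup.map_sup, hH.sup_eq_top, ← MonoidHom.range_eq_map, range_subtype]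
  · rw [← map_inf _ _ _ (subtype_injective _), hH.disjoint.eq_bot, Subgroup.map_bot]

omit [CharP F p] in
theorem main {n : ℕ} (hp2 : p ≠ 2) (hn : 1 ≤ n) (hq4 : p ^ n % 4 = 3) (hF : Fintype.card F = p ^ n)
    {x : PSp 2 F} (hx : x ≠ 1) (Px : Sylow p (PSp 2 F))
    (hxc : ∀ y ∈ (Px : Subgroup (PSp 2 F)), y * x = x * y)
    (e : C ≃* centralizer ({x} : Set (PSp 2 F)))
    (hb : ∀ z ∈ C, z ≠ 1 → (∀ c ∈ C, c * z = z * c) → centralizer ({z} : Set G) = C)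
    (hc : ∃ (u v : G) (Pu Pv : Sylow p G), orderOf u = p ∧ orderOf v = p ∧
      u ∈ (Pu : Subgroup G) ∧ (∀ y ∈ (Pu : Subgroup G), y * u = u * y) ∧
      v ∈ (Pv : Subgroup G) ∧ (∀ y ∈ (Pv : Subgroup G), y * v = v * y) ∧ ∀ g : G, g * u * g⁻¹ ≠ v)
    (P : Sylow p G) (hP : (P : Subgroup G) ≤ C) (M : Subgroup G) (hMP : M ≤ P)
    (hMc : IsMulCommutative M) (hMcard : Nat.card M = p ^ (3 * n))
    (hnc : ∃ Q R : Sylow p (normalizer (M : Set G)), Q ≠ R) :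
    ∃ J : Subgroup G, J ≤ normalizer (M : Set G) ∧ M ⊔ J = normalizer (M : Set G) ∧
      M ⊓ J = ⊥ ∧ Nonempty (J ≃* Matrix.ProjGenLinGroup (Fin 2) F ×
        Multiplicative (ZMod ((Fintype.card F - 1) / 2))) := by
  haveI := charP_of_card_eq_prime_pow hF
  have h0 := CharP.cast_eq_zero F p
  have h2 := two_ne h0 (hp.out.odd_of_ne_two hp2)
  obtain ⟨m, b, h⟩ := exists_fmP h0 (hp.out.odd_of_ne_two hp2) hx Px hxc
  replace h := h.map e.symm
  obtain ⟨g, hg, h1⟩ := (isSylowIn_of_sylow_le P hP).exists_conj_le (h.isPGroup_U h0) (by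
    rintro _ ⟨v, r, rfl⟩
    exact mul_mem (h.mC v) (h.bC r 1))
  have h' := h.map (MulAut.conj ⟨g, hg⟩)
  have h3 := h'.eq_U h2 P.isPGroup' hP (by
    rintro _ ⟨v, r, rfl⟩
    exact mul_mem (h1 ⟨_, h.mU v, rfl⟩) (h1 ⟨_, h.bU r, rfl⟩))
  obtain rfl := h'.uniq h2 (hMP.trans h3.le)
    (fun a ha b hb => congrArg Subtype.val (hMc.is_comm.comm ⟨a, ha⟩ ⟨b, hb⟩))
    (by rw [hMcard, hF, ← pow_mul, mul_comm])
  exact h'.main (FiniteField.isSquare_neg_one_iff.not.mpr (by simp [hF, hq4])) hb hc P h3 hnc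

end Cfsg.Lib.Hay
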