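import Cfsg.Agent.Recog.L43BM
import Cfsg.Agent.Known.PresStA
import Cfsg.Agent.Known.PresSL3

/-!
If both normal subgroups of order `27` consist of conjugates of `z`, the two parabolic subgroups
generate an image of `SL₄(3)`.
-/

set_option autoImplicit false
set_option linter.unusedSectionVars false

namespace Cfsg.Lib.L43

open Subgroup Matrix Cfsg.Lib.Chev Cfsg.Lib.Mc3
open scoped commutatorElement

variable {G : Type*} [Group G] [Finite G] {Q V : Subgroup G} {z : G} {p : G → SL23} {φ : Γ → G}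

theorem Pm.bas (h : Pm Q z φ) (v : VS Q V z) (hy : φ y0 ∈ V) : Bas (fun w => φ (col w)) V := by
  have h1 : ∀ w, φ (col w) ∈ V := fun w => by
    have e : ∀ a b c : F3, uu 0 0 a 0 b c =
        uu 0 0 a 0 0 0 * y0 ^ (b - c).val * uu (0 - 0) 0 0 0 1 (1 + 0) ^ c.val := by
      decide +kernel
    have y1 : y0 ∈ Pt := uu_mem_Pt ..
    rw [col, e, h.mul _ (mul_mem (uu_mem_Pt ..) (pow_mem y1 _)) _ (pow_mem (uu_mem_Pt ..) _),
      h.mul _ (uu_mem_Pt ..) _ (pow_mem y1 _), h.map_z, h.map_pow y1, h.map_pow (uu_mem_Pt ..)]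
    exact V.mul_mem (V.mul_mem (V.pow_mem v.zV _) (V.pow_mem hy _))
      (V.pow_mem (h.conj_mem v hy).2 _)
  have h2 : ∀ u w, φ (col u) = φ (col w) → u = w := fun u w e => by
    have := (h.eq_iff_uu (uu_mem_Um ..) (uu_mem_Um ..)).1 e
    rw [uu_inj] at this
    funext i
    fin_cases i
    exacts [this.2.2.1, this.2.2.2.2.1, this.2.2.2.2.2]
  refine ⟨fun u w => by rw [col_add, h.mul _ (col_mem _) _ (col_mem _)],
    fun w e => h2 _ _ (e.trans (h.map_one.symm.trans (congrArg φ uu_zero.symm))), fun g => ?_⟩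
  refine ⟨fun hg => ?_, by rintro ⟨w, rfl⟩; exact h1 w⟩
  have hinj : Function.Injective fun w => (⟨φ (col w), h1 w⟩ : V) := fun u w e =>
    h2 u w (congrArg Subtype.val e)
  obtain ⟨w, e⟩ := (hinj.bijective_of_nat_card_le (by rw [v.card]; simp)).2 ⟨g, hg⟩
  exact ⟨w, (congrArg Subtype.val e).symm⟩

/-- The complement in the second parabolic subgroup. -/
structure Th (φ : Γ → G) (θ : SL33 →* G) : Prop where
  act : ∀ s w, θ s * φ (col w) = φ (col (s.1 *ᵥ w)) * θ s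
  d2 : θ d2 = φ τ0
  eq : ∀ i j, i ≠ j → j ≠ 0 → ∀ t, θ (slE i j t) = φ (slE i.castSucc j.castSucc t)

theorem Pm.exists_th (h : Pm Q z φ) (l : LS Q z p) (v : VS Q V z) (hy : φ y0 ∈ V) :
    ∃ θ, Th φ θ := by
  have hb := h.bas v hy
  obtain ⟨θ', hθ', -⟩ := v.split l hb (k := 0) h.z0
  have act : ∀ s w, θ' (slIT s) * φ (col w) = φ (col (s.1 *ᵥ w)) * θ' (slIT s) := fun s w => by
    have := hθ' (slIT s⁻¹) w
    rw [show (slIT s⁻¹).1 = s.1ᵀ from congrArg (fun x : SL33 => x.1ᵀ) (inv_inv s), vecMul_transpose,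
      _root_.map_inv, _root_.map_inv, inv_inv] at this
    rw [← this, inv_mul_cancel_right]
  have act' : ∀ s, ul s ∈ Pt → ∀ w, φ (ul s) * φ (col w) = φ (col (s.1 *ᵥ w)) * φ (ul s) :=
    fun s hs w => by rw [← h.mul _ hs _ (col_mem _), ul_col, h.mul _ (col_mem _) _ hs]
  have h1 : ∀ s, ∃ w, ul s ∈ Pt → θ' (slIT s) = φ (col w) * φ (ul s) := fun s => by
    by_cases hs : ul s ∈ Pt
    · obtain ⟨w, e⟩ := (hb.mem ((φ (ul s))⁻¹ * θ' (slIT s))).1 (v.cent l fun u hu => by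
        obtain ⟨w, rfl⟩ := (hb.mem u).1 hu
        rw [mul_assoc, act, inv_mul_eq_iff_eq_mul, ← mul_assoc, ← mul_assoc, act' s hs,
          mul_inv_cancel_right])
      exact ⟨_, fun _ => by rw [← act' s hs, ← e, mul_inv_cancel_left]⟩
    · exact ⟨0, fun e => absurd e hs⟩
  choose c hc using h1
  have coc : ∀ s s', ul s ∈ Pt → ul s' ∈ Pt → c (s * s') = c s + s.1 *ᵥ c s' := by
    intro s s' hs hs'
    have h2 : ul (s * s') ∈ Pt := by rw [map_mul]; exact mul_mem hs hs'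
    have h3 := hc _ h2
    rw [map_mul, map_mul, hc s hs, hc s' hs', map_mul, h.mul _ hs _ hs', mul_assoc,
      ← mul_assoc (φ (ul s)), act' s hs, ← mul_assoc, ← mul_assoc, ← mul_assoc, mul_left_inj,
      mul_left_inj, ← hb.add] at h3
    exact (hb.injective h3).symm
  obtain ⟨u, u1, u2⟩ := coc1 coc
  let θ : SL33 →* G := (MulAut.conj (φ (col u))).toMonoidHom.comp (θ'.comp slIT)
  have hθ : ∀ s, θ s = φ (col u) * θ' (slIT s) * (φ (col u))⁻¹ := fun _ => rfl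
  have h2 : ∀ s, ul s ∈ Pt → θ s = φ (col (u + c s - s.1 *ᵥ u)) * φ (ul s) := fun s hs => by
    rw [hθ, hc s hs, ← hb.neg, mul_assoc, mul_assoc, act' s hs, mulVec_neg, sub_eq_add_neg, hb.add,
      hb.add]
    simp only [mul_assoc]
  have h0 : φ (col 0) = 1 := hb.zero
  obtain ⟨a1, a2, k, a3, a4⟩ := coc2 (c := fun s => u + c s - s.1 *ᵥ u) (fun s s' hs hs' => by
    rw [coc s s' hs hs', show (s * s').1 = s.1 * s'.1 from rfl, ← mulVec_mulVec, mulVec_sub, mulVec_add]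
    abel) u1 u2
  have m : ∀ i j : Fin 3, i ≠ j → j ≠ 0 → ul (slE i j 1) ∈ Pt := by
    simp only [mem_Pt]; decide +kernel
  have b2 := h2 _ (m 0 2 (by decide) (by decide))
  rw [a2, h0, one_mul] at b2
  have hk : k = 0 := by
    by_contra hk
    have b3 := h2 _ (m 1 2 (by decide) (by decide))
    rw [a3, ← h.mul _ (col_mem _) _ (m 1 2 (by decide) (by decide)),
      (by decide +kernel : ∀ k : F3, col ![k, 0, 0] * ul (slE 1 2 1) = uu 0 0 k 1 0 0)] at b3
    obtain ⟨a, ha, -, e1⟩ := conj_u0 (b := 0) (c := k) (d := 1) (e := 0) (by simpa using hk)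
    obtain ⟨a', ha', -, e2⟩ := conj_z0 (b := 1) (c := 0) (by simp)
    have c1 : IsConj (φ (uu 0 1 0 0 0 0)) z := isConj_iff.2 ⟨φ a', by
      rw [← h.map_conj ha' (uu_mem_Pt ..), e2, h.z0]⟩
    have c2 : IsConj (θ (slE 0 2 1)) (θ (slE 1 2 1)) := θ.map_isConj
      (isConj_iff.2 ⟨slE 0 1 (-1) * slE 1 0 1 * slE 0 1 (-1), by
        rw [mul_inv_eq_iff_eq_mul]; decide +kernel⟩)
    rw [b2, b3, (by decide +kernel : ul (slE 0 2 1) = uu 0 1 0 0 0 0)] at c2
    have c3 : IsConj (φ (uu 0 0 k 1 0 0)) (φ (u0 (0 * 0 - k * 1))) := isConj_iff.2 ⟨φ a, by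
      rw [← h.map_conj ha (uu_mem_Pt ..), e1]⟩
    have := h.zt l _ (uu_mem_Qm.2 rfl) ((c1.symm.trans c2).trans c3)
    rw [uu_mem_V1, uu_mem_V2] at this
    simp [hk] at this
  refine ⟨θ, fun s w => ?_, ?_, fun i j hij hj t => ?_⟩
  · have := act s w
    rw [hθ, mul_assoc, v.comm _ (inv_mem (hb.mem' u)) _ (hb.mem' w), ← mul_assoc, mul_assoc _ (θ' _),
      this, ← mul_assoc, v.comm _ (hb.mem' u) _ (hb.mem' _)]
    simp only [mul_assoc]
  · rw [h2 _ (by rw [mem_Pt]; decide +kernel), u2, h0, one_mul, ← h.map_ng_mul τ0_mem_Pt]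
    congr 1
    decide +kernel
  · have h3 : θ (slE i j 1) = φ (ul (slE i j 1)) := by
      have b1 := h2 _ (m i j hij hj)
      rcases (by decide : ∀ i j : Fin 3, i ≠ j → j ≠ 0 → i = 0 ∧ j = 1 ∨ i = 0 ∧ j = 2 ∨
        i = 1 ∧ j = 2 ∨ i = 2 ∧ j = 1) i j hij hj with ⟨rfl, rfl⟩ | ⟨rfl, rfl⟩ | ⟨rfl, rfl⟩ | ⟨rfl, rfl⟩
      · rwa [a1, h0, one_mul] at b1
      · exact b2
      · rwa [a3, hk, show (![0, 0, 0] : Fin 3 → F3) = 0 by decide, h0, one_mul] at b1
      · rwa [a4 hk, h0, one_mul] at b1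
    rw [← ul_slE i j hij, slE_pow3 i j hij, _root_.map_pow, _root_.map_pow, h3, h.map_pow (m i j hij hj)]

namespace Th

variable {θ : SL33 →* G} (T : Th φ θ) (h : Pm Q z φ)
include T h

theorem w12 : θ w12 = φ (ul w12) := by
  have m := slE_mem_Pt
  rw [L43.w12, map_mul, map_mul, map_mul, map_mul, T.eq 1 2 (by decide) (by decide),
    T.eq 2 1 (by decide) (by decide), ul_slE 1 2 (by decide), ul_slE 2 1 (by decide),
    h.mul _ (mul_mem (m _ _ (by decide) _) (m _ _ (by decide) _)) _ (m _ _ (by decide) _),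
    h.mul _ (m _ _ (by decide) _) _ (m _ _ (by decide) _)]

theorem conj_J (b c d e : F3) : θ (slE 1 0 1) * φ (uu 0 b c d e 0) =
    φ (uu 0 b c (d + b) (e + c) 0) * θ (slE 1 0 1) := by
  have m := slE_mem_Pt
  have k : ∀ b c d e : F3, φ (uu 0 b c d e 0) =
      φ (col ![c, e, 0]) * θ (slE 0 2 b * slE 1 2 d) := fun b c d e => by
    rw [map_mul, T.eq 0 2 (by decide) (by decide), T.eq 1 2 (by decide) (by decide),
      ← h.mul _ (m _ _ (by decide) _) _ (m _ _ (by decide) _),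
      ← h.mul _ (col_mem _) _ (mul_mem (m _ _ (by decide) _) (m _ _ (by decide) _))]
    congr 1
    revert b c d e
    decide +kernel
  rw [k, k, ← mul_assoc, T.act, mul_assoc, mul_assoc, ← map_mul, ← map_mul]
  rw [(by decide +kernel : ∀ c e : F3, (slE 1 0 1 : SL33).1 *ᵥ ![c, e, 0] = ![c, e + c, 0]),
    (by decide +kernel : ∀ b d : F3, (slE 1 0 1 * (slE 0 2 b * slE 1 2 d) : SL33) =
      slE 0 2 b * slE 1 2 (d + b) * slE 1 0 1)]

theorem r1 : Commute (θ (slE 1 0 1)) (φ (slE 2 3 1)) := by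
  have := T.act (slE 1 0 1) ![0, 0, 1]
  rwa [(by decide +kernel : (slE 1 0 1 : SL33).1 *ᵥ ![0, 0, 1] = ![0, 0, 1]),
    (by decide +kernel : col ![0, 0, 1] = slE 2 3 1)] at this

theorem r2 : Commute (θ (slE 1 0 1)) (φ (slE 3 2 1)) := by
  have m : (slE 3 2 1 : Γ) ∈ Pt := slE_mem_Pt _ _ (by decide) _
  have k : ∀ b c d e : F3, φ (slE 3 2 1) * φ (uu 0 b c d e 0) =
      φ (uu 0 (b - c) c (d - e) e 0) * φ (slE 3 2 1) := fun b c d e => by
    rw [← h.mul _ m _ (uu_mem_Pt ..), ← h.mul _ (uu_mem_Pt ..) _ m]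
    congr 1
    revert b c d e
    decide +kernel
  have c1 : Commute (θ (slE 1 0 1)) (φ τ0) := by
    rw [← T.d2]; exact Commute.map (show slE 1 0 1 * L43.d2 = L43.d2 * slE 1 0 1 by decide +kernel) θ
  have c2 : Commute (φ (slE 3 2 1)) (φ τ0) := by
    change _ * _ = _ * _
    rw [← h.mul _ m _ τ0_mem_Pt, ← h.mul _ τ0_mem_Pt _ m]
    congr 1
    decide +kernel
  have k1 := T.conj_J h
  generalize θ (slE 1 0 1) = A at c1 k1
  generalize φ (slE 3 2 1) = B at c2 k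
  have k2 : ∀ b c d e : F3, (B * A)⁻¹ * (A * B) * φ (uu 0 b c d e 0) =
      φ (uu 0 b c d e 0) * ((B * A)⁻¹ * (A * B)) := fun b c d e => by
    rw [mul_assoc, inv_mul_eq_iff_eq_mul, ← mul_assoc (B * A), ← mul_assoc _ (B * A)⁻¹, mul_assoc B A,
      k1, ← mul_assoc B, k, mul_assoc _ B A, mul_inv_cancel_right, mul_assoc A, k, ← mul_assoc, k1,
      mul_assoc]
    congr 3
    ring
  obtain ⟨a, ha, e⟩ := h.cz _ (h.z0 ▸ k2 0 1 0 0)
  have c3 : Commute (φ a) (φ τ0) := e ▸ (c2.mul_left c1).inv_left.mul_left (c1.mul_left c2)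
  rw [← e] at k2
  obtain ⟨j, hj, e1⟩ := mem_Jm_of_comm ((h.comm_iff ha (uu_mem_Um ..)).1 (k2 0 1 0 0))
    ((h.comm_iff ha (uu_mem_Um ..)).1 (k2 1 0 0 0)) ((h.comm_iff ha (uu_mem_Um ..)).1 (k2 0 0 0 1))
  have hj' := Um_le_Pt (Jm_le_Um hj)
  have e2 : φ a = φ j := by
    rcases e1 with rfl | rfl
    exacts [rfl, h.map_ng_mul hj']
  rw [e2] at c3 e
  have e3 := ((h.comm_iff τ0_mem_Pt (Jm_le_Um hj)).1 c3.symm.eq)
  obtain ⟨b, c, d, f, rfl⟩ := hj
  rw [← mul_inv_eq_iff_eq_mul, τ0_conj, uu_inj] at e3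
  have e4 : uu 0 b c d f 0 = 1 := by
    have k : ∀ x : F3, -x = x → x = 0 := by decide
    rw [k b e3.2.1, k c e3.2.2.1, k d e3.2.2.2.1, k f e3.2.2.2.2.1, uu_zero]
  rw [e4, h.map_one, eq_comm, inv_mul_eq_one] at e
  exact e.symm

theorem comm_w (t : F3) : Commute (θ (slE 1 0 t)) (φ w23) := by
  have m := slE_mem_Pt
  rw [slE_pow3 1 0 (by decide), map_pow, w23,
    (by decide +kernel : (slE 2 3 (-1) : Γ) = slE 2 3 1 ^ 2),
    h.mul _ (mul_mem (pow_mem (m _ _ (by decide) _) _) (m _ _ (by decide) _)) _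
      (pow_mem (m _ _ (by decide) _) _),
    h.mul _ (pow_mem (m _ _ (by decide) _) _) _ (m _ _ (by decide) _), h.map_pow (m _ _ (by decide) _)]
  exact ((((T.r1 h).pow_right 2).mul_right (T.r2 h)).mul_right ((T.r1 h).pow_right 2)).pow_left _

theorem conj12 (t : F3) : φ (ul L43.w12) * θ (slE 1 0 t) * (φ (ul L43.w12))⁻¹ = θ (slE 2 0 t) := by
  rw [← T.w12 h, ← map_mul, w12_conj, map_mul, mul_inv_cancel_right]

omit T h in
/-- The root elements. -/
def rt (φ : Γ → G) (θ : SL33 →* G) (a b : Fin 4) (t : F3) : G :=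
  if b ≠ 0 then φ (slE a b t) else if a = 1 then θ (slE 1 0 t) else if a = 2 then θ (slE 2 0 t)
  else φ w23 * θ (slE 2 0 t) * (φ w23)⁻¹

omit T h in
theorem stA_congr {e e' : Fin 3 → Fin 3 → F3 → G} (h : StA e)
    (k : ∀ i j, i ≠ j → ∀ t, e' i j t = e i j t) : StA e' :=
  ⟨fun a b hab t u => by simp only [k a b hab, h.add a b hab],
    fun a b c h1 h2 h3 t u => by simp only [k a b h1, k b c h2, k a c h3, h.comm a b c h1 h2 h3],
    fun a b c d h1 h2 h3 h4 t u => by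
      rw [k a b h1, k c d h2]; exact h.commute a b c d h1 h2 h3 h4 t u⟩

theorem stA_conj {w : Γ} (hw : w ∈ Pt) {m : Fin 4} (hm : m ≠ 0)
    (h1 : ∀ i j : Fin 3, i ≠ j → ∀ t : F3, w * slE i.castSucc j.castSucc t =
      slE (m.succAbove i) (m.succAbove j) t * w)
    (h2 : ∀ t, rt φ θ (m.succAbove 1) 0 t = φ w * θ (slE 1 0 t) * (φ w)⁻¹)
    (h3 : ∀ t, rt φ θ (m.succAbove 2) 0 t = φ w * θ (slE 2 0 t) * (φ w)⁻¹) :
    StA fun i j => rt φ θ (m.succAbove i) (m.succAbove j) := by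
  refine stA_congr ((stA_slE.map θ).map (MulAut.conj (φ w)).toMonoidHom) fun i j hij t => ?_
  change _ = φ w * θ _ * (φ w)⁻¹
  by_cases hj : j = 0
  · subst hj
    rw [Fin.succAbove_ne_zero_zero hm]
    rcases (by decide : ∀ i : Fin 3, i ≠ 0 → i = 1 ∨ i = 2) i hij with rfl | rfl
    exacts [h2 t, h3 t]
  · have hj' : j.castSucc ≠ 0 := by simpa using hj
    rw [T.eq i j hij hj, ← h.map_conj hw (slE_mem_Pt _ _ hj' _), h1 i j hij, mul_inv_cancel_right,
      rt, if_pos (Fin.succAbove_ne_zero hm hj)]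

theorem stA : StA (rt φ θ) := by
  have m := slE_mem_Pt
  have e30 : ∀ t, φ w23 * θ (slE 2 0 t) * (φ w23)⁻¹ =
      φ (ul L43.w12 * w23) * θ (slE 2 0 t) * (φ (ul L43.w12 * w23))⁻¹ := fun t => by
    have e := congrArg φ w_braid
    rw [h.mul _ (mul_mem w12_mem w23_mem) _ w12_mem, h.mul _ (mul_mem w23_mem w12_mem) _ w23_mem,
      h.mul _ w23_mem _ w12_mem] at e
    rw [← T.conj12 h, eq_mul_inv_of_mul_eq e]
    have := (T.comm_w h t).eq
    generalize θ (slE 1 0 t) = x at this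
    generalize φ w23 = a at this
    generalize φ (ul L43.w12) = b
    calc _ = a * b * (x * a) * a⁻¹ * b⁻¹ * a⁻¹ := by group
      _ = _ := by rw [this]; group
  have base : ∀ k : Fin 4, StA fun i j => rt φ θ (k.succAbove i) (k.succAbove j) := fun k => by
    rcases (by decide : ∀ k : Fin 4, k = 0 ∨ k = 1 ∨ k = 2 ∨ k = 3) k with rfl | rfl | rfl | rfl
    · have : StA fun (i j : Fin 3) t => (⟨slE i.succ j.succ t, m _ _ (Fin.succ_ne_zero j) t⟩ : Pt) :=
        have s := (stA_slE (F := F3) (κ := Fin 4)).comp (Fin.succ_injective 3)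
        ⟨fun a b hab t u => Subtype.ext (s.add a b hab t u),
          fun a b c h1 h2 h3 t u => Subtype.ext (s.comm a b c h1 h2 h3 t u),
          fun a b c d h1 h2 h3 h4 t u => Subtype.ext (s.commute a b c d h1 h2 h3 h4 t u)⟩
      refine stA_congr (this.map h.hom) fun i j _ t => ?_
      rw [rt, Fin.succAbove_zero, if_pos (Fin.succ_ne_zero j)]
      rfl
    · refine T.stA_conj h (mul_mem w12_mem w23_mem) (by decide) w123_conj (fun t => ?_) e30
      rw [h.mul _ w12_mem _ w23_mem, mul_assoc (φ _) (φ _), ← (T.comm_w h t).eq, _root_.mul_inv_rev,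
        ← mul_assoc, ← mul_assoc, mul_inv_cancel_right, T.conj12 h]
      rfl
    · refine T.stA_conj h w23_mem (by decide) w23_conj (fun t => ?_) fun _ => rfl
      rw [← (T.comm_w h t).eq, mul_inv_cancel_right]
      rfl
    · refine T.stA_conj h Pt.one_mem (by decide) (fun i j _ t => by
        rw [one_mul, mul_one]; exact congrArg₂ (slE · · t) (Fin.succAbove_last_apply i).symm
          (Fin.succAbove_last_apply j).symm) (fun t => ?_) fun t => ?_ <;> rw [h.map_one] <;> simp <;> rfl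
  have k1 : ∀ c d : Fin 4, [1, 0, c, d].Nodup → Commute (rt φ θ 1 0 1) (rt φ θ c d 1) := by
    intro c d hn
    rcases (by decide : ∀ c d : Fin 4, [1, 0, c, d].Nodup → c = 2 ∧ d = 3 ∨ c = 3 ∧ d = 2) c d hn
      with ⟨rfl, rfl⟩ | ⟨rfl, rfl⟩
    exacts [T.r1 h, T.r2 h]
  have k2 : Commute (rt φ θ 2 0 1) (rt φ θ 3 1 1) := by
    have := (T.r2 h).map (MulAut.conj (φ (ul L43.w12)))
    rw [MulAut.conj_apply, MulAut.conj_apply, T.conj12 h, ← h.map_conj w12_mem (m _ _ (by decide) _),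
      show ul L43.w12 * slE 3 2 1 * (ul L43.w12)⁻¹ = (slE 3 1 1)⁻¹ by
        rw [mul_inv_eq_iff_eq_mul, eq_inv_mul_iff_mul_eq]; decide +kernel,
      h.map_inv (m _ _ (by decide) _)] at this
    exact Commute.inv_right_iff.1 this
  have k0 : ∀ a c d : Fin 4, [a, 0, c, d].Nodup → Commute (rt φ θ a 0 1) (rt φ θ c d 1) ∨
      Commute (rt φ θ c 0 1) (rt φ θ a d 1) := fun a c d hn => by
    rcases (by decide : ∀ a c d : Fin 4, [a, 0, c, d].Nodup → a = 1 ∨ (c = 1 ∧ [1, 0, a, d].Nodup) ∨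
      a = 2 ∧ c = 3 ∧ d = 1 ∨ a = 3 ∧ c = 2 ∧ d = 1) a c d hn with rfl | ⟨rfl, e⟩ | ⟨rfl, rfl, rfl⟩ |
      ⟨rfl, rfl, rfl⟩
    exacts [Or.inl (k1 c d hn), Or.inr (k1 a d e), Or.inl k2, Or.inr k2]
  refine Known.stA_of_triples (fun f hf => ?_) (fun a b hab => ?_) fun a b c d hn => ?_
  · obtain ⟨k, σ, hσ, e⟩ := inj3 f hf
    simp only [e]
    exact (base k).comp hσ
  · obtain ⟨k, i, j, hij, rfl, rfl⟩ := (by decide : ∀ a b : Fin 4, a ≠ b → ∃ (k : Fin 4)
      (i j : Fin 3), i ≠ j ∧ k.succAbove i = a ∧ k.succAbove j = b) a b hab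
    exact (base k).add i j hij
  · by_cases hb : b = 0
    · subst hb
      exact k0 a c d hn
    by_cases hd : d = 0
    · subst hd
      exact (k0 c a b ((by decide : ∀ a b c : Fin 4, [a, b, c, 0].Nodup → [c, 0, a, b].Nodup)
        a b c hn)).imp Commute.symm Commute.symm
    left
    rw [rt, rt, if_pos hb, if_pos hd]
    change _ * _ = _ * _
    rw [← h.mul _ (m _ _ hb _) _ (m _ _ hd _), ← h.mul _ (m _ _ hd _) _ (m _ _ hb _)]
    simp only [List.nodup_cons, List.mem_cons, not_or] at hn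
    rw [(stA_slE.commute a b c d hn.1.1 hn.2.2.1.1 hn.2.1.1 hn.1.2.2.1 1 1).eq]

end Th

theorem Pm.md_top (h : Pm Q z φ) (l : LS Q z p) (hy : IsConj z (φ y0)) :
    ∃ ψ : Γ → G, Md ψ ⊤ := by
  obtain ⟨V, v, hV⟩ := l.exists_vs hy (h.mem _ (uu_mem_Qm.2 rfl)) fun e => by
    obtain ⟨c, e1⟩ := exists_pw l.z3 e
    rw [← h.map_z, h.eq_iff_uu (a := y0) (uu_mem_Um ..) (uu_mem_Um ..), y0, uu_inj] at e1
    exact one_ne_zero e1.2.2.2.2.1
  obtain ⟨θ, T⟩ := h.exists_th l v hV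
  obtain ⟨ψ, hψ⟩ := Known.stA_exists_hom (T.stA h) (by simp)
  have h1 : ∀ a b, a ≠ b → b ≠ 0 → ∀ t, ψ (slE a b t) = φ (slE a b t) := fun a b hab hb t => by
    rw [hψ a b t hab, Th.rt, if_pos hb]
  have h2 : ψ ng = 1 := by
    have hb := h.bas v hV
    have m := slE_mem_Pt
    have : ψ ng ∈ V := v.cent l fun u hu => by
      obtain ⟨w, rfl⟩ := (hb.mem u).1 hu
      have : φ (col w) = ψ (col w) := by
        rw [(by decide +kernel : ∀ w, col w = slE 0 3 (w 0) * slE 1 3 (w 1) * slE 2 3 (w 2)),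
          map_mul, map_mul, h1 _ _ (by decide) (by decide), h1 _ _ (by decide) (by decide),
          h1 _ _ (by decide) (by decide),
          h.mul _ (mul_mem (m _ _ (by decide) _) (m _ _ (by decide) _)) _ (m _ _ (by decide) _),
          h.mul _ (m _ _ (by decide) _) _ (m _ _ (by decide) _)]
      rw [this, ← map_mul, ← map_mul, ng_comm]
    have h3 := l.cube _ (v.le this)
    rwa [pow_three, ← map_mul, ng_mul_ng, _root_.map_one, mul_one] at h3
  have h3 : ∀ a ∈ Pt, ψ a = φ a := fun a ha => by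
    have := Pt_le ((h.hom.eqLocus (ψ.comp Pt.subtype)).map Pt.subtype)
      ⟨⟨ng, ng_mem_Pt⟩, ((h.ker _ ng_mem_Pt).2 (Or.inr rfl)).trans h2.symm, rfl⟩
      (fun a b hab hb t => ⟨⟨_, slE_mem_Pt a b hb t⟩, (h1 a b hab hb t).symm, rfl⟩) ha
    obtain ⟨b, hb, rfl⟩ := this
    exact hb.symm
  have h4 : ψ L43.z0 = z := (h3 _ z0_mem_Pt).trans h.z0
  refine ⟨ψ, fun a _ b _ => map_mul ψ a b, fun a _ => ⟨fun e => ?_, by
    rintro (rfl | rfl); exacts [ψ.map_one, h2]⟩, le_top, fun g hg => ?_, fun q hq hc => ?_,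
    Or.inr rfl⟩
  · have : IsSimpleGroup (Γ ⧸ center Γ) := Class.PSL_isSimpleGroup (by simp)
    rcases (Subgroup.Normal.map inferInstance (QuotientGroup.mk' (center Γ))
      (QuotientGroup.mk'_surjective _) : (ψ.ker.map _).Normal).eq_bot_or_eq_top with e1 | e1
    · rw [Subgroup.map_eq_bot_iff, QuotientGroup.ker_mk'] at e1
      exact mem_center_Γ.1 (e1 e)
    · obtain ⟨k, hk, e2⟩ : QuotientGroup.mk' (center Γ) L43.z0 ∈ ψ.ker.map _ := e1 ▸ mem_top _
      have e3 : ψ (k⁻¹ * L43.z0) = 1 := by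
        rcases mem_center_Γ.1 (QuotientGroup.eq.1 e2) with e3 | e3 <;> rw [e3]
        exacts [ψ.map_one, h2]
      rw [map_mul, _root_.map_inv, show ψ k = 1 from hk, h4, inv_one, one_mul] at e3
      exact absurd e3 l.z_ne
  · obtain ⟨a, ha, e⟩ := h.cz g (h4 ▸ hg)
    exact ⟨a, ha, (h3 a ha).trans e⟩
  · rw [h4, h3 q (Um_le_Pt (Qm_le_Um hq))] at hc
    exact h.zt l q hq hc

theorem LS.exists_md (l : LS Q z p) : ∃ (φ : Γ → G) (Γ0 : Subgroup Γ), Md φ Γ0 := by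
  obtain ⟨φ, h⟩ := l.exists_pm
  by_cases hy : IsConj z (φ y0)
  · obtain ⟨ψ, h1⟩ := h.md_top l hy
    exact ⟨ψ, ⊤, h1⟩
  · exact ⟨φ, Pt, h.md l hy⟩

end Cfsg.Lib.L43
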