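import Cfsg.Agent.Recog.L43Defs

/-!
Orbits of `Pt ⊓ NJ` on `Jm`, and centralizers of the elements of `Jm`.
-/

set_option autoImplicit false

namespace Cfsg.Lib.L43

open Subgroup Matrix

/-- Block diagonal elements of `Pt ⊓ NJ`. -/
def bl (s p q r w : F3) (h : p * w - q * r = 1) : Γ :=
  mk 1 s 0 0 0 1 0 0 0 0 p q 0 0 r w (by simp only [d16]; linear_combination h)

theorem bl_conj {s p q r w : F3} (h : p * w - q * r = 1) {b c d e b' c' d' e' : F3}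
    (h1 : b + s * d = b' * p + c' * r ∧ c + s * e = b' * q + c' * w ∧ d = d' * p + e' * r ∧
      e = d' * q + e' * w) :
    bl s p q r w h * uu 0 b c d e 0 * (bl s p q r w h)⁻¹ = uu 0 b' c' d' e' 0 := by
  obtain ⟨h1, h2, h3, h4⟩ := h1
  rw [mul_inv_eq_iff_eq_mul]
  simp [bl, uu, mk_mul, h1, h2, ← h3, ← h4]

theorem exists_conj_of {b c d e b' c' d' e' : F3} (h : ∃ s p q r w : F3, p * w - q * r = 1 ∧
    b + s * d = b' * p + c' * r ∧ c + s * e = b' * q + c' * w ∧ d = d' * p + e' * r ∧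
      e = d' * q + e' * w) :
    ∃ a ∈ Pt, a ∈ NJ ∧ a * uu 0 b c d e 0 * a⁻¹ = uu 0 b' c' d' e' 0 := by
  obtain ⟨s, p, q, r, w, h, h1⟩ := h
  exact ⟨bl s p q r w h, ⟨rfl, rfl, rfl⟩, ⟨rfl, rfl, rfl, rfl⟩, bl_conj h h1⟩

theorem conj_u0 {b c d e : F3} (h : b * e - c * d ≠ 0) :
    ∃ a ∈ Pt, a ∈ NJ ∧ a * uu 0 b c d e 0 * a⁻¹ = u0 (b * e - c * d) :=
  exists_conj_of (by revert b c d e; decide +kernel)

theorem conj_y0 {b c d e : F3} (h : b * e - c * d = 0) (h1 : ¬ (d = 0 ∧ e = 0)) :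
    ∃ a ∈ Pt, a ∈ NJ ∧ a * uu 0 b c d e 0 * a⁻¹ = y0 :=
  exists_conj_of (by revert b c d e; decide +kernel)

theorem conj_z0 {b c : F3} (h : ¬ (b = 0 ∧ c = 0)) :
    ∃ a ∈ Pt, a ∈ NJ ∧ a * uu 0 b c 0 0 0 * a⁻¹ = z0 :=
  exists_conj_of (by revert b c; decide +kernel)

theorem conj_y0_z0 : ∃ a ∈ NJ, a * y0 * a⁻¹ = z0 :=
  ⟨mk 0 1 0 0 (-1) 0 0 0 0 0 1 0 0 0 0 1 (by decide), ⟨rfl, rfl, rfl, rfl⟩, by
    rw [mul_inv_eq_iff_eq_mul]; decide +kernel⟩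

variable {G : Type*} [Group G] {φ : Γ → G} {Γ0 : Subgroup Γ}

theorem Md.cent_of_conj (h : Md φ Γ0) {a j j' : Γ} (ha : a ∈ Γ0) (hj : j ∈ Γ0)
    (e : a * j * a⁻¹ = j') (hc : ∀ g, g * φ j' = φ j' * g → ∃ b ∈ Γ0, φ b = g) (g : G)
    (hg : g * φ j = φ j * g) : ∃ b ∈ Γ0, φ b = g := by
  obtain ⟨b, hb, eb⟩ := hc (φ a * g * (φ a)⁻¹) (by
    rw [← e, h.map_conj ha hj, conj_mul, conj_mul, hg])
  refine ⟨a⁻¹ * b * a⁻¹⁻¹, mul_mem (mul_mem (inv_mem ha) hb) (inv_mem (inv_mem ha)), ?_⟩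
  rw [h.map_conj (inv_mem ha) hb, eb, h.map_inv ha]
  group

/-- Centralizers of the elements of rank one. -/
theorem Md.cent_rank_one (h : Md φ Γ0) (hy : ∀ g, g * φ y0 = φ y0 * g → ∃ a ∈ Γ0, φ a = g)
    {b c d e : F3} (h0 : b * e - c * d = 0) (h1 : uu 0 b c d e 0 ≠ 1) (g : G)
    (hg : g * φ (uu 0 b c d e 0) = φ (uu 0 b c d e 0) * g) : ∃ a ∈ Γ0, φ a = g := by
  by_cases h2 : d = 0 ∧ e = 0
  · obtain ⟨rfl, rfl⟩ := h2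
    obtain ⟨a, ha, -, e⟩ := conj_z0 (b := b) (c := c) (by simpa [uu_eq_one] using h1)
    refine h.cent_of_conj (h.le ha) (h.uu_mem ..) e (fun g hg => ?_) g hg
    obtain ⟨b, hb, eb⟩ := h.cz g hg
    exact ⟨b, h.le hb, eb⟩
  · obtain ⟨a, ha, -, e⟩ := conj_y0 h0 h2
    exact h.cent_of_conj (h.le ha) (h.uu_mem ..) e hy g hg

theorem Md.cent_J (h : Md φ Γ0) (hy : ∀ g, g * φ y0 = φ y0 * g → ∃ a ∈ Γ0, φ a = g)
    (hu : ∀ ε : F3, ε ≠ 0 → ∀ g, g * φ (u0 ε) = φ (u0 ε) * g → ∃ a ∈ Γ0, φ a = g)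
    (j : Γ) (hj : j ∈ Jm) (h1 : j ≠ 1) (g : G) (hg : g * φ j = φ j * g) : ∃ a ∈ Γ0, φ a = g := by
  obtain ⟨b, c, d, e, rfl⟩ := hj
  by_cases h0 : b * e - c * d = 0
  · exact h.cent_rank_one hy h0 h1 g hg
  · obtain ⟨a, ha, -, e⟩ := conj_u0 h0
    exact h.cent_of_conj (h.le ha) (h.uu_mem ..) e (hu _ h0) g hg

end Cfsg.Lib.L43
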