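import Cfsg.Agent.Recog.L43Phi
import Cfsg.Agent.Recog.L43Orb

/-!
Model computations for the second parabolic subgroup.
-/

set_option autoImplicit false

namespace Cfsg.Lib.L43

open Subgroup Matrix Cfsg.Lib.Chev

/-- The upper left embedding of `SL₃(3)`. -/
def ul0 (s : SL33) : Γ := mk (s 0 0) (s 0 1) (s 0 2) 0 (s 1 0) (s 1 1) (s 1 2) 0 (s 2 0) (s 2 1)
  (s 2 2) 0 0 0 0 1 (by
    have := s.2
    rw [det_fin_three] at this
    simp only [d16]
    linear_combination this)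

/-- The upper left embedding of `SL₃(3)` as a homomorphism. -/
def ul : SL33 →* Γ := MonoidHom.mk' ul0 fun a b => by
  simp [ul0, mk_mul, Matrix.mul_apply, Fin.sum_univ_three]

/-- The lower right embedding of `SL₃(3)`. -/
def lr0 (s : SL33) : Γ := mk 1 0 0 0 0 (s 0 0) (s 0 1) (s 0 2) 0 (s 1 0) (s 1 1) (s 1 2) 0 (s 2 0)
  (s 2 1) (s 2 2) (by
    have := s.2
    rw [det_fin_three] at this
    simp only [d16]
    linear_combination this)

/-- The lower right embedding of `SL₃(3)` as a homomorphism. -/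
def lr : SL33 →* Γ := MonoidHom.mk' lr0 fun a b => by
  simp [lr0, mk_mul, Matrix.mul_apply, Fin.sum_univ_three]

/-- Coordinates on `V2`. -/
def col (w : Fin 3 → F3) : Γ := uu 0 0 (w 0) 0 (w 1) (w 2)

theorem col_add (v w : Fin 3 → F3) : col (v + w) = col v * col w := by simp [col, uu_mul]

theorem col_mem (w : Fin 3 → F3) : col w ∈ Pt := uu_mem_Pt ..

theorem ul_col (s : SL33) (w : Fin 3 → F3) : ul s * col w = col (s.1 *ᵥ w) * ul s := by
  change ul0 s * _ = _ * ul0 s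
  simp [ul0, col, uu, mk_mul, mulVec, dotProduct, Fin.sum_univ_three]

theorem ul_slE : ∀ i j : Fin 3, i ≠ j → ∀ t : F3,
    ul (slE i j t) = slE i.castSucc j.castSucc t := by decide +kernel

theorem lr_slE : ∀ i j : Fin 3, i ≠ j → ∀ t : F3, lr (slE i j t) = slE i.succ j.succ t := by
  decide +kernel

theorem slE_mem_Pt : ∀ a b : Fin 4, b ≠ 0 → ∀ t : F3, (slE a b t : Γ) ∈ Pt := by
  simp only [mem_Pt]; decide +kernel

theorem slE_pow3 : ∀ a b : Fin 3, a ≠ b → ∀ t : F3, (slE a b t : SL33) = slE a b 1 ^ t.val := by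
  decide +kernel

theorem Pt_le (H : Subgroup Γ) (h0 : ng ∈ H) (h : ∀ a b, a ≠ b → b ≠ 0 → ∀ t, slE a b t ∈ H) :
    Pt ≤ H := fun g hg => by
  have h1 : H.comap lr = ⊤ := closure_slE _ fun i j hij t => by
    rw [mem_comap, lr_slE i j hij]
    exact h _ _ (fun e => hij (Fin.succ_injective _ e)) (Fin.succ_ne_zero j) t
  have h2 : V1 ≤ H := by
    rintro _ ⟨a, b, c, rfl⟩
    rw [(by decide +kernel : ∀ a b c : F3, uu a b c 0 0 0 = slE 0 1 a * slE 0 2 b * slE 0 3 c)]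
    exact H.mul_mem (H.mul_mem (h _ _ (by decide) (by decide) _) (h _ _ (by decide) (by decide) _))
      (h _ _ (by decide) (by decide) _)
  have h3 : lr (low ⟨g, hg⟩) ∈ Pt := ⟨rfl, rfl, rfl⟩
  have h4 : low ⟨_, h3⟩ = low ⟨g, hg⟩ := Subtype.ext (by
    ext i j
    rw [low_apply]
    fin_cases i <;> fin_cases j <;> exact one_mul _)
  have h5 : lr (low ⟨g, hg⟩) ∈ H := (h1 ▸ mem_top _ : low ⟨g, hg⟩ ∈ H.comap lr)
  have h6 := (low_eq_one ((⟨_, h3⟩ : Pt)⁻¹ * ⟨g, hg⟩)).1 (by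
    rw [map_mul, map_inv, h4, inv_mul_cancel])
  generalize lr (low ⟨g, hg⟩) = k at h3 h5 h6
  change k⁻¹ * g ∈ V1 ∨ ng * (k⁻¹ * g) ∈ V1 at h6
  rcases h6 with e | e
  · simpa using H.mul_mem h5 (h2 e)
  · simpa using H.mul_mem h5 (H.mul_mem (H.inv_mem h0) (h2 e))

/-- `diag(1, -1, -1)`. -/
def d1 : SL33 := ⟨!![1, 0, 0; 0, -1, 0; 0, 0, -1], by decide⟩
/-- `diag(-1, -1, 1)`. -/
def d2 : SL33 := ⟨!![-1, 0, 0; 0, -1, 0; 0, 0, 1], by decide⟩

theorem coc_eq {c : SL33 → Fin 3 → F3}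
    (hc : ∀ s s', ul s ∈ Pt → ul s' ∈ Pt → c (s * s') = c s + s.1 *ᵥ c s') {a b a' b' : SL33}
    (h : (ul a ∈ Pt ∧ ul b ∈ Pt ∧ ul a' ∈ Pt ∧ ul b' ∈ Pt) ∧ a * b = a' * b') :
    c a + a.1 *ᵥ c b = c a' + a'.1 *ᵥ c b' := by
  rw [← hc a b h.1.1 h.1.2.1, ← hc a' b' h.1.2.2.1 h.1.2.2.2, h.2]

theorem coc_one {c : SL33 → Fin 3 → F3}
    (hc : ∀ s s', ul s ∈ Pt → ul s' ∈ Pt → c (s * s') = c s + s.1 *ᵥ c s') : c 1 = 0 := by
  have := hc 1 1 (by simp) (by simp)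
  simpa using this

theorem coc1 {c : SL33 → Fin 3 → F3}
    (hc : ∀ s s', ul s ∈ Pt → ul s' ∈ Pt → c (s * s') = c s + s.1 *ᵥ c s') :
    ∃ u, u + c d1 - d1.1 *ᵥ u = 0 ∧ u + c d2 - d2.1 *ᵥ u = 0 := by
  have h1 := coc_eq hc (a := d1) (b := d1) (a' := 1) (b' := 1) (by simp only [mem_Pt]; decide +kernel)
  have h2 := coc_eq hc (a := d2) (b := d2) (a' := 1) (b' := 1) (by simp only [mem_Pt]; decide +kernel)
  have h3 := coc_eq hc (a := d1) (b := d2) (a' := d2) (b' := d1)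
    (by simp only [mem_Pt]; decide +kernel)
  rw [coc_one hc] at h1 h2
  refine ⟨![c d2 0, c d1 1, c d1 2], ?_⟩
  revert h1 h2 h3
  generalize c d1 = v
  generalize c d2 = w
  revert v w
  decide +kernel

set_option synthInstance.maxSize 2000 in
theorem coc2 {c : SL33 → Fin 3 → F3}
    (hc : ∀ s s', ul s ∈ Pt → ul s' ∈ Pt → c (s * s') = c s + s.1 *ᵥ c s') (h1 : c d1 = 0)
    (h2 : c d2 = 0) : c (slE 0 1 1) = 0 ∧ c (slE 0 2 1) = 0 ∧ ∃ k, c (slE 1 2 1) = ![k, 0, 0] ∧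
      (k = 0 → c (slE 2 1 1) = 0) := by
  have h12 := hc d1 d2 (by rw [mem_Pt]; decide +kernel) (by rw [mem_Pt]; decide +kernel)
  rw [h1, h2, mulVec_zero, add_zero] at h12
  have a1 := coc_eq hc (a := d2) (b := slE 0 1 1) (a' := slE 0 1 1) (b' := d2)
    (by simp only [mem_Pt]; decide +kernel)
  have a2 := coc_eq hc (a := d1 * d2) (b := slE 0 2 1) (a' := slE 0 2 1) (b' := d1 * d2)
    (by simp only [mem_Pt]; decide +kernel)
  have a3 := coc_eq hc (a := d1) (b := slE 1 2 1) (a' := slE 1 2 1) (b' := d1)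
    (by simp only [mem_Pt]; decide +kernel)
  have a4 := coc_eq hc (a := d1) (b := slE 2 1 1) (a' := slE 2 1 1) (b' := d1)
    (by simp only [mem_Pt]; decide +kernel)
  have a5 := coc_eq hc (a := slE 0 1 1) (b := slE 0 2 1) (a' := slE 0 2 1) (b' := slE 0 1 1)
    (by simp only [mem_Pt]; decide +kernel)
  have a6 := coc_eq hc (a := slE 0 1 1) (b := slE 1 2 1) (a' := slE 0 2 1)
    (b' := slE 1 2 1 * slE 0 1 1) (by simp only [mem_Pt]; decide +kernel)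
  rw [hc (slE 1 2 1) _ (by rw [mem_Pt]; decide +kernel) (by rw [mem_Pt]; decide +kernel)] at a6
  have a7 := coc_eq hc (a := slE 1 2 1 * slE 2 1 1) (b := slE 1 2 1 * slE 2 1 1) (a' := d1)
    (b' := 1) (by simp only [mem_Pt]; decide +kernel)
  rw [hc (slE 1 2 1) _ (by rw [mem_Pt]; decide +kernel) (by rw [mem_Pt]; decide +kernel)] at a7
  simp only [h1, h2, h12, coc_one hc, mulVec_zero, add_zero, zero_add] at a1 a2 a3 a4 a7
  obtain ⟨k1, e1⟩ := (by decide +kernel : ∀ v, d2.1 *ᵥ v = v → ∃ k, v = ![0, 0, k]) _ a1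
  obtain ⟨k2, e2⟩ := (by decide +kernel : ∀ v, (d1 * d2).1 *ᵥ v = v → ∃ k, v = ![0, k, 0]) _ a2
  obtain ⟨k3, e3⟩ := (by decide +kernel : ∀ v, d1.1 *ᵥ v = v → ∃ k, v = ![k, 0, 0]) _ a3
  obtain ⟨k4, e4⟩ := (by decide +kernel : ∀ v, d1.1 *ᵥ v = v → ∃ k, v = ![k, 0, 0]) _ a4
  rw [e1, e2] at a5 a6 ⊢
  rw [e3] at a6 a7 ⊢
  rw [e4] at a7 ⊢
  clear e1 e2 e3 e4
  revert k1 k2 k3 k4
  decide +kernel

/-- The Weyl element for `1, 2`. -/
def w12 : SL33 := slE 1 2 (-1) * slE 2 1 1 * slE 1 2 (-1)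
/-- The Weyl element for `2, 3`. -/
def w23 : Γ := slE 2 3 (-1) * slE 3 2 1 * slE 2 3 (-1)

theorem w23_mem : w23 ∈ Pt := by rw [mem_Pt]; decide +kernel
theorem w12_mem : ul w12 ∈ Pt := by rw [mem_Pt]; decide +kernel

theorem w23_conj : ∀ i j : Fin 3, i ≠ j → ∀ t : F3, w23 * slE i.castSucc j.castSucc t =
    slE ((2 : Fin 4).succAbove i) ((2 : Fin 4).succAbove j) t * w23 := by decide +kernel

theorem w123_conj : ∀ i j : Fin 3, i ≠ j → ∀ t : F3, ul w12 * w23 * slE i.castSucc j.castSucc t =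
    slE ((1 : Fin 4).succAbove i) ((1 : Fin 4).succAbove j) t * (ul w12 * w23) := by decide +kernel

theorem w12_conj : ∀ t : F3, w12 * slE 1 0 t = slE 2 0 t * w12 := by decide +kernel

theorem w_braid : ul w12 * w23 * ul w12 = w23 * ul w12 * w23 := by decide +kernel

theorem inj3 : ∀ f : Fin 3 → Fin 4, Function.Injective f → ∃ (m : Fin 4) (σ : Fin 3 → Fin 3),
    Function.Injective σ ∧ ∀ i, f i = m.succAbove (σ i) := by decide +kernel

end Cfsg.Lib.L43
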