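import Cfsg.Agent.Recog.L43CTA

/-!
Recognition of `L₄(3)`: the centralizer of the involution `t0`.
-/

set_option autoImplicit false

namespace Cfsg.Lib.L43

open Subgroup Matrix

namespace CT

/-- The determinant of a `2 × 2` matrix. -/
def dt2 (p q r s : F3) : F3 := p * s - q * r

theorem dt2_eq_1' : type_of% @dt2.eq_1 := @dt2.eq_1

/-- The translation part of the action of `GL₂(3)` on the three subgroups of order four. -/
def cc (p q r s : F3) : F3 := (p * r + q * s) * (1 + r ^ 2 * s ^ 2)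

theorem cc_eq_1' : type_of% @cc.eq_1 := @cc.eq_1

theorem dt2_mul (p q r s p' q' r' s' : F3) :
    dt2 (p * p' + q * r') (p * q' + q * s') (r * p' + s * r') (r * q' + s * s') =
      dt2 p q r s * dt2 p' q' r' s' := by
  simp only [dt2]; ring

theorem cc_mul : ∀ p q r s p' q' r' s' : F3, dt2 p q r s ≠ 0 ∧ dt2 p' q' r' s' ≠ 0 →
    cc (p * p' + q * r') (p * q' + q * s') (r * p' + s * r') (r * q' + s * s') =
      cc p q r s + dt2 p q r s * cc p' q' r' s' := by decide +kernel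

/-- The affine group of the line over `F₃`. -/
def aff (δ c : F3) : Equiv.Perm (Fin 3) :=
  finRotate 3 ^ c.val * if δ = 1 then 1 else Equiv.swap 1 2

theorem aff_eq_1' : type_of% @aff.eq_1 := @aff.eq_1

theorem aff_mul : ∀ δ c δ' c' : F3, δ ≠ 0 ∧ δ' ≠ 0 →
    aff δ c * aff δ' c' = aff (δ * δ') (c + δ * c') := by decide +kernel

theorem aff_eq_one : ∀ δ c : F3, aff δ c = 1 ↔ δ = 1 ∧ c = 0 := by decide +kernel

/-- Block diagonal matrices. -/
def dg (p q r s p' q' r' s' : F3) (h : dt2 p q r s * dt2 p' q' r' s' = 1) : Γ :=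
  mk p 0 0 q 0 p' q' 0 0 r' s' 0 r 0 0 s (by
    simp only [d16]; simp only [dt2] at h; linear_combination h)

theorem dg_eq_1' : type_of% @dg.eq_1 := @dg.eq_1

/-- Block antidiagonal matrices. -/
def an (p q r s p' q' r' s' : F3) (h : dt2 p q r s * dt2 p' q' r' s' = 1) : Γ :=
  mk 0 p q 0 p' 0 0 q' r' 0 0 s' 0 r s 0 (by
    simp only [d16]; simp only [dt2] at h; linear_combination h)

theorem an_eq_1' : type_of% @an.eq_1 := @an.eq_1

section
variable {p q r s p' q' r' s' a b c d a' b' c' d' : F3}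

theorem dt2_h (h : dt2 p q r s * dt2 p' q' r' s' = 1) (h' : dt2 a b c d * dt2 a' b' c' d' = 1) :
    dt2 (p * a + q * c) (p * b + q * d) (r * a + s * c) (r * b + s * d) *
      dt2 (p' * a' + q' * c') (p' * b' + q' * d') (r' * a' + s' * c') (r' * b' + s' * d') = 1 := by
  rw [dt2_mul, dt2_mul, mul_mul_mul_comm, h, h', one_mul]

theorem dg_dg (h h') : dg p q r s p' q' r' s' h * dg a b c d a' b' c' d' h' =
    dg _ _ _ _ _ _ _ _ (dt2_h h h') := by
  simp [dg, mk_mul]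

theorem dg_an (h h') : dg p q r s p' q' r' s' h * an a b c d a' b' c' d' h' =
    an _ _ _ _ _ _ _ _ (dt2_h h h') := by
  simp [dg, an, mk_mul]

theorem an_dg (h h') : an p q r s p' q' r' s' h * dg a b c d a' b' c' d' h' =
    an _ _ _ _ _ _ _ _ (dt2_h h ((mul_comm _ _).trans h')) := by
  simp [dg, an, mk_mul]

theorem an_an (h h') : an p q r s p' q' r' s' h * an a b c d a' b' c' d' h' =
    dg _ _ _ _ _ _ _ _ (dt2_h h ((mul_comm _ _).trans h')) := by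
  simp [dg, an, mk_mul]

theorem dg_inj (h h') : dg p q r s p' q' r' s' h = dg a b c d a' b' c' d' h' ↔
    (p = a ∧ q = b ∧ r = c ∧ s = d) ∧ p' = a' ∧ q' = b' ∧ r' = c' ∧ s' = d' := by
  simp only [dg, mk_inj]
  tauto

theorem dt2_facts {x y : F3} (h : x * y = 1) : x ≠ 0 ∧ y ≠ 0 ∧ y = x := by
  revert x y; decide

end

/-- The centralizer of `t0` modulo `-1`. -/
def Mt : Subgroup Γ := subOf
  { carrier := {g | (∃ p q r s p' q' r' s' h, g = dg p q r s p' q' r' s' h) ∨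
      ∃ p q r s p' q' r' s' h, g = an p q r s p' q' r' s' h}
    one_mem' := Or.inl ⟨1, 0, 0, 1, 1, 0, 0, 1, by decide, one_eq_mk⟩
    mul_mem' := by
      rintro _ _ (⟨_, _, _, _, _, _, _, _, _, rfl⟩ | ⟨_, _, _, _, _, _, _, _, _, rfl⟩)
        (⟨_, _, _, _, _, _, _, _, _, rfl⟩ | ⟨_, _, _, _, _, _, _, _, _, rfl⟩)
      exacts [Or.inl ⟨_, _, _, _, _, _, _, _, _, dg_dg _ _⟩,
        Or.inr ⟨_, _, _, _, _, _, _, _, _, dg_an _ _⟩,
        Or.inr ⟨_, _, _, _, _, _, _, _, _, an_dg _ _⟩,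
        Or.inl ⟨_, _, _, _, _, _, _, _, _, an_an _ _⟩] }

theorem Mt_eq_1' : type_of% @Mt.eq_1 := @Mt.eq_1

theorem mem_Mt {g : Γ} : g ∈ Mt ↔ (∃ p q r s p' q' r' s' h, g = dg p q r s p' q' r' s' h) ∨
    ∃ p q r s p' q' r' s' h, g = an p q r s p' q' r' s' h := Iff.rfl

theorem mem_Mt_iff {g : Γ} : g ∈ Mt ↔ g * t0 = t0 * g ∨ g * t0 = ng * (t0 * g) := by
  constructor
  · rintro (⟨_, _, _, _, _, _, _, _, _, rfl⟩ | ⟨_, _, _, _, _, _, _, _, _, rfl⟩)
    · exact Or.inl (by simp [dg, t0, mk_mul])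
    · exact Or.inr (by simp [an, t0, ng, mk_mul])
  have k : ∀ x : F3, (-x = x → x = 0) ∧ (x = -x → x = 0) := by decide
  have hd := d16_ent g
  rw [eq_mk g]
  rintro (h | h)
  · simp only [t0, mk_mul, mk_inj, mul_one, mul_zero, add_zero, zero_add, one_mul, zero_mul,
      mul_neg, neg_mul] at h
    obtain ⟨-, e1, e2, -, e3, -, -, e4, e5, -, -, e6, -, e7, e8, -⟩ := h
    rw [(k _).1 e1, (k _).1 e2, (k _).2 e3, (k _).2 e4, (k _).2 e5, (k _).2 e6, (k _).1 e7,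
      (k _).1 e8] at hd
    refine Or.inl ⟨g 0 0, g 0 3, g 3 0, g 3 3, g 1 1, g 1 2, g 2 1, g 2 2, ?_, ?_⟩
    · simp only [d16] at hd; simp only [dt2]; linear_combination hd
    · simp [dg, mk_inj, (k _).1 e1, (k _).1 e2, (k _).2 e3, (k _).2 e4, (k _).2 e5, (k _).2 e6,
        (k _).1 e7, (k _).1 e8]
  · simp only [t0, ng, mk_mul, mk_inj, mul_one, mul_zero, add_zero, zero_add, one_mul, zero_mul,
      mul_neg, neg_mul, neg_neg, neg_zero] at h
    obtain ⟨e1, -, -, e2, -, e3, e4, -, -, e5, e6, -, e7, -, -, e8⟩ := h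
    rw [(k _).2 e1, (k _).2 e2, (k _).1 e3, (k _).1 e4, (k _).1 e5, (k _).1 e6, (k _).2 e7,
      (k _).2 e8] at hd
    refine Or.inr ⟨g 0 1, g 0 2, g 3 1, g 3 2, g 1 0, g 1 3, g 2 0, g 2 3, ?_, ?_⟩
    · simp only [d16] at hd; simp only [dt2]; linear_combination hd
    · simp [an, mk_inj, (k _).2 e1, (k _).2 e2, (k _).1 e3, (k _).1 e4, (k _).1 e5, (k _).1 e6,
        (k _).2 e7, (k _).2 e8]

/-- The two affine maps attached to an element of `Mt`. -/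
def PP (ε : F3) (g : Γ) : Equiv.Perm (Fin 3) :=
  aff ((if g 0 1 = 0 ∧ g 0 2 = 0 then 1 else ε) *
      dt2 (g 0 0 + g 0 1) (g 0 3 + g 0 2) (g 3 0 + g 3 1) (g 3 3 + g 3 2))
    (cc (g 0 0 + g 0 1) (g 0 3 + g 0 2) (g 3 0 + g 3 1) (g 3 3 + g 3 2) +
      ε * cc (g 1 0 + g 1 1) (g 1 3 + g 1 2) (g 2 0 + g 2 1) (g 2 3 + g 2 2))

theorem PP_eq_1' : type_of% @PP.eq_1 := @PP.eq_1

theorem PP_dg (ε : F3) {p q r s p' q' r' s' : F3} (h) : PP ε (dg p q r s p' q' r' s' h) =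
    aff (dt2 p q r s) (cc p q r s + ε * cc p' q' r' s') := by
  simp [PP, dg, mk_apply]

theorem PP_an (ε : F3) {p q r s p' q' r' s' : F3} (h) : PP ε (an p q r s p' q' r' s' h) =
    aff (ε * dt2 p q r s) (cc p q r s + ε * cc p' q' r' s') := by
  have : ¬ (p = 0 ∧ q = 0) := by
    rintro ⟨rfl, rfl⟩
    simp [dt2] at h
  simp [PP, an, mk_apply, this]

theorem PP_mul {ε : F3} (hε : ε * ε = 1) {g g' : Γ} (hg : g ∈ Mt) (hg' : g' ∈ Mt) :
    PP ε (g * g') = PP ε g * PP ε g' := by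
  have e0 := (dt2_facts hε).1
  obtain ⟨p, q, r, s, p', q', r', s', h, rfl⟩ | ⟨p, q, r, s, p', q', r', s', h, rfl⟩ := hg <;>
    obtain ⟨a, b, c, d, a', b', c', d', h', rfl⟩ | ⟨a, b, c, d, a', b', c', d', h', rfl⟩ := hg'
  all_goals
    obtain ⟨k1, k2, k3⟩ := dt2_facts h
    obtain ⟨l1, l2, l3⟩ := dt2_facts h'
    simp only [dg_dg, dg_an, an_dg, an_an, PP_dg, PP_an]
    rw [aff_mul _ _ _ _ ⟨by simp [k1, e0], by simp [l1, e0]⟩, dt2_mul]
  · rw [cc_mul _ _ _ _ _ _ _ _ ⟨k1, l1⟩, cc_mul _ _ _ _ _ _ _ _ ⟨k2, l2⟩, k3]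
    congr 1; ring
  · rw [cc_mul _ _ _ _ _ _ _ _ ⟨k1, l1⟩, cc_mul _ _ _ _ _ _ _ _ ⟨k2, l2⟩, k3]
    congr 1 <;> ring
  · rw [cc_mul _ _ _ _ _ _ _ _ ⟨k1, l2⟩, cc_mul _ _ _ _ _ _ _ _ ⟨k2, l1⟩, k3, l3]
    congr 1
    · ring
    · linear_combination (-(dt2 p q r s * cc a' b' c' d')) * hε
  · rw [cc_mul _ _ _ _ _ _ _ _ ⟨k1, l2⟩, cc_mul _ _ _ _ _ _ _ _ ⟨k2, l1⟩, k3, l3]
    congr 1
    · linear_combination (-(dt2 p q r s * dt2 a b c d)) * hε
    · linear_combination (-(dt2 p q r s * cc a' b' c' d')) * hε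

/-- The two homomorphisms onto `S₃`. -/
def Ph (ε : F3) (hε : ε * ε = 1) : Mt →* Equiv.Perm (Fin 3) :=
  MonoidHom.mk' (fun g => PP ε g) fun g g' => PP_mul hε g.2 g'.2

theorem Ph_eq_1' : type_of% @Ph.eq_1 := @Ph.eq_1

theorem ker_form {g : Γ} (hg : g ∈ Mt) (h1 : PP 1 g = 1) (h2 : PP (-1) g = 1) :
    ∃ p q r s p' q' r' s' h, g = dg p q r s p' q' r' s' h ∧ (dt2 p q r s = 1 ∧ cc p q r s = 0) ∧
      dt2 p' q' r' s' = 1 ∧ cc p' q' r' s' = 0 := by
  obtain ⟨p, q, r, s, p', q', r', s', h, rfl⟩ | ⟨p, q, r, s, p', q', r', s', h, rfl⟩ := hg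
  · rw [PP_dg, aff_eq_one] at h1 h2
    obtain ⟨k1, k2⟩ := (by decide : ∀ x y : F3, x + 1 * y = 0 → x + -1 * y = 0 → x = 0 ∧ y = 0)
      _ _ h1.2 h2.2
    exact ⟨_, _, _, _, _, _, _, _, h, rfl, ⟨h1.1, k1⟩, (dt2_facts h).2.2.trans h1.1, k2⟩
  · rw [PP_an, aff_eq_one] at h1 h2
    exact absurd h2.1 ((by decide : ∀ x : F3, 1 * x = 1 → -1 * x ≠ 1) _ h1.1)

/-- An element of order four with square `-t0`. -/
def ρ0 : Γ := dg 0 1 (-1) 0 1 0 0 1 (by decide)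

theorem ρ0_eq_1' : type_of% @ρ0.eq_1 := @ρ0.eq_1

/-- The involution interchanging the two blocks. -/
def s0 : Γ := an 1 0 0 1 1 0 0 1 (by decide)

theorem s0_eq_1' : type_of% @s0.eq_1 := @s0.eq_1

/-- The product of `τ0` and `s0`. -/
def p0 : Γ := an 1 0 0 (-1) 1 0 0 (-1) (by decide)

theorem p0_eq_1' : type_of% @p0.eq_1 := @p0.eq_1

/-- `z0 x0^ε` -/
def w0 (ε : F3) : Γ := dg 1 1 0 1 1 ε 0 1 (by simp [dt2])

theorem w0_eq_1' : type_of% @w0.eq_1 := @w0.eq_1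

theorem dg_mem {p q r s p' q' r' s' : F3} (h) : dg p q r s p' q' r' s' h ∈ Mt :=
  Or.inl ⟨_, _, _, _, _, _, _, _, _, rfl⟩

theorem an_mem {p q r s p' q' r' s' : F3} (h) : an p q r s p' q' r' s' h ∈ Mt :=
  Or.inr ⟨_, _, _, _, _, _, _, _, _, rfl⟩

theorem w0_mem_Jm (ε : F3) : w0 ε ∈ Jm := ⟨0, 1, ε, 0, rfl⟩

theorem ker_four {g : Γ} (hg : g ∈ Mt) (h1 : PP 1 g = 1) (h2 : PP (-1) g = 1) : g ^ 4 = 1 := by
  obtain ⟨p, q, r, s, p', q', r', s', h, rfl, k1, k2⟩ := ker_form hg h1 h2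
  have key : ∀ p q r s : F3, dt2 p q r s = 1 ∧ cc p q r s = 0 →
      (p * p + q * r) * (p * p + q * r) + (p * q + q * s) * (r * p + s * r) = 1 ∧
      (p * p + q * r) * (p * q + q * s) + (p * q + q * s) * (r * q + s * s) = 0 ∧
      (r * p + s * r) * (p * p + q * r) + (r * q + s * s) * (r * p + s * r) = 0 ∧
      (r * p + s * r) * (p * q + q * s) + (r * q + s * s) * (r * q + s * s) = 1 := by
    decide +kernel
  rw [pow_mul _ 2 2, sq, sq, dg_dg, dg_dg]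
  exact ((dg_inj _ (by decide)).2 ⟨key _ _ _ _ k1, key _ _ _ _ k2⟩).trans one_eq_mk.symm

theorem sq_ker {g : Γ} (hg : g ∈ Mt) (h : g * g = ρ0 * ρ0 ∨ g * g = ng * (ρ0 * ρ0)) :
    PP 1 g = 1 ∧ PP (-1) g = 1 := by
  rw [show ng * (ρ0 * ρ0) = dg 1 0 0 1 (-1) 0 0 (-1) (by decide) by decide +kernel,
    show ρ0 * ρ0 = dg (-1) 0 0 (-1) 1 0 0 1 (by decide) by decide +kernel] at h
  obtain ⟨p, q, r, s, p', q', r', s', h', rfl⟩ | ⟨p, q, r, s, p', q', r', s', h', rfl⟩ := hg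
  · have k1 : ∀ p q r s : F3, p * p + q * r = -1 ∧ p * q + q * s = 0 ∧ r * p + s * r = 0 ∧
        r * q + s * s = -1 → dt2 p q r s = 1 ∧ cc p q r s = 0 := by decide +kernel
    have k2 : ∀ p q r s : F3, (p * p + q * r = 1 ∧ p * q + q * s = 0 ∧ r * p + s * r = 0 ∧
        r * q + s * s = 1) ∧ dt2 p q r s = 1 → cc p q r s = 0 := by decide +kernel
    have k3 := (dt2_facts h').2.2
    rw [dg_dg, dg_inj, dg_inj] at h
    rw [PP_dg, PP_dg, aff_eq_one, aff_eq_one]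
    rcases h with ⟨e, e'⟩ | ⟨e', e⟩
    · obtain ⟨l1, l2⟩ := k1 _ _ _ _ e
      simp [l1, l2, k2 _ _ _ _ ⟨e', k3.trans l1⟩]
    · obtain ⟨l1, l2⟩ := k1 _ _ _ _ e
      simp [← k3, l1, l2, k2 _ _ _ _ ⟨e', k3.symm.trans l1⟩]
  · rw [an_an, dg_inj, dg_inj] at h
    exfalso
    clear h'
    revert p q r s p' q' r' s'
    decide +kernel

theorem ker_le {N : Subgroup Γ} (hN : ∀ m ∈ Mt, ∀ n ∈ N, ∀ n', m * n = n' * m → n' ∈ N)
    (hρ : ρ0 ∈ N) {g : Γ} (hg : g ∈ Mt) (h1 : PP 1 g = 1) (h2 : PP (-1) g = 1) : g ∈ N := by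
  obtain ⟨p, q, r, s, p', q', r', s', h, rfl, k1, k2⟩ := ker_form hg h1 h2
  have a1 := hN (w0 1) (dg_mem _) _ hρ (dg (-1) (-1) (-1) 1 1 0 0 1 (by decide)) (by decide +kernel)
  have a2 := hN (w0 1) (dg_mem _) _ a1 (dg 1 (-1) (-1) (-1) 1 0 0 1 (by decide)) (by decide +kernel)
  have key : ∀ p q r s h, dt2 p q r s = 1 ∧ cc p q r s = 0 → dg p q r s 1 0 0 1 h ∈ N := by
    intro p q r s h k
    rcases (by decide +kernel : ∀ p q r s : F3, dt2 p q r s = 1 ∧ cc p q r s = 0 →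
      (p, q, r, s) ∈ [(1, 0, 0, 1), (-1, 0, 0, -1), (0, 1, -1, 0), (0, -1, 1, 0), (-1, -1, -1, 1),
        (1, 1, 1, -1), (1, -1, -1, -1), (-1, 1, 1, 1)]) p q r s k with
      _ | ⟨_, _ | ⟨_, _ | ⟨_, _ | ⟨_, _ | ⟨_, _ | ⟨_, _ | ⟨_, _ | ⟨_, ⟨⟩⟩⟩⟩⟩⟩⟩⟩⟩
    · convert N.one_mem using 1; exact one_eq_mk.symm
    · convert N.pow_mem hρ 2 using 1; revert h; decide +kernel
    · exact hρ
    · convert N.pow_mem hρ 3 using 1; revert h; decide +kernel
    · exact a1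
    · convert N.pow_mem a1 3 using 1; revert h; decide +kernel
    · exact a2
    · convert N.pow_mem a2 3 using 1; revert h; decide +kernel
  have b1 := key p q r s (by rw [k1.1]; decide) k1
  have b2 := hN s0 (an_mem _) _ (key p' q' r' s' (by rw [k2.1]; decide) k2)
    (dg 1 0 0 1 p' q' r' s' (by rw [k2.1]; decide)) (by simp [s0, an, dg, mk_mul])
  convert N.mul_mem b1 b2 using 1
  simp [dg, mk_mul]

end CT

open CT

variable {G : Type*} [Group G] [Finite G] {φ : Γ → G}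

theorem Md2.cent_t (h : Md2 φ ⊤)
    (hJ : ∀ j ∈ Jm, j ≠ 1 → ∀ g, g * φ j = φ j * g → ∃ a, φ a = g) (g : G)
    (hg : g * φ t0 = φ t0 * g) : ∃ a, φ a = g := by
  obtain ⟨f, hf⟩ : ∃ f : Γ →* G, ∀ a, f a = φ a :=
    ⟨MonoidHom.mk' φ fun a b => h.md.mul a trivial b trivial, fun _ => rfl⟩
  have fe : ∀ a b, f a = f b ↔ a = b ∨ a = ng * b := fun a b => by
    rw [hf, hf, h.md.eq_iff trivial trivial]
  let H := centralizer ({f t0} : Set G)
  have hH : ∀ a, a ∈ Mt ↔ f a ∈ H := fun a => by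
    rw [mem_Mt_iff, mem_centralizer_singleton_iff, ← map_mul, ← map_mul, fe]
  obtain ⟨M, e, es, he, hM⟩ : ∃ (M : Subgroup H) (e : Mt →* M), Function.Surjective e ∧
      (∀ a, ((e a : H) : G) = f a) ∧ ∀ x : H, x ∈ M ↔ ∃ a, f a = x :=
    ⟨((f.comp Mt.subtype).codRestrict H fun a => (hH a).1 a.2).range, MonoidHom.rangeRestrict _,
      MonoidHom.rangeRestrict_surjective _, fun _ => rfl, fun x =>
        ⟨fun ⟨a, e⟩ => ⟨a, congrArg Subtype.val e⟩,
          fun ⟨a, e⟩ => ⟨⟨a, (hH a).2 (e ▸ x.2)⟩, Subtype.ext e⟩⟩⟩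
  have ee : ∀ a b, e a = e b ↔ (a : Γ) = b ∨ (a : Γ) = ng * b := fun a b => by
    rw [← fe, ← he, ← he, Subtype.val_inj, Subtype.val_inj]
  have lift : ∀ ε hε, ∃ π : M →* Equiv.Perm (Fin 3), ∀ a, π (e a) = Ph ε hε a := fun ε hε =>
    ⟨e.liftOfRightInverse _ (Function.rightInverse_surjInv es) ⟨Ph ε hε, fun a ha => by
      rcases (ee a 1).1 (ha.trans (map_one e).symm) with k | k
      · rw [show a = 1 from Subtype.ext k]; exact one_mem _
      · change PP ε a = 1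
        rw [k, coe_one, mul_one, show ng = dg (-1) 0 0 (-1) (-1) 0 0 (-1) (by decide) from rfl,
          PP_dg, aff_eq_one]
        simp [dt2, cc]⟩, fun a => MonoidHom.liftOfRightInverse_comp_apply _ _ _ _ a⟩
  obtain ⟨π₁, k1⟩ := lift 1 (by decide)
  obtain ⟨π₂, k2⟩ := lift (-1) (by decide)
  let u : Mt := ⟨w0 1, dg_mem _⟩
  let w : Mt := ⟨w0 (-1), dg_mem _⟩
  let p : Mt := ⟨p0, an_mem _⟩
  let s : Mt := ⟨s0, an_mem _⟩
  let a : Mt := ⟨ρ0, dg_mem _⟩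
  have rel : ∀ {x y : Mt}, (x : Γ) = y → e x = e y := fun k => by rw [Subtype.ext k]
  have td : TD M π₁ π₂ (e u) (e w) (e p) (e s) :=
    { u3 := ((e.map_pow u 3).symm.trans (rel (y := 1) (by decide +kernel))).trans e.map_one
      w3 := ((e.map_pow w 3).symm.trans (rel (y := 1) (by decide +kernel))).trans e.map_one
      uw := by simpa using rel (x := u * w) (y := w * u) (by decide +kernel)
      p2 := by simpa using rel (x := p * p) (y := 1) (by decide +kernel)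
      s2 := by simpa using rel (x := s * s) (y := 1) (by decide +kernel)
      ps := by simpa using rel (x := p * s) (y := s * p) (by decide +kernel)
      pu := by
        rw [mul_inv_eq_iff_eq_mul, eq_inv_mul_iff_mul_eq]
        simpa using rel (x := u * (p * u)) (y := p) (by decide +kernel)
      pw := by simpa using rel (x := p * w) (y := w * p) (by decide +kernel)
      su := by simpa using rel (x := s * u) (y := u * s) (by decide +kernel)
      sw := by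
        rw [mul_inv_eq_iff_eq_mul, eq_inv_mul_iff_mul_eq]
        simpa using rel (x := w * (s * w)) (y := s) (by decide +kernel)
      h1 := by rw [k1]; decide +kernel
      h2 := by rw [k2]; decide +kernel
      h3 := by rw [k1]; decide +kernel
      h4 := by rw [k2]; decide +kernel
      four := fun x h1 h2 => by
        obtain ⟨x, rfl⟩ := es x
        rw [k1] at h1
        rw [k2] at h2
        exact ((e.map_pow x 4).symm.trans (rel (y := 1) (ker_four x.2 h1 h2))).trans e.map_one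
      ti := fun i j i' j' g h1 h2 => by
        have m : ∀ i j : ℤ, w0 1 ^ i * w0 (-1) ^ j ∈ Jm := fun i j =>
          mul_mem (zpow_mem (w0_mem_Jm _) i) (zpow_mem (w0_mem_Jm _) j)
        have v : ∀ i j : ℤ, ((e u ^ i * e w ^ j : M) : H) = f (w0 1 ^ i * w0 (-1) ^ j) :=
          fun i j => by rw [← map_zpow, ← map_zpow, ← map_mul, he]; rfl
        have h3 : (g : G) * f (w0 1 ^ i * w0 (-1) ^ j) * (g : G)⁻¹ =
            f (w0 1 ^ i' * w0 (-1) ^ j') := by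
          rw [← v i j, ← v i' j']
          exact congrArg Subtype.val h2
        obtain ⟨b, -, -, hb⟩ := h.fusJ _ (m i j) _ (m i' j')
          (by rw [← hf, ← hf]; exact isConj_iff.2 ⟨_, h3⟩)
        obtain ⟨c, hc⟩ := hJ _ (m i j) (fun k => h1 (Subtype.ext (Subtype.ext (by
          rw [v, k, map_one]; rfl)))) ((f b)⁻¹ * g) (by
            rw [← hf, mul_assoc, mul_inv_eq_iff_eq_mul.1 h3, ← hb, f.map_mul _ b⁻¹, f.map_mul b,
              map_inv]
            group)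
        exact (hM g).2 ⟨b * c, by rw [map_mul, hf c, hc, mul_inv_cancel_left]⟩ }
  have top := td.top (a := e a) (fun g => Subtype.ext (by
      have : ((e a * e a : M) : H) = f t0 := by
        rw [← map_mul, he, fe]
        exact Or.inr (by decide +kernel)
      change (g : G) * ((e a * e a : M) : H) * (g : G)⁻¹ = _
      rw [this, mem_centralizer_singleton_iff.1 g.2, mul_inv_cancel_right]))
    (fun x hx => by
      obtain ⟨x, rfl⟩ := es x
      rw [← map_mul, ← map_mul, ee] at hx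
      rw [k1, k2]
      exact sq_ker x.2 hx)
    fun N hN ha x h1 h2 => by
      obtain ⟨x, rfl⟩ := es x
      rw [k1] at h1
      rw [k2] at h2
      obtain ⟨y, hy, k⟩ := ker_le (N := (N.comap e).map Mt.subtype) (by
        rintro m hm _ ⟨n, hn, rfl⟩ n' k
        exact ⟨_, (hN.comap e).conj_mem n hn ⟨m, hm⟩, mul_inv_eq_iff_eq_mul.2 k⟩)
        ⟨a, ha, rfl⟩ x.2 h1 h2
      exact (Subtype.ext k : y = x) ▸ hy
  obtain ⟨b, hb⟩ := (hM ⟨g, mem_centralizer_singleton_iff.2 (by rwa [hf])⟩).1 (top ▸ mem_top _)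
  exact ⟨b, (hf b).symm.trans hb⟩

end Cfsg.Lib.L43
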