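import Cfsg.Agent.Recog.L43S3
import Cfsg.Agent.Recog.L43Defs

/-!
A subgroup which is an extension of a 2-group by `S₃ × S₃` and is strongly 3-embedded.
-/

set_option autoImplicit false

namespace Cfsg.Lib.L43

open Cfsg Subgroup Cfsg.Lib.Trans Cfsg.Lib.Recog.P43

theorem zpow_fin3 {X : Type*} [Group X] {x : X} (hx : x ^ 3 = 1) (k : ℤ) :
    ∃ n : Fin 3, x ^ k = x ^ (n : ℕ) :=
  ⟨⟨(k % 3).toNat, by omega⟩, by
    rw [zpow_eq_zpow_emod' k hx, ← zpow_natCast]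
    congr 1
    simp only [Nat.cast_ofNat]
    omega⟩

theorem s3_dec : ∀ c q : Equiv.Perm (Fin 3), c ^ 3 = 1 → c ≠ 1 → q * c * q⁻¹ = c⁻¹ →
    ∀ σ, ∃ i : Fin 3, σ = c ^ (i : ℕ) ∨ σ = c ^ (i : ℕ) * q := by decide +kernel

theorem s3_one : ∀ c q : Equiv.Perm (Fin 3), c ^ 3 = 1 → c ≠ 1 → q * c = c * q → q * q = 1 →
    q = 1 := by decide +kernel

theorem s3_inj : ∀ c : Equiv.Perm (Fin 3), c ^ 3 = 1 → c ≠ 1 → ∀ i j : Fin 3,
    c ^ (i : ℕ) = c ^ (j : ℕ) → i = j := by decide +kernel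

theorem s3_comm : ∀ c σ : Equiv.Perm (Fin 3), c ^ 3 = 1 → c ≠ 1 → σ ≠ 1 →
    (σ ^ 3 = 1 ∨ (c * σ * c⁻¹ * σ⁻¹) ^ 3 = 1 ∧ c * σ * c⁻¹ * σ⁻¹ ≠ 1) := by decide +kernel

theorem s3_six : ∀ σ : Equiv.Perm (Fin 3), σ ^ 6 = 1 := by decide +kernel

theorem s3_odd : ∀ (c q : Equiv.Perm (Fin 3)) (i : Fin 3), c ^ 3 = 1 ∧ c ≠ 1 ∧ q * c * q⁻¹ = c⁻¹ →
    (c ^ (i : ℕ) * q) ^ 2 = 1 ∧ c ^ (i : ℕ) * q ≠ 1 := by decide +kernel

theorem order3_iff' (σ : Equiv.Perm (Fin 3)) : orderOf σ = 3 ↔ σ ^ 3 = 1 ∧ σ ≠ 1 := by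
  have := Fact.mk Nat.prime_three
  exact orderOf_eq_prime_iff

theorem ker_of_normal {X : Type*} [Group X] (π : X →* Equiv.Perm (Fin 3)) {u : X}
    (u3 : π u ^ 3 = 1) (h1 : π u ≠ 1) {N : Subgroup X} (hN : N.Normal)
    (h : ∀ m ∈ N, orderOf (π m) ≠ 3) {m : X} (hm : m ∈ N) : π m = 1 := by
  by_contra e
  rcases s3_comm _ _ u3 h1 e with k | k
  · exact h m hm ((order3_iff' _).2 ⟨k, e⟩)
  · refine h _ (N.mul_mem (hN.conj_mem m hm u) (N.inv_mem hm)) ((order3_iff' _).2 ?_)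
    simpa only [map_mul, map_inv] using k

/-- The configuration. -/
structure TD {H : Type*} [Group H] (M : Subgroup H) (π₁ π₂ : M →* Equiv.Perm (Fin 3))
    (u w p s : M) : Prop where
  u3 : u ^ 3 = 1
  w3 : w ^ 3 = 1
  uw : u * w = w * u
  p2 : p * p = 1
  s2 : s * s = 1
  ps : p * s = s * p
  pu : p * u * p⁻¹ = u⁻¹
  pw : p * w = w * p
  su : s * u = u * s
  sw : s * w * s⁻¹ = w⁻¹
  h1 : π₁ u ≠ 1
  h2 : π₂ u = 1
  h3 : π₁ w = 1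
  h4 : π₂ w ≠ 1
  four : ∀ x, π₁ x = 1 → π₂ x = 1 → x ^ 4 = 1
  ti : ∀ (i j i' j' : ℤ) (g : H), u ^ i * w ^ j ≠ 1 →
    g * (u ^ i * w ^ j : M) * g⁻¹ = (u ^ i' * w ^ j' : M) → g ∈ M

namespace TD

variable {H : Type*} [Group H] {M : Subgroup H} {π₁ π₂ : M →* Equiv.Perm (Fin 3)} {u w p s : M}
  (h : TD M π₁ π₂ u w p s)
include h

/-- The Sylow 3-subgroup. -/
def D : Subgroup H := Subgroup.map M.subtype
  { carrier := {x | ∃ i j : ℤ, x = u ^ i * w ^ j}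
    one_mem' := ⟨0, 0, by simp⟩
    mul_mem' := by
      rintro _ _ ⟨i, j, rfl⟩ ⟨k, l, rfl⟩
      refine ⟨i + k, j + l, ?_⟩
      rw [zpow_add, zpow_add, mul_assoc, ← mul_assoc (w ^ j),
        ← ((show Commute u w from h.uw).zpow_zpow k j).eq]
      group
    inv_mem' := by
      rintro _ ⟨i, j, rfl⟩
      exact ⟨-i, -j, by
        rw [mul_inv_rev, ← zpow_neg, ← zpow_neg, ((show Commute u w from h.uw).zpow_zpow _ _).eq]⟩ }

theorem D_eq_1' : type_of% @D.eq_1 := @D.eq_1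

theorem mem_D {x : H} : x ∈ h.D ↔ ∃ i j : ℤ, x = (u ^ i * w ^ j : M) :=
  ⟨fun ⟨_, ⟨i, j, e⟩, e'⟩ => ⟨i, j, e ▸ e'.symm⟩, fun ⟨i, j, e⟩ => ⟨_, ⟨i, j, rfl⟩, e.symm⟩⟩

theorem D_le : h.D ≤ M := map_subtype_le _

theorem u_mem : (u : H) ∈ h.D := h.mem_D.2 ⟨1, 0, by simp⟩

theorem w_mem : (w : H) ∈ h.D := h.mem_D.2 ⟨0, 1, by simp⟩

theorem cube (i j : ℤ) : (u ^ i * w ^ j) ^ 3 = 1 := by
  rw [((show Commute u w from h.uw).zpow_zpow i j).mul_pow, ← zpow_natCast, ← zpow_natCast,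
    ← zpow_mul, ← zpow_mul, mul_comm i, mul_comm j, zpow_mul, zpow_mul, zpow_natCast, zpow_natCast,
    h.u3, h.w3, one_zpow, one_zpow, mul_one]

theorem cube' {x : H} (hx : x ∈ h.D) : x ^ 3 = 1 := by
  obtain ⟨i, j, rfl⟩ := h.mem_D.1 hx
  exact congrArg Subtype.val (h.cube i j)

theorem comm {x y : H} (hx : x ∈ h.D) (hy : y ∈ h.D) : x * y = y * x := by
  obtain ⟨i, j, rfl⟩ := h.mem_D.1 hx
  obtain ⟨k, l, rfl⟩ := h.mem_D.1 hy
  have c : Commute u w := h.uw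
  exact congrArg Subtype.val ((((Commute.refl u).zpow_zpow i k).mul_right (c.zpow_zpow i l)).mul_left
    ((c.symm.zpow_zpow j k).mul_right ((Commute.refl w).zpow_zpow j l))).eq

theorem ti' {x g : H} (hx : x ∈ h.D) (h1 : x ≠ 1) (hg : g * x * g⁻¹ ∈ h.D) : g ∈ M := by
  obtain ⟨i, j, rfl⟩ := h.mem_D.1 hx
  obtain ⟨k, l, e⟩ := h.mem_D.1 hg
  exact h.ti i j k l g (fun e => h1 (congrArg Subtype.val e)) e

theorem c1 : π₁ u ^ 3 = 1 := by rw [← map_pow, h.u3, map_one]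

theorem c2 : π₂ w ^ 3 = 1 := by rw [← map_pow, h.w3, map_one]

theorem q1 : π₁ p * π₁ u * (π₁ p)⁻¹ = (π₁ u)⁻¹ := by
  rw [← map_inv, ← map_mul, ← map_mul, h.pu, map_inv]

theorem q2 : π₂ s * π₂ w * (π₂ s)⁻¹ = (π₂ w)⁻¹ := by
  rw [← map_inv, ← map_mul, ← map_mul, h.sw, map_inv]

theorem s1 : π₁ s = 1 := s3_one _ _ h.c1 h.h1 (by rw [← map_mul, h.su, map_mul])
  (by rw [← map_mul, h.s2, map_one])

theorem p1 : π₂ p = 1 := s3_one _ _ h.c2 h.h4 (by rw [← map_mul, h.pw, map_mul])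
  (by rw [← map_mul, h.p2, map_one])

theorem u_ne : (u : H) ≠ 1 := fun e => h.h1 (by rw [show u = 1 from Subtype.ext e, map_one])

theorem surj1 : Function.Surjective π₁ := fun σ => by
  obtain ⟨i, e | e⟩ := s3_dec _ _ h.c1 h.h1 h.q1 σ
  · exact ⟨u ^ (i : ℕ), by rw [e, map_pow]⟩
  · exact ⟨u ^ (i : ℕ) * p, by rw [e, map_mul, map_pow]⟩

theorem surj2 : Function.Surjective π₂ := fun σ => by
  obtain ⟨i, e | e⟩ := s3_dec _ _ h.c2 h.h4 h.q2 σ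
  · exact ⟨w ^ (i : ℕ), by rw [e, map_pow]⟩
  · exact ⟨w ^ (i : ℕ) * s, by rw [e, map_mul, map_pow]⟩

theorem dec (x : M) : ∃ d : M, (d : H) ∈ h.D ∧ ∃ q : M, (q = 1 ∨ q = p ∨ q = s ∨ q = p * s) ∧
    π₁ (x * (d * q)⁻¹) = 1 ∧ π₂ (x * (d * q)⁻¹) = 1 := by
  obtain ⟨i, e⟩ := s3_dec _ _ h.c1 h.h1 h.q1 (π₁ x)
  obtain ⟨j, e'⟩ := s3_dec _ _ h.c2 h.h4 h.q2 (π₂ x)
  refine ⟨u ^ (i : ℕ) * w ^ (j : ℕ), h.mem_D.2 ⟨i, j, by simp⟩, ?_⟩
  rcases e with e | e <;> rcases e' with e' | e'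
  · exact ⟨1, by simp, by simp [e, h.h3], by simp [e', h.h2]⟩
  · exact ⟨s, by simp, by simp [e, h.h3, h.s1], by simp [e', h.h2]⟩
  · exact ⟨p, by simp, by simp [e, h.h3], by simp [e', h.h2, h.p1]⟩
  · exact ⟨p * s, by simp, by simp [e, h.h3, h.s1], by simp [e', h.h2, h.p1]⟩

theorem eq_one {x : M} (h3 : ∃ k, (x : H) ^ 3 ^ k = 1) (h1 : π₁ x = 1) (h2 : π₂ x = 1) : x = 1 := by
  obtain ⟨k, hk⟩ := h3
  exact (pow_eq_one_iff_of_coprime (Nat.Coprime.pow_right k (by norm_num : Nat.Coprime 4 3))).1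
    ⟨h.four x h1 h2, Subtype.ext hk⟩

theorem isPGroup : IsPGroup 3 h.D := fun x => ⟨1, Subtype.ext (h.cube' x.2)⟩

theorem pow24 (x : M) : (x ^ 8) ^ 3 = 1 := by
  rw [← pow_mul, show 8 * 3 = 6 * 4 from rfl, pow_mul]
  exact h.four _ (by rw [map_pow, s3_six]) (by rw [map_pow, s3_six])

theorem norm_q {q : M} (hq : q = 1 ∨ q = p ∨ q = s ∨ q = p * s) {x : H} (hx : x ∈ h.D) :
    q * x * (q : H)⁻¹ ∈ h.D := by
  have key : ∀ r : M, (r : H) * u * (r : H)⁻¹ ∈ h.D → (r : H) * w * (r : H)⁻¹ ∈ h.D →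
      ∀ x ∈ h.D, r * x * (r : H)⁻¹ ∈ h.D := fun r h1 h2 x hx => by
    obtain ⟨i, j, rfl⟩ := h.mem_D.1 hx
    have := mul_mem (zpow_mem h1 i) (zpow_mem h2 j)
    rwa [conj_zpow, conj_zpow, conj_mul] at this
  have k1 := key p (by
    rw [show (p : H) * u * (p : H)⁻¹ = (u : H)⁻¹ from congrArg Subtype.val h.pu]
    exact inv_mem h.u_mem)
    (by rw [show (p : H) * w = w * p from congrArg Subtype.val h.pw, mul_inv_cancel_right]
        exact h.w_mem)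
  have k2 := key s (by
    rw [show (s : H) * u = u * s from congrArg Subtype.val h.su, mul_inv_cancel_right]
    exact h.u_mem) (by
    rw [show (s : H) * w * (s : H)⁻¹ = (w : H)⁻¹ from congrArg Subtype.val h.sw]
    exact inv_mem h.w_mem)
  rcases hq with rfl | rfl | rfl | rfl
  · simpa using hx
  · exact k1 x hx
  · exact k2 x hx
  · convert k1 _ (k2 x hx) using 1
    simp only [coe_mul]
    group

variable [Finite H]

theorem syl : IsSylowIn 3 h.D ⊤ := by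
  have := Fact.mk Nat.prime_three
  refine isSylowIn_of_norm le_top h.isPGroup fun y _ hy ⟨k, hk⟩ => ?_
  lift y to M using h.ti' h.u_mem h.u_ne (Solv.conj_mem_of_mem_normalizer hy h.u_mem)
  have o : ∀ (π : M →* Equiv.Perm (Fin 3)) (c q : Equiv.Perm (Fin 3)), c ^ 3 = 1 → c ≠ 1 →
      q * c * q⁻¹ = c⁻¹ → ∃ i : Fin 3, π y = c ^ (i : ℕ) := fun π c q h1 h2 h3 => by
    obtain ⟨i, e | e⟩ := s3_dec c q h1 h2 h3 (π y)
    · exact ⟨i, e⟩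
    · obtain ⟨k1, k2⟩ := s3_odd c q i ⟨h1, h2, h3⟩
      rw [← e] at k1 k2
      exact absurd ((pow_eq_one_iff_of_coprime
        (Nat.Coprime.pow_right k (by norm_num : Nat.Coprime 2 3))).1 ⟨k1, by
          rw [← map_pow, show y ^ 3 ^ k = 1 from Subtype.ext hk, map_one]⟩) k2
  obtain ⟨i, e⟩ := o π₁ _ _ h.c1 h.h1 h.q1
  obtain ⟨j, e'⟩ := o π₂ _ _ h.c2 h.h4 h.q2
  have hd : ((u ^ (i : ℕ) * w ^ (j : ℕ) : M) : H) ∈ h.D := h.mem_D.2 ⟨i, j, by simp⟩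
  have hP : IsPGroup 3 ↥(zpowers (y : H) ⊔ h.D) := IsPGroup.to_sup_of_normal_right'
    (fun ⟨_, n, rfl⟩ => ⟨k, Subtype.ext (by
      change ((y : H) ^ n) ^ 3 ^ k = 1
      rw [← zpow_natCast, ← zpow_mul, mul_comm, zpow_mul, zpow_natCast, hk, one_zpow])⟩)
    h.isPGroup (zpowers_le.2 hy)
  obtain ⟨n, hn⟩ := hP ⟨_, mul_mem (mem_sup_left (mem_zpowers _)) (inv_mem (mem_sup_right hd))⟩
  have := h.eq_one (x := y * (u ^ (i : ℕ) * w ^ (j : ℕ))⁻¹) ⟨n, congrArg Subtype.val hn⟩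
    (by simp [e, h.h3]) (by simp [e', h.h2])
  rwa [mul_inv_eq_one.1 this]

theorem ti3 (π : M →* Equiv.Perm (Fin 3)) (m : M) (hm : orderOf (π m) = 3) (g : H)
    (hg : g * m * g⁻¹ ∈ M) : g ∈ M := by
  have := Fact.mk Nat.prime_three
  have hs := h.syl.mono h.D_le le_top
  have key : ∀ x : M, ∃ k ∈ M, k * (x : H) ^ 8 * k⁻¹ ∈ h.D := fun x => by
    obtain ⟨k, hk, e⟩ := hs.exists_cj_le (Q := zpowers ((x : H) ^ 8))
      (fun ⟨_, n, rfl⟩ => ⟨1, Subtype.ext (by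
        change (((x : H) ^ 8) ^ n) ^ 3 ^ 1 = 1
        rw [pow_one, ← zpow_natCast, ← zpow_mul, mul_comm, zpow_mul, zpow_natCast,
          show ((x : H) ^ 8) ^ 3 = 1 from congrArg Subtype.val (h.pow24 x), one_zpow])⟩)
      (zpowers_le.2 (pow_mem x.2 8))
    exact ⟨k, hk, e (conj_mem_cj.2 (mem_zpowers _))⟩
  obtain ⟨k, hk, e⟩ := key m
  obtain ⟨l, hl, e'⟩ := key ⟨_, hg⟩
  have := h.ti' (g := l * g * k⁻¹) e (fun a => by
    have b := orderOf_dvd_of_pow_eq_one (show π m ^ 8 = 1 by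
      rw [← map_pow, show m ^ 8 = 1 from Subtype.ext (conj_eq_one_iff.1 a), map_one])
    rw [hm] at b
    omega) (by
      convert e' using 1
      rw [conj_pow]
      group)
  simpa [mul_assoc] using mul_mem (mul_mem (inv_mem hl) this) hk

theorem exists_L {a : M} (ha : ∀ g : H, g * (a * a : M) * g⁻¹ = (a * a : M))
    (hc : ∀ x : M, x * x = a * a → π₁ x = 1 ∧ π₂ x = 1)
    (cl : ∀ N : Subgroup M, N.Normal → a ∈ N → ∀ x, π₁ x = 1 → π₂ x = 1 → x ∈ N) :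
    ∃ L : Subgroup H, L.Normal ∧ L ≤ M ∧ ∀ x : M, (x : H) ∈ L ↔ π₁ x = 1 ∧ π₂ x = 1 := by
  have := Fact.mk Nat.prime_three
  have sq : ∀ x, IsConj (a : H) x → x * x = (a * a : M) := fun x hx => by
    obtain ⟨g, rfl⟩ := isConj_iff.1 hx
    rw [conj_mul]
    exact ha g
  obtain ⟨N₁, n1, a1, k1⟩ := s3q' M π₁ h.surj1 (h.ti3 π₁) (a := a)
    (fun x hx => sq x hx ▸ (a * a).2) fun m hm => (hc m (Subtype.ext (sq m hm))).1
  obtain ⟨N₂, n2, a2, k2⟩ := s3q' M π₂ h.surj2 (h.ti3 π₂) (a := a)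
    (fun x hx => sq x hx ▸ (a * a).2) fun m hm => (hc m (Subtype.ext (sq m hm))).2
  have hL : ∀ x : M, (x : H) ∈ N₁ ⊓ N₂ ↔ π₁ x = 1 ∧ π₂ x = 1 := fun x =>
    ⟨fun hx => ⟨ker_of_normal π₁ h.c1 h.h1 (n1.subgroupOf M) k1 hx.1,
      ker_of_normal π₂ h.c2 h.h4 (n2.subgroupOf M) k2 hx.2⟩,
      fun hx => cl ((N₁ ⊓ N₂).subgroupOf M) inferInstance ⟨a1, a2⟩ x hx.1 hx.2⟩
  refine ⟨N₁ ⊓ N₂, inferInstance, ?_, hL⟩
  have hb : h.D ⊓ (N₁ ⊓ N₂) = ⊥ := eq_bot_iff.2 fun x hx => by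
    lift x to M using h.D_le hx.1
    exact congrArg Subtype.val (h.eq_one ⟨1, h.cube' hx.1⟩ ((hL x).1 hx.2).1 ((hL x).1 hx.2).2)
  have h3 := (h.syl.inf_normal_of_le (N := N₁ ⊓ N₂) (by rw [normalizer_eq_top]) le_top
    ).eq_bot_iff.1 hb
  obtain ⟨n, hn⟩ := h.isPGroup.exists_card_eq
  have : IsMulCommutative h.D := ⟨⟨fun x y => Subtype.ext (h.comm x.2 y.2)⟩⟩
  refine Solv.Coprime.le_of_forall_centralizer_singleton (A := h.D) (fun hc => ?_)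
    (by rw [normalizer_eq_top]; exact le_top)
    (hn ▸ ((Nat.prime_three.coprime_iff_not_dvd.2 h3).pow_left n)) fun d hd h1 g hg =>
      h.ti' hd h1 (by rwa [mem_centralizer_singleton_iff.1 hg.2, mul_inv_cancel_right])
  obtain ⟨⟨y, hy⟩, e⟩ := hc.exists_generator
  lift y to M using h.D_le hy
  obtain ⟨i, hi⟩ := e ⟨u, h.u_mem⟩
  obtain ⟨j, hj⟩ := e ⟨w, h.w_mem⟩
  obtain ⟨i, e1⟩ := zpow_fin3 (x := y) (Subtype.ext (h.cube' hy)) i
  obtain ⟨j, e2⟩ := zpow_fin3 (x := y) (Subtype.ext (h.cube' hy)) j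
  have e3 : y ^ (i : ℕ) = u := e1.symm.trans (Subtype.ext (congrArg Subtype.val hi :))
  have e4 : y ^ (j : ℕ) = w := e2.symm.trans (Subtype.ext (congrArg Subtype.val hj :))
  have y3 : y ^ 3 = 1 := Subtype.ext (h.cube' hy)
  have f1 := h.h1
  have f3 := h.h3
  have f4 := h.h4
  rw [← e3, map_pow] at f1
  rw [← e4, map_pow] at f3 f4
  exact (by decide +kernel : ∀ (σ τ : Equiv.Perm (Fin 3)) (i j : Fin 3), σ ^ 3 = 1 →
    σ ^ (i : ℕ) ≠ 1 → σ ^ (j : ℕ) = 1 → τ ^ (j : ℕ) ≠ 1 → False) _ _ i j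
      (by rw [← map_pow, y3, map_one]) f1 f3 f4

theorem top {a : M} (ha : ∀ g : H, g * (a * a : M) * g⁻¹ = (a * a : M))
    (hc : ∀ x : M, x * x = a * a → π₁ x = 1 ∧ π₂ x = 1)
    (cl : ∀ N : Subgroup M, N.Normal → a ∈ N → ∀ x, π₁ x = 1 → π₂ x = 1 → x ∈ N) : M = ⊤ := by
  obtain ⟨L, hn, hL, hL'⟩ := h.exists_L ha hc cl
  obtain ⟨K, _, _, f, fs, fk⟩ : ∃ (K : Type _) (_ : Group K) (_ : Finite K) (f : H →* K),
      Function.Surjective f ∧ ∀ x, f x = 1 ↔ x ∈ L :=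
    ⟨H ⧸ L, inferInstance, inferInstance, QuotientGroup.mk' L, QuotientGroup.mk'_surjective L,
      QuotientGroup.eq_one_iff⟩
  have fe : ∀ x y : M, f x = f y ↔ π₁ x = π₁ y ∧ π₂ x = π₂ y := fun x y => by
    rw [← mul_inv_eq_one, ← map_inv, ← map_mul, fk]
    exact (hL' (x * y⁻¹)).trans (by simp only [map_mul, map_inv, mul_inv_eq_one])
  have mem : ∀ x, x ∈ h.D.map f ↔ ∃ i j : ℤ, x = f u ^ i * f w ^ j := fun x =>
    ⟨fun ⟨y, hy, e⟩ => by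
      obtain ⟨i, j, rfl⟩ := h.mem_D.1 hy
      exact ⟨i, j, by simp [← e]⟩,
    fun ⟨i, j, e⟩ => ⟨_, h.mem_D.2 ⟨i, j, rfl⟩, by simp [e]⟩⟩
  have rel : ∀ {x y : M}, x = y → f x = f y := fun e => by rw [e]
  have ti : ∀ d ∈ h.D, f d ≠ 1 → ∀ g, f g * f d * (f g)⁻¹ ∈ h.D.map f → g ∈ M := by
    rintro d hd h1 g ⟨d', hd', e⟩
    have h2 : g * d * g⁻¹ ∈ M := by
      have := (fk (g * d * g⁻¹ * d'⁻¹)).1 (by simp [e])
      simpa using mul_mem (hL this) (h.D_le hd')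
    lift d to M using h.D_le hd
    have d3 : d ^ 3 = 1 := Subtype.ext (h.cube' hd)
    by_cases h3 : π₁ d = 1
    · exact h.ti3 π₂ d ((order3_iff' _).2 ⟨by rw [← map_pow, d3, map_one],
        fun h4 => h1 ((fk _).2 ((hL' d).2 ⟨h3, h4⟩))⟩) g h2
    · exact h.ti3 π₁ d ((order3_iff' _).2 ⟨by rw [← map_pow, d3, map_one], h3⟩) g h2
  have dec : ∀ g ∈ M, ∃ d ∈ h.D, ∃ q : M, (q = 1 ∨ q = p ∨ q = s ∨ q = p * s) ∧
      f g = f d * f q := fun g hg => by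
    obtain ⟨d, hd, q, hq, e⟩ := h.dec ⟨g, hg⟩
    refine ⟨d, hd, q, hq, ?_⟩
    rw [← map_mul, ← mul_inv_eq_one, ← map_inv, ← map_mul]
    exact (fk _).2 ((hL' _).2 e)
  have u1 : f u ≠ 1 := fun e => h.h1 ((hL' u).1 ((fk _).1 e)).1
  have hd : HD (h.D.map f) (f u) (f w) (f p) (f s) :=
    { syl := by
        have := h.syl.map f
        rwa [← MonoidHom.range_eq_map, MonoidHom.range_eq_top.2 fs] at this
      card := (card_of_param (s := (h.D.map f : Set K))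
        (fun x : Fin 3 × Fin 3 => f (u ^ (x.1 : ℕ) * w ^ (x.2 : ℕ) : M))
        (fun x y e => by
          obtain ⟨e1, e2⟩ := (fe _ _).1 e
          simp only [map_mul, map_pow, h.h2, h.h3, one_pow, mul_one, one_mul] at e1 e2
          exact Prod.ext (s3_inj _ h.c1 h.h1 _ _ e1) (s3_inj _ h.c2 h.h4 _ _ e2))
        (fun x => ⟨fun ⟨y, hy, e⟩ => by
          obtain ⟨i, j, rfl⟩ := h.mem_D.1 hy
          obtain ⟨i, e1⟩ := zpow_fin3 h.u3 i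
          obtain ⟨j, e2⟩ := zpow_fin3 h.w3 j
          exact ⟨(i, j), by rw [← e, e1, e2]⟩,
          fun ⟨y, e⟩ => ⟨_, h.mem_D.2 ⟨y.1, y.2, by simp⟩, e.symm⟩⟩)).trans (by simp)
      b_ne := u1
      r_ne := fun e => h.h4 ((hL' w).1 ((fk _).1 e)).2
      b3 := by simpa using rel h.u3
      r3 := by simpa using rel h.w3
      br := by simpa using rel h.uw
      mem := mem
      p2 := by simpa using rel h.p2
      t2 := by simpa using rel h.s2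
      pt := by simpa using rel h.ps
      pb := by simpa using rel h.pu
      pr := by simpa using rel h.pw
      tb := by simpa using rel h.su
      tr := by simpa using rel h.sw
      norm := fun g hg => by
        obtain ⟨g, rfl⟩ := fs g
        obtain ⟨d, hd, q, hq, e⟩ := dec g (ti u h.u_mem u1 g
          (Solv.conj_mem_of_mem_normalizer hg (mem_map_of_mem f h.u_mem)))
        refine ⟨f d, mem_map_of_mem f hd, ?_⟩
        rcases hq with rfl | rfl | rfl | rfl <;> simp [e]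
      cent := by
        rintro _ ⟨x, hx, rfl⟩ h1 g hg
        obtain ⟨g, rfl⟩ := fs g
        obtain ⟨d, hd, q, hq, e⟩ := dec g (ti x hx h1 g (by
          rw [mem_centralizer_singleton_iff.1 hg, mul_inv_cancel_right]
          exact mem_map_of_mem f hx))
        rw [e]
        refine mul_mem (le_normalizer (mem_map_of_mem f hd)) (Odd3.mem_norm_of_conj ?_)
        rintro _ ⟨y, hy, rfl⟩
        exact ⟨_, h.norm_q hq hy, by simp⟩ }
  exact eq_top_iff.2 fun g _ => ti u h.u_mem u1 g (Solv.conj_mem_of_mem_normalizer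
    (hd.top ▸ mem_top _) (mem_map_of_mem f h.u_mem))

end TD

end Cfsg.Lib.L43
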