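import Cfsg.Agent.Block.Prince
import Cfsg.Agent.Block.SmithTyrer
import Cfsg.Agent.Block.ZStar
import Cfsg.Agent.FT.PLength
import Cfsg.Agent.FT.BG1.Coprime
import Cfsg.Agent.Recog.Mc3H
import Mathlib.GroupTheory.Focal

/-!
A strongly closed elementary abelian subgroup of order 27 with automiser `A₄` or `S₄`.
-/

set_option autoImplicit false
set_option linter.unusedSectionVars false
set_option linter.unusedVariables false
set_option linter.style.haveILetI false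

namespace Cfsg.Lib.Mc3

open Subgroup Cfsg.Lib.Block Cfsg.Lib.Block.Tri Cfsg.Lib.Block.Mon Cfsg.Lib.Known
  Cfsg.Lib.Known.GTab
open scoped commutatorElement

/-- Elements of the table group. -/
noncomputable abbrev ek (n : ℕ) : tK.El := tK.el n

/-- Vectors of weight one or three. -/
def good (a : tK.El) : Prop := a.1 ∈ [1, 2, 3, 6, 9, 18, 13, 14, 16, 17, 22, 23, 25, 26]
instance instDecGood : DecidablePred good := fun a => by unfold good; infer_instance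

/-- The subgroup of index two. -/
def inE (a : tK.El) : Prop := a.1 < 108 ∨ 324 ≤ a.1 ∧ a.1 < 540
instance instDecInE : DecidablePred inE := fun a => by unfold inE; infer_instance

theorem gens_J0 : ek 1 ∈ J0 ∧ ek 3 ∈ J0 ∧ ek 9 ∈ J0 := by decide +kernel
theorem good_J0 : ∀ a, good a → a ∈ J0 ∧ a ≠ 1 := by decide +kernel
theorem nf_J0 : ∀ a ∈ J0, a = ek 1 ^ (a.1 % 3) * ek 3 ^ (a.1 / 3 % 3) * ek 9 ^ (a.1 / 9) := by
  decide +kernel
theorem cent_J0 : ∀ k : tK.El, k * ek 1 * k⁻¹ = ek 1 → k * ek 3 * k⁻¹ = ek 3 →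
    k * ek 9 * k⁻¹ = ek 9 → k ∈ J0 := by decide +kernel
theorem red_J0 : ∀ k : tK.El, k⁻¹ * ek (27 * (k.1 / 27)) ∈ J0 := by decide +kernel
theorem hyp_J0 : ∀ a ∈ J0, ∀ i j k : Fin 3, ∃ l m n : Fin 3,
    good ((ek 1 * a ^ i.1) ^ l.1 * (ek 3 * a ^ j.1) ^ m.1 * (ek 9 * a ^ k.1) ^ n.1) := by
  decide +kernel
theorem wt2_J0 : ∀ a ∈ J0, a ≠ 1 → ¬ good a → ∀ i < 24,
    ek (27 * i) * a * (ek (27 * i))⁻¹ = a → i = 0 ∨ ek (27 * i) * ek (27 * i) = 1 ∧
      ∀ b ∈ J0, ek (27 * i) * b * (ek (27 * i))⁻¹ * b = 1 ∨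
        ek (27 * i) * b * (ek (27 * i))⁻¹ * b = a ∨ ek (27 * i) * b * (ek (27 * i))⁻¹ * b = a⁻¹ := by
  decide +kernel

/-- The complement `S₄`. -/
def C0 : Subgroup tK.El where
  carrier := {k | k.1 % 27 = 0}
  one_mem' := by decide +kernel
  mul_mem' {a b} ha := (by decide +kernel : ∀ a : tK.El, a.1 % 27 = 0 → ∀ b : tK.El,
    b.1 % 27 = 0 → (a * b).1 % 27 = 0) a ha b
  inv_mem' {a} := (by decide +kernel : ∀ a : tK.El, a.1 % 27 = 0 → (a⁻¹).1 % 27 = 0) a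

instance instDecC0 (m : tK.El) : Decidable (m ∈ C0) := inferInstanceAs (Decidable (m.1 % 27 = 0))

theorem C0_inf : ∀ k ∈ C0, k ∈ J0 → k = 1 := by decide +kernel
theorem C0_red : ∀ k : tK.El, ek (27 * (k.1 / 27)) ∈ C0 := by decide +kernel
theorem C0_V : ∀ k ∈ C0, ∀ v, v = ek 27 ∨ v = ek 81 →
    k * v * k⁻¹ = ek 27 ∨ k * v * k⁻¹ = ek 81 ∨ k * v * k⁻¹ = ek 27 * ek 81 := by
  simp only [forall_eq_or_imp, forall_eq]
  decide +kernel
theorem V_fix : ∀ b ∈ J0, ek 27 * b * (ek 27)⁻¹ = b → ek 81 * b * (ek 81)⁻¹ = b → b = 1 := by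
  decide +kernel
theorem E_comm : ∀ k ∈ C0, ∀ l ∈ C0, inE k → inE l → (k * l * k⁻¹ * l⁻¹).1 < 108 := by
  decide +kernel
theorem E_not : ∀ k, ¬ inE k → bit (tK.clos [1, 3, 9, 27, 81, 324]) (k⁻¹ * ek 108).1 = true := by
  decide +kernel
theorem K_gen : ∀ k : tK.El, bit (tK.clos [1, 3, 9, 27, 81, 324, 108]) k.1 = true := by
  decide +kernel
theorem H_gen : ∀ k : tK.El, k.1 < 108 → bit (tK.clos [1, 3, 9, 27, 81]) k.1 = true := by
  decide +kernel
theorem E_cases : ∀ k, inE k → k.1 < 108 ∨ (k * ek 324).1 < 108 ∨ (k * (ek 324)⁻¹).1 < 108 := by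
  decide +kernel
theorem H_mul : ∀ k : tK.El, k.1 < 108 → ∀ a ∈ J0, (k * a).1 < 108 := by decide +kernel
theorem K_rel : ek 324 ^ 3 = 1 ∧ ⁅ek 81, ek 1⁆ = ek 1 ∧ ⁅ek 81, ek 3⁆ = ek 3 ∧
    ⁅ek 27, ek 9⁆ = ek 9 ∧ ⁅ek 324, ek 27⁆ = ek 81 ∧ ⁅ek 324, ek 27 * ek 81⁆ = ek 27 := by
  simp only [commutatorElement_def]
  decide +kernel

variable {X : Type*} [Group X]

/-- `x` acts on the image of the `3`-core like `k`. -/
def Act (φ : tK.El → X) (x : X) (k : tK.El) : Prop :=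
  ∀ a ∈ J0, x * φ a * x⁻¹ = φ (k * a * k⁻¹)

/-- A homomorphism on the `3`-core. -/
structure Mu (φ : tK.El → X) : Prop where
  mul : ∀ a ∈ J0, ∀ b ∈ J0, φ (a * b) = φ a * φ b

/-- Coordinates on an elementary abelian group of order 27. -/
structure Co (φ : tK.El → X) (A : Subgroup X) : Prop extends Mu φ where
  inj : ∀ a ∈ J0, φ a = 1 → a = 1
  mem : ∀ x, x ∈ A ↔ ∃ a ∈ J0, φ a = x

variable {φ : tK.El → X} {A : Subgroup X} {x x' : X} {k k' : tK.El}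

theorem conj_J0 {a : tK.El} (ha : a ∈ J0) (k : tK.El) : k * a * k⁻¹ ∈ J0 :=
  instNormalJ0.conj_mem a ha k

theorem act_one : Act φ 1 1 := fun a _ => by simp

theorem Act.mul (h : Act φ x k) (h' : Act φ x' k') : Act φ (x * x') (k * k') := fun a ha => by
  rw [show x * x' * φ a * (x * x')⁻¹ = x * (x' * φ a * x'⁻¹) * x⁻¹ by group, h' a ha,
    h _ (conj_J0 ha k')]
  congr 1; group

theorem Act.inv (h : Act φ x k) : Act φ x⁻¹ k⁻¹ := fun a ha => by
  have := h _ (conj_J0 ha k⁻¹)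
  rw [show k * (k⁻¹ * a * k⁻¹⁻¹) * k⁻¹ = a by group] at this
  rw [← this]; group

theorem Act.pow (h : Act φ x k) (n : ℕ) : Act φ (x ^ n) (k ^ n) := by
  induction n with
  | zero => simpa using act_one
  | succ n ih => rw [pow_succ, pow_succ]; exact ih.mul h

theorem Act.congr (h : Act φ x k) (e : k⁻¹ * k' ∈ J0) : Act φ x k' := fun a ha => by
  rw [h a ha, show k' * a * k'⁻¹ = k * (k⁻¹ * k' * a) * k'⁻¹ by group, comm_J0 _ e a ha]
  congr 1; group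

theorem Act.red (h : Act φ x k) : Act φ x (ek (27 * (k.1 / 27))) := h.congr (red_J0 k)

theorem Act.comm (h : Act φ x k) (h' : Act φ x' k') : Act φ ⁅x, x'⁆ ⁅k, k'⁆ :=
  ((h.mul h').mul h.inv).mul h'.inv

namespace Mu

variable (c : Mu φ)
include c

theorem map_one : φ 1 = 1 := by simpa using c.mul 1 (one_mem _) 1 (one_mem _)

theorem map_inv {a : tK.El} (ha : a ∈ J0) : φ a⁻¹ = (φ a)⁻¹ := by
  rw [eq_inv_iff_mul_eq_one, ← c.mul _ (inv_mem ha) _ ha, inv_mul_cancel, c.map_one]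

theorem map_pow {a : tK.El} (ha : a ∈ J0) (n : ℕ) : φ (a ^ n) = φ a ^ n := by
  induction n with
  | zero => simpa using c.map_one
  | succ n ih => rw [pow_succ, c.mul _ (pow_mem ha n) _ ha, ih, pow_succ]

theorem act_of_gens (h1 : x * φ (ek 1) * x⁻¹ = φ (k * ek 1 * k⁻¹))
    (h3 : x * φ (ek 3) * x⁻¹ = φ (k * ek 3 * k⁻¹)) (h9 : x * φ (ek 9) * x⁻¹ = φ (k * ek 9 * k⁻¹)) :
    Act φ x k := fun a ha => by
  obtain ⟨g1, g3, g9⟩ := gens_J0
  have key : ∀ a ∈ J0, ∀ b ∈ J0, ∀ d ∈ J0, ∀ l m n : ℕ,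
      φ (a ^ l * b ^ m * d ^ n) = φ a ^ l * φ b ^ m * φ d ^ n := fun a ha b hb d hd l m n => by
    rw [c.mul _ (mul_mem (pow_mem ha l) (pow_mem hb m)) _ (pow_mem hd n),
      c.mul _ (pow_mem ha l) _ (pow_mem hb m), c.map_pow ha, c.map_pow hb, c.map_pow hd]
  rw [nf_J0 a ha]
  generalize a.1 % 3 = l
  generalize a.1 / 3 % 3 = m
  generalize a.1 / 9 = n
  rw [show k * (ek 1 ^ l * ek 3 ^ m * ek 9 ^ n) * k⁻¹ =
      (k * ek 1 * k⁻¹) ^ l * (k * ek 3 * k⁻¹) ^ m * (k * ek 9 * k⁻¹) ^ n by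
    simp only [conj_pow]; group, key _ g1 _ g3 _ g9,
    key _ (conj_J0 g1 k) _ (conj_J0 g3 k) _ (conj_J0 g9 k), ← h1, ← h3, ← h9]
  simp only [conj_pow]; group

end Mu

namespace Co

variable (c : Co φ A)
include c

theorem eq_of {a b : tK.El} (ha : a ∈ J0) (hb : b ∈ J0) (e : φ a = φ b) : a = b :=
  mul_inv_eq_one.mp (c.inj _ (mul_mem ha (inv_mem hb)) (by
    rw [c.mul _ ha _ (inv_mem hb), c.map_inv hb, e, mul_inv_cancel]))

theorem memA {a : tK.El} (ha : a ∈ J0) : φ a ∈ A := (c.mem _).mpr ⟨a, ha, rfl⟩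

theorem comm {x y : X} (hx : x ∈ A) (hy : y ∈ A) : x * y = y * x := by
  obtain ⟨a, ha, rfl⟩ := (c.mem _).mp hx
  obtain ⟨b, hb, rfl⟩ := (c.mem _).mp hy
  rw [← c.mul a ha b hb, comm_J0 a ha b hb, c.mul b hb a ha]

theorem cube {x : X} (hx : x ∈ A) : x ^ 3 = 1 := by
  obtain ⟨a, ha, rfl⟩ := (c.mem _).mp hx
  rw [← c.map_pow ha, pow_J0 a ha, c.map_one]

theorem card : Nat.card A = 27 := by
  rw [← card_J0]
  refine (Nat.card_congr (Equiv.ofBijective (fun a : J0 => (⟨φ a, c.memA a.2⟩ : A))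
    ⟨fun a b e => Subtype.ext (c.eq_of a.2 b.2 (congrArg Subtype.val e)), fun x => ?_⟩)).symm
  obtain ⟨a, ha, e⟩ := (c.mem _).mp x.2
  exact ⟨⟨a, ha⟩, Subtype.ext e⟩

theorem isPGroup : IsPGroup 3 A := IsPGroup.of_card (n := 3) c.card

theorem act_of_mem (hx : x ∈ A) : Act φ x 1 := fun a ha => by
  rw [c.comm hx (c.memA ha)]; simp

theorem unique (h : Act φ x k) (h' : Act φ x k') : k⁻¹ * k' ∈ J0 := by
  have key : ∀ a ∈ J0, k⁻¹ * k' * a * (k⁻¹ * k')⁻¹ = a := fun a ha => by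
    have := (h.inv.mul h') a ha
    rw [inv_mul_cancel, one_mul, inv_one, mul_one] at this
    exact (c.eq_of ha (conj_J0 ha _) this).symm
  exact cent_J0 _ (key _ gens_J0.1) (key _ gens_J0.2.1) (key _ gens_J0.2.2)

theorem mem_normalizer [Finite X] (h : Act φ x k) : x ∈ normalizer (A : Set X) :=
  mem_normalizer_fintype fun y hy => by
    obtain ⟨a, ha, rfl⟩ := (c.mem _).mp hy
    rw [h a ha]; exact c.memA (conj_J0 ha k)

end Co

theorem normal_of_pm {Y : Type*} [Group Y] [Finite Y] (P : Sylow 3 Y)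
    (hab : IsMulCommutative (P : Subgroup Y)) (hnc : ¬ IsCyclic (P : Subgroup Y))
    (h1 : ∀ n ∈ normalizer ((P : Subgroup Y) : Set Y),
      (∀ y ∈ (P : Subgroup Y), n * y * n⁻¹ = y) ∨ ∀ y ∈ (P : Subgroup Y), n * y * n⁻¹ = y⁻¹)
    (hO : pPrimeCore 3 Y = ⊥) : (P : Subgroup Y).Normal := by
  haveI : Fact (Nat.Prime 3) := ⟨Nat.prime_three⟩
  by_cases h2 : ∃ n ∈ normalizer ((P : Subgroup Y) : Set Y),
      ∀ y ∈ (P : Subgroup Y), n * y * n⁻¹ = y⁻¹
  · have h3 := FT.plength_one_sup_normal (ST.InvSub.plength (by norm_num) P hab hnc ⟨h1, h2⟩) P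
    rwa [hO, bot_sup_eq] at h3
  · have h3 : normalizer (P : Set Y) ≤ centralizer (P : Set Y) := fun n hn y hy =>
      (mul_inv_eq_iff_eq_mul.1 ((h1 n hn).resolve_right (fun h => h2 ⟨n, hn, h⟩) y hy)).symm
    have h4 := Princ.index_pPrimeCore_of_burnside P h3
    rw [hO, index_bot] at h4
    rw [eq_top_of_card_eq _ h4.symm]
    infer_instance

theorem exists_fin3 {a y : X} [Finite X] (ha : a ^ 3 = 1) (hy : y ∈ zpowers a) :
    ∃ i : Fin 3, y * a ^ i.1 = 1 := by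
  obtain ⟨n, hn⟩ := mem_powers_iff_mem_zpowers.mpr (inv_mem hy)
  exact ⟨⟨n % 3, Nat.mod_lt _ (by norm_num)⟩, by
    rw [← pow_eq_pow_mod n ha, show a ^ n = y⁻¹ from hn, mul_inv_cancel]⟩

theorem mem_of_sq_of_pow {H : Subgroup X} {r : X} {n : ℕ} (h : r ^ 3 ^ n = 1) (h2 : r * r ∈ H) :
    r ∈ H := by
  obtain ⟨j, hj⟩ : Odd (3 ^ n) := Odd.pow (by decide)
  rw [hj, pow_succ, pow_mul, pow_two] at h
  rw [eq_inv_of_mul_eq_one_right h]
  exact inv_mem (pow_mem h2 j)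

theorem exists_hom_graph {E Y : Type*} [Group E] [Group Y] (Γ : Subgroup (Y × X)) (i : E →* Y)
    (h1 : ∀ e, ∃ x, (i e, x) ∈ Γ) (h2 : ∀ x, (1, x) ∈ Γ → x = 1) :
    ∃ f : E →* X, (∀ e, (i e, f e) ∈ Γ) ∧ ∀ e x, (i e, x) ∈ Γ → f e = x := by
  have h3 : ∀ y x x', (y, x) ∈ Γ → (y, x') ∈ Γ → x = x' := fun y x x' a b =>
    mul_inv_eq_one.mp (h2 _ (by simpa using mul_mem a (inv_mem b)))
  choose f hf using h1
  exact ⟨MonoidHom.mk' f fun a b => h3 _ _ _ (hf _) (by simpa using mul_mem (hf a) (hf b)), hf,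
    fun e x hx => h3 _ _ _ (hf e) hx⟩

/-- The hypotheses of the recognition of `3³ : A₄` and `3³ : S₄`. -/
structure HP (φ : tK.El → X) (A : Subgroup X) (t u m : X) : Prop extends Co φ A where
  cent : ∀ x, Act φ x 1 → x ∈ A
  tt : t * t = 1
  uu : u * u = 1
  tu : t * u = u * t
  act_t : Act φ t (ek 27)
  act_u : Act φ u (ek 81)
  act_m : Act φ m (ek 324)
  nor : ∀ x ∈ normalizer (A : Set X), ∃ k, Act φ x k
  cz : ∀ a, good a → ∀ x, x * φ a = φ a * x → x ∈ normalizer (A : Set X)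
  sc : ∀ a ∈ A, ∀ g, g * a * g⁻¹ ∈ normalizer (A : Set X) → g * a * g⁻¹ ∈ A

namespace HP

variable [Finite X] {t u m : X} (h : HP φ A t u m)
include h

theorem mem_of_act (hx : Act φ x k) (hk : k ∈ J0) : x ∈ A :=
  h.cent x (hx.congr (by simpa using hk))

theorem eq_bot {K : Subgroup X} (hK : (Nat.card K).Coprime 3) (hA : A ≤ normalizer (K : Set X)) :
    K = ⊥ := by
  have h1 : ∀ w ∈ K, w ∈ A → w = 1 := fun w hw hw' => by
    have := pow_gcd_eq_one.mpr ⟨congrArg Subtype.val (pow_card_eq_one' (x := (⟨w, hw⟩ : K))),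
      h.cube hw'⟩
    rwa [hK, pow_one] at this
  refine le_bot_iff.mp (FT.coprime_abelian_gen_cent (A := A)
    ⟨⟨fun a b => Subtype.ext (h.comm a.2 b.2)⟩⟩ hA (by rw [h.card]; exact hK.pow_right 3) ?_)
  rintro B hB ⟨a, ha, e⟩ x ⟨hx, hxB⟩
  obtain ⟨a, ha0, rfl⟩ := (h.mem _).mp ha
  have key : ∀ b ∈ J0, ∃ i : Fin 3, φ (b * a ^ i.1) ∈ B := fun b hb => by
    have h2 : φ b ∈ ((B ⊔ zpowers (φ a) : Subgroup X) : Set X) := e.ge (h.memA hb)
    rw [coe_mul_of_right_le_normalizer_left _ _ (zpowers_le.mpr (mem_normalizer_fintype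
      fun y hy => by rw [h.comm ha (hB hy), mul_inv_cancel_right]; exact hy))] at h2
    obtain ⟨y, hy, w, hw, e⟩ := h2
    obtain ⟨i, hi⟩ := exists_fin3 (h.cube ha) hw
    refine ⟨i, ?_⟩
    rw [h.mul _ hb _ (pow_mem ha0 _), h.map_pow ha0, ← e, mul_assoc, hi, mul_one]
    exact hy
  obtain ⟨g1, g3, g9⟩ := gens_J0
  obtain ⟨i, hi⟩ := key _ g1
  obtain ⟨j, hj⟩ := key _ g3
  obtain ⟨k, hk⟩ := key _ g9
  obtain ⟨l, m', n, hg⟩ := hyp_J0 a ha0 i j k
  have m1 := mul_mem g1 (pow_mem ha0 i.1)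
  have m3 := mul_mem g3 (pow_mem ha0 j.1)
  have m9 := mul_mem g9 (pow_mem ha0 k.1)
  have h2 := h.cz _ hg x (hxB _ (by
    rw [h.mul _ (mul_mem (pow_mem m1 _) (pow_mem m3 _)) _ (pow_mem m9 _),
      h.mul _ (pow_mem m1 _) _ (pow_mem m3 _), h.map_pow m1, h.map_pow m3, h.map_pow m9]
    exact mul_mem (mul_mem (pow_mem hi _) (pow_mem hj _)) (pow_mem hk _))).symm
  refine h1 x hx (h.cent x fun b hb => ?_)
  have h3 := h.memA hb
  have := h1 (x * (φ b * x⁻¹ * (φ b)⁻¹))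
    (mul_mem hx ((mem_normalizer_iff.mp (hA h3) _).mp (inv_mem hx))) (by
      rw [← mul_assoc, ← mul_assoc]
      exact mul_mem ((mem_normalizer_iff.mp h2 _).mp h3) (inv_mem h3))
  rw [← mul_assoc, ← mul_assoc, mul_inv_eq_one] at this
  simpa using this

theorem cent_all {a : X} (ha : a ∈ A) (ha1 : a ≠ 1) (hx : x * a = a * x) :
    x ∈ normalizer (A : Set X) := by
  haveI : Fact (Nat.Prime 3) := ⟨Nat.prime_three⟩
  obtain ⟨a, ha0, rfl⟩ := (h.mem _).mp ha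
  by_cases hg : good a
  · exact h.cz a hg x hx
  have a3 : orderOf (φ a) = 3 := orderOf_eq_prime (h.cube ha) ha1
  have key : ∀ n ∈ normalizer (A : Set X), n * φ a = φ a * n →
      n ∈ A ∨ n * n ∈ A ∧ ∀ y ∈ A, n * y * n⁻¹ * y ∈ zpowers (φ a) := fun n hn e => by
    obtain ⟨k, hk⟩ := h.nor n hn
    have h1 := hk.red
    have h2 := h1 a ha0
    rw [e, mul_inv_cancel_right] at h2
    rcases wt2_J0 a ha0 (fun e => ha1 (e ▸ h.map_one)) hg (k.1 / 27)
      (Nat.div_lt_of_lt_mul k.2) (h.eq_of ha0 (conj_J0 ha0 _) h2).symm with e1 | ⟨e1, e2⟩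
    · rw [e1] at h1
      exact Or.inl (h.cent n h1)
    · refine Or.inr ⟨h.cent _ (e1 ▸ h1.mul h1), fun y hy => ?_⟩
      obtain ⟨b, hb, rfl⟩ := (h.mem _).mp hy
      rw [h1 b hb, ← h.mul _ (conj_J0 hb _) _ hb, mem_zp3 a3]
      rcases e2 b hb with e | e | e <;> rw [e]
      · exact Or.inl h.map_one
      · exact Or.inr (Or.inl rfl)
      · exact Or.inr (Or.inr (h.map_inv ha0))
  let C := centralizer ({φ a} : Set X)
  have hAC : A ≤ C := fun y hy => mem_Ct (h.comm hy ha)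
  obtain ⟨P, hP⟩ : IsSylowIn 3 A C := IsSylowIn.of_inf_normalizer (isSylowIn_of_maximal h.isPGroup
    (le_inf hAC le_normalizer) fun R hR h1 h2 => le_antisymm (fun r hr => by
      obtain ⟨n, hn⟩ := hR ⟨r, hr⟩
      exact (key r (h2 hr).2 (comm_Ct ⟨r, (h2 hr).1⟩)).elim id fun e =>
        mem_of_sq_of_pow (congrArg Subtype.val hn) e.1) h1)
  have hP' : ∀ c : C, c ∈ (P : Subgroup C) ↔ (c : X) ∈ A := fun c => by
    rw [← hP, mem_map_iff_mem C.subtype_injective (x := c) |>.symm]; rfl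
  let N := (zpowers (φ a)).subgroupOf C
  have hNc : N ≤ center C := fun c hc => mem_center_iff.mpr fun g =>
    Subtype.ext (comm_zp (comm_Ct g) hc)
  haveI : N.Normal := ⟨fun c hc g => by rw [mem_center_iff.mp (hNc hc) g]; simpa using hc⟩
  have hNP : N ≤ P := fun c hc => (hP' c).mpr (zpowers_le.mpr ha hc)
  have hN3 : Nat.card N = 3 := by
    rw [Nat.card_congr (subgroupOfEquivOfLe (zpowers_le.mpr (hAC ha))).toEquiv, Nat.card_zpowers, a3]
  let π := QuotientGroup.mk' N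
  let P' := P.mapSurjective (QuotientGroup.mk'_surjective N)
  have hP'' : ∀ c : C, π c ∈ (P' : Subgroup (C ⧸ N)) ↔ (c : X) ∈ A := fun c => by
    rw [← hP']
    refine ⟨fun ⟨d, hd, e⟩ => ?_, fun hc => ⟨c, hc, rfl⟩⟩
    simpa using mul_mem hd (hNP (QuotientGroup.eq.mp e))
  have lift : ∀ c : C, π c ∈ normalizer ((P' : Subgroup (C ⧸ N)) : Set (C ⧸ N)) →
      (c : X) ∈ normalizer (A : Set X) := fun c hc => mem_normalizer_fintype fun y hy =>
    (hP'' (c * ⟨y, hAC hy⟩ * c⁻¹)).mp ((mem_normalizer_iff.mp hc _).mp ((hP'' ⟨y, hAC hy⟩).mpr hy))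
  have hn := normal_of_pm P' ⟨⟨by
    rintro ⟨_, c, hc, rfl⟩ ⟨_, d, hd, rfl⟩
    refine Subtype.ext ?_
    change π c * π d = π d * π c
    rw [← map_mul, ← map_mul]
    exact congrArg π (Subtype.ext (h.comm ((hP' c).mp hc) ((hP' d).mp hd)))⟩⟩ (fun hc => by
      obtain ⟨⟨_, c, hc, rfl⟩, hg⟩ := isCyclic_iff_exists_orderOf_eq_natCard.1 hc
      have h1 := card_mul_relIndex hNP
      have h2 : Nat.card (P : Subgroup C) = 27 := by
        rw [← h.card, ← hP, card_map_of_injective C.subtype_injective]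
      have h3 := relIndex_ker (P : Subgroup C) π
      rw [QuotientGroup.ker_mk'] at h3
      rw [hN3, h2, h3] at h1
      have h4 : orderOf (π c) ∣ 3 := orderOf_dvd_of_pow_eq_one (by
        rw [← map_pow, show c ^ 3 = 1 from Subtype.ext (h.cube ((hP' c).mp hc)), map_one])
      rw [← orderOf_coe] at hg
      change orderOf (π c) = Nat.card ((P : Subgroup C).map π) at hg
      have := Nat.le_of_dvd (by norm_num) h4
      omega) (fun n hn => by
      obtain ⟨n, rfl⟩ := QuotientGroup.mk'_surjective N n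
      rcases key n (lift n hn) (comm_Ct n) with e | ⟨-, e⟩
      · left
        rintro _ ⟨y, hy, rfl⟩
        rw [← map_inv, ← map_mul, ← map_mul]
        refine congrArg π (Subtype.ext ?_)
        change n * y * (n : X)⁻¹ = y
        rw [h.comm e ((hP' y).mp hy), mul_inv_cancel_right]
      · right
        rintro _ ⟨y, hy, rfl⟩
        rw [eq_inv_iff_mul_eq_one, ← map_inv, ← map_mul, ← map_mul, ← map_mul]
        exact (QuotientGroup.eq_one_iff _).mpr (e y ((hP' y).mp hy)))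
    (Princ.pPrimeCore_quotient_central N (IsPGroup.of_card (n := 1) hN3) hNc
      ((map_eq_bot_iff_of_injective _ C.subtype_injective).mp (h.eq_bot
        (Solv.coprime_card_map_pPrimeCore 3 C)
        ((hAC.trans le_normalizer).trans (Solv.normalizer_le_normalizer_map_pPrimeCore 3 C)))))
  exact lift ⟨x, mem_Ct hx⟩ (by rw [normalizer_eq_top]; trivial)

theorem mem_nor {a g : X} (ha : a ∈ A) (ha1 : a ≠ 1) (hg : g * a * g⁻¹ ∈ normalizer (A : Set X)) :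
    g ∈ normalizer (A : Set X) :=
  mem_normalizer_fintype fun y hy => h.sc y hy g (h.cent_all (h.sc a ha g hg) (by simpa using ha1) (by
    calc g * y * g⁻¹ * (g * a * g⁻¹) = g * (y * a) * g⁻¹ := by group
      _ = _ := by rw [h.comm hy ha]; group))

omit [Finite X] in
/-- The four-group. -/
def V : Subgroup X where
  carrier := {x | x = 1 ∨ x = t ∨ x = u ∨ x = t * u}
  one_mem' := Or.inl rfl
  mul_mem' := by
    have h1 : ∀ x, t * (t * x) = x := fun x => by rw [← mul_assoc, h.tt, one_mul]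
    have h2 : ∀ x, u * (t * x) = t * (u * x) := fun x => by rw [← mul_assoc, ← h.tu, mul_assoc]
    rintro a b (rfl | rfl | rfl | rfl) (rfl | rfl | rfl | rfl) <;>
      simp [mul_assoc, h1, h2, h.tt, h.uu, ← h.tu]
  inv_mem' := by
    rintro a (rfl | rfl | rfl | rfl) <;>
      simp [inv_eq_of_mul_eq_one_right h.tt, inv_eq_of_mul_eq_one_right h.uu, ← h.tu]

theorem V_sq {v : X} (hv : v ∈ h.V) : v * v = 1 ∧ ∀ w ∈ h.V, v * w = w * v := by
  have h1 : ∀ x, t * (t * x) = x := fun x => by rw [← mul_assoc, h.tt, one_mul]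
  have h2 : ∀ x, u * (t * x) = t * (u * x) := fun x => by rw [← mul_assoc, ← h.tu, mul_assoc]
  refine ⟨?_, ?_⟩
  · rcases hv with rfl | rfl | rfl | rfl <;> simp [mul_assoc, h2, h.tt, h.uu]
  · rintro w (rfl | rfl | rfl | rfl) <;> rcases hv with rfl | rfl | rfl | rfl <;>
      simp [mul_assoc, h1, h2, h.tt, h.uu, ← h.tu]

theorem tV : t ∈ h.V := Or.inr (Or.inl rfl)

theorem uV : u ∈ h.V := Or.inr (Or.inr (Or.inl rfl))

theorem NV_inf {n : X} (hn : n ∈ normalizer (h.V : Set X)) (hA : n ∈ A) : n = 1 := by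
  obtain ⟨b, hb, rfl⟩ := (h.mem _).mp hA
  have key : ∀ v ∈ h.V, ∀ k, Act φ v k → k * b * k⁻¹ = b := fun v hv k hk => by
    have h1 := (h.V_sq (mul_mem ((mem_normalizer_iff.mp hn v).mp hv) (inv_mem hv))).1
    have h2 : φ b * v * (φ b)⁻¹ * v⁻¹ ∈ A := by
      rw [mul_assoc, mul_assoc, ← mul_assoc v]
      exact mul_mem hA ((mem_normalizer_iff.mp (h.mem_normalizer hk) _).mp (inv_mem hA))
    have h3 := mem_bot.mp (mem_of_sq (h.cube h2) (h1 ▸ one_mem ⊥))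
    refine h.eq_of (conj_J0 hb k) hb ?_
    rw [← hk b hb, ← mul_inv_eq_iff_eq_mul.mp (mul_inv_eq_one.mp h3), mul_inv_cancel_right]
  rw [V_fix b hb (key t h.tV _ h.act_t) (key u h.uV _ h.act_u), h.map_one]

omit [Finite X] in
/-- The graph of the embedding. -/
def Γ : Subgroup (tK.El × X) where
  carrier := {p | ∃ a ∈ J0, ∃ k ∈ C0, ∃ n ∈ normalizer (h.V : Set X), Act φ n k ∧
    p = (a * k, φ a * n)}
  one_mem' := ⟨1, one_mem _, 1, one_mem _, 1, one_mem _, act_one, by simp [h.map_one, Prod.ext_iff]⟩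
  mul_mem' := by
    rintro _ _ ⟨a, ha, k, hk, n, hn, e, rfl⟩ ⟨a', ha', k', hk', n', hn', e', rfl⟩
    refine ⟨_, mul_mem ha (conj_J0 ha' k), _, mul_mem hk hk', _, mul_mem hn hn', e.mul e', ?_⟩
    rw [h.mul _ ha _ (conj_J0 ha' k), ← e a' ha', Prod.mk_mul_mk]
    congr 1 <;> group
  inv_mem' := by
    rintro _ ⟨a, ha, k, hk, n, hn, e, rfl⟩
    refine ⟨_, conj_J0 (inv_mem ha) k⁻¹, _, inv_mem hk, _, inv_mem hn, e.inv, ?_⟩
    rw [← e.inv _ (inv_mem ha), h.map_inv ha, Prod.inv_mk]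
    congr 1 <;> group

theorem Γ_act (e : (k, x) ∈ h.Γ) : Act φ x k := by
  obtain ⟨a, ha, k, hk, n, hn, e, e1⟩ := e
  obtain ⟨rfl, rfl⟩ := Prod.ext_iff.mp e1
  exact ((h.act_of_mem (h.memA ha)).congr (by simpa using ha)).mul e

theorem Γ_J0 {a : tK.El} (ha : a ∈ J0) : (a, φ a) ∈ h.Γ :=
  ⟨a, ha, 1, one_mem _, 1, one_mem _, act_one, by simp⟩

theorem Γ_one (e : (k, x) ∈ h.Γ) : k = 1 ↔ x = 1 := by
  obtain ⟨a, ha, k, hk, n, hn, e, e1⟩ := e
  obtain ⟨rfl, rfl⟩ := Prod.ext_iff.mp e1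
  constructor
  · intro e2
    obtain rfl := C0_inf k hk (eq_inv_of_mul_eq_one_right e2 ▸ inv_mem ha)
    obtain rfl : a = 1 := by simpa using e2
    simp [h.NV_inf hn (h.cent n e), h.map_one]
  · intro e2
    obtain rfl := h.NV_inf hn (eq_inv_of_mul_eq_one_right e2 ▸ inv_mem (h.memA ha))
    simp [h.inj a ha (by simpa using e2), C0_inf k hk (by simpa using h.unique act_one e)]

theorem Γ_snd (hx : Act φ x k) : ∃ k, (k, x) ∈ h.Γ := by
  have h1 := hx.red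
  set l := ek (27 * (k.1 / 27))
  have hl : l ∈ C0 := C0_red k
  have key : ∀ y, Act φ y l → ∀ v, v * v = 1 → ∀ k, Act φ v k → k = ek 27 ∨ k = ek 81 →
      ∃ j ∈ A, ∃ w ∈ h.V, y * v * y⁻¹ = j * w ∧ j * y * v * (j * y)⁻¹ = w := by
    intro y hy v vv k hk e
    obtain ⟨w, hw, hw'⟩ : ∃ w ∈ h.V, Act φ w (l * k * l⁻¹) := by
      rcases C0_V l hl k e with e | e | e <;> rw [e]
      exacts [⟨t, h.tV, h.act_t⟩, ⟨u, h.uV, h.act_u⟩, ⟨_, mul_mem h.tV h.uV, h.act_t.mul h.act_u⟩]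
    have h2 := h.cent _ (by simpa using ((hy.mul hk).mul hy.inv).mul hw'.inv)
    refine ⟨_, h2, w, hw, by group, Eq.trans (by group) (conj_of_invol (a := y * v * y⁻¹) ?_
      (h.V_sq hw).1 (h.cube h2) (by group))⟩
    calc _ = y * (v * v) * y⁻¹ := by group
      _ = 1 := by rw [vv]; group
  obtain ⟨j, hj, v, hv, -, e1⟩ := key x h1 t h.tt _ h.act_t (Or.inl rfl)
  have h2 : Act φ (j * x) l := by simpa using (h.act_of_mem hj).mul h1
  obtain ⟨j', hj', w, hw, e2, e3⟩ := key _ h2 u h.uu _ h.act_u (Or.inr rfl)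
  have h3 : j' * v = v * j' := by
    have : j' * w * v = v * (j' * w) := by
      rw [← e1, ← e2]
      calc _ = j * x * (u * t) * (j * x)⁻¹ := by group
        _ = _ := by rw [← h.tu]; group
    rw [mul_assoc, (h.V_sq hw).2 v hv, ← mul_assoc, ← mul_assoc] at this
    exact mul_right_cancel this
  have e4 : j' * (j * x) * t * (j' * (j * x))⁻¹ = v := by
    calc _ = j' * (j * x * t * (j * x)⁻¹) * j'⁻¹ := by group
      _ = v := by rw [e1, h3, mul_inv_cancel_right]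
  obtain ⟨a, ha, e5⟩ := (h.mem _).mp (inv_mem (mul_mem hj' hj))
  refine ⟨_, a, ha, l, hl, j' * (j * x), mem_normalizer_fintype ?_,
    by simpa using (h.act_of_mem hj').mul h2, Prod.ext rfl (by rw [e5]; group)⟩
  rintro y (rfl | rfl | rfl | rfl)
  · rw [mul_one, mul_inv_cancel]; exact one_mem _
  · exact e4 ▸ hv
  · exact e3 ▸ hw
  · have := mul_mem hv hw
    rwa [← e4, ← e3, conj_mul] at this

theorem Γ_fst (hx : Act φ x k) : ∃ x, (k, x) ∈ h.Γ := by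
  obtain ⟨l, hl⟩ := h.Γ_snd hx
  exact ⟨_, by simpa using mul_mem hl (h.Γ_J0 (h.unique (h.Γ_act hl) hx))⟩

theorem Γ_clos (gens : List ℕ) (hg : ∀ g ∈ gens, g < 648 ∧ ∃ x, Act φ x (ek g))
    (hk : bit (tK.clos gens) k.1 = true) : ∃ x, (k, x) ∈ h.Γ := by
  obtain ⟨⟨_, x⟩, hx, rfl⟩ := clos_sound (h.Γ.map (MonoidHom.fst _ _)) gens (fun g hg' => by
    obtain ⟨h1, x, hx⟩ := hg g hg'
    obtain ⟨x, hx⟩ := h.Γ_fst hx
    exact ⟨h1, _, hx, rfl⟩) k hk
  exact ⟨x, hx⟩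

theorem act_gens : ∀ g ∈ [1, 3, 9, 27, 81, 324], g < 648 ∧ ∃ x, Act φ x (ek g) := by
  simp only [List.forall_mem_cons]
  exact ⟨⟨by norm_num, _, h.Γ_act (h.Γ_J0 gens_J0.1)⟩, ⟨by norm_num, _, h.Γ_act (h.Γ_J0 gens_J0.2.1)⟩,
    ⟨by norm_num, _, h.Γ_act (h.Γ_J0 gens_J0.2.2)⟩, ⟨by norm_num, _, h.act_t⟩,
    ⟨by norm_num, _, h.act_u⟩, ⟨by norm_num, _, h.act_m⟩, by simp⟩

theorem emb {E : Type*} [Group E] {i : E →* tK.El} (hi : Function.Injective i)
    (hi' : ∀ a ∈ J0, a ∈ i.range) {N : Subgroup X} {f : E →* N} (hf : ∀ e, (i e, (f e : X)) ∈ h.Γ)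
    (hr : ∀ g : N, (g : X) ∈ normalizer (A : Set X) → g ∈ f.range) : Emb f {e | i e ∈ J0} := by
  have h1 : ∀ e, i e ∈ J0 → (f e : X) = φ (i e) := fun e he => mul_inv_eq_one.mp
    ((h.Γ_one (mul_mem (hf e) (inv_mem (h.Γ_J0 he)))).mp (mul_inv_cancel _))
  have h2 : Function.Injective f := (injective_iff_map_eq_one f).mpr fun e he =>
    (map_eq_one_iff i hi).mp ((h.Γ_one (hf e)).mpr (congrArg Subtype.val he))
  have h3 : ∀ e, (f e : X) ∈ A ↔ i e ∈ J0 := fun e => ⟨fun he => by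
    simpa using h.unique (h.act_of_mem he) (h.Γ_act (hf e)), fun he => h1 e he ▸ h.memA he⟩
  refine emb_of_closed h2 (fun a ha b hb => hi (by rw [map_mul, map_mul, comm_J0 _ ha _ hb]))
    (fun j hj hj1 g hg => hr g (h.cent_all ((h3 j).mpr hj) (fun e => hj1 (h2 ?_))
      (congrArg Subtype.val hg))) (fun j hj e he => (h3 e).mp ?_) fun g hg => hr g ?_
  · rw [map_one]; exact Subtype.ext e
  · obtain ⟨g, hg⟩ := isConj_iff.mp he
    have := h.mem_normalizer (h.Γ_act (hf e))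
    rw [← hg] at this ⊢
    exact h.sc _ ((h3 j).mpr hj) g this
  · refine mem_normalizer_fintype fun y hy => ?_
    obtain ⟨a, ha, rfl⟩ := (h.mem _).mp hy
    obtain ⟨j, rfl⟩ := hi' a ha
    obtain ⟨j', hj', e⟩ := hg j ha
    rw [← h1 j ha]
    have e' : (g : X) * f j * (g : X)⁻¹ = f j' := congrArg Subtype.val e
    exact e' ▸ (h3 j').mpr hj'

theorem top_II {τ : X} (hτ : Act φ τ (ek 108)) (g : X) : g ∈ normalizer (A : Set X) := by
  obtain ⟨f, hf, hf'⟩ := exists_hom_graph h.Γ (MonoidHom.id _) (fun k => h.Γ_clos _ (fun g hg => by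
    rcases List.mem_append.mp (show g ∈ [1, 3, 9, 27, 81, 324] ++ [108] from hg) with e | e
    · exact h.act_gens g e
    · exact List.mem_singleton.mp e ▸ ⟨by norm_num, _, hτ⟩) (K_gen k))
    fun x hx => (h.Γ_one hx).mp rfl
  obtain ⟨k, hk⟩ := (prince (h.emb (i := MonoidHom.id _) (N := ⊤) Function.injective_id
    (fun a _ => ⟨a, rfl⟩) (f := f.codRestrict ⊤ fun _ => trivial) hf fun g hg => by
      obtain ⟨k, hk⟩ := h.nor g hg
      obtain ⟨k, hk⟩ := h.Γ_snd hk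
      exact ⟨k, Subtype.ext (hf' k g hk)⟩)).ge (mem_top ⟨g, trivial⟩)
  have e : f k = g := congrArg Subtype.val hk
  exact e ▸ h.mem_normalizer (h.Γ_act (hf k))

theorem fusion (T : Sylow 3 X) (hT : A ≤ T) : (T : Subgroup X) ≤ normalizer (A : Set X) ∧
    ∀ x ∈ (T : Subgroup X), ∀ w, w * x * w⁻¹ ∈ (T : Subgroup X) →
      ∃ n ∈ normalizer (A : Set X), n * x * n⁻¹ = w * x * w⁻¹ := by
  haveI : Fact (Nat.Prime 3) := ⟨Nat.prime_three⟩
  haveI : Nontrivial (T : Subgroup X) := Finite.one_lt_card_iff_nontrivial.mp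
    (lt_of_lt_of_le (by rw [h.card]; norm_num) (card_le_of_le hT))
  haveI := T.isPGroup'.center_nontrivial
  obtain ⟨⟨c, hc⟩, hc1⟩ := exists_ne (1 : center (T : Subgroup X))
  have h1 : ∀ s ∈ (T : Subgroup X), s * c = c * s := fun s hs =>
    congrArg Subtype.val (mem_center_iff.mp hc ⟨s, hs⟩)
  have h2 : (c : X) ∈ A := h.cent _ fun a ha => by rw [← h1 _ (hT (h.memA ha))]; simp
  have h3 : (c : X) ≠ 1 := fun e => hc1 (Subtype.ext (Subtype.ext e))
  have h4 : (T : Subgroup X) ≤ normalizer (A : Set X) := fun s hs => h.cent_all h2 h3 (h1 s hs)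
  refine ⟨h4, fun x hx w hw => ?_⟩
  have h5 : IsPGroup 3 (zpowers (c : X)) := h.isPGroup.to_le (zpowers_le.mpr h2)
  obtain ⟨R, hR, hcR⟩ := exists_isSylowIn_ge h5 (zpowers_le.mpr (mem_Ct (h1 _ hw).symm))
  obtain ⟨d, -, hd⟩ := (isSylowIn_of_sylow_le T le_top).exists_conj_le hR.isPGroup le_top
  have h6 := h.mem_nor h2 h3 (h4 (hd ⟨c, hcR (mem_zpowers _), rfl⟩))
  obtain ⟨d', hd', e⟩ := hR.exists_conj_le (h5.map (MulAut.conj w).toMonoidHom) (by
    rw [MonoidHom.map_zpowers, zpowers_le]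
    refine mem_Ct ?_
    change w * c * w⁻¹ * (w * x * w⁻¹) = w * x * w⁻¹ * (w * c * w⁻¹)
    rw [conj_mul, conj_mul, h1 x hx])
  have h7 := mul_mem (mul_mem (inv_mem h6) (h4 (hd ⟨_, e ⟨_, ⟨c, mem_zpowers _, rfl⟩, rfl⟩, rfl⟩))) h6
  refine ⟨d' * w, h.mem_nor h2 h3 ?_, ?_⟩
  · convert h7 using 1
    simp only [MulEquiv.toMonoidHom_eq_coe, MonoidHom.coe_coe, MulAut.conj_apply]; group
  · calc _ = d' * (w * x * w⁻¹) * d'⁻¹ := by group
      _ = _ := by rw [comm_Ct ⟨d', hd'⟩, mul_inv_cancel_right]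

theorem top_I (hE : ∀ x k, Act φ x k → inE k) (g : X) : g ∈ normalizer (A : Set X) := by
  haveI : Fact (Nat.Prime 3) := ⟨Nat.prime_three⟩
  have hinj : Function.Injective incl := fun a b hab =>
    El.ext (by rw [← incl_val, hab, incl_val])
  have hinc : ∀ k : tK.El, k.1 < 108 → ∃ n, incl n = k := fun k hk => ⟨⟨k.1, hk⟩, El.ext (incl_val _)⟩
  have hN : ∀ e : (tab 108).El, ∃ x ∈ commutator X, (incl e, x) ∈ h.Γ := fun e => by
    have key : ∀ k l, (∃ x, Act φ x k) → (∃ x, Act φ x l) →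
        ⁅k, l⁆ ∈ (h.Γ ⊓ (commutator X).comap (MonoidHom.snd _ _)).map (MonoidHom.fst _ _) := by
      rintro k l ⟨x, hx⟩ ⟨y, hy⟩
      obtain ⟨x, hx⟩ := h.Γ_fst hx
      obtain ⟨y, hy⟩ := h.Γ_fst hy
      exact ⟨⁅(k, x), (l, y)⁆, mem_inf.mpr ⟨mul_mem (mul_mem (mul_mem hx hy) (inv_mem hx)) (inv_mem hy),
        commutator_mem_commutator (mem_top x) (mem_top y)⟩, rfl⟩
    obtain ⟨-, r1, r2, r3, r4, r5⟩ := K_rel
    obtain ⟨⟨_, x⟩, hx, e1⟩ := clos_sound _ [1, 3, 9, 27, 81] (by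
      simp only [List.forall_mem_cons]
      have k1 := key _ _ ⟨_, h.act_u⟩ ⟨_, h.Γ_act (h.Γ_J0 gens_J0.1)⟩
      have k2 := key _ _ ⟨_, h.act_u⟩ ⟨_, h.Γ_act (h.Γ_J0 gens_J0.2.1)⟩
      have k3 := key _ _ ⟨_, h.act_t⟩ ⟨_, h.Γ_act (h.Γ_J0 gens_J0.2.2)⟩
      have k4 := key _ _ ⟨_, h.act_m⟩ ⟨_, h.act_t⟩
      have k5 := key _ _ ⟨_, h.act_m⟩ ⟨_, h.act_t.mul h.act_u⟩
      rw [r1] at k1
      rw [r2] at k2
      rw [r3] at k3
      rw [r4] at k4
      rw [r5] at k5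
      exact ⟨⟨by decide, k1⟩, ⟨by decide, k2⟩, ⟨by decide, k3⟩, ⟨by decide, k5⟩, ⟨by decide, k4⟩,
        by simp⟩) (incl e)
      (H_gen _ (by rw [incl_val]; exact e.2))
    exact ⟨x, hx.2, e1 ▸ hx.1⟩
  obtain ⟨f, hf, hf'⟩ := exists_hom_graph h.Γ incl (fun e => (hN e).imp fun _ hx => hx.2)
    fun x hx => (h.Γ_one hx).mp rfl
  have h1 : ∀ e, f e ∈ commutator X := fun e => by
    obtain ⟨x, hx, e1⟩ := hN e
    exact hf' e x e1 ▸ hx
  have h2 : ∀ x k, Act φ x k → k.1 < 108 → x ∈ f.range := fun x k hx hk => by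
    obtain ⟨l, hl⟩ := h.Γ_snd hx
    obtain ⟨n, rfl⟩ := hinc l (by simpa using H_mul k hk _ (h.unique hx (h.Γ_act hl)))
    exact ⟨n, hf' n x hl⟩
  have h3 : m ∈ commutator X → m ∈ f.range := fun hm => by
    have h4 : m ^ 3 ∈ A := h.cent _ (K_rel.1 ▸ h.act_m.pow 3)
    obtain ⟨T, hT⟩ := (h.isPGroup.to_sup_of_normal_left' (K := zpowers m) (by
      obtain ⟨k, -, hk⟩ := (Nat.dvd_prime_pow Nat.prime_three (m := 2)).mp
        (orderOf_dvd_of_pow_eq_one (show m ^ (3 * 3) = 1 by rw [pow_mul, h.cube h4]))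
      exact IsPGroup.of_card (by rw [Nat.card_zpowers, hk]))
      (zpowers_le.mpr (h.mem_normalizer h.act_m))).exists_le_sylow
    obtain ⟨h5, h6⟩ := h.fusion T (le_sup_left.trans hT)
    refine (closure_le f.range).mpr ?_ ((commutator_inf_eq_focalSubgroup T).le
      ⟨hm, hT (mem_sup_right (mem_zpowers m))⟩)
    rintro _ ⟨hg, x, hx, w, rfl⟩
    obtain ⟨n, hn, e⟩ := h6 _ (inv_mem hx) w (by
      simpa [commutatorElement_def, mul_assoc] using mul_mem (inv_mem hx) hg)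
    obtain ⟨k, hk⟩ := h.nor x (h5 hx)
    obtain ⟨l, hl⟩ := h.nor n hn
    have := h2 _ _ (hk.red.comm hl.red) (E_comm _ (C0_red k) _ (C0_red l) (hE _ _ hk.red)
      (hE _ _ hl.red))
    rwa [commutatorElement_def, mul_assoc, mul_assoc, ← mul_assoc n, e, ← mul_assoc, ← mul_assoc]
      at this
  have h4 := hayden (f := f.codRestrict _ h1) (by
    simpa only [mem_J0, incl_val] using h.emb hinj
      (fun a ha => hinc a (lt_trans ha (by norm_num))) (f := f.codRestrict _ h1) hf fun g hg => by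
      obtain ⟨k, hk⟩ := h.nor g hg
      suffices (g : X) ∈ f.range from this.imp fun _ e => Subtype.ext e
      rcases E_cases k (hE _ _ hk) with e | e | e
      · exact h2 _ _ hk e
      · have h5 := h2 _ _ (hk.mul h.act_m) e
        obtain ⟨n, hn⟩ := id h5
        simpa using mul_mem h5 (inv_mem (h3 (by simpa [hn] using mul_mem (inv_mem g.2) (h1 n))))
      · have h5 := h2 _ _ (hk.mul h.act_m.inv) e
        obtain ⟨n, hn⟩ := id h5
        simpa using mul_mem h5 (h3 (by simpa [hn] using mul_mem (inv_mem g.2) (h1 n))))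
  have h5 : φ (ek 1) ∈ commutator X := by
    obtain ⟨n, hn⟩ := hinc (ek 1) (lt_trans gens_J0.1 (by norm_num))
    rw [← hf' n _ (hn.symm ▸ h.Γ_J0 gens_J0.1 : (incl n, φ (ek 1)) ∈ h.Γ)]
    exact h1 n
  obtain ⟨n, hn⟩ := h4.ge (mem_top ⟨_, (inferInstance : (commutator X).Normal).conj_mem _ h5 g⟩)
  have e : f n = g * φ (ek 1) * g⁻¹ := congrArg Subtype.val hn
  exact h.mem_nor (h.memA gens_J0.1) (fun e => absurd (h.inj _ gens_J0.1 e) (by decide +kernel))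
    (e ▸ h.mem_normalizer (h.Γ_act (hf n)))

theorem top (g : X) : g ∈ normalizer (A : Set X) := by
  by_cases hτ : ∃ τ, Act φ τ (ek 108)
  · exact hτ.elim fun τ hτ => h.top_II hτ g
  refine h.top_I (fun x k hx => by_contra fun hk => hτ ?_) g
  obtain ⟨y, hy⟩ := h.Γ_clos _ h.act_gens (E_not k hk)
  exact ⟨_, by simpa using hx.mul (h.Γ_act hy)⟩

end HP

end Cfsg.Lib.Mc3
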