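import Cfsg.Agent.Recog.L43Defs
import Cfsg.Agent.Recog.Mc3I
import Cfsg.Agent.Recog.Hayden
import Cfsg.Agent.Trans.HallWielandt
import Cfsg.Agent.Local.CharP
import Cfsg.Agent.Solv.Cores

/-!
Two abstract steps for the centralizer of `y0`: transfer and the normal Sylow subgroup.
-/

set_option autoImplicit false

namespace Cfsg.Lib.L43

open Subgroup Cfsg.Lib.Trans
open scoped commutatorElement

/-- A Sylow `3`-subgroup of order `81` which is elementary modulo a central element. -/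
theorem cy_normal {N : Type*} [Group N] [Finite N] (P : Sylow 3 N) {y : N}
    (hy : ∀ g, g * y = y * g) (y3 : orderOf y = 3) (yP : y ∈ (P : Subgroup N))
    (hc : Nat.card (P : Subgroup N) = 81) (cube : ∀ b ∈ (P : Subgroup N), b ^ 3 = 1)
    (comm : ∀ a ∈ (P : Subgroup N), ∀ b ∈ (P : Subgroup N), a * b * a⁻¹ * b⁻¹ ∈ zpowers y)
    (nor : ∀ n ∈ normalizer ((P : Subgroup N) : Set N), n ∈ (P : Subgroup N) ∨
      ∀ b ∈ (P : Subgroup N), n * b * n⁻¹ * b ∈ zpowers y)
    (hO : pPrimeCore 3 N = ⊥) (g : N) : g ∈ normalizer ((P : Subgroup N) : Set N) := by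
  have : Fact (Nat.Prime 3) := ⟨Nat.prime_three⟩
  have hNc : zpowers y ≤ center N := zpowers_le.2 (mem_center_iff.2 hy)
  have : (zpowers y).Normal := ⟨fun c hc g => by
    rw [mem_center_iff.mp (hNc hc) g]; simpa using hc⟩
  have hNP : zpowers y ≤ P := zpowers_le.2 yP
  have hN3 : Nat.card (zpowers y) = 3 := by rw [Nat.card_zpowers, y3]
  let π := QuotientGroup.mk' (zpowers y)
  let P' := P.mapSurjective (QuotientGroup.mk'_surjective (zpowers y))
  have hP'' : ∀ c : N, π c ∈ (P' : Subgroup (N ⧸ zpowers y)) ↔ c ∈ (P : Subgroup N) := fun c => by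
    refine ⟨fun ⟨d, hd, e⟩ => ?_, fun hc => ⟨c, hc, rfl⟩⟩
    simpa using mul_mem hd (hNP (QuotientGroup.eq.mp e))
  have lift : ∀ c : N, π c ∈ normalizer ((P' : Subgroup (N ⧸ zpowers y)) : Set (N ⧸ zpowers y)) →
      c ∈ normalizer ((P : Subgroup N) : Set N) := fun c hc => mem_normalizer_fintype fun y hy =>
    (hP'' (c * y * c⁻¹)).mp ((mem_normalizer_iff.mp hc _).mp ((hP'' y).mpr hy))
  have cm : ∀ a ∈ (P : Subgroup N), ∀ b ∈ (P : Subgroup N), π a * π b = π b * π a :=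
    fun a ha b hb => by
      rw [← mul_inv_eq_one, mul_inv_rev, ← mul_assoc, ← map_inv, ← map_inv, ← map_mul, ← map_mul,
        ← map_mul]
      exact (QuotientGroup.eq_one_iff _).mpr (comm a ha b hb)
  have hn := Mc3.normal_of_pm P' ⟨⟨by
    rintro ⟨_, c, hc, rfl⟩ ⟨_, d, hd, rfl⟩
    exact Subtype.ext (cm c hc d hd)⟩⟩ (fun hcy => by
      obtain ⟨⟨_, c, hc', rfl⟩, hg⟩ := isCyclic_iff_exists_orderOf_eq_natCard.1 hcy
      have h1 := card_mul_relIndex hNP
      have h3 := relIndex_ker (P : Subgroup N) π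
      rw [QuotientGroup.ker_mk'] at h3
      rw [hN3, hc, h3] at h1
      have h4 : orderOf (π c) ∣ 3 := orderOf_dvd_of_pow_eq_one (by
        rw [← map_pow, cube c hc', map_one])
      rw [← orderOf_coe] at hg
      change orderOf (π c) = Nat.card ((P : Subgroup N).map π) at hg
      have := Nat.le_of_dvd (by norm_num) h4
      omega) (fun n hn => by
      obtain ⟨n, rfl⟩ := QuotientGroup.mk'_surjective (zpowers y) n
      rcases nor n (lift n hn) with e | e
      · left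
        rintro _ ⟨b, hb, rfl⟩
        change π n * π b * (π n)⁻¹ = π b
        rw [cm n e b hb, mul_inv_cancel_right]
      · right
        rintro _ ⟨b, hb, rfl⟩
        rw [eq_inv_iff_mul_eq_one, ← map_inv, ← map_mul, ← map_mul, ← map_mul]
        exact (QuotientGroup.eq_one_iff _).mpr (e b hb))
    (Block.Princ.pPrimeCore_quotient_central _ (IsPGroup.of_card (n := 1) hN3) hNc hO)
  exact lift g (by rw [normalizer_eq_top]; trivial)

/-- The union of `B` and its coset under an involution normalizing it. -/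
def cyExt {Y : Type*} [Group Y] [Finite Y] (B : Subgroup Y) (s : Y) (ss : s * s = 1)
    (hs : ∀ b ∈ B, s * b * s⁻¹ ∈ B) : Subgroup Y := subOf
  { carrier := {x | x ∈ B ∨ x * s ∈ B}
    one_mem' := Or.inl B.one_mem
    mul_mem' := by
      have si : s⁻¹ = s := inv_eq_of_mul_eq_one_right ss
      have e1 : ∀ a b : Y, a * b * s = a * s * (s * b * s⁻¹) := fun a b => by
        rw [si, ← mul_assoc, ← mul_assoc, mul_assoc a s s, ss, mul_one]
      have e2 : ∀ a b : Y, a * b = a * s * (s * (b * s) * s⁻¹) := fun a b => by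
        rw [mul_assoc s (b * s), mul_inv_cancel_right, ← mul_assoc, mul_assoc a s s, ss, mul_one]
      rintro a b (ha | ha) (hb | hb)
      · exact Or.inl (mul_mem ha hb)
      · exact Or.inr (by rw [mul_assoc]; exact mul_mem ha hb)
      · exact Or.inr (by rw [e1]; exact mul_mem ha (hs b hb))
      · exact Or.inl (by rw [e2]; exact mul_mem ha (hs _ hb)) }

theorem cyExt_eq_1' : type_of% @cyExt.eq_1 := @cyExt.eq_1

theorem mem_cyExt {Y : Type*} [Group Y] [Finite Y] {B : Subgroup Y} {s : Y} {ss hs} {x : Y} :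
    x ∈ cyExt B s ss hs ↔ x ∈ B ∨ x * s ∈ B := Iff.rfl

/-- The abstract form of the determination of the centralizer of `y0`. -/
theorem cy_abs {Y : Type*} [Group Y] [Finite Y] {T B : Subgroup Y} {y z s : Y}
    (hT : IsPGroup 3 T) (hBT : B ≤ T) (hy : ∀ g, g * y = y * g) (y3 : orderOf y = 3) (yB : y ∈ B)
    (zB : z ∈ B) (zT : ∀ t ∈ T, z * t = t * z) (ss : s * s = 1)
    (hc : Nat.card B = 81) (cube : ∀ b ∈ B, b ^ 3 = 1)
    (comm : ∀ a ∈ B, ∀ b ∈ B, a * b * a⁻¹ * b⁻¹ ∈ zpowers y)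
    (cl : ∀ u ∈ T, ∀ t ∈ T, (u⁻¹ * t⁻¹ * u * t)⁻¹ * t⁻¹ * (u⁻¹ * t⁻¹ * u * t) * t = 1)
    (sT : ∀ t ∈ T, s * t * s⁻¹ * t⁻¹ ∈ B) (sB : ∀ b ∈ B, s * b * s⁻¹ * b ∈ zpowers y)
    (yN : ∃ b t : Y, y = ⁅⁅b, s⁆, t⁆)
    (K : ∀ g, g * z * g⁻¹ ∈ T → (∀ b ∈ B, g * z * g⁻¹ * b = b * (g * z * g⁻¹)) → g ∈ T ∨ g * s ∈ T)
    (hO : pPrimeCore 3 Y = ⊥) (g : Y) : g ∈ T ∨ g * s ∈ T := by
  have : Fact (Nat.Prime 3) := ⟨Nat.prime_three⟩
  have si : s⁻¹ = s := inv_eq_of_mul_eq_one_right ss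
  have hyB : zpowers y ≤ B := zpowers_le.2 yB
  have sT' : ∀ t ∈ T, s * t * s⁻¹ ∈ T := fun t ht => by
    simpa using mul_mem (hBT (sT t ht)) ht
  have sB' : ∀ t ∈ B, s * t * s⁻¹ ∈ B := fun t ht => by
    simpa using mul_mem (hyB (sB t ht)) (inv_mem ht)
  have pw : ∀ t ∈ T, ∃ n, t ^ 3 ^ n = 1 := fun t ht => by
    obtain ⟨n, hn⟩ := hT ⟨t, ht⟩
    exact ⟨n, congrArg Subtype.val hn⟩
  have KN : ∀ {X : Subgroup Y}, B ≤ X → X ≤ T → ∀ g ∈ normalizer (X : Set Y),
      g ∈ T ∨ g * s ∈ T := fun {X} h1 h2 g hg => by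
    refine K g (h2 ((mem_normalizer_iff.1 hg z).1 (h1 zB))) fun b hb => ?_
    have := zT _ (h2 ((mem_normalizer_iff.1 (inv_mem hg) b).1 (h1 hb)))
    calc g * z * g⁻¹ * b = g * (z * (g⁻¹ * b * g⁻¹⁻¹)) * g⁻¹ := by group
      _ = _ := by rw [this]; group
  have sq : ∀ n, n * s ∈ T → n * n ∈ T := fun n hn => by
    have : n * n = n * s * (s * (n * s) * s⁻¹) := by
      rw [mul_assoc s (n * s), mul_inv_cancel_right, ← mul_assoc, mul_assoc n s s, ss, mul_one]
    rw [this]; exact mul_mem hn (sT' _ hn)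
  obtain ⟨S, rfl⟩ := (Recog.P43.isSylowIn_of_norm (H := ⊤) le_top hT fun n _ hn ⟨k, hk⟩ =>
    (KN hBT le_rfl n hn).elim id fun e => Mc3.mem_of_sq_of_pow hk (sq n e)).exists_sylow_eq
  have hw := hall_wielandt S (isWeaklyClosed_sylow S) fun u hu t ht => cl u hu t ht
  have s2 : orderOf s ∣ 2 := orderOf_dvd_of_pow_eq_one (by rw [pow_two, ss])
  have sN : s ∈ pResidual 3 Y := subset_closure (Nat.Coprime.coprime_dvd_left s2 (by norm_num))
  have one : ∀ t ∈ (S : Subgroup Y), (orderOf t).Coprime 3 → t = 1 := fun t ht hc => by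
    obtain ⟨n, hn⟩ := pw t ht
    exact orderOf_eq_one_iff.1 (Nat.Coprime.eq_one_of_dvd (hc.pow_right n)
      (orderOf_dvd_of_pow_eq_one hn))
  have up : ∀ x ∈ pResidual 3 Y, x ∈ (S : Subgroup Y) → x ∈ B := fun x hx hS => by
    have h1 : (⟨x, le_normalizer hS⟩ : normalizer ((S : Subgroup Y) : Set Y)) ∈
        pResidual 3 (normalizer ((S : Subgroup Y) : Set Y)) := hw ▸ hx
    have h2 : pResidual 3 (normalizer ((S : Subgroup Y) : Set Y)) ≤
        (cyExt B s ss sB').subgroupOf _ := (closure_le _).2 fun n hn => by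
      have hn' : (orderOf (n : Y)).Coprime 3 := by rw [orderOf_coe]; exact hn
      rcases KN hBT le_rfl n n.2 with e | e
      · exact Or.inl (by change (n : Y) ∈ B; rw [one _ e hn']; exact B.one_mem)
      · have h3 : (n : Y) * n = 1 := one _ (sq _ e) (by
          rw [← pow_two]; exact Nat.Coprime.coprime_dvd_left (orderOf_pow_dvd 2) hn')
        obtain ⟨k, hk⟩ := pw _ e
        refine Or.inr (Mc3.mem_of_sq_of_pow (r := n * s) hk ?_)
        have h4 := inv_mem (sT _ e)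
        have h5 : (n : Y)⁻¹ = n := inv_eq_of_mul_eq_one_right h3
        have h6 : (s * (n * s) * s⁻¹ * (n * s)⁻¹)⁻¹ = n * s * (n * s) := by
          rw [mul_assoc s, mul_inv_cancel_right, mul_inv_rev, inv_inv, mul_inv_rev, si, h5]
        exact h6 ▸ h4
    rcases h2 h1 with e | e
    · exact e
    · have h3 : s = 1 := one s (by simpa using mul_mem (inv_mem hS) (hBT e))
        (Nat.Coprime.coprime_dvd_left s2 (by norm_num))
      simpa [h3] using e
  have cN : ∀ b : Y, ⁅b, s⁆ ∈ pResidual 3 Y := fun b => by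
    rw [commutatorElement_def]
    exact mul_mem ((pResidual_normal 3 Y).conj_mem s sN b) (inv_mem sN)
  have yN' : zpowers y ≤ pResidual 3 Y := zpowers_le.2 (by
    obtain ⟨b, t, e⟩ := yN
    rw [e, commutatorElement_def, mul_assoc, mul_assoc, ← mul_assoc t]
    exact mul_mem (cN b) ((pResidual_normal 3 Y).conj_mem _ (inv_mem (cN b)) t))
  have down : B ≤ pResidual 3 Y := fun b hb => by
    refine Mc3.mem_of_sq_of_pow (n := 1) (cube b hb) ?_
    have h1 : b * b = ⁅b, s⁆ * (s * b * s⁻¹ * b) := by rw [commutatorElement_def]; group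
    rw [h1]
    exact mul_mem (cN b) (yN' (sB b hb))
  have hBe : (S : Subgroup Y) ⊓ pResidual 3 Y = B :=
    le_antisymm (fun x hx => up x hx.2 hx.1) (le_inf hBT down)
  have hP := isSylowIn_inf_of_normal S (pResidual 3 Y)
  rw [hBe] at hP
  have mP : ∀ c : pResidual 3 Y, c ∈ (hP.toSylow : Subgroup (pResidual 3 Y)) ↔ (c : Y) ∈ B :=
    fun c => by rw [hP.coe_toSylow]; rfl
  have lift : ∀ c : pResidual 3 Y, c ∈ normalizer ((hP.toSylow : Subgroup (pResidual 3 Y)) :
      Set (pResidual 3 Y)) → (c : Y) ∈ normalizer (B : Set Y) := fun c hc =>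
    mem_normalizer_fintype fun b hb => (mP (c * ⟨b, down hb⟩ * c⁻¹)).1
      ((mem_normalizer_iff.1 hc _).1 ((mP ⟨b, down hb⟩).2 hb))
  have zp : ∀ c : pResidual 3 Y, (c : Y) ∈ zpowers y → c ∈ zpowers (⟨y, down yB⟩ : pResidual 3 Y) :=
    fun c ⟨k, hk⟩ => ⟨k, Subtype.ext (by simpa using hk)⟩
  have hn := cy_normal hP.toSylow (y := ⟨y, down yB⟩) (fun g => Subtype.ext (hy g))
    (by rw [← orderOf_coe]; exact y3) ((mP _).2 yB)
    (by rw [hP.coe_toSylow, Nat.card_congr (subgroupOfEquivOfLe down).toEquiv, hc])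
    (fun b hb => Subtype.ext (cube b ((mP b).1 hb)))
    (fun a ha b hb => zp _ (comm a ((mP a).1 ha) b ((mP b).1 hb)))
    (fun n hn => by
      rcases KN le_rfl hBT n (lift n hn) with e | e
      · exact Or.inl ((mP n).2 (up n n.2 e))
      · refine Or.inr fun b hb => zp _ ?_
        have h1 := up _ (mul_mem n.2 sN) e
        have h2 := (mP b).1 hb
        have h3 := mul_mem (comm _ h1 _ (sB' b h2)) (sB b h2)
        change (n : Y) * b * (n : Y)⁻¹ * b ∈ _
        have h4 : (n : Y) * b * (n : Y)⁻¹ * b = n * s * (s * b * s⁻¹) * (n * s)⁻¹ * (s * b * s⁻¹)⁻¹ *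
            (s * b * s⁻¹ * b) := by
          have : (n : Y) = n * s * s := by rw [mul_assoc, ss, mul_one]
          conv_lhs => rw [this]
          group
        exact h4 ▸ h3)
    (Solv.pPrimeCore_eq_bot_of_isSubnormal (pResidual_normal 3 Y).isSubnormal hO)
  have top := Local.resOf_sup_sylowIn (isSylowIn_top S)
  rw [Local.resOf_top] at top
  have : (⊤ : Subgroup Y) ≤ cyExt S s ss sT' := by
    rw [← top]
    exact sup_le (fun n hn' => KN le_rfl hBT n (lift ⟨n, hn'⟩ (hn _))) fun t ht => Or.inl ht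
  exact this (mem_top g)

end Cfsg.Lib.L43
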