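import Cfsg.Agent.Recog.L43Orb
import Cfsg.Agent.Recog.L43CYa

/-!
The centralizer of `y0` lies in the image of the model.
-/

set_option autoImplicit false

namespace Cfsg.Lib.L43

open Subgroup Matrix Cfsg.Lib.Block
open scoped commutatorElement

/-- The Sylow subgroup of the centralizer of `y0`. -/
def cyT : Subgroup Γ := subOf
  { carrier := {g | ∃ b c d e f, g = uu 0 b c d e f}
    one_mem' := ⟨0, 0, 0, 0, 0, uu_zero.symm⟩
    mul_mem' := by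
      rintro _ _ ⟨b, c, d, e, f, rfl⟩ ⟨b', c', d', e', f', rfl⟩
      exact ⟨_, _, _, _, _, by rw [uu_mul, add_zero]⟩ }

theorem cyT_eq_1' : type_of% @cyT.eq_1 := @cyT.eq_1

/-- The subgroup of index three in `cyT`. -/
def cyB : Subgroup Γ := subOf
  { carrier := {g | ∃ c d e f, g = uu 0 0 c d e f}
    one_mem' := ⟨0, 0, 0, 0, uu_zero.symm⟩
    mul_mem' := by
      rintro _ _ ⟨c, d, e, f, rfl⟩ ⟨c', d', e', f', rfl⟩
      exact ⟨c + c', d + d', e + e' + d * f', f + f', by simp [uu_mul]⟩ }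

theorem cyB_eq_1' : type_of% @cyB.eq_1 := @cyB.eq_1

theorem mem_cyT {g : Γ} : g ∈ cyT ↔ ∃ b c d e f, g = uu 0 b c d e f := Iff.rfl
theorem mem_cyB {g : Γ} : g ∈ cyB ↔ ∃ c d e f, g = uu 0 0 c d e f := Iff.rfl
theorem cyT_le : cyT ≤ Um := by rintro _ ⟨b, c, d, e, f, rfl⟩; exact uu_mem_Um ..
theorem cyB_le : cyB ≤ cyT := by rintro _ ⟨c, d, e, f, rfl⟩; exact ⟨_, _, _, _, _, rfl⟩

theorem card_cyB : Nat.card cyB = 81 :=
  (card_of_param (s := (cyB : Set Γ)) (fun p : F3 × F3 × F3 × F3 =>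
    uu 0 0 p.1 p.2.1 p.2.2.1 p.2.2.2)
    (fun p q h => by simpa [uu_inj, Prod.ext_iff] using h) (fun x => by simp [mem_cyB])).trans
    (by simp)

/-- The involution `diag (1, -1, 1, -1)`. -/
def cyS : Γ := mk 1 0 0 0 0 (-1) 0 0 0 0 1 0 0 0 0 (-1) (by decide)

theorem cyS_eq_1' : type_of% @cyS.eq_1 := @cyS.eq_1

theorem cyS_mul : cyS * cyS = 1 := by decide +kernel
theorem cyS_inv : cyS⁻¹ = cyS := inv_eq_of_mul_eq_one_right cyS_mul
theorem cyS_mem : cyS ∈ Pt := ⟨rfl, rfl, rfl⟩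

theorem cyS_conj (a b c d e f : F3) :
    cyS * uu a b c d e f * cyS⁻¹ = uu (-a) b (-c) (-d) e (-f) := by
  rw [cyS_inv]; simp [cyS, uu, mk_mul]

theorem cy_model {a : Γ} (ha : a ∈ Pt) (hy : a * y0 = y0 * a) :
    (a ∈ cyT ∨ ng * a ∈ cyT) ∨ (a * cyS ∈ cyT ∨ ng * (a * cyS) ∈ cyT) := by
  have hd := d16_ent a
  rw [eq_mk a] at hy ⊢
  obtain ⟨h1, h2, h3⟩ := ha
  simp only [h1, h2, h3, y0, uu, mk_mul, mk_inj] at hy
  obtain ⟨-, -, -, e3, -, e5, e6, e7, -, -, -, e11, -⟩ := hy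
  have k1 : a 0 1 = 0 := by linear_combination e3
  have k2 : a 3 1 = 0 := by linear_combination -e5
  have k3 : a 3 2 = 0 := by linear_combination -e6
  have k4 : a 3 3 = a 1 1 := by linear_combination -e7
  have k5 : a 2 1 = 0 := by linear_combination e11
  simp only [h1, h2, h3, k1, k2, k3, k4, k5, d16] at hd
  have k6 : ∀ p q r : F3, p * (q * (r * q)) = 1 → (p = 1 ∧ q = 1 ∧ r = 1 ∨ p = -1 ∧ q = -1 ∧ r = -1)
      ∨ (p = 1 ∧ q = -1 ∧ r = 1 ∨ p = -1 ∧ q = 1 ∧ r = -1) := by decide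
  simp only [mem_cyT, h1, h2, h3, k1, k2, k3, k4, k5, ng, cyS, uu, mk_mul, mk_inj]
  rcases k6 (a 0 0) (a 1 1) (a 2 2) (by linear_combination hd) with
    (⟨e, e', e''⟩ | ⟨e, e', e''⟩) | ⟨e, e', e''⟩ | ⟨e, e', e''⟩ <;> simp [e, e', e'']

theorem cy_comm : y0 = ⁅⁅uu 0 0 0 (-1) 0 0, cyS⁆, uu 0 0 0 0 0 1⁆ := by
  have h1 : ⁅uu 0 0 0 (-1) 0 0, cyS⁆ = uu 0 0 0 1 0 0 := by
    rw [commutatorElement_def, mul_assoc, mul_assoc, ← mul_assoc cyS, uu_inv, cyS_conj, uu_mul,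
      uu_inj]
    decide
  rw [h1, commutatorElement_def, uu_inv, uu_inv, uu_mul, uu_mul, uu_mul, y0, uu_inj]
  decide

theorem cy_pow_y (e : F3) : uu 0 0 0 0 e 0 = y0 ^ e.val := by
  revert e; decide +kernel

theorem cy_pow_z (c : F3) : uu 0 0 c 0 0 0 = z0 ^ c.val := by
  revert c; decide +kernel

variable {G : Type*} [Group G] [Finite G] {φ : Γ → G} {Γ0 : Subgroup Γ}

theorem Md2.cent_y (h : Md2 φ Γ0) (g : G) (hg : g * φ y0 = φ y0 * g) : ∃ a ∈ Γ0, φ a = g := by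
  have m := h.md
  rcases m.cases with ⟨-, nzy⟩ | rfl
  swap
  · obtain ⟨a, -, e⟩ := conj_y0_z0
    refine m.cent_of_conj (mem_top a) (mem_top _) e (fun g hg => ?_) g hg
    obtain ⟨b, -, eb⟩ := m.cz g hg
    exact ⟨b, mem_top b, eb⟩
  have hTΓ : cyT ≤ Γ0 := cyT_le.trans m.Um_le
  have hBΓ : cyB ≤ Γ0 := cyB_le.trans hTΓ
  have sΓ : cyS ∈ Γ0 := m.le cyS_mem
  have mu : ∀ a b c d e f a' b' c' d' e' f' : F3, φ (uu a b c d e f) * φ (uu a' b' c' d' e' f') =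
      φ (uu (a + a') (b + b' + a * d') (c + c' + a * e' + b * f') (d + d') (e + e' + d * f')
        (f + f')) := fun a b c d e f a' b' c' d' e' f' => by
    rw [← m.mul _ (m.uu_mem ..) _ (m.uu_mem ..), uu_mul]
  have iv : ∀ a b c d e f : F3, (φ (uu a b c d e f))⁻¹ =
      φ (uu (-a) (a * d - b) (a * e + b * f - a * d * f - c) (-d) (d * f - e) (-f)) :=
    fun a b c d e f => by rw [← m.map_inv (m.uu_mem ..), uu_inv]
  have cj : ∀ a b c d e f : F3, φ cyS * φ (uu a b c d e f) * (φ cyS)⁻¹ =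
      φ (uu (-a) b (-c) (-d) e (-f)) := fun a b c d e f => by
    rw [← m.map_conj sΓ (m.uu_mem ..), cyS_conj]
  have inj : ∀ a b c d e f a' b' c' d' e' f' : F3, φ (uu a b c d e f) = φ (uu a' b' c' d' e' f') ↔
      a = a' ∧ b = b' ∧ c = c' ∧ d = d' ∧ e = e' ∧ f = f' := fun a b c d e f a' b' c' d' e' f' => by
    rw [m.eq_iff_uu (uu_mem_Um ..) (uu_mem_Um ..), uu_inj]
  have on : (1 : G) = φ (uu 0 0 0 0 0 0) := by rw [uu_zero, m.map_one]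
  let H := centralizer ({φ y0} : Set G)
  have mH : ∀ {x}, x ∈ H ↔ x * φ y0 = φ y0 * x := mem_centralizer_singleton_iff
  have hTH : m.im cyT ≤ H := fun x hx => by
    obtain ⟨_, ⟨b, c, d, e, f, rfl⟩, rfl⟩ := (m.mem_im hTΓ).1 hx
    rw [mH, y0, mu, mu, inj]
    refine ⟨?_, ?_, ?_, ?_, ?_, ?_⟩ <;> ring
  have mT : ∀ x : H, x ∈ (m.im cyT).subgroupOf H ↔ ∃ b c d e f, (x : G) = φ (uu 0 b c d e f) :=
    fun x => (m.mem_im hTΓ).trans ⟨fun ⟨_, ⟨b, c, d, e, f, e1⟩, e2⟩ => ⟨b, c, d, e, f, e1 ▸ e2.symm⟩,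
      fun ⟨b, c, d, e, f, e1⟩ => ⟨_, ⟨b, c, d, e, f, rfl⟩, e1.symm⟩⟩
  have mB : ∀ x : H, x ∈ (m.im cyB).subgroupOf H ↔ ∃ c d e f, (x : G) = φ (uu 0 0 c d e f) :=
    fun x => (m.mem_im hBΓ).trans ⟨fun ⟨_, ⟨c, d, e, f, e1⟩, e2⟩ => ⟨c, d, e, f, e1 ▸ e2.symm⟩,
      fun ⟨c, d, e, f, e1⟩ => ⟨_, ⟨c, d, e, f, rfl⟩, e1.symm⟩⟩
  have uH : ∀ b c d e f, φ (uu 0 b c d e f) ∈ H := fun b c d e f =>
    hTH (m.mem_im_of hTΓ ⟨b, c, d, e, f, rfl⟩)
  have sH : φ cyS ∈ H := by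
    rw [mH, ← mul_inv_eq_iff_eq_mul, y0, cj]; simp
  have zy : ∀ x : H, (∃ e, (x : G) = φ (uu 0 0 0 0 e 0)) → x ∈ zpowers (⟨φ y0, uH 0 0 0 1 0⟩ : H) :=
    fun x ⟨e, he⟩ => mem_zpowers_iff.2 ⟨(e.val : ℕ), Subtype.ext (by
      rw [he, cy_pow_y, m.map_pow (a := y0) (m.uu_mem ..), zpow_natCast]; rfl)⟩
  have key := cy_abs (T := (m.im cyT).subgroupOf H) (B := (m.im cyB).subgroupOf H)
    (y := ⟨φ y0, uH 0 0 0 1 0⟩) (z := ⟨φ z0, uH 0 1 0 0 0⟩) (s := ⟨φ cyS, sH⟩)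
    (Trans.isPGroup_subgroupOf (h.syl.isPGroup.to_le (m.im_mono cyT_le)) H)
    (fun x hx => m.im_mono cyB_le hx) (fun x => Subtype.ext (mH.1 x.2))
    (by
      have : Fact (Nat.Prime 3) := ⟨Nat.prime_three⟩
      refine orderOf_eq_prime (Subtype.ext ?_) fun e => ?_
      · change φ y0 ^ 3 = 1
        rw [y0, ← m.map_pow (m.uu_mem ..), uu_cube, on]; simp
      · have := congrArg Subtype.val e
        change φ y0 = 1 at this
        rw [on, y0, inj] at this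
        exact absurd this.2.2.2.2.1 (by decide))
    ((mB _).2 ⟨_, _, _, _, rfl⟩) ((mB _).2 ⟨_, _, _, _, rfl⟩)
    (fun t ht => Subtype.ext (by
      obtain ⟨b, c, d, e, f, e1⟩ := (mT t).1 ht
      change φ z0 * t = t * φ z0
      rw [e1, z0, mu, mu, inj]
      refine ⟨?_, ?_, ?_, ?_, ?_, ?_⟩ <;> ring))
    (Subtype.ext (by
      change φ cyS * φ cyS = 1
      rw [← m.mul _ sΓ _ sΓ, cyS_mul, m.map_one]))
    (by rw [Nat.card_congr (subgroupOfEquivOfLe ((m.im_mono cyB_le).trans hTH)).toEquiv,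
      m.card_im (cyB_le.trans cyT_le), card_cyB])
    (fun b hb => Subtype.ext (by
      obtain ⟨c, d, e, f, e1⟩ := (mB b).1 hb
      change (b : G) ^ 3 = 1
      rw [e1, ← m.map_pow (m.uu_mem ..), uu_cube, on]; simp))
    (fun a ha b hb => zy _ (by
      obtain ⟨c, d, e, f, e1⟩ := (mB a).1 ha
      obtain ⟨c', d', e', f', e2⟩ := (mB b).1 hb
      refine ⟨d * f' - d' * f, ?_⟩
      change (a : G) * b * (a : G)⁻¹ * (b : G)⁻¹ = _
      rw [e1, e2, iv, iv, mu, mu, mu, inj]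
      refine ⟨?_, ?_, ?_, ?_, ?_, ?_⟩ <;> ring))
    (fun a ha b hb => Subtype.ext (by
      obtain ⟨b1, c, d, e, f, e1⟩ := (mT a).1 ha
      obtain ⟨b2, c', d', e', f', e2⟩ := (mT b).1 hb
      change ((a : G)⁻¹ * (b : G)⁻¹ * a * b)⁻¹ * (b : G)⁻¹ * ((a : G)⁻¹ * (b : G)⁻¹ * a * b) * b = 1
      rw [e1, e2, iv, iv, mu, mu, mu, iv, mu, mu, mu, on, inj]
      refine ⟨?_, ?_, ?_, ?_, ?_, ?_⟩ <;> ring))
    (fun t ht => (mB _).2 (by
      obtain ⟨b, c, d, e, f, e1⟩ := (mT t).1 ht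
      change ∃ c d e f, φ cyS * t * (φ cyS)⁻¹ * (t : G)⁻¹ = _
      rw [e1, cj, iv, mu]
      exact ⟨_, _, _, _, (inj ..).2 ⟨by ring, by ring, rfl, rfl, rfl, rfl⟩⟩))
    (fun t ht => zy _ (by
      obtain ⟨c, d, e, f, e1⟩ := (mB t).1 ht
      change ∃ e, φ cyS * t * (φ cyS)⁻¹ * (t : G) = _
      rw [e1, cj, mu]
      exact ⟨_, (inj ..).2 ⟨by ring, by ring, by ring, by ring, rfl, by ring⟩⟩))
    ⟨⟨_, uH 0 0 (-1) 0 0⟩, ⟨_, uH 0 0 0 0 1⟩, Subtype.ext (by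
      change φ y0 = ⁅⁅φ (uu 0 0 0 (-1) 0 0), φ cyS⁆, φ (uu 0 0 0 0 0 1)⁆
      rw [← m.map_comm (m.uu_mem ..) sΓ, ← m.map_comm (by
        rw [commutatorElement_def]
        exact mul_mem (mul_mem (mul_mem (m.uu_mem ..) sΓ) (inv_mem (m.uu_mem ..))) (inv_mem sΓ))
        (m.uu_mem ..)]
      exact congrArg φ cy_comm)⟩
    (fun x hx hc => by
      obtain ⟨b, c, d, e, f, e1⟩ := (mT _).1 hx
      have k1 := congrArg Subtype.val (hc ⟨_, uH 0 0 0 0 1⟩ ((mB _).2 ⟨_, _, _, _, rfl⟩))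
      have k2 := congrArg Subtype.val (hc ⟨_, uH 0 0 1 0 0⟩ ((mB _).2 ⟨_, _, _, _, rfl⟩))
      rw [coe_mul _ (x * _ * _), coe_mul _ _ (x * _ * _), e1] at k1 k2
      change _ * φ _ = φ _ * _ at k1 k2
      rw [mu, mu, inj] at k1 k2
      obtain rfl : b = 0 := by linear_combination k1.2.2.1
      obtain rfl : d = 0 := by linear_combination k1.2.2.2.2.1
      obtain rfl : f = 0 := by linear_combination -k2.2.2.2.2.1
      change (x : G) * φ z0 * (x : G)⁻¹ = _ at e1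
      obtain rfl : e = 0 := by
        by_contra he
        obtain ⟨a, ha, -, ea⟩ := conj_y0 (b := 0) (c := c) (d := 0) (e := e) (by ring)
          (fun k => he k.2)
        refine nzy ((isConj_iff.2 ⟨(x : G), e1⟩).trans (isConj_iff.2 ⟨φ a, ?_⟩))
        rw [← m.map_conj (m.le ha) (m.uu_mem ..), ea]
      obtain ⟨a, ha, ea⟩ := h.nz x (by
        rw [e1, cy_pow_z, m.map_pow (a := z0) (m.uu_mem ..)]
        exact pow_mem (mem_zpowers _) _)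
      have ha' := m.le ha
      have pm : ∀ a' ∈ Γ0, a' ∈ cyT ∨ ng * a' ∈ cyT → φ a' ∈ m.im cyT := fun a' h1 h2 =>
        h2.elim (m.mem_im_of hTΓ) fun h3 => m.map_ng_mul h1 ▸ m.mem_im_of hTΓ h3
      refine (cy_model ha ((m.comm_iff ha' (uu_mem_Um ..)).1 (ea ▸ mH.1 x.2))).imp
        (fun k => ?_) fun k => ?_
      · exact mem_subgroupOf.2 (ea ▸ pm a ha' k)
      · refine mem_subgroupOf.2 ?_
        change (x : G) * φ cyS ∈ _
        rw [← ea, ← m.mul _ ha' _ sΓ]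
        exact pm _ (mul_mem ha' sΓ) k)
    ((map_eq_bot_iff_of_injective _ H.subtype_injective).1 (h.sig _
      (Solv.coprime_card_map_pPrimeCore 3 H) fun j hj => by
        obtain ⟨b, c, d, e, rfl⟩ := hj
        exact Solv.normalizer_le_normalizer_map_pPrimeCore 3 H (le_normalizer (uH b c d e 0))))
    ⟨g, mH.2 hg⟩
  rcases key with k | k
  · obtain ⟨a, ha, ea⟩ := (m.mem_im hTΓ).1 k
    exact ⟨a, hTΓ ha, ea⟩
  · obtain ⟨a, ha, ea⟩ := (m.mem_im hTΓ).1 k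
    refine ⟨a * cyS⁻¹, mul_mem (hTΓ ha) (inv_mem sΓ), ?_⟩
    rw [m.mul _ (hTΓ ha) _ (inv_mem sΓ), m.map_inv sΓ, ea]
    exact mul_inv_cancel_right g (φ cyS)

end Cfsg.Lib.L43
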