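import Cfsg.Agent.Recog.L43Defs
import Cfsg.Agent.Class.PSLSimple
import Cfsg.Agent.Class.NegOne
import Cfsg.Agent.Solv.Cores

/-!
Recognition of `L₄(3)`: identification of the two possible groups.
-/

set_option autoImplicit false

namespace Cfsg.Lib.L43

open Subgroup Matrix

theorem mem_center_Γ {a : Γ} : a ∈ center Γ ↔ a = 1 ∨ a = ng := by
  constructor
  · intro h
    obtain ⟨r, hr, e⟩ := Matrix.SpecialLinearGroup.mem_center_iff.1 h
    rcases (by decide : ∀ r : F3, r ^ 4 = 1 → r = 1 ∨ r = -1) r (by simpa using hr) with rfl | rfl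
    · exact Or.inl (Subtype.ext (e.symm.trans (map_one _)))
    · exact Or.inr (Subtype.ext (e.symm.trans (by decide)))
  · rintro (rfl | rfl)
    exacts [one_mem _, mem_center_iff.2 fun g => (ng_comm g).symm]

theorem pCore_SL33 : pCore 3 SL33 = ⊥ := by
  have h1 : center SL33 = ⊥ := eq_bot_iff.2 fun a h => by
    obtain ⟨r, hr, e⟩ := Matrix.SpecialLinearGroup.mem_center_iff.1 h
    obtain rfl := (by decide : ∀ r : F3, r ^ 3 = 1 → r = 1) r (by simpa using hr)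
    exact Subtype.ext (e.symm.trans (map_one _))
  have := Class.PSL_isSimpleGroup (ι := Fin 3) (F := F3) (by simp)
  have : IsSimpleGroup SL33 :=
    ((QuotientGroup.quotientMulEquivOfEq h1).trans QuotientGroup.quotientBot).symm.isSimpleGroup
  refine (inferInstance : (pCore 3 SL33).Normal).eq_bot_or_eq_top.resolve_right fun e => ?_
  obtain ⟨k, hk⟩ := IsPGroup.iff_card.1 (Solv.pCore_isPGroup 3 SL33)
  rw [e, card_top, Class.card_SL_fin_three (q := 3) (by simp)] at hk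
  have := Nat.prime_two.dvd_of_dvd_pow (hk ▸ (by norm_num) : 2 ∣ 3 ^ k)
  omega

theorem Pt_succ {g : Γ} (hg : g ∈ Pt) (i : Fin 3) : g i.succ 0 = 0 := by
  fin_cases i
  exacts [hg.1, hg.2.1, hg.2.2]

/-- The Levi quotient of the parabolic subgroup. -/
def low : Pt →* SL33 := MonoidHom.mk' (fun g => ⟨Matrix.of fun i j => g.1 0 0 * g.1 i.succ j.succ, by
    have hd := d16_ent g.1
    obtain ⟨h1, h2, h3⟩ := g.2
    simp only [h1, h2, h3, d16] at hd
    have := (by decide : ∀ c d : F3, c * d = 1 → c * c = 1) (g.1 0 0)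
      (g.1 1 1 * (g.1 2 2 * g.1 3 3 - g.1 2 3 * g.1 3 2) -
        g.1 1 2 * (g.1 2 1 * g.1 3 3 - g.1 2 3 * g.1 3 1) +
        g.1 1 3 * (g.1 2 1 * g.1 3 2 - g.1 2 2 * g.1 3 1)) (by linear_combination hd)
    rw [det_fin_three]
    simp only [of_apply, Fin.succ_zero_eq_one, Fin.succ_one_eq_two, Fin.reduceSucc]
    linear_combination g.1 0 0 * g.1 0 0 * hd + this⟩) fun a b => Subtype.ext (by
  ext i j
  change (∑ k, a.1 0 k * b.1 k 0) * (∑ k, a.1 i.succ k * b.1 k j.succ) =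
    ∑ k : Fin 3, a.1 0 0 * a.1 i.succ k.succ * (b.1 0 0 * b.1 k.succ j.succ)
  simp only [Fin.sum_univ_succ (n := 3), Pt_succ a.2, Pt_succ b.2, mul_zero, zero_mul,
    Finset.sum_const_zero, add_zero, zero_add, Finset.mul_sum]
  exact Finset.sum_congr rfl fun _ _ => by ring)

theorem low_apply (g : Pt) (i j : Fin 3) : low g i j = g.1 0 0 * g.1 i.succ j.succ := rfl

theorem low_surjective : Function.Surjective low := fun m =>
  ⟨⟨mk 1 0 0 0 0 (m 0 0) (m 0 1) (m 0 2) 0 (m 1 0) (m 1 1) (m 1 2) 0 (m 2 0) (m 2 1) (m 2 2) (by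
    have := m.2
    rw [det_fin_three] at this
    simp only [d16]
    linear_combination this), rfl, rfl, rfl⟩, Subtype.ext (by
    ext i j
    rw [low_apply]
    fin_cases i <;> fin_cases j <;> exact one_mul _)⟩

theorem low_eq_one (g : Pt) : low g = 1 ↔ g.1 ∈ V1 ∨ ng * g.1 ∈ V1 := by
  obtain ⟨g, h1, h2, h3⟩ := g
  have k : ∀ i j, (low ⟨g, h1, h2, h3⟩ i j = (1 : SL33) i j) =
    (g 0 0 * g i.succ j.succ = (1 : Matrix _ _ F3) i j) := fun _ _ => rfl
  rw [Matrix.SpecialLinearGroup.ext_iff]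
  change _ ↔ g ∈ V1 ∨ ng * g ∈ V1
  conv_rhs => rw [eq_mk g]
  simp only [k, Fin.forall_fin_succ, h1, h2, h3, ng, mk_mul, mem_V1, uu, mk_inj]
  simp only [Fin.succ_zero_eq_one, Fin.succ_one_eq_two, Fin.reduceSucc]
  generalize g 0 0 = a, g 1 1 = a11, g 1 2 = a12, g 1 3 = a13, g 2 1 = a21, g 2 2 = a22,
    g 2 3 = a23, g 3 1 = a31, g 3 2 = a32, g 3 3 = a33
  rcases (by decide : ∀ a : F3, a = 0 ∨ a = 1 ∨ a = -1) a with rfl | rfl | rfl <;>
    simp [show (-1 : F3) ≠ 1 by decide, and_assoc]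

theorem core_of {X : Type*} [Group X] [Finite X] (f : Pt →* X) (hf : Function.Surjective f)
    (hk : ∀ a : Pt, f a = 1 ↔ a.1 = 1 ∨ a.1 = ng) :
    Nat.card (pCore 3 X) = 27 ∧ Nonempty (X ⧸ pCore 3 X ≃* SL33) := by
  let l : X →* SL33 := f.liftOfSurjective hf ⟨low, fun a ha => (low_eq_one a).2 (by
    rcases (hk a).1 ha with e | e <;> rw [e]
    exacts [Or.inl (one_mem _), Or.inr (ng_mul_ng ▸ one_mem _)])⟩
  have hl : ∀ a, l (f a) = low a := fun a => f.liftOfRightInverse_comp_apply _ _ _ a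
  have hs : Function.Surjective l := fun m => by
    obtain ⟨a, rfl⟩ := low_surjective m
    exact ⟨f a, hl a⟩
  have hV := V1_le_Qm.trans Qm_le_Um
  have hc : Nat.card l.ker = 27 := by
    rw [← card_V1]
    refine (Nat.card_eq_of_bijective (fun a : V1 => (⟨f ⟨a, Um_le_Pt (hV a.2)⟩,
      (hl _).trans ((low_eq_one _).2 (Or.inl a.2))⟩ : l.ker)) ⟨fun a b e => ?_, ?_⟩).symm
    · have := (hk _).1 ((map_mul f _ _).trans
        ((congrArg _ (map_inv f _)).trans (mul_inv_eq_one.2 (congrArg Subtype.val e))))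
      exact Subtype.ext (mul_inv_eq_one.1 (this.resolve_right fun e' =>
        ng_notMem_Um (e' ▸ hV (mul_mem a.2 (inv_mem b.2)))))
    · rintro ⟨x, hx⟩
      obtain ⟨a, rfl⟩ := hf x
      rcases (low_eq_one a).1 ((hl a).symm.trans hx) with e | e
      · exact ⟨⟨a, e⟩, rfl⟩
      · exact ⟨⟨_, e⟩, Subtype.ext ((map_mul f ⟨ng, ng_mem_Pt⟩ a).trans (by
          rw [(hk _).2 (Or.inr rfl), one_mul]))⟩
  have e := Solv.comap_pCore_of_ker (p := 3) l hs (IsPGroup.of_card (n := 3) hc)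
  rw [pCore_SL33, MonoidHom.comap_bot] at e
  exact ⟨e ▸ hc, ⟨(QuotientGroup.quotientMulEquivOfEq e.symm).trans
    (QuotientGroup.quotientKerEquivOfSurjective l hs)⟩⟩

/-- An element outside the parabolic subgroup. -/
def w0 : Γ := mk 0 (-1) 0 0 1 0 0 0 0 0 1 0 0 0 0 1 (by decide)

theorem exists_w0 {g : Γ} (hg : g ∉ Pt) : ∃ b ∈ Pt, (b * w0)⁻¹ * g ∈ Pt := by
  obtain ⟨c1, c2, c3, d1, d2, d3, h⟩ := (by decide +kernel : ∀ v1 v2 v3 : F3,
    ¬ (v1 = 0 ∧ v2 = 0 ∧ v3 = 0) → ∃ c1 c2 c3 d1 d2 d3 : F3,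
      d16 1 0 0 0 0 v1 c1 d1 0 v2 c2 d2 0 v3 c3 d3 = 1) _ _ _ hg
  let b := mk 1 (g 0 0) 0 0 0 (g 1 0) c1 d1 0 (g 2 0) c2 d2 0 (g 3 0) c3 d3 (by
    simp only [d16] at h ⊢; linear_combination h)
  have e : ∀ j, (b * w0) j 0 = g j 0 := fun j => by
    simp only [b, w0, mk_mul, mk_apply]
    fin_cases j <;> simp
  have k : ∀ i, ((b * w0)⁻¹ * g) i 0 = (1 : Γ) i 0 := fun i => by
    rw [← inv_mul_cancel (b * w0)]
    change ∑ j, (b * w0)⁻¹ i j * g j 0 = ∑ j, (b * w0)⁻¹ i j * (b * w0) j 0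
    simp only [e]
  exact ⟨b, ⟨rfl, rfl, rfl⟩, k 1, k 2, k 3⟩

theorem isCoatom_Pt : IsCoatom Pt := by
  refine ⟨fun e => absurd (e ▸ mem_top w0 : w0 ∈ Pt).1 (by decide), fun H hH => ?_⟩
  obtain ⟨g, hg, hg'⟩ := SetLike.exists_of_lt hH
  obtain ⟨b, hb, e⟩ := exists_w0 hg'
  have hw : w0 ∈ H := by
    have := mul_mem (inv_mem (hH.le hb)) (mul_mem hg (inv_mem (hH.le e)))
    simpa [mul_assoc] using this
  refine eq_top_iff.2 fun x _ => by_contra fun hx => hx ?_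
  obtain ⟨b', hb', e'⟩ := exists_w0 fun e' => hx (hH.le e')
  have := mul_mem (mul_mem (hH.le hb') hw) (hH.le e')
  rwa [mul_inv_cancel_left] at this

variable {G : Type*} [Group G] [Finite G] {φ : Γ → G} {Γ0 : Subgroup Γ}

theorem Md.concl (h : Md φ Γ0) (hs : ∀ g, ∃ a ∈ Γ0, φ a = g) :
    Nonempty (G ≃* Matrix.ProjectiveSpecialLinearGroup (Fin 4) (ZMod 3)) ∨
    ∃ (P : Subgroup (Matrix.ProjectiveSpecialLinearGroup (Fin 4) (ZMod 3))),
      IsCoatom P ∧ Nat.card (Cfsg.pCore 3 P) = 27 ∧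
      Nonempty (P ⧸ Cfsg.pCore 3 P ≃* Matrix.SpecialLinearGroup (Fin 3) (ZMod 3)) ∧
      Nonempty (G ≃* P) := by
  let π := QuotientGroup.mk' (center Γ)
  let f := (π.comp Γ0.subtype).rangeRestrict
  have hk : ∀ a : Γ0, f a = 1 ↔ a.1 = 1 ∨ a.1 = ng := fun a =>
    Subtype.ext_iff.trans ((QuotientGroup.eq_one_iff a.1).trans mem_center_Γ)
  have e : G ≃* (π.comp Γ0.subtype).range :=
    (QuotientGroup.quotientKerEquivOfSurjective h.hom fun g => by
      obtain ⟨a, ha, e⟩ := hs g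
      exact ⟨⟨a, ha⟩, e⟩).symm.trans ((QuotientGroup.quotientMulEquivOfEq
        (Subgroup.ext fun a : Γ0 => (h.ker a a.2).trans (hk a).symm)).trans
      (QuotientGroup.quotientKerEquivOfSurjective f (MonoidHom.rangeRestrict_surjective _)))
  have hπ : Function.Surjective π := QuotientGroup.mk'_surjective _
  have hr : (π.comp Γ0.subtype).range = Γ0.map π := by
    rw [MonoidHom.range_comp, range_subtype]
  rcases h.cases with ⟨rfl, -⟩ | rfl
  · obtain ⟨h1, h2⟩ := core_of f (MonoidHom.rangeRestrict_surjective _) hk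
    refine Or.inr ⟨_, ?_, h1, h2, ⟨e⟩⟩
    have h3 : (Pt.map π).comap π = Pt := comap_map_eq_self fun a ha => by
      rcases mem_center_Γ.1 ((QuotientGroup.eq_one_iff a).1 ha) with rfl | rfl
      exacts [one_mem _, ng_mem_Pt]
    rw [hr]
    refine ⟨fun e' => isCoatom_Pt.1 (by rw [← h3, e', comap_top]), fun H hH => ?_⟩
    rw [← map_comap_eq_self_of_surjective hπ H, isCoatom_Pt.2 (H.comap π) (by
      rw [← h3]; exact (comap_lt_comap_of_surjective hπ).2 hH), map_top_of_surjective _ hπ]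
  · exact Or.inl ⟨e.trans ((MulEquiv.subgroupCongr (hr.trans (map_top_of_surjective _ hπ))).trans
      topEquiv)⟩

end Cfsg.Lib.L43
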