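import Cfsg.Agent.Recog.L43Orb
import Cfsg.Agent.Solv.CoprimeGen
import Cfsg.Agent.S0242

/-!
The facts on fusion of the model of `L₄(3)`.
-/

set_option autoImplicit false

namespace Cfsg.Lib.L43

open Subgroup Matrix Cfsg.Lib.Block
open scoped commutatorElement

/-! ## Computations in the model -/

theorem card_Γ : Nat.card Γ = 12130560 := by
  have := Agent.S0242.result (F := ZMod 3) (ZMod.card 3) 4 (by norm_num)
  rw [show ∏ i : Fin 4, (3 ^ 4 - 3 ^ (i : ℕ)) = (3 - 1) * 12130560 by decide] at this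
  exact Nat.eq_of_mul_eq_mul_left (by norm_num) this

theorem f3_sq : ∀ {a : F3}, a ≠ 0 → a * a = 1 := by decide

theorem z0_zpow (n : ℤ) : z0 ^ n = uu 0 0 n 0 0 0 := by
  induction n using Int.induction_on with
  | zero => simp [uu_zero]
  | succ n ih => rw [_root_.zpow_add_one, ih]; simp [z0, uu_mul]
  | pred n ih => rw [_root_.zpow_sub_one, ih]; simp [z0, uu_mul, uu_inv, sub_eq_add_neg]

theorem pow_nine_of_mem {b : Γ} (hb : b ∈ Um) : b ^ 9 = 1 := by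
  obtain ⟨_, _, _, _, _, _, rfl⟩ := hb
  rw [show 9 = 3 * 3 from rfl, pow_mul, uu_cube, uu_cube]
  simp [uu_zero]

theorem Jm_comm {a b : Γ} (ha : a ∈ Jm) (hb : b ∈ Jm) : a * b = b * a := by
  obtain ⟨_, _, _, _, rfl⟩ := ha
  obtain ⟨_, _, _, _, rfl⟩ := hb
  simp [uu_mul, add_comm]

theorem uu_comm {a b c d e f a' b' c' d' e' f' : F3}
    (h : uu a b c d e f * uu a' b' c' d' e' f' = uu a' b' c' d' e' f' * uu a b c d e f) :
    a * d' = a' * d ∧ a * e' + b * f' = a' * e + b' * f ∧ d * f' = d' * f := by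
  rw [uu_mul, uu_mul, uu_inj] at h
  exact ⟨by linear_combination h.2.1, by linear_combination h.2.2.1,
    by linear_combination h.2.2.2.2.1⟩

/-- `Jm` is the only abelian subgroup of order `81` of `Um`. -/
theorem eq_Jm {A : Subgroup Γ} (hA : A ≤ Um) (hc : ∀ a ∈ A, ∀ b ∈ A, a * b = b * a)
    (h81 : Nat.card A = 81) : A = Jm := by
  refine eq_of_le_of_card_ge (fun s hs => ?_) (by rw [h81, card_Jm])
  by_contra h0
  obtain ⟨a, b, c, d, e, f, rfl⟩ := hA hs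
  rw [uu_mem_Jm] at h0
  have key : ∀ i j k l m n : Fin 4, (∀ a1 b1 c1 d1 e1 f1 a2 b2 c2 d2 e2 f2,
      uu a1 b1 c1 d1 e1 f1 ∈ A → uu a2 b2 c2 d2 e2 f2 ∈ A →
      uu a1 b1 c1 d1 e1 f1 i j = uu a2 b2 c2 d2 e2 f2 i j →
      uu a1 b1 c1 d1 e1 f1 k l = uu a2 b2 c2 d2 e2 f2 k l →
      uu a1 b1 c1 d1 e1 f1 m n = uu a2 b2 c2 d2 e2 f2 m n →
      a1 = a2 ∧ b1 = b2 ∧ c1 = c2 ∧ d1 = d2 ∧ e1 = e2 ∧ f1 = f2) → False := by
    intro i j k l m n h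
    have := Nat.card_le_card_of_injective (fun g : A => (g.1 i j, g.1 k l, g.1 m n))
      fun ⟨g, hg⟩ ⟨g', hg'⟩ e => by
        obtain ⟨a1, b1, c1, d1, e1, f1, rfl⟩ := hA hg
        obtain ⟨a2, b2, c2, d2, e2, f2, rfl⟩ := hA hg'
        simp only [Prod.mk.injEq] at e
        exact Subtype.ext ((uu_inj ..).2 (h _ _ _ _ _ _ _ _ _ _ _ _ hg hg' e.1 e.2.1 e.2.2))
    simp [h81] at this
  by_cases h1 : ∀ a' b' c' d' e' f', uu a' b' c' d' e' f' ∈ A → a' * f = a * f'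
  · by_cases ha : a = 0
    · subst ha
      have hf := f3_sq (not_and.1 h0 rfl)
      refine key 2 3 1 3 0 3 fun a1 b1 c1 d1 e1 f1 a2 b2 c2 d2 e2 f2 m1 m2 k1 k2 k3 => ?_
      obtain rfl : f1 = f2 := k1
      obtain rfl : e1 = e2 := k2
      obtain ⟨-, p2, p3⟩ := uu_comm (hc _ hs _ m1)
      obtain ⟨-, q2, q3⟩ := uu_comm (hc _ hs _ m2)
      have r1 : a1 = 0 := by linear_combination f * h1 _ _ _ _ _ _ m1 - a1 * hf
      have r2 : a2 = 0 := by linear_combination f * h1 _ _ _ _ _ _ m2 - a2 * hf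
      subst r1 r2
      exact ⟨rfl, by linear_combination f * q2 - f * p2 - (b1 - b2) * hf, k3,
        by linear_combination f * q3 - f * p3 - (d1 - d2) * hf, rfl, rfl⟩
    · have ha := f3_sq ha
      refine key 0 1 0 2 0 3 fun a1 b1 c1 d1 e1 f1 a2 b2 c2 d2 e2 f2 m1 m2 k1 k2 k3 => ?_
      obtain rfl : a1 = a2 := k1
      obtain rfl : b1 = b2 := k2
      obtain ⟨p1, p2, -⟩ := uu_comm (hc _ hs _ m1)
      obtain ⟨q1, q2, -⟩ := uu_comm (hc _ hs _ m2)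
      obtain rfl : f1 = f2 := by
        linear_combination a * h1 _ _ _ _ _ _ m2 - a * h1 _ _ _ _ _ _ m1 - (f1 - f2) * ha
      exact ⟨rfl, rfl, k3, by linear_combination a * p1 - a * q1 - (d1 - d2) * ha,
        by linear_combination a * p2 - a * q2 - (e1 - e2) * ha, rfl⟩
  push Not at h1
  obtain ⟨a', b', c', d', e', f', hs', h1⟩ := h1
  have h2 := f3_sq (sub_ne_zero.2 h1)
  refine key 0 1 2 3 0 3 fun a1 b1 c1 d1 e1 f1 a2 b2 c2 d2 e2 f2 m1 m2 k1 k2 k3 => ?_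
  obtain rfl : a1 = a2 := k1
  obtain rfl : f1 = f2 := k2
  obtain ⟨p1, p2, -⟩ := uu_comm (hc _ hs _ m1)
  obtain ⟨q1, q2, -⟩ := uu_comm (hc _ hs _ m2)
  obtain ⟨-, r2, r3⟩ := uu_comm (hc _ hs' _ m1)
  obtain ⟨-, s2, s3⟩ := uu_comm (hc _ hs' _ m2)
  obtain ⟨t1, -, -⟩ := uu_comm (hc _ hs' _ m1)
  obtain ⟨u1, -, -⟩ := uu_comm (hc _ hs' _ m2)
  exact ⟨rfl,
    by linear_combination (a' * f - a * f') * (a * (r2 - s2) - a' * (p2 - q2)) - (b1 - b2) * h2, k3,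
    by linear_combination (a' * f - a * f') * (f * (t1 - u1) - f' * (p1 - q1)) - (d1 - d2) * h2,
    by linear_combination (a' * f - a * f') * (f * (r2 - s2) - f' * (p2 - q2)) - (e1 - e2) * h2,
    rfl⟩

theorem row_of_z0 {g : Γ} {c : F3} (h : g * z0 = uu 0 0 c 0 0 0 * g) (hc : c ≠ 0) :
    g 1 0 = 0 ∧ g 2 0 = 0 ∧ g 3 0 = 0 ∧ g 3 1 = 0 ∧ g 3 2 = 0 := by
  have hc := f3_sq hc
  rw [eq_mk g] at h
  simp only [z0, uu, mk_mul, mk_inj] at h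
  obtain ⟨-, e1, e2, -, -, -, -, e7, -, -, -, e11, -, -, -, e15⟩ := h
  exact ⟨by linear_combination e7, by linear_combination e11, by linear_combination e15,
    by linear_combination -c * e1 - g 3 1 * hc, by linear_combination -c * e2 - g 3 2 * hc⟩

theorem conj_mem_V2 {a j : Γ} (ha : a * z0 = z0 * a) (hj : j ∈ V2) : a * j * a⁻¹ ∈ V2 := by
  have hb : a⁻¹ * z0 = z0 * a⁻¹ := (show Commute a z0 from ha).inv_left
  have hab := mul_inv_cancel a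
  generalize a⁻¹ = b at hb hab
  obtain ⟨c, d, e, rfl⟩ := hj
  rw [eq_mk a, eq_mk b] at hab ⊢
  obtain ⟨-, -, h1, h2, h3⟩ := row_of_z0 ha one_ne_zero
  obtain ⟨-, -, k1, k2, k3⟩ := row_of_z0 hb one_ne_zero
  simp only [h1, h2, h3, k1, k2, k3, one_eq_mk, mk_mul, mk_inj] at hab
  obtain ⟨e0, e1, e2, -, e4, e5, e6, -, e8, e9, e10, -, -, -, -, e15⟩ := hab
  simp only [mem_V2, h1, h2, h3, k1, k2, k3, uu, mk_mul, mk_inj]
  refine ⟨_, _, _, ?_, ?_, ?_, rfl, ?_, ?_, ?_, rfl, ?_, ?_, ?_, rfl, ?_, ?_, ?_, ?_⟩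
  exacts [by linear_combination e0, by linear_combination e1, by linear_combination e2,
    by linear_combination e4, by linear_combination e5, by linear_combination e6,
    by linear_combination e8, by linear_combination e9, by linear_combination e10,
    by ring, by ring, by ring, by linear_combination e15]

theorem mem_of_diag {g : Γ} (h1 : g 1 0 = 0 ∧ g 2 0 = 0 ∧ g 3 0 = 0 ∧ g 3 1 = 0 ∧ g 3 2 = 0)
    (h2 : g 2 1 = 0 ∧ g 1 1 = g 0 0 ∧ g 2 2 = g 0 0 ∧ g 3 3 = g 0 0) :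
    ∃ s : F3, s ≠ 0 ∧ (g = uu (s * g 0 1) (s * g 0 2) (s * g 0 3) (s * g 1 2) (s * g 1 3)
      (s * g 2 3) ∨ g = ng * uu (s * g 0 1) (s * g 0 2) (s * g 0 3) (s * g 1 2) (s * g 1 3)
      (s * g 2 3)) := by
  obtain ⟨a1, a2, a3, a4, a5⟩ := h1
  obtain ⟨b1, b2, b3, b4⟩ := h2
  have hd := d16_ent g
  simp only [d16, a1, a2, a3, a4, a5, b1, b2, b3, b4] at hd
  rcases (by decide : ∀ x : F3, x * x * x * x = 1 → x = 1 ∨ x = -1) (g 0 0)
    (by linear_combination hd) with e | e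
  · refine ⟨1, one_ne_zero, Or.inl ((eq_mk g).trans ?_)⟩
    simp [uu, mk_inj, a1, a2, a3, a4, a5, b1, b2, b3, b4, e]
  · refine ⟨-1, by decide, Or.inr ((eq_mk g).trans ?_)⟩
    simp [uu, ng, mk_mul, mk_inj, a1, a2, a3, a4, a5, b1, b2, b3, b4, e]

theorem mem_Jm_of_comm {g : Γ} (h1 : g * z0 = z0 * g)
    (h2 : g * uu 0 1 0 0 0 0 = uu 0 1 0 0 0 0 * g) (h3 : g * y0 = y0 * g) :
    ∃ j ∈ Jm, g = j ∨ g = ng * j := by
  have h4 := row_of_z0 h1 one_ne_zero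
  rw [eq_mk g] at h1 h2 h3
  simp only [z0, y0, uu, mk_mul, mk_inj] at h1 h2 h3
  obtain ⟨-, -, -, e3, -⟩ := h1
  obtain ⟨-, f1, f2, f3, -⟩ := h2
  obtain ⟨-, -, -, k3, -, -, -, k7, -⟩ := h3
  obtain ⟨s, -, h⟩ := mem_of_diag h4 ⟨by linear_combination -f1, by linear_combination k7 - e3,
    by linear_combination -f2, by linear_combination -e3⟩
  refine ⟨_, uu_mem_Jm.2 ⟨?_, ?_⟩, h⟩
  exacts [by linear_combination s * k3, by linear_combination -s * f3]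

set_option synthInstance.maxSize 1024 in
theorem mem_Qm_of_comm {g : Γ} {δ a b c e f : F3} (h1 : g * z0 = uu 0 0 δ 0 0 0 * g) (hδ : δ ≠ 0)
    (h0 : a * e + b * f ≠ 0) (h2 : g * uu a b c 0 e f = uu a b c 0 e f * g) :
    ∃ q ∈ Qm, g = q ∨ g = ng * q := by
  have h4 := row_of_z0 h1 hδ
  have hd := d16_ent g
  rw [eq_mk g] at h2
  obtain ⟨a1, a2, a3, a4, a5⟩ := id h4
  simp only [d16, uu, mk_mul, mk_inj, a1, a2, a3, a4, a5] at h2 hd
  obtain ⟨-, e1, e2, -, -, -, -, e7, -, -, -, e11, -⟩ := h2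
  obtain ⟨k1, k2, k3, k4, k5⟩ := (by decide +kernel : ∀ a b e f : F3, a * e + b * f ≠ 0 →
    ∀ x p r : F3, x * a = a * p + b * r → ∀ q w : F3, x * b = a * q + b * w → ∀ y : F3,
      p * e + q * f = e * y → r * e + w * f = f * y → x * (p * w - q * r) * y = 1 →
      q = 0 ∧ r = 0 ∧ p = x ∧ w = x ∧ y = x) a b e f h0 (g 0 0) (g 1 1) (g 2 1)
    (by linear_combination e1) (g 1 2) (g 2 2) (by linear_combination e2) (g 3 3)
    (by linear_combination e7) (by linear_combination e11) (by linear_combination hd)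
  obtain ⟨s, -, h⟩ := mem_of_diag h4 ⟨k2, k3, k4, k5⟩
  exact ⟨_, uu_mem_Qm.2 (by rw [k1, mul_zero]), h⟩

theorem mem_NJ_of {g j : Γ} (hg : g ∈ Pt) (hj : j ∈ Jm) (h : g * x0 * g⁻¹ = j) : g ∈ NJ := by
  obtain ⟨b, c, d, e, rfl⟩ := hj
  rw [mul_inv_eq_iff_eq_mul, eq_mk g] at h
  simp only [x0, uu, mk_mul, mk_inj] at h
  obtain ⟨-, -, -, -, -, -, -, -, -, -, e10, -, -, -, e14, -⟩ := h
  exact ⟨hg.2.1, by linear_combination e10, hg.2.2, by linear_combination e14⟩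

theorem comm_Qm {a b : Γ} (ha : a ∈ Qm) (hb : b ∈ Qm) : ∃ c, ⁅a, b⁆ = uu 0 0 c 0 0 0 := by
  obtain ⟨a, b, c, e, f, rfl⟩ := ha
  obtain ⟨a', b', c', e', f', rfl⟩ := hb
  refine ⟨a * e' + b * f' - a' * e - b' * f, ?_⟩
  rw [commutatorElement_def, uu_inv, uu_inv, uu_mul, uu_mul, uu_mul, uu_inj]
  refine ⟨?_, ?_, ?_, ?_, ?_, ?_⟩ <;> ring

/-! ## Facts in the group -/

variable {G : Type*} [Group G] [Finite G] {φ : Γ → G} {Γ0 : Subgroup Γ}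

theorem syl_of {p : ℕ} [Fact p.Prime] {T H : Subgroup G} (h1 : T ≤ H) (hT : IsPGroup p T)
    (h : ∀ Q : Subgroup G, IsPGroup p Q → T ≤ Q → Q ≤ H → Q ≤ normalizer (T : Set G) → Q ≤ T) :
    IsSylowIn p T H := by
  refine isSylowIn_of_maximal hT h1 fun Q hQ h2 h3 => ?_
  by_contra h4
  have h5 := lt_inf_normalizer_of_lt hQ (lt_of_le_of_ne h2 fun e => h4 e.symm)
  exact h5.not_ge (h _ hQ.to_inf_left h5.le (inf_le_left.trans h3) inf_le_right)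

omit [Finite G] in
theorem conj_mem {A : Subgroup G} {g a : G} (hg : g ∈ normalizer (A : Set G)) (ha : a ∈ A) :
    g * a * g⁻¹ ∈ A := (mem_normalizer_iff.1 hg a).1 ha

theorem mem_norm {A : Subgroup G} {g : G} (h : ∀ a ∈ A, g * a * g⁻¹ ∈ A) :
    g ∈ normalizer (A : Set G) := mem_normalizer_fintype h

namespace Md

variable (h : Md φ Γ0)
include h

omit [Finite G] in
theorem conj_eq {a u u' : Γ} (ha : a ∈ Γ0) (hu : u ∈ Um) (hu' : u' ∈ Um)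
    (e : φ a * φ u * (φ a)⁻¹ = φ u') : a * u * a⁻¹ = u' :=
  h.eq_of_cube (mul_mem (mul_mem ha (h.Um_le hu)) (inv_mem ha)) (h.Um_le hu')
    (by rw [conj_pow, pow_nine_of_mem hu]; group) (pow_nine_of_mem hu')
    ((h.map_conj ha (h.Um_le hu)).trans e)

omit [Finite G] in
theorem mem_zpowers_z {g : G} : g ∈ zpowers (φ z0) ↔ ∃ c, g = φ (uu 0 0 c 0 0 0) := by
  refine ⟨fun ⟨n, e⟩ => ⟨n, by rw [← z0_zpow, h.map_zpow (a := z0) (h.uu_mem ..)]; exact e.symm⟩, ?_⟩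
  rintro ⟨c, rfl⟩
  obtain ⟨n, rfl⟩ := ZMod.intCast_surjective c
  exact ⟨n, by rw [← z0_zpow, h.map_zpow (a := z0) (h.uu_mem ..)]⟩

omit [Finite G] in
theorem z_ne_one : φ z0 ≠ 1 := fun e =>
  absurd ((h.eq_iff_uu (uu_mem_Um ..) Um.one_mem).1 (e.trans h.map_one.symm)) (by decide)

omit [Finite G] in
theorem nz (g : G) (hg : g * φ z0 * g⁻¹ ∈ zpowers (φ z0)) : ∃ a ∈ Pt, φ a = g := by
  obtain ⟨c, e⟩ := h.mem_zpowers_z.1 hg
  rcases (by decide : ∀ c : F3, c = 0 ∨ c = 1 ∨ c = -1) c with rfl | rfl | rfl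
  · rw [uu_zero, h.map_one, mul_inv_eq_one, mul_eq_left] at e
    exact absurd e h.z_ne_one
  · exact h.cz g (mul_inv_eq_iff_eq_mul.1 e)
  obtain ⟨a, ha, e'⟩ := h.cz (φ τ0 * g) (by
    rw [← mul_inv_eq_iff_eq_mul, _root_.mul_inv_rev, mul_assoc (φ τ0), mul_assoc (φ τ0),
      ← mul_assoc (g * _), e, ← mul_assoc, ← h.map_conj (h.le τ0_mem_Pt) (h.uu_mem ..), τ0_conj]
    simp [z0])
  refine ⟨τ0⁻¹ * a, mul_mem (inv_mem τ0_mem_Pt) ha, ?_⟩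
  rw [h.mul _ (inv_mem (h.le τ0_mem_Pt)) _ (h.le ha), e', h.map_inv (h.le τ0_mem_Pt),
    inv_mul_cancel_left]

omit [Finite G] in
theorem pgroup_im {H : Subgroup Γ} (hH : H ≤ Um) : IsPGroup 3 (h.im H) := fun g => by
  obtain ⟨a, ha, e⟩ := (h.mem_im (hH.trans h.Um_le)).1 g.2
  refine ⟨2, Subtype.ext ?_⟩
  rw [coe_pow, ← e, ← h.map_pow (h.Um_le (hH ha)), show 3 ^ 2 = 9 from rfl, pow_nine_of_mem (hH ha),
    h.map_one, coe_one]

theorem syl : IsSylowIn 3 (h.im Um) ⊤ := by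
  refine syl_of le_top (h.pgroup_im le_rfl) fun Q hQ h1 _ h2 => ?_
  have h3 : Q ≤ h.hom.range := fun y hy => by
    obtain ⟨u, hu, e⟩ := (h.mem_im h.Um_le).1
      (conj_mem (h2 hy) (h.mem_im_of h.Um_le (show z0 ∈ Um from uu_mem_Um ..)))
    have h4 : ∀ v ∈ Um, v * u = u * v := fun v hv => by
      obtain ⟨w, hw, e'⟩ := (h.mem_im h.Um_le).1 (conj_mem (inv_mem (h2 hy)) (h.mem_im_of h.Um_le hv))
      have h5 : w * z0 = z0 * w := by
        obtain ⟨_, _, _, _, _, _, rfl⟩ := hw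
        simp [z0, uu_mul, add_comm]
      have h6 := (h.comm_iff (h.Um_le hw) (show z0 ∈ Um from uu_mem_Um ..)).2 h5
      rw [← h.comm_iff (h.Um_le hv) hu, e]
      calc _ = y * (φ w * φ z0) * y⁻¹ := by rw [e']; group
        _ = _ := by rw [h6, e']; group
    obtain ⟨a, b, c, d, e', f, rfl⟩ := hu
    obtain ⟨p1, p2, -⟩ := uu_comm (h4 _ (uu_mem_Um 1 0 0 0 0 0))
    obtain ⟨q1, -, q3⟩ := uu_comm (h4 _ (uu_mem_Um 0 0 0 1 0 0))
    obtain ⟨-, r2, -⟩ := uu_comm (h4 _ (uu_mem_Um 0 0 0 0 0 1))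
    obtain rfl : a = 0 := by linear_combination -q1
    obtain rfl : f = 0 := by linear_combination q3
    obtain rfl : d = 0 := by linear_combination p1
    obtain rfl : e' = 0 := by linear_combination p2
    obtain rfl : b = 0 := by linear_combination -r2
    obtain ⟨a, ha, e⟩ := h.nz y (h.mem_zpowers_z.2 ⟨c, e.symm⟩)
    exact ⟨⟨a, h.le ha⟩, e⟩
  obtain ⟨m, hm⟩ := IsPGroup.iff_card.1 hQ
  have h4 := ((card_dvd_of_le h3).trans (card_range_dvd _)).trans Γ0.card_subgroup_dvd_card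
  rw [hm, card_Γ] at h4
  have h5 : m ≤ 6 := by
    by_contra h5
    exact absurd ((pow_dvd_pow 3 (not_le.1 h5)).trans h4) (by decide)
  refine (eq_of_le_of_card_ge h1 ?_).ge
  rw [h.card_im le_rfl, card_Um, hm]
  exact Nat.pow_le_pow_right (by norm_num) h5

omit [Finite G] in
theorem J_comm {a b : G} (ha : a ∈ h.im Jm) (hb : b ∈ h.im Jm) : a * b = b * a := by
  obtain ⟨a, ha', rfl⟩ := (h.mem_im (Jm_le_Um.trans h.Um_le)).1 ha
  obtain ⟨b, hb', rfl⟩ := (h.mem_im (Jm_le_Um.trans h.Um_le)).1 hb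
  exact (h.comm_iff (h.Um_le (Jm_le_Um ha')) (Jm_le_Um hb')).2 (Jm_comm ha' hb')

omit [Finite G] in
/-- `J` is weakly closed in the Sylow subgroup. -/
theorem wc {g : G} (hg : (h.im Jm).map (MulAut.conj g).toMonoidHom ≤ h.im Um) :
    g ∈ normalizer (h.im Jm : Set G) := by
  rw [← map_conj_eq_self_iff]
  have h1 := card_map_conj (h.im Jm) g
  have h2 : ∀ a ∈ (h.im Jm).map (MulAut.conj g).toMonoidHom,
      ∀ b ∈ (h.im Jm).map (MulAut.conj g).toMonoidHom, a * b = b * a := by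
    rintro _ ⟨a, ha, rfl⟩ _ ⟨b, hb, rfl⟩
    rw [← _root_.map_mul, h.J_comm ha hb, _root_.map_mul]
  generalize (h.im Jm).map (MulAut.conj g).toMonoidHom = B at hg h1 h2
  let A := Um ⊓ (B.comap h.hom).map Γ0.subtype
  have h3 : ∀ a ∈ A, φ a ∈ B := by
    rintro _ ⟨-, a, ha, rfl⟩
    exact ha
  have h4 : h.im A = B := le_antisymm (fun g hg => by
    obtain ⟨a, ha, rfl⟩ := (h.mem_im (inf_le_left.trans h.Um_le)).1 hg
    exact h3 a ha) fun b hb => by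
    obtain ⟨a, ha, rfl⟩ := (h.mem_im h.Um_le).1 (hg hb)
    exact h.mem_im_of (inf_le_left.trans h.Um_le) ⟨ha, ⟨a, h.Um_le ha⟩, hb, rfl⟩
  rw [← h4, eq_Jm (A := A) inf_le_left (fun a ha b hb =>
    (h.comm_iff (h.Um_le ha.1) hb.1).1 (h2 _ (h3 a ha) _ (h3 b hb)))
    (by rw [← h.card_im inf_le_left, h4, h1, h.card_im Jm_le_Um, card_Jm])]

omit [Finite G] in
theorem J_le_cent {j : Γ} (hj : j ∈ Jm) {g : G} :
    (h.im Jm).map (MulAut.conj g).toMonoidHom ≤ centralizer {g * φ j * g⁻¹} := by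
  rw [← map_conj_centralizer_singleton]
  exact map_mono fun a ha => mem_centralizer_singleton_iff.2
    (h.J_comm ha (h.mem_im_of (Jm_le_Um.trans h.Um_le) hj))

theorem fus {j j' : Γ} (hj : j ∈ Jm) (hj' : j' ∈ Jm) (hc : IsConj (φ j) (φ j')) :
    ∃ n ∈ normalizer (h.im Jm : Set G), n * φ j * n⁻¹ = φ j' := by
  obtain ⟨g, hg⟩ := isConj_iff.1 hc
  have h1 := h.J_le_cent hj' (g := 1)
  rw [map_conj_one, one_mul, inv_one, mul_one] at h1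
  obtain ⟨R, hR, h2⟩ := exists_isSylowIn_ge (h.pgroup_im Jm_le_Um) h1
  obtain ⟨c, hc, h3⟩ := hR.exists_conj_le ((h.pgroup_im Jm_le_Um).map _) (hg ▸ h.J_le_cent hj)
  obtain ⟨x, -, h4⟩ := h.syl.exists_conj_le hR.isPGroup le_top
  have h5 := (map_mono h3).trans h4
  rw [map_conj_map_conj, map_conj_map_conj] at h5
  refine ⟨c * g, by simpa [mul_assoc] using mul_mem (inv_mem (h.wc ((map_mono h2).trans h4))) (h.wc h5),
    ?_⟩
  calc _ = c * (g * φ j * g⁻¹) * c⁻¹ := by group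
    _ = _ := by rw [hg, mem_centralizer_singleton_iff.1 hc, mul_inv_cancel_right]

theorem norm_J {a : Γ} (ha : a ∈ Γ0) (ha' : a ∈ NJ) : φ a ∈ normalizer (h.im Jm : Set G) :=
  mem_norm fun g hg => by
    obtain ⟨j, hj, rfl⟩ := (h.mem_im (Jm_le_Um.trans h.Um_le)).1 hg
    rw [← h.map_conj ha (h.Um_le (Jm_le_Um hj))]
    exact h.mem_im_of (Jm_le_Um.trans h.Um_le) (conj_mem_Jm ha' hj)

theorem nJ (g : G) (hg : g ∈ normalizer (h.im Jm : Set G)) : ∃ a ∈ Γ0, a ∈ NJ ∧ φ a = g := by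
  have hJ := Jm_le_Um.trans h.Um_le
  obtain ⟨j, hj, e⟩ := (h.mem_im hJ).1
    (conj_mem hg (h.mem_im_of hJ (show z0 ∈ Jm from uu_mem_Jm.2 ⟨rfl, rfl⟩)))
  have h1 : ∀ a ∈ Γ0, IsConj (φ z0) (φ (a * j * a⁻¹)) := fun a ha =>
    (isConj_iff.2 ⟨g, e.symm⟩).trans (isConj_iff.2 ⟨φ a, (h.map_conj ha (hJ hj)).symm⟩)
  obtain ⟨a, ha, ha', h2⟩ : ∃ a ∈ Γ0, a ∈ NJ ∧ a * j * a⁻¹ = z0 := by
    obtain ⟨b, c, d, e', rfl⟩ := hj
    by_cases h0 : b * e' - c * d = 0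
    swap
    · obtain ⟨a, ha, -, h2⟩ := conj_u0 h0
      have := h.zt _ (show u0 _ ∈ Qm from uu_mem_Qm.2 rfl) (h2 ▸ h1 a (h.le ha))
      rw [u0, uu_mem_V1, uu_mem_V2] at this
      exact this.elim (fun h => absurd h.2.1 h0) fun h => absurd h.2.1 one_ne_zero
    by_cases h3 : d = 0 ∧ e' = 0
    · obtain ⟨rfl, rfl⟩ := h3
      obtain ⟨a, ha, h4⟩ := conj_z0 (b := b) (c := c) (by
        rintro ⟨rfl, rfl⟩
        rw [uu_zero, h.map_one, eq_comm, mul_inv_eq_one, mul_eq_left] at e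
        exact h.z_ne_one e)
      exact ⟨a, h.le ha, h4⟩
    obtain ⟨a, ha, h4, h5⟩ := conj_y0 h0 h3
    rcases h.cases with h6 | h6
    · exact absurd (h5 ▸ h1 a (h.le ha)) h6.2
    obtain ⟨a', h7, h8⟩ := conj_y0_z0
    exact ⟨a' * a, h6 ▸ mem_top _, mul_mem h7 h4, by rw [← h8, ← h5]; group⟩
  obtain ⟨b, hb, h3⟩ := h.cz (φ a * g) (by
    rw [← mul_inv_eq_iff_eq_mul]
    conv_rhs => rw [← h2, h.map_conj ha (hJ hj), e]
    group)
  have hx : x0 ∈ Jm := uu_mem_Jm.2 ⟨rfl, rfl⟩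
  obtain ⟨j', hj', h4⟩ := (h.mem_im hJ).1
    (conj_mem (h3 ▸ mul_mem (h.norm_J ha ha') hg) (h.mem_im_of hJ hx))
  refine ⟨a⁻¹ * b, mul_mem (inv_mem ha) (h.le hb), mul_mem (inv_mem ha')
    (mem_NJ_of hb hj' (h.conj_eq (h.le hb) (Jm_le_Um hx) (Jm_le_Um hj') h4.symm)), ?_⟩
  rw [h.mul _ (inv_mem ha) _ (h.le hb), h3, h.map_inv ha, inv_mul_cancel_left]

omit [Finite G] in
theorem cube_Q {q : Γ} (hq : q ∈ Qm ∨ q ∈ Jm) : φ q ^ 3 = 1 := by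
  rcases hq with ⟨_, _, _, _, _, rfl⟩ | ⟨_, _, _, _, rfl⟩ <;>
    simp [← h.map_pow (h.uu_mem ..), uu_cube, uu_zero, h.map_one]

omit [Finite G] in
theorem sig_z {R : Subgroup G} (hR : (Nat.card R).Coprime 3)
    (hn : ∀ j ∈ Jm, φ j ∈ normalizer (R : Set G)) {r : G} (hr : r ∈ R) (e : r * φ z0 = φ z0 * r) :
    r = 1 := by
  have h1 : ∀ r ∈ R, r ^ 3 = 1 → r = 1 := fun r hr e => orderOf_eq_one_iff.1
    (Nat.eq_one_of_dvd_coprimes hR (orderOf_dvd_natCard _ hr) (orderOf_dvd_of_pow_eq_one e))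
  obtain ⟨g, hg, rfl⟩ := h.cz r e
  have hz := (h.comm_iff (h.le hg) (show z0 ∈ Um from uu_mem_Um ..)).1 e
  have h2 : ∀ j ∈ Jm, j ∈ Qm → g * j * g⁻¹ ∈ Qm → g * j = j * g := fun j hj hq hq' => by
    have hj' := h.Um_le (Jm_le_Um hj)
    have h3 := h.cube_Q (Or.inl (mul_mem hq' (inv_mem hq)))
    rw [← commutatorElement_def, h.map_comm (h.le hg) hj'] at h3
    rw [← h.comm_iff (h.le hg) (Jm_le_Um hj), ← commutatorElement_eq_one_iff_mul_comm]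
    refine h1 _ ?_ h3
    simpa only [commutatorElement_def, mul_assoc] using mul_mem hr (conj_mem (hn j hj) (inv_mem hr))
  obtain ⟨j, hj, h3⟩ := mem_Jm_of_comm hz
    (h2 _ (uu_mem_Jm.2 ⟨rfl, rfl⟩) (uu_mem_Qm.2 rfl)
      (V1_le_Qm (conj_mem_V1 hg (uu_mem_V1.2 ⟨rfl, rfl, rfl⟩))))
    (h2 _ (uu_mem_Jm.2 ⟨rfl, rfl⟩) (uu_mem_Qm.2 rfl)
      (V2_le_Qm (conj_mem_V2 hz (uu_mem_V2.2 ⟨rfl, rfl, rfl⟩))))
  refine h1 _ hr ?_
  rw [(h.eq_iff (h.le hg) (h.Um_le (Jm_le_Um hj))).2 h3, h.cube_Q (Or.inr hj)]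

theorem sig (R : Subgroup G) (hR : (Nat.card R).Coprime 3)
    (hn : ∀ j ∈ Jm, φ j ∈ normalizer (R : Set G)) : R = ⊥ := by
  have hV : V1 ⊓ Jm ≤ Um := inf_le_right.trans Jm_le_Um
  have hA : h.im (V1 ⊓ Jm) ≤ h.im Jm := h.im_mono inf_le_right
  have : IsMulCommutative (h.im (V1 ⊓ Jm)) :=
    ⟨⟨fun a b => Subtype.ext (h.J_comm (hA a.2) (hA b.2))⟩⟩
  have h9 : Nat.card (h.im (V1 ⊓ Jm)) = 9 := (h.card_im hV).trans
    ((card_of_param (s := ((V1 ⊓ Jm : Subgroup Γ) : Set Γ)) (fun p : F3 × F3 => uu 0 p.1 p.2 0 0 0)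
      (fun p q h => by simpa [uu_inj, Prod.ext_iff] using h) fun x => ⟨fun ⟨⟨a, b, c, e⟩, h2⟩ => by
        subst e
        obtain rfl := (uu_mem_Jm.1 h2).1
        exact ⟨(b, c), rfl⟩, by
        rintro ⟨p, rfl⟩
        exact ⟨uu_mem_V1.2 ⟨rfl, rfl, rfl⟩, uu_mem_Jm.2 ⟨rfl, rfl⟩⟩⟩).trans (by simp))
  refine le_bot_iff.1 (Solv.Coprime.le_of_forall_centralizer_singleton (A := h.im (V1 ⊓ Jm))
    (fun hc => ?_) (fun a ha => ?_) (by rw [h9]; exact (hR.pow_right 2).symm) fun a ha h1 r hr => ?_)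
  · obtain ⟨a, ha⟩ := isCyclic_iff_exists_orderOf_eq_natCard.1 hc
    obtain ⟨j, hj, e⟩ := (h.mem_im (hV.trans h.Um_le)).1 a.2
    have : a ^ 3 = 1 := Subtype.ext (by rw [coe_pow, ← e, h.cube_Q (Or.inr hj.2), coe_one])
    exact absurd (h9 ▸ ha ▸ orderOf_dvd_of_pow_eq_one this) (by decide)
  · obtain ⟨j, hj, rfl⟩ := (h.mem_im (hV.trans h.Um_le)).1 ha
    exact hn j hj.2
  obtain ⟨_, ⟨⟨a, b, c, rfl⟩, h2⟩, rfl⟩ := (h.mem_im (hV.trans h.Um_le)).1 ha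
  obtain rfl := (uu_mem_Jm.1 h2).1
  obtain ⟨n, h3, h4, h5⟩ := conj_z0 (b := b) (c := c) (by
    rintro ⟨rfl, rfl⟩
    exact h1 (by rw [uu_zero, h.map_one]))
  have := h.sig_z (R := R.map (MulAut.conj (φ n)).toMonoidHom) (by rwa [card_map_conj])
    (fun j hj => mem_norm fun x hx => by
      have h6 := conj_mem (hn _ (conj_mem_Jm (inv_mem h4) hj)) (mem_map_conj_iff.1 hx)
      rw [h.map_conj (inv_mem (h.le h3)) (h.Um_le (Jm_le_Um hj)), h.map_inv (h.le h3)] at h6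
      rw [mem_map_conj_iff]
      simpa [mul_assoc] using h6)
    (r := φ n * r * (φ n)⁻¹) ⟨r, hr.1, rfl⟩ (by
      rw [← h5, h.map_conj (h.le h3) (h.uu_mem ..), conj_mul, conj_mul,
        mem_centralizer_singleton_iff.1 hr.2])
  simpa using this

theorem cty (a b c e f : F3) (h0 : a * e + b * f ≠ 0) (j : Γ) (hj : j ∈ Jm) :
    ¬ IsConj (φ (uu a b c 0 e f)) (φ j) := fun hc => by
  have hq := uu_mem_Um a b c 0 e f
  have hD : Qm ⊓ centralizer {uu a b c 0 e f} ≤ Um := inf_le_left.trans Qm_le_Um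
  have h1 : ∀ q ∈ Qm, φ q ∈ centralizer {φ (uu a b c 0 e f)} →
      φ q ∈ h.im (Qm ⊓ centralizer {uu a b c 0 e f}) := fun q hq' e =>
    h.mem_im_of (hD.trans h.Um_le) ⟨hq', mem_centralizer_singleton_iff.2
      ((h.comm_iff (h.Um_le (Qm_le_Um hq')) hq).1 (mem_centralizer_singleton_iff.1 e))⟩
  have h2 : IsSylowIn 3 (h.im (Qm ⊓ centralizer {uu a b c 0 e f}))
      (centralizer {φ (uu a b c 0 e f)}) := by
    refine syl_of (fun g hg => ?_) (h.pgroup_im hD) fun Q _ _ h3 h4 n hn => ?_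
    · obtain ⟨q, hq', rfl⟩ := (h.mem_im (hD.trans h.Um_le)).1 hg
      exact mem_centralizer_singleton_iff.2 ((h.comm_iff (h.Um_le (hD hq')) hq).2
        (mem_centralizer_singleton_iff.1 hq'.2))
    have m1 : uu f (-e) 0 0 0 0 ∈ Qm ⊓ centralizer {uu a b c 0 e f} :=
      ⟨uu_mem_Qm.2 rfl, mem_centralizer_singleton_iff.2 (by
        rw [uu_mul, uu_mul, uu_inj]; refine ⟨?_, ?_, ?_, ?_, ?_, ?_⟩ <;> ring)⟩
    have m2 : uu 0 0 0 0 b (-a) ∈ Qm ⊓ centralizer {uu a b c 0 e f} :=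
      ⟨uu_mem_Qm.2 rfl, mem_centralizer_singleton_iff.2 (by
        rw [uu_mul, uu_mul, uu_inj]; refine ⟨?_, ?_, ?_, ?_, ?_, ?_⟩ <;> ring)⟩
    obtain ⟨q1, k1, e1⟩ := (h.mem_im (hD.trans h.Um_le)).1
      (conj_mem (h4 hn) (h.mem_im_of (hD.trans h.Um_le) m1))
    obtain ⟨q2, k2, e2⟩ := (h.mem_im (hD.trans h.Um_le)).1
      (conj_mem (h4 hn) (h.mem_im_of (hD.trans h.Um_le) m2))
    obtain ⟨δ, h5⟩ := comm_Qm k1.1 k2.1
    have h6 : ⁅uu f (-e) 0 0 0 0, uu 0 0 0 0 b (-a)⁆ = uu 0 0 (a * e + b * f) 0 0 0 := by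
      rw [commutatorElement_def, uu_inv, uu_inv, uu_mul, uu_mul, uu_mul, uu_inj]
      refine ⟨?_, ?_, ?_, ?_, ?_, ?_⟩ <;> ring
    have h7 : n * φ (uu 0 0 (a * e + b * f) 0 0 0) * n⁻¹ ∈ zpowers (φ z0) :=
      h.mem_zpowers_z.2 ⟨δ, by
        rw [← h5, ← h6, h.map_comm (h.uu_mem ..) (h.uu_mem ..),
          h.map_comm (h.Um_le (hD k1)) (h.Um_le (hD k2)), e1, e2, conjugate_commutatorElement]⟩
    have h8 : n * φ z0 * n⁻¹ ∈ zpowers (φ z0) := by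
      rcases (by decide : ∀ c : F3, c ≠ 0 → c = 1 ∨ c = -1) _ h0 with e | e <;> rw [e] at h7
      · exact h7
      · rw [show uu 0 0 (-1) 0 0 0 = z0⁻¹ by decide, h.map_inv (a := z0) (h.uu_mem ..),
          ← conj_inv] at h7
        exact inv_mem_iff.1 h7
    obtain ⟨g, hg, rfl⟩ := h.nz n h8
    obtain ⟨δ, h9⟩ := h.mem_zpowers_z.1 h8
    obtain ⟨q, hq', h10⟩ := mem_Qm_of_comm (mul_inv_eq_iff_eq_mul.1
      (h.conj_eq (h.le hg) (uu_mem_Um ..) (uu_mem_Um ..) h9)) (by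
        rintro rfl
        rw [uu_zero, h.map_one, mul_inv_eq_one, mul_eq_left] at h9
        exact h.z_ne_one h9) h0
      ((h.comm_iff (h.le hg) hq).1 (mem_centralizer_singleton_iff.1 (h3 hn)))
    have h11 := (h.eq_iff (h.le hg) (h.Um_le (Qm_le_Um hq'))).2 h10
    exact h11 ▸ h1 q hq' (h11 ▸ h3 hn)
  obtain ⟨g, hg⟩ := isConj_iff.1 hc.symm
  obtain ⟨x, -, h3⟩ := h2.exists_conj_le ((h.pgroup_im Jm_le_Um).map _) (hg ▸ h.J_le_cent hj)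
  rw [map_conj_map_conj] at h3
  rw [map_conj_eq_self_iff.2 (h.wc (h3.trans (h.im_mono hD)))] at h3
  have h4 := (h.mem_im_uu hD (uu_mem_Um 0 0 0 1 0 0)).1
    (h3 (h.mem_im_of (Jm_le_Um.trans h.Um_le) (uu_mem_Jm.2 ⟨rfl, rfl⟩)))
  exact one_ne_zero (uu_mem_Qm.1 h4.1)

theorem md2 : Md2 φ Γ0 :=
  ⟨h, h.syl, h.nz, h.nJ, fun j hj j' hj' hc => by
    obtain ⟨n, hn, e⟩ := h.fus hj hj' hc
    obtain ⟨a, ha, ha', rfl⟩ := h.nJ n hn
    exact ⟨a, ha, ha', h.conj_eq ha (Jm_le_Um hj) (Jm_le_Um hj') e⟩, h.sig, h.cty⟩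

end Md

end Cfsg.Lib.L43
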