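import Cfsg.Agent.Recog.L43Concl

/-!
Recognition of `L₄(3)`: the involutions of the model.
-/

set_option autoImplicit false

namespace Cfsg.Lib.L43

open Subgroup Matrix

/-- Square matrices of size four. -/
abbrev Mat4 := Matrix (Fin 4) (Fin 4) F3

/-- The determinant. -/
def dt (g : Mat4) : F3 := d16 (g 0 0) (g 0 1) (g 0 2) (g 0 3) (g 1 0) (g 1 1) (g 1 2) (g 1 3)
  (g 2 0) (g 2 1) (g 2 2) (g 2 3) (g 3 0) (g 3 1) (g 3 2) (g 3 3)

theorem det_eq_dt (g : Mat4) : det g = dt g := (congrArg det (eta16 g)).trans (det16 ..)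

/-- An element with square `-1`. -/
def s0 : Γ := mk 0 (-1) 0 0 1 0 0 0 0 0 0 (-1) 0 0 1 0 (by decide)
/-- An element of order five commuting with `s0`. -/
def b5 : Γ := mk 2 1 1 1 2 2 2 1 1 1 2 0 2 1 0 2 (by decide)
/-- An element interchanging the eigenspaces of `t0`. -/
def w1 : Γ := mk 0 1 0 0 1 0 0 0 0 0 0 1 0 0 1 0 (by decide)

theorem b5_s0 : b5 * s0 = s0 * b5 := by decide +kernel
theorem b5_pow : b5 ^ 5 = 1 := by decide +kernel
theorem b5_ne : ¬ (b5 = 1 ∨ b5 = ng) := by decide +kernel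
theorem w1_t0 : w1 * t0 = ng * (t0 * w1) := by decide +kernel

/-- Seeds for conjugating elements. -/
def seeds1 : List Mat4 := [!![1, 2, 0, 2; 1, 2, 2, 0; 1, 2, 1, 1; 0, 0, 1, 2],
  !![2, 1, 1, 0; 1, 1, 0, 0; 1, 2, 1, 2; 2, 1, 2, 1],
  !![0, 2, 1, 0; 1, 0, 0, 0; 1, 1, 1, 0; 0, 2, 1, 2],
  !![1, 1, 1, 0; 0, 2, 1, 0; 0, 0, 0, 1; 1, 0, 0, 0],
  !![0, 0, 0, 2; 1, 0, 0, 2; 0, 1, 1, 0; 0, 2, 0, 2],
  !![2, 1, 1, 0; 1, 0, 2, 0; 0, 1, 0, 1; 0, 0, 1, 2],
  !![0, 0, 1, 0; 1, 0, 2, 0; 1, 2, 0, 2; 1, 1, 1, 0],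
  !![0, 2, 0, 1; 1, 2, 1, 0; 0, 1, 0, 2; 1, 1, 1, 1]]

/-- Seeds for conjugating elements. -/
def seeds2 : List Mat4 := [!![2, 1, 0, 0; 0, 2, 0, 1; 2, 0, 0, 0; 0, 1, 1, 1],
  !![2, 0, 0, 0; 2, 1, 0, 0; 2, 1, 2, 1; 0, 0, 1, 0]]

/-- The certificate for conjugacy to `t0` or `s0`. -/
def Good (m : Mat4) : Prop :=
  (m * m = 1 → m = 1 ∨ m = ng.1 ∨ ∃ X ∈ seeds1, dt (X + m * (X * t0.1)) = 1) ∧
    (m * m = -1 → ∃ X ∈ seeds2, dt (X - m * (X * s0.1)) = 1)

instance (m : Mat4) : Decidable (Good m) := by unfold Good; infer_instance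

theorem good_all : ∀ a b c d x y u v : F3, (a * d - b * c) * (x * v - y * u) = 1 →
    Good !![a, 0, 0, b; 0, x, y, 0; 0, u, v, 0; c, 0, 0, d] ∧
      Good !![0, a, b, 0; x, 0, 0, y; u, 0, 0, v; 0, c, d, 0] := by
  decide +kernel

theorem Good.conj {a : Γ} (h : Good a.1) : (a * a = 1 → a = 1 ∨ a = ng ∨ IsConj t0 a) ∧
    (a * a = ng → IsConj s0 a) := by
  refine ⟨fun e => ?_, fun e => ?_⟩
  · have e' : a.1 * a.1 = 1 := congrArg Subtype.val e
    rcases h.1 e' with h1 | h1 | ⟨X, -, hX⟩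
    · exact Or.inl (Subtype.ext h1)
    · exact Or.inr (Or.inl (Subtype.ext h1))
    refine Or.inr (Or.inr (isConj_iff.2 ⟨⟨_, (det_eq_dt _).trans hX⟩,
      mul_inv_eq_iff_eq_mul.2 (Subtype.ext ?_)⟩))
    have e2 : t0.1 * t0.1 = 1 := congrArg Subtype.val t0_mul_t0
    change (X + a.1 * (X * t0.1)) * t0.1 = a.1 * (X + a.1 * (X * t0.1))
    rw [add_mul, mul_add, mul_assoc, mul_assoc, e2, ← mul_assoc a.1 a.1, e', mul_one, one_mul,
      add_comm]
  · have e' : a.1 * a.1 = -1 := (congrArg Subtype.val e).trans (by decide)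
    obtain ⟨X, -, hX⟩ := h.2 e'
    refine isConj_iff.2 ⟨⟨_, (det_eq_dt _).trans hX⟩, mul_inv_eq_iff_eq_mul.2 (Subtype.ext ?_)⟩
    have e2 : s0.1 * s0.1 = -1 := by decide +kernel
    change (X - a.1 * (X * s0.1)) * s0.1 = a.1 * (X - a.1 * (X * s0.1))
    rw [sub_mul, mul_sub, mul_assoc, mul_assoc, e2, ← mul_assoc a.1 a.1, e']
    simp [add_comm]

/-- Parameters of the centralizer of `t0`. -/
abbrev P8 := F3 × F3 × F3 × F3 × F3 × F3 × F3 × F3

/-- The determinant in the parameters. -/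
def dd (p : P8) : F3 := (p.1 * p.2.2.2.1 - p.2.1 * p.2.2.1) *
  (p.2.2.2.2.1 * p.2.2.2.2.2.2.2 - p.2.2.2.2.2.1 * p.2.2.2.2.2.2.1)

theorem card_dd : Nat.card {p : P8 // dd p = 1} = 1152 := by
  rw [Nat.card_eq_fintype_card]
  decide +kernel

/-- The elements commuting with `t0`. -/
def m1 (p : {p : P8 // dd p = 1}) : Γ := mk p.1.1 0 0 p.1.2.1 0 p.1.2.2.2.2.1 p.1.2.2.2.2.2.1 0
  0 p.1.2.2.2.2.2.2.1 p.1.2.2.2.2.2.2.2 0 p.1.2.2.1 0 0 p.1.2.2.2.1 (by
    have := p.2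
    simp only [d16, dd] at this ⊢
    linear_combination this)

theorem comm_t0_iff {g : Γ} : g * t0 = t0 * g ↔ ∃ p, g = m1 p := by
  constructor
  · intro h
    have hd := d16_ent g
    rw [eq_mk g] at h ⊢
    simp only [t0, mk_mul, mk_inj, mul_zero, zero_mul, add_zero, zero_add, mul_one, one_mul,
      mul_neg, neg_mul, true_and, and_true] at h
    have k : ∀ x : F3, (-x = x ↔ x = 0) ∧ (x = -x ↔ x = 0) := by decide
    simp only [k] at h
    obtain ⟨h1, h2, h3, h4, h5, h6, h7, h8⟩ := h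
    simp only [h1, h2, h3, h4, h5, h6, h7, h8, d16] at hd ⊢
    exact ⟨⟨(g 0 0, g 0 3, g 3 0, g 3 3, g 1 1, g 1 2, g 2 1, g 2 2), by
      simp only [dd]; linear_combination hd⟩, rfl⟩
  · rintro ⟨p, rfl⟩
    simp [m1, t0, mk_mul]

theorem card_cent_t0 : Nat.card (centralizer ({t0} : Set Γ)) = 1152 :=
  (card_of_param (s := (centralizer ({t0} : Set Γ) : Set Γ)) m1 (fun p q h => by
    simp only [m1, mk_inj] at h
    exact Subtype.ext (by simp [Prod.ext_iff, h])) fun _ =>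
      mem_centralizer_singleton_iff.trans comm_t0_iff).trans card_dd

/-- The elements commuting with `t0` up to sign. -/
def M0 : Subgroup Γ := subOf
  { carrier := {g | g * t0 = t0 * g ∨ g * t0 = ng * (t0 * g)}
    one_mem' := Or.inl (by simp)
    mul_mem' := fun {a b} ha hb => by
      have k : ∀ x y : Γ, x * (ng * y) = ng * (x * y) := fun x y => by
        rw [← mul_assoc, ← ng_comm, mul_assoc]
      rcases ha with ha | ha <;> rcases hb with hb | hb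
      · left; rw [mul_assoc, hb, ← mul_assoc, ha, mul_assoc]
      · right; rw [mul_assoc, hb, k, ← mul_assoc a, ha, mul_assoc]
      · right; rw [mul_assoc, hb, ← mul_assoc, ha, mul_assoc, mul_assoc]
      · left
        rw [mul_assoc, hb, k, ← mul_assoc a, ha, mul_assoc, ← mul_assoc ng, ng_mul_ng, one_mul,
          mul_assoc] }

theorem mem_M0 {g : Γ} : g ∈ M0 ↔ g * t0 = t0 * g ∨ g * t0 = ng * (t0 * g) := Iff.rfl

theorem mul_w1 {g : Γ} (h : g * t0 = ng * (t0 * g)) : g * w1 * t0 = t0 * (g * w1) := by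
  rw [mul_assoc, w1_t0, ← mul_assoc, ← ng_comm, mul_assoc, ← mul_assoc g, h, mul_assoc,
    ← mul_assoc ng, ng_mul_ng, one_mul, mul_assoc]

theorem card_M0 : Nat.card M0 = 2304 := by
  have h1 : (centralizer ({t0} : Set Γ)).relIndex M0 = 2 := relIndex_eq_two_iff.2
    ⟨w1, Or.inr w1_t0, fun b hb => by
      by_cases e : b ∈ centralizer ({t0} : Set Γ)
      · refine Or.inr ⟨e, fun e' => ?_⟩
        exact absurd (mem_centralizer_singleton_iff.1 ((mul_mem_cancel_left e).1 e'))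
          (by decide +kernel)
      · exact Or.inl ⟨mem_centralizer_singleton_iff.2 (mul_w1 (hb.resolve_left fun e' =>
          e (mem_centralizer_singleton_iff.2 e'))), e⟩⟩
  have h2 := Trans.card_mul_relIndex (T := centralizer ({t0} : Set Γ)) (H := M0)
    fun g hg => Or.inl (mem_centralizer_singleton_iff.1 hg)
  rw [h1, card_cent_t0] at h2
  exact h2.symm

theorem good_M0 {g : Γ} (h : g ∈ M0) : Good g.1 := by
  rcases h with h | h
  · obtain ⟨p, rfl⟩ := comm_t0_iff.1 h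
    exact (good_all _ _ _ _ _ _ _ _ p.2).1
  · obtain ⟨p, e⟩ := comm_t0_iff.1 (mul_w1 h)
    have e2 : g = m1 p * w1 := by
      rw [← e, mul_assoc, show w1 * w1 = 1 by decide +kernel, mul_one]
    have := (good_all _ _ _ _ _ _ _ _ p.2).2
    rw [e2, m1, w1, mk_mul]
    simpa [mk] using this

end Cfsg.Lib.L43
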