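import Cfsg.Agent.Recog.L43Defs

/-!
A four-dimensional symplectic representation of `SL₂(3)` over `𝔽₃` in which `-1` acts as `-1`.
-/

set_option autoImplicit false
set_option linter.unusedSectionVars false

namespace Cfsg.Lib.L43

open Subgroup Matrix Cfsg.Lib.Perm

/-- The space. -/
abbrev M4 := Fin 4 → F3

/-- Upper unitriangular generator. -/
def sU : SL23 := sl2mk 1 1 0 1 (by decide)
/-- Lower unitriangular generator. -/
def sV : SL23 := sl2mk 1 0 1 1 (by decide)

theorem ef_aux {R : Type*} [Ring R] {E F : R} (h3 : ∀ a : R, a + a + a = 0) (hE : E * E = 0)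
    (hF : F * F = 0) (hA : (1 + E) * (1 + F) * ((1 + E) * (1 + F)) = -1)
    (hB : (-((1 + E) * (1 - F)) - 1) * (-((1 + E) * (1 - F)) - 1) = 0) : E * F + F * E = 1 := by
  have hE' : ∀ a, E * (E * a) = 0 := fun a => by rw [← mul_assoc, hE, zero_mul]
  simp only [mul_add, add_mul, mul_sub, sub_mul, mul_neg, neg_mul, mul_one, one_mul, mul_assoc, hE,
    hF, hE', mul_zero] at hA hB
  have h1 : E * F + F * E + E * (F * E) - E = 1 := by
    linear_combination (norm := abel1) hB - hA - h3 1 - h3 E + h3 F + h3 F + h3 (E * F) +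
      h3 (E * F) + h3 (E * F) + h3 (F * E) + h3 (E * (F * E))
  have h2 := congrArg (E * ·) h1
  simp only [mul_add, mul_sub, hE, hE', mul_one, zero_add, add_zero, sub_zero] at h2
  rw [h2] at h1
  linear_combination (norm := abel1) h1

theorem sl2_mul_apply (x y : SL23) (i j : Fin 2) : (x * y) i j = x i 0 * y 0 j + x i 1 * y 1 j := by
  simp [Matrix.mul_apply, Fin.sum_univ_two]

/-- The representation. -/
structure Lin (B : M4 →ₗ[F3] M4 →ₗ[F3] F3) (σ : SL23 →* Module.End F3 M4) : Prop where
  alt : ∀ v, B v v = 0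
  nd : ∀ v, (∀ w, B v w = 0) → v = 0
  inv : ∀ g v w, B (σ g v) (σ g w) = B v w
  neg : σ (-1) = -1

theorem three_smul {M : Type*} [AddCommGroup M] [Module F3 M] (a : M) : a + a + a = 0 := by
  have : ((1 : F3) + 1 + 1) • a = 0 := by rw [show (1 : F3) + 1 + 1 = 0 by decide, zero_smul]
  simpa only [add_smul, one_smul] using this

theorem card_le_81 {ι : Type*} [AddCommGroup ι] [Finite ι] (L : ι →+ M4)
    (h : ∀ x, L x = 0 → x = 0) : Nat.card ι ≤ 81 := by
  have := Nat.card_le_card_of_injective L ((injective_iff_map_eq_zero L).2 h)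
  simpa using this

namespace Lin

variable {B : M4 →ₗ[F3] M4 →ₗ[F3] F3} {σ : SL23 →* Module.End F3 M4} (h : Lin B σ)
include h

theorem skew (v w : M4) : B v w = -B w v := by
  have := h.alt (v + w)
  simp only [map_add, LinearMap.add_apply, h.alt] at this
  linear_combination this

theorem quad {g : SL23} (hg : g ^ 3 = 1) : (σ g - 1) * (σ g - 1) = 0 := by
  set e := σ g - 1 with he
  have hσ : σ g = 1 + e := by rw [he]; abel
  have h3 : e * e * e = 0 := by
    have h1 : σ g * σ g * σ g = 1 := by rw [← map_mul, ← map_mul, ← pow_three', hg, map_one]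
    rw [hσ] at h1
    simp only [mul_add, add_mul, mul_one, one_mul] at h1
    linear_combination (norm := abel1) h1 - three_smul e - three_smul (e * e)
  have h3' : ∀ v, e (e (e v)) = 0 := fun v => DFunLike.congr_fun h3 v
  have h0 : ∀ v w, B (e v) w + B v (e w) + B (e v) (e w) = 0 := fun v w => by
    have := h.inv g v w
    rw [hσ] at this
    simp only [LinearMap.add_apply, Module.End.one_apply, map_add] at this
    linear_combination this
  have h2 : ∀ v w, B (e (e v)) w = -B (e (e w)) v := fun v w => by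
    have a1 := h0 (e v) w
    have a2 := h0 v (e w)
    have a3 := h0 (e (e v)) (e w)
    have a4 := h0 (e v) (e (e w))
    have a5 := h0 (e v) (e w)
    simp only [h3', map_zero, LinearMap.zero_apply] at a3 a4
    rw [h.skew (e (e w)) v]
    have a6 := h0 (e (e v)) w
    have a7 := h0 v (e (e w))
    simp only [h3', map_zero, LinearMap.zero_apply] at a6 a7
    linear_combination a1 - a2 - a6 + a7
  by_contra hne
  obtain ⟨v, hv⟩ : ∃ v, e (e v) ≠ 0 := by
    by_contra! hc
    exact hne (LinearMap.ext hc)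
  obtain ⟨w, hw⟩ : ∃ w, B (e (e v)) w ≠ 0 := by
    by_contra! hc
    exact hv (h.nd _ hc)
  have hvv : ∀ v, B (e (e v)) v = 0 := fun v => by
    have := h2 v v
    revert this
    generalize B (e (e v)) v = c
    revert c
    decide
  have ind : ∀ s t : F3, s • e (e v) + t • e (e w) = 0 → s = 0 ∧ t = 0 := fun s t e1 => by
    have a1 := congrArg (B · w) e1
    have a2 := congrArg (B · v) e1
    simp only [map_add, map_smul, LinearMap.add_apply, LinearMap.smul_apply, smul_eq_mul, hvv,
      map_zero, LinearMap.zero_apply, h2 w v] at a1 a2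
    exact ⟨(mul_eq_zero.1 (by linear_combination a1)).resolve_right hw,
      (mul_eq_zero.1 (by linear_combination -a2)).resolve_right hw⟩
  have := card_le_81 (ι := F3 × F3 × F3 × F3 × F3) (AddMonoidHom.mk' (fun x =>
    x.1 • v + x.2.1 • e v + x.2.2.1 • e w + (x.2.2.2.1 • e (e v) + x.2.2.2.2 • e (e w)))
    (fun x y => by simp only [Prod.fst_add, Prod.snd_add, add_smul]; abel)) (by
    rintro ⟨a, b, c, d, f⟩ e1
    simp only [AddMonoidHom.mk'_apply] at e1
    have a1 := congrArg (fun x => e (e x)) e1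
    simp only [map_add, map_smul, h3', map_zero, smul_zero, add_zero, smul_eq_zero, hv,
      or_false] at a1
    have a2 := congrArg e e1
    simp only [map_add, map_smul, h3', map_zero, smul_zero, add_zero, a1, zero_smul,
      zero_add] at a2
    obtain ⟨rfl, rfl⟩ := ind _ _ a2
    simp only [a1, zero_smul, zero_add] at e1
    obtain ⟨rfl, rfl⟩ := ind _ _ e1
    rw [a1]; rfl)
  simp at this

theorem adj {g : SL23} (hg : g ^ 3 = 1) (v w : M4) :
    B ((σ g - 1) v) w = -B v ((σ g - 1) w) := by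
  have h2 : ∀ v, (σ g - 1) ((σ g - 1) v) = 0 := fun v => DFunLike.congr_fun (h.quad hg) v
  set e := σ g - 1 with he
  have hσ : σ g = 1 + e := by rw [he]; abel
  have h0 : ∀ v w, B (e v) w + B v (e w) + B (e v) (e w) = 0 := fun v w => by
    have := h.inv g v w
    rw [hσ] at this
    simp only [LinearMap.add_apply, Module.End.one_apply, map_add] at this
    linear_combination this
  have a1 := h0 v (e w)
  simp only [h2, map_zero] at a1
  linear_combination h0 v w - a1

omit h in
/-- The nilpotent part of `sU`. -/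
def eU (σ : SL23 →* Module.End F3 M4) : Module.End F3 M4 := σ sU - 1

omit h in
/-- The nilpotent part of `sV`. -/
def eV (σ : SL23 →* Module.End F3 M4) : Module.End F3 M4 := σ sV - 1

omit h in
theorem σU : σ sU = 1 + eU σ := by rw [eU]; abel

omit h in
theorem σV : σ sV = 1 + eV σ := by rw [eV]; abel

theorem ee (v : M4) : eU σ (eU σ v) = 0 := DFunLike.congr_fun (h.quad (g := sU) (by decide)) v

theorem ff (v : M4) : eV σ (eV σ v) = 0 := DFunLike.congr_fun (h.quad (g := sV) (by decide)) v

theorem adjU (v w : M4) : B (eU σ v) w = -B v (eU σ w) := h.adj (g := sU) (by decide) v w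

theorem adjV (v w : M4) : B (eV σ v) w = -B v (eV σ w) := h.adj (g := sV) (by decide) v w

theorem ef_fe (v : M4) : eU σ (eV σ v) + eV σ (eU σ v) = v := by
  have hE : eU σ * eU σ = 0 := LinearMap.ext h.ee
  have hF : eV σ * eV σ = 0 := LinearMap.ext h.ff
  have h1 : σ (sV * sV) = 1 - eV σ := by
    rw [map_mul, σV]
    simp only [mul_add, add_mul, mul_one, one_mul, hF]
    linear_combination (norm := abel1) three_smul (eV σ)
  refine DFunLike.congr_fun (ef_aux three_smul hE hF ?_ ?_) v
  · rw [← σU, ← σV, ← map_mul, ← map_mul, ← h.neg]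
    congr 1
    decide
  · have := h.quad (g := -1 * (sU * (sV * sV))) (by decide)
    rwa [map_mul, h.neg, map_mul, h1, σU, show ∀ x : Module.End F3 M4, -1 * x = -x from
      fun x => neg_one_mul x] at this

theorem ef_of {a : M4} (ha : eU σ a = 0) : eU σ (eV σ a) = a := by
  simpa [ha] using h.ef_fe a

theorem act {a : M4} (ha : eU σ a = 0) (g : SL23) (s t : F3) :
    σ g (s • a + t • eV σ a) = (g 0 0 * s + g 0 1 * t) • a + (g 1 0 * s + g 1 1 * t) • eV σ a := by
  let H : Subgroup SL23 := subOf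
    { carrier := {g | ∀ s t : F3, σ g (s • a + t • eV σ a) =
        (g 0 0 * s + g 0 1 * t) • a + (g 1 0 * s + g 1 1 * t) • eV σ a}
      one_mem' := fun s t => by simp
      mul_mem' := fun {x y} hx hy s t => by
        rw [map_mul, Module.End.mul_apply, hy, hx]
        simp only [sl2_mul_apply]
        congr 2 <;> ring }
  have hU : sU ∈ H := fun s t => by
    rw [σU]
    simp [sU, sl2mk, ha, h.ef_of ha, add_smul]
    abel
  have hV : sV ∈ H := fun s t => by
    rw [σV]
    simp [sV, sl2mk, h.ff, add_smul]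
    abel
  have : H = ⊤ := Chev.closure_slE H fun i j hij c => by
    have : ∀ i j : Fin 2, i ≠ j → ∀ c : F3, (Chev.slE i j c : SL23) = sU ^ c.val ∨
        (Chev.slE i j c : SL23) = sV ^ c.val := by decide +kernel
    rcases this i j hij c with e | e <;> rw [e]
    exacts [H.pow_mem hU _, H.pow_mem hV _]
  exact (this ▸ mem_top g : g ∈ H) s t

theorem B_ker {a b : M4} (ha : eU σ a = 0) (hb : eU σ b = 0) : B a b = 0 := by
  rw [← h.ef_of hb, ← neg_neg (B a _), ← h.adjU, ha]; simp

theorem B_ff (a b : M4) : B (eV σ a) (eV σ b) = 0 := by rw [h.adjV, h.ff]; simp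

theorem B_symm (a b : M4) : B (eV σ a) b = B (eV σ b) a := by rw [h.adjV, ← h.skew]

theorem ind {a : M4} (ha : eU σ a = 0) (h0 : a ≠ 0) {s t : F3} (e : s • a + t • eV σ a = 0) :
    s = 0 ∧ t = 0 := by
  have a1 := congrArg (eU σ) e
  simp only [map_add, map_smul, ha, h.ef_of ha, smul_zero, zero_add, map_zero, smul_eq_zero, h0,
    or_false] at a1
  simpa [a1, h0] using e

theorem exists_iso {a : M4} (ha : eU σ a = 0) (h0 : a ≠ 0) (hi : B (eV σ a) a = 0) :
    ∃ b, eU σ b = 0 ∧ B (eV σ b) b = 0 ∧ B (eV σ a) b ≠ 0 := by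
  obtain ⟨v, hv⟩ : ∃ v, B (eV σ a) v ≠ 0 := by
    by_contra! hc
    exact h0 (by rw [← h.ef_of ha, h.nd _ hc, map_zero])
  rw [← h.ef_fe v, map_add, h.B_ff, add_zero] at hv
  have hb := h.ee (eV σ v)
  generalize eU σ (eV σ v) = b at hv hb
  refine ⟨b + (B (eV σ b) b * B (eV σ a) b) • a, by simp [ha, hb], ?_, by simpa [hi] using hv⟩
  simp only [map_add, map_smul, LinearMap.add_apply, LinearMap.smul_apply, smul_eq_mul, hi,
    h.B_symm b a]
  revert hv
  generalize B (eV σ b) b = x
  generalize B (eV σ a) b = y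
  revert x y
  decide

theorem ind4 {a b : M4} (ha : eU σ a = 0) (hb : eU σ b = 0) (hi : B (eV σ a) a = 0)
    (hi' : B (eV σ b) b = 0) (hab : B (eV σ a) b ≠ 0) {s t s' t' : F3}
    (e : s • a + t • eV σ a + (s' • b + t' • eV σ b) = 0) : s = 0 ∧ t = 0 ∧ s' = 0 ∧ t' = 0 := by
  have a1 := congrArg (B (eV σ a)) e
  have a2 := congrArg (B (eV σ b)) e
  have a3 := congrArg (B · a) e
  have a4 := congrArg (B · b) e
  simp only [map_add, map_smul, LinearMap.add_apply, LinearMap.smul_apply, smul_eq_mul, hi, hi',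
    h.B_ff, h.B_symm b a, h.B_ker ha hb, h.B_ker hb ha, h.alt, mul_zero, add_zero, zero_add,
    map_zero, LinearMap.zero_apply, mul_eq_zero, hab, or_false] at a1 a2 a3 a4
  exact ⟨a2, a4, a1, a3⟩

theorem span4 {a b : M4} (ha : eU σ a = 0) (hb : eU σ b = 0) (hi : B (eV σ a) a = 0)
    (hi' : B (eV σ b) b = 0) (hab : B (eV σ a) b ≠ 0) (v : M4) :
    ∃ s t s' t' : F3, v = s • a + t • eV σ a + (s' • b + t' • eV σ b) := by
  let L : F3 × F3 × F3 × F3 →+ M4 := AddMonoidHom.mk' (fun x =>
    x.1 • a + x.2.1 • eV σ a + (x.2.2.1 • b + x.2.2.2 • eV σ b))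
    (fun x y => by simp only [Prod.fst_add, Prod.snd_add, add_smul]; abel)
  have hL : Function.Injective L := (injective_iff_map_eq_zero L).2 fun x e => by
    obtain ⟨a1, a2, a3, a4⟩ := h.ind4 ha hb hi hi' hab e
    exact Prod.ext a1 (Prod.ext a2 (Prod.ext a3 a4))
  obtain ⟨x, rfl⟩ := (hL.bijective_of_nat_card_le (by simp)).2 v
  exact ⟨_, _, _, _, rfl⟩

theorem mem_span {a c : M4} (ha : eU σ a = 0) (h0 : a ≠ 0) (hi : B (eV σ a) a = 0)
    (hc : eU σ c = 0) (hac : B (eV σ a) c = 0) : ∃ s : F3, c = s • a := by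
  obtain ⟨b, hb, hi', hab⟩ := h.exists_iso ha h0 hi
  obtain ⟨s, t, s', t', rfl⟩ := h.span4 ha hb hi hi' hab c
  simp only [map_add, map_smul, ha, hb, h.ef_of ha, h.ef_of hb, smul_zero, zero_add] at hc
  obtain ⟨rfl, -, rfl, -⟩ := h.ind4 ha hb hi hi' hab (s := t) (t := 0) (s' := t') (t' := 0)
    (by simpa using hc)
  simp only [map_add, map_smul, smul_eq_mul, hi, zero_smul, add_zero, mul_zero, zero_add,
    mul_eq_zero, hab, or_false] at hac
  exact ⟨s, by simp [hac]⟩

end Lin

end Cfsg.Lib.L43
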