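import Cfsg.Agent.Recog.L43Split
import Cfsg.Agent.Recog.L43Concl
import Cfsg.Agent.Recog.L43Fus

/-!
The embedding of the parabolic subgroup.
-/

set_option autoImplicit false
set_option linter.unusedSectionVars false

namespace Cfsg.Lib.L43

open Subgroup Matrix Cfsg.Lib.Perm Cfsg.Lib.Mc3
open scoped commutatorElement

variable {G : Type*} [Group G] {Q V : Subgroup G} {z : G} {p : G → SL23} {φ : Γ → G}

theorem z0_mem_Pt : z0 ∈ Pt := uu_mem_Pt ..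

/-- The embedding of `Pt / ±1`. -/
structure Pm (Q : Subgroup G) (z : G) (φ : Γ → G) : Prop where
  mul : ∀ a ∈ Pt, ∀ b ∈ Pt, φ (a * b) = φ a * φ b
  ker : ∀ a ∈ Pt, φ a = 1 ↔ a = 1 ∨ a = ng
  z0 : φ z0 = z
  cz : ∀ g, g * z = z * g → ∃ a ∈ Pt, φ a = g
  mem : ∀ q ∈ Qm, φ q ∈ Q

namespace Pm

variable (h : Pm Q z φ)
include h

theorem map_one : φ 1 = 1 := (h.ker 1 Pt.one_mem).2 (Or.inl rfl)

/-- The homomorphism. -/
def hom : Pt →* G where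
  toFun a := φ a
  map_one' := h.map_one
  map_mul' a b := h.mul a a.2 b b.2

theorem map_inv {a : Γ} (ha : a ∈ Pt) : φ a⁻¹ = (φ a)⁻¹ := h.hom.map_inv ⟨a, ha⟩

theorem map_pow {a : Γ} (ha : a ∈ Pt) (n : ℕ) : φ (a ^ n) = φ a ^ n := h.hom.map_pow ⟨a, ha⟩ n

theorem map_conj {a b : Γ} (ha : a ∈ Pt) (hb : b ∈ Pt) :
    φ (a * b * a⁻¹) = φ a * φ b * (φ a)⁻¹ := by
  rw [h.mul _ (mul_mem ha hb) _ (inv_mem ha), h.mul _ ha _ hb, h.map_inv ha]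

theorem map_ng_mul {a : Γ} (ha : a ∈ Pt) : φ (ng * a) = φ a := by
  rw [h.mul _ ng_mem_Pt _ ha, (h.ker _ ng_mem_Pt).2 (Or.inr rfl), one_mul]

theorem eq_iff {a b : Γ} (ha : a ∈ Pt) (hb : b ∈ Pt) : φ a = φ b ↔ a = b ∨ a = ng * b := by
  rw [← mul_inv_eq_one, ← h.map_inv hb, ← h.mul _ ha _ (inv_mem hb),
    h.ker _ (mul_mem ha (inv_mem hb)), mul_inv_eq_one, mul_inv_eq_iff_eq_mul]

theorem eq_iff_uu {a b : Γ} (ha : a ∈ Um) (hb : b ∈ Um) : φ a = φ b ↔ a = b := by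
  rw [h.eq_iff (Um_le_Pt ha) (Um_le_Pt hb), or_iff_left]
  obtain ⟨_, _, _, _, _, _, rfl⟩ := ha
  obtain ⟨_, _, _, _, _, _, rfl⟩ := hb
  exact uu_ne_ng_mul _ _ _ _ _ _ _ _ _ _ _ _

theorem comm_iff {a b : Γ} (ha : a ∈ Pt) (hb : b ∈ Um) :
    φ a * φ b = φ b * φ a ↔ a * b = b * a := by
  have hb' := Um_le_Pt hb
  rw [← mul_inv_eq_iff_eq_mul, ← h.map_conj ha hb', ← mul_inv_eq_iff_eq_mul,
    h.eq_iff (mul_mem (mul_mem ha hb') (inv_mem ha)) hb', or_iff_left]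
  intro e
  have h1 := congrArg (· ^ 9) e
  have hc : Commute ng b := ng_comm b
  simp only [conj_pow, hc.mul_pow, pow_nine_of_mem hb, mul_one, mul_inv_cancel] at h1
  exact absurd h1 (by decide +kernel)

theorem map_z (c : F3) : φ (uu 0 0 c 0 0 0) = z ^ c.val := by
  rw [← h.z0, ← h.map_pow z0_mem_Pt, ← zpow_natCast, z0_zpow]
  simp

theorem comm_z {a : Γ} (ha : a ∈ Pt) (e : a * L43.z0 = L43.z0 * a) : φ a * z = z * φ a := by
  rw [← h.z0, ← h.mul _ ha _ z0_mem_Pt, e, h.mul _ z0_mem_Pt _ ha]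

end Pm

/-- `E₂₁(1)`. -/
def x1 : Γ := mk 1 0 0 0 0 1 0 0 0 1 1 0 0 0 0 1 (by decide)

theorem x1_conj (a b c e f : F3) : x1 * uu a b c 0 e f * x1⁻¹ = uu (a - b) b c 0 e (e + f) := by
  rw [mul_inv_eq_iff_eq_mul]; simp [x1, uu, mk_mul]

theorem x0_conj (a b c e f : F3) : x0 * uu a b c 0 e f * x0⁻¹ = uu a (b - a) c 0 (e + f) f := by
  rw [mul_inv_eq_iff_eq_mul]; simp [x0, uu_mul, add_comm]

variable [Finite G]

theorem Pm.conj_mem (h : Pm Q z φ) (v : VS Q V z) {a b c e f : F3} (hv : φ (uu a b c 0 e f) ∈ V) :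
    φ (uu a (b - a) c 0 (e + f) f) ∈ V ∧ φ (uu (a - b) b c 0 e (e + f)) ∈ V := by
  have h0 : x0 ∈ Pt := uu_mem_Pt ..
  have h1 : x1 ∈ Pt := ⟨rfl, rfl, rfl⟩
  rw [← x0_conj, ← x1_conj, h.map_conj h0 (uu_mem_Pt ..), h.map_conj h1 (uu_mem_Pt ..)]
  exact ⟨L43.conj_mem (v.norm _ (h.comm_z h0 (by decide +kernel))) hv,
    L43.conj_mem (v.norm _ (h.comm_z h1 (by decide +kernel))) hv⟩

theorem Pm.zt (h : Pm Q z φ) (l : LS Q z p) (q : Γ) (hq : q ∈ Qm) (hc : IsConj z (φ q)) :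
    q ∈ V1 ∨ q ∈ V2 := by
  by_cases hz : φ q ∈ zpowers z
  · obtain ⟨c, e⟩ := exists_pw l.z3 hz
    rw [← h.map_z, h.eq_iff_uu (Qm_le_Um hq) (uu_mem_Um ..)] at e
    exact Or.inl ⟨0, 0, c, e⟩
  obtain ⟨V, v, hV⟩ := l.exists_vs hc (h.mem q hq) hz
  obtain ⟨a, b, c, e, f, rfl⟩ := hq
  have key : ∀ {a' b' e' f' : F3}, φ (uu a' b' c 0 e' f') ∈ V →
      a * e' + b * f' = a' * e + b' * f := fun h1 =>
    (uu_comm ((h.comm_iff (uu_mem_Pt ..) (uu_mem_Um ..)).1 (v.comm _ hV _ h1))).2.1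
  have h1 := key (h.conj_mem v hV).1
  have h2 := key (h.conj_mem v hV).2
  have h3 := key (h.conj_mem v (h.conj_mem v hV).1).2
  rw [uu_mem_V1, uu_mem_V2]
  revert h1 h2 h3
  clear hV key hc hz
  revert a b e f
  decide +kernel

theorem LS.exists_pm (l : LS Q z p) : ∃ φ, Pm Q z φ := by
  classical
  obtain ⟨g, h1, h2⟩ := l.conj
  obtain ⟨V, v, -⟩ := l.exists_vs (isConj_iff.2 ⟨g, rfl⟩) h1 h2
  obtain ⟨b, hb, hk⟩ := v.basis
  obtain ⟨θ, hθ, hN⟩ := v.split l hb hk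
  let row : Γ → Fin 3 → F3 := fun g j => g 0 0 * g 0 j.succ
  have sq : ∀ a ∈ Pt, a 0 0 * a 0 0 = 1 := fun a ha => f3_sq fun e => by
    have hd := d16_ent a
    simp [d16, e, ha.1, ha.2.1, ha.2.2] at hd
  have row_mul : ∀ a c : Pt, row (a * c : Pt) = row a ᵥ* (low c).1 + row c := fun a c => by
    funext j
    change (∑ k, a.1 0 k * c.1 k 0) * (∑ k, a.1 0 k * c.1 k j.succ) =
      (∑ k : Fin 3, a.1 0 0 * a.1 0 k.succ * (c.1 0 0 * c.1 k.succ j.succ)) + c.1 0 0 * c.1 0 j.succ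
    simp only [Fin.sum_univ_succ (n := 3), Pt_succ c.2, mul_zero, Finset.sum_const_zero, add_zero,
      Fin.sum_univ_three]
    linear_combination (c.1 0 0 * c.1 0 j.succ) * sq a a.2
  let f : Pt →* G := MonoidHom.mk' (fun a => θ (low a) * b (row a)) fun a c => by
    rw [row_mul, hb.add, ← hθ, _root_.map_mul, _root_.map_mul]; group
  have hf : ∀ a, f a = θ (low a) * b (row a) := fun _ => rfl
  have fu : ∀ w : Fin 3 → F3, f ⟨uu (w 0) (w 1) (w 2) 0 0 0, uu_mem_Pt ..⟩ = b w := fun w => by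
    rw [hf, (low_eq_one _).2 (Or.inl ⟨_, _, _, rfl⟩), _root_.map_one, one_mul]
    congr 1
    funext j
    fin_cases j <;> exact one_mul _
  have fng : f ⟨ng, ng_mem_Pt⟩ = 1 := by
    rw [hf, (low_eq_one _).2 (Or.inr (by rw [ng_mul_ng]; exact V1.one_mem)), _root_.map_one, one_mul,
      ← hb.zero]
    congr 1
    funext j
    fin_cases j <;> exact mul_zero _
  have fz : f ⟨z0, z0_mem_Pt⟩ = z := (fu (Pi.single 2 1)).trans hk
  have fz' : ∀ c : F3, f ⟨uu 0 0 c 0 0 0, uu_mem_Pt ..⟩ ∈ zpowers z := fun c => by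
    rw [show f ⟨uu 0 0 c 0 0 0, uu_mem_Pt ..⟩ = b (c • Pi.single 2 1) from
      (by simp : _ = f ⟨_, _⟩).trans (fu _), hb.smul, hk]
    exact pow_mem (mem_zpowers z) _
  refine ⟨fun a => if ha : a ∈ Pt then f ⟨a, ha⟩ else 1, fun a ha c hc => ?_, fun a ha => ?_,
    by rw [dif_pos z0_mem_Pt, fz], fun g hg => ?_, fun q hq => ?_⟩
  · rw [dif_pos ha, dif_pos hc, dif_pos (mul_mem ha hc), ← _root_.map_mul]; rfl
  · rw [dif_pos ha]
    refine ⟨fun e => ?_, by rintro (rfl | rfl); exacts [_root_.map_one f, fng]⟩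
    have e1 : low ⟨a, ha⟩ = 1 := Subtype.ext (hb.mat_ext fun i => by
      rw [← hθ, eq_inv_of_mul_eq_one_left ((hf _).symm.trans e), inv_inv,
        v.comm _ (hb.mem' _) _ (hb.mem' _), mul_inv_cancel_right]
      simp)
    have key : ∀ c : Pt, c.1 ∈ V1 → f c = 1 → c.1 = 1 := by
      rintro ⟨_, hc⟩ ⟨x, y, w, rfl⟩ e2
      have := hb.inj _ ((fu ![x, y, w]).symm.trans e2)
      rw [uu_eq_one]
      exact ⟨congrFun this 0, congrFun this 1, congrFun this 2, rfl, rfl, rfl⟩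
    rcases (low_eq_one _).1 e1 with e2 | e2
    · exact Or.inl (key _ e2 e)
    · have := key (⟨ng, ng_mem_Pt⟩ * ⟨a, ha⟩) e2 (by rw [_root_.map_mul, fng, e, one_mul])
      exact Or.inr ((eq_inv_of_mul_eq_one_right this).trans ng_inv)
  · obtain ⟨s, w, rfl⟩ := hN g (v.norm g hg)
    obtain ⟨a, rfl⟩ := low_surjective s
    let c := a * ⟨uu ((w - row a) 0) ((w - row a) 1) ((w - row a) 2) 0 0 0, uu_mem_Pt ..⟩
    refine ⟨c, c.2, ?_⟩
    rw [dif_pos c.2, Subtype.coe_eta, _root_.map_mul, fu, hf, mul_assoc, ← hb.add, add_sub_cancel]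
  · have hq' := Um_le_Pt (Qm_le_Um hq)
    rw [dif_pos hq']
    refine v.faith _ ?_ fun u hu => ?_
    · rw [← fz, ← _root_.map_mul, ← _root_.map_mul]
      obtain ⟨a, b, c, e, f, rfl⟩ := hq
      congr 1
      exact Subtype.ext (by simp [z0, uu_mul, add_comm])
    · obtain ⟨w, rfl⟩ := (hb.mem u).1 hu
      obtain ⟨c, e⟩ := comm_Qm hq (uu_mem_Qm.2 rfl : uu (w 0) (w 1) (w 2) 0 0 0 ∈ Qm)
      have e2 : ∀ x y w (hx : x ∈ Pt) (hy : y ∈ Pt) (hw : w ∈ Pt), ⁅x, y⁆ = w →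
          ⁅f ⟨x, hx⟩, f ⟨y, hy⟩⁆ = f ⟨w, hw⟩ := by
        rintro x y _ hx hy hw rfl
        rw [← map_commutatorElement]
        rfl
      rw [← fu, e2 _ _ _ _ _ (uu_mem_Pt ..) e]
      exact fz' c

theorem Pm.md (h : Pm Q z φ) (l : LS Q z p) (hy : ¬ IsConj z (φ y0)) : Md φ Pt :=
  ⟨h.mul, h.ker, le_rfl, h.z0 ▸ h.cz, h.z0 ▸ h.zt l, Or.inl ⟨rfl, h.z0 ▸ hy⟩⟩

end Cfsg.Lib.L43
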