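import Cfsg.Agent.Recog.Hayden

/-!
A subgroup with a quotient `S₃` whose elements over three-cycles behave like a trivial
intersection set.
-/

set_option autoImplicit false

namespace Cfsg.Lib.L43

open Cfsg Subgroup Cfsg.Lib.Char Cfsg.Lib.Recog.P43

theorem order3_iff (σ : Equiv.Perm (Fin 3)) :
    orderOf σ = 3 ↔ Equiv.Perm.sign σ = 1 ∧ σ ≠ 1 := by
  have := Fact.mk Nat.prime_three
  rw [orderOf_eq_prime_iff]
  revert σ
  decide +kernel

theorem s3q' {K : Type*} [Group K] [Finite K] (M : Subgroup K) (π : M →* Equiv.Perm (Fin 3))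
    (hπ : Function.Surjective π)
    (ti : ∀ m : M, orderOf (π m) = 3 → ∀ g : K, g * m * g⁻¹ ∈ M → g ∈ M)
    {a : K} (ha : ∀ x, IsConj a x → x * x ∈ M) (hc : ∀ m : M, IsConj a (m : K) → π m = 1) :
    ∃ N : Subgroup K, N.Normal ∧ a ∈ N ∧ ∀ m : M, (m : K) ∈ N → orderOf (π m) ≠ 3 := by
  classical
  have := Fintype.ofFinite K
  let C : Subgroup K := (Equiv.Perm.sign.comp π).ker.map M.subtype
  have hCM : C ≤ M := map_subtype_le _
  have hC : ∀ m : M, (m : K) ∈ C ↔ Equiv.Perm.sign (π m) = 1 := fun m =>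
    ⟨fun ⟨x, hx, e⟩ => (Subtype.ext e : x = m) ▸ hx, fun h => ⟨m, h, rfl⟩⟩
  have hC' : ∀ c : C, Equiv.Perm.sign (π ⟨c, hCM c.2⟩) = 1 := fun c => (hC ⟨c, hCM c.2⟩).1 c.2
  obtain ⟨ω, hω1, hω3⟩ : ∃ ω : ℂˣ, ω ≠ 1 ∧ ω ^ 3 = 1 := by
    have hp := Complex.isPrimitiveRoot_exp 3 (by norm_num)
    refine ⟨(hp.isUnit (by norm_num)).unit, fun e => hp.ne_one (by norm_num) ?_, Units.ext ?_⟩
    · simpa using congrArg Units.val e
    · simpa using hp.pow_eq_one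
  have hmod : ∀ i j : ℕ, i % 3 = j % 3 → ω ^ i = ω ^ j := fun i j e => by
    rw [← pow_eq_pow_mod i hω3 |>.symm, e, ← pow_eq_pow_mod j hω3]
  obtain ⟨lam, hlam⟩ : ∃ lam : C →* ℂˣ, ∀ c : C, lam c = ω ^ (π ⟨c, hCM c.2⟩ 0).val :=
    ⟨MonoidHom.mk' (fun c => ω ^ (π ⟨c, hCM c.2⟩ 0).val) fun c d => by
      rw [← pow_add, show (⟨(c * d : C), hCM (c * d).2⟩ : M) = ⟨c, hCM c.2⟩ * ⟨d, hCM d.2⟩ from rfl,
        map_mul]
      exact hmod _ _ ((by decide +kernel : ∀ σ τ : Equiv.Perm (Fin 3), Equiv.Perm.sign σ = 1 →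
        Equiv.Perm.sign τ = 1 → ((σ * τ) 0).val % 3 = ((σ 0).val + (τ 0).val) % 3) _ _ (hC' c)
          (hC' d)), fun _ => rfl⟩
  have hl1 : ∀ c : C, lam c = 1 ↔ π ⟨c, hCM c.2⟩ = 1 := fun c => by
    refine ⟨fun e => ?_, fun e => by rw [hlam, e]; rfl⟩
    rw [hlam] at e
    rcases (by decide +kernel : ∀ σ : Equiv.Perm (Fin 3), Equiv.Perm.sign σ = 1 →
      σ = 1 ∨ (σ 0).val = 1 ∨ (σ 0).val = 2) _ (hC' c) with k | k | k
    · exact k
    · rw [k, pow_one] at e; exact absurd e hω1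
    · rw [k, pow_two] at e; exact absurd (eq_one_of_sq_cube e hω3) hω1
  have hl3 : ∀ c, lam c ^ 3 = 1 := fun c => by
    rw [hlam, ← pow_mul, mul_comm, pow_mul, hω3, one_pow]
  obtain ⟨p, hp⟩ := hπ (Equiv.swap 0 1)
  have hpC : (p : K) ∉ C := fun e => absurd (hp ▸ (hC p).1 e) (by decide)
  have hinv : ∀ c : C, ∃ h : (p : K) * c * (p : K)⁻¹ ∈ C, lam ⟨_, h⟩ = (lam c)⁻¹ := fun c => by
    have e : π (p * ⟨c, hCM c.2⟩ * p⁻¹) = (π ⟨c, hCM c.2⟩)⁻¹ := by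
      rw [map_mul, map_mul, map_inv, hp]
      exact (by decide +kernel : ∀ σ : Equiv.Perm (Fin 3), Equiv.Perm.sign σ = 1 →
        Equiv.swap 0 1 * σ * (Equiv.swap 0 1)⁻¹ = σ⁻¹) _ (hC' c)
    have e1 := (hC (p * ⟨c, hCM c.2⟩ * p⁻¹)).2 (by rw [e, Equiv.Perm.sign_inv, hC'])
    refine ⟨e1, ?_⟩
    rw [← map_inv lam, hlam, hlam]
    exact congrArg (fun σ : Equiv.Perm (Fin 3) => ω ^ (σ 0).val) (e.trans (map_inv π _).symm)
  have hN : ∀ c : C, lam c ≠ 1 → ∀ g : K, g * c * g⁻¹ ∈ M → g ∈ M := fun c hc =>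
    ti ⟨c, hCM c.2⟩ ((order3_iff _).2 ⟨hC' c, fun e => hc ((hl1 c).2 e)⟩)
  have hTI : ∀ c : C, lam c ≠ 1 → ∀ g : K, g * c * g⁻¹ ∈ C → g ∈ C ∨ g * (p : K)⁻¹ ∈ C := by
    intro c hc g hg
    have h1 := hN c hc g (hCM hg)
    rcases Int.units_eq_one_or (Equiv.Perm.sign (π ⟨g, h1⟩)) with e | e
    · exact Or.inl ((hC ⟨g, h1⟩).2 e)
    · exact Or.inr ((hC (⟨g, h1⟩ * p⁻¹)).2 (by
        rw [map_mul, map_inv, map_mul, e, hp]; decide))
  obtain ⟨b, hb⟩ := hπ (Equiv.swap 0 1 * Equiv.swap 0 2)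
  have hbC : (b : K) ∈ C := (hC b).2 (by rw [hb]; decide)
  obtain ⟨χ₁, χ₂, i1, i2, -, -, -, i3⟩ := exists_indFun_sub_one_eq C hpC lam (fun e => by
      have := DFunLike.congr_fun e ⟨b, hbC⟩
      rw [MonoidHom.inv_apply] at this
      have := (hl1 _).1 (eq_one_of_sq_cube (by nth_rewrite 1 [this]; simp) (hl3 ⟨b, hbC⟩))
      exact absurd (hb.symm.trans this) (by decide)) hinv hTI
  have hzero : ∀ y : K, (∀ (g : K) (hg : g * y * g⁻¹ ∈ C), lam ⟨_, hg⟩ = 1) → χ₁ y = χ₂ y + 1 := by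
    intro y hy
    have h6 := congrFun i3 y
    rw [indFun_eq_zero C _ (fun x hx => by simp [hy x hx])] at h6
    simp only [Pi.sub_apply] at h6
    linear_combination -h6
  have h7 := hzero 1 (fun g hg => by
    rw [show (⟨_, hg⟩ : C) = 1 from Subtype.ext (by simp), map_one])
  have h8 := hzero a (fun g hg => (hl1 _).2 (hc _ (isConj_iff.2 ⟨g, rfl⟩)))
  have h9 : pairSum a a (χ₁ - χ₂ - fun _ => 1) = 0 := pairSum_eq_zero a a (fun x y hx hy => by
    have := hzero (x * y) (fun g hg => ?_)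
    · simp [this]
    by_contra hne
    have hx' : IsConj a (g * x * g⁻¹) := hx.trans (isConj_iff.2 ⟨g, rfl⟩)
    have hy' : IsConj a (g * y * g⁻¹) := hy.trans (isConj_iff.2 ⟨g, rfl⟩)
    have e0 : g * (x * y) * g⁻¹ = g * x * g⁻¹ * (g * y * g⁻¹) := by group
    generalize g * x * g⁻¹ = x' at *
    generalize g * y * g⁻¹ = y' at *
    have a1 : x' ∈ M := hN _ hne x' (by
      convert M.mul_mem (M.mul_mem (ha _ hx') (ha _ hy')) (M.inv_mem (hCM hg)) using 1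
      change x' * (g * (x * y) * g⁻¹) * x'⁻¹ = _
      rw [e0]; group)
    have a2 : y' ∈ M := by
      have := M.mul_mem (M.inv_mem a1) (hCM hg)
      rwa [e0, inv_mul_cancel_left] at this
    refine hne ((hl1 _).2 ?_)
    rw [show (⟨(⟨_, hg⟩ : C), hCM hg⟩ : M) = ⟨x', a1⟩ * ⟨y', a2⟩ from Subtype.ext e0, map_mul,
      hc _ hx', hc _ hy', mul_one])
  rw [pairSum_sub, pairSum_sub, pairSum_irr a a i1, pairSum_irr a a i2,
    pairSum_irr a a isIrrCharacter_one, ← mul_sub, ← mul_sub] at h9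
  have hi : ((centralizer ({a} : Set K)).index : ℂ) ≠ 0 :=
    Nat.cast_ne_zero.2 index_ne_zero_of_finite
  have h10 := (mul_eq_zero.1 h9).resolve_left (mul_ne_zero hi hi)
  have n1 := i1.apply_one_ne_zero
  have n2 := i2.apply_one_ne_zero
  rw [h8, h7] at h10
  rw [h7] at n1
  field_simp at h10
  have h11 : (χ₂ a - χ₂ 1) ^ 2 = 0 := by linear_combination -h10
  have h12 := sub_eq_zero.1 (pow_eq_zero_iff two_ne_zero |>.1 h11)
  have := i1.charKer_normal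
  have := i2.charKer_normal
  refine ⟨charKer χ₁ ⊓ charKer χ₂, inferInstance, ⟨i1.mem_charKer_iff.2 (by rw [h8, h7, h12]),
    i2.mem_charKer_iff.2 h12⟩, fun m ⟨k1, k2⟩ hm => ?_⟩
  obtain ⟨m1, m2⟩ := (order3_iff _).1 hm
  have hmC := (hC m).2 m1
  have m3 : lam ⟨m, hmC⟩ ≠ 1 := fun e => m2 ((hl1 _).1 e)
  have h6 := congrFun i3 m
  have hgen : IsGeneralizedCharacter C ((fun c => (lam c : ℂ)) - fun _ => 1) :=
    (isIrrCharacter_monoidHom lam).isGeneralizedCharacter.sub isCharacter_one.isGeneralizedCharacter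
  have h1p : (1 : K) ≠ p := fun e => hpC (e ▸ C.one_mem)
  rw [indFun_eq_sum_of_transversal C hgen.isClassFunction m {1, (p : K)},
    Finset.sum_pair h1p] at h6
  · obtain ⟨k3, k4⟩ := hinv ⟨m, hmC⟩
    rw [extendByZero_of_mem C _ k3, one_mul, inv_one, mul_one,
      extendByZero_of_mem C _ hmC] at h6
    simp only [Pi.sub_apply, k4, i1.mem_charKer_iff.1 k1, i2.mem_charKer_iff.1 k2, h7,
      Units.val_inv_eq_inv_val] at h6
    generalize lam ⟨m, hmC⟩ = ζ at h6 m3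
    have k5 : (ζ : ℂ) ≠ 0 := ζ.ne_zero
    field_simp at h6
    have k6 : ((ζ : ℂ) - 1) ^ 2 = 0 := by linear_combination h6
    exact m3 (Units.ext (sub_eq_zero.1 (pow_eq_zero_iff two_ne_zero |>.1 k6)))
  · intro s hs s' hs' e
    simp only [Finset.mem_insert, Finset.mem_singleton] at hs hs'
    rcases hs with rfl | rfl <;> rcases hs' with rfl | rfl
    · rfl
    · exact absurd (by simpa using e) hpC
    · exact absurd (by simpa using e) hpC
    · rfl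
  · intro g hg
    have hgC : g * m * g⁻¹ ∈ C := by
      by_contra e; exact hg (extendByZero_of_notMem C _ e)
    rcases hTI ⟨m, hmC⟩ m3 g hgC with e | e
    · exact ⟨1, by simp, by simpa using e⟩
    · exact ⟨p, by simp, e⟩

theorem s3q {K : Type*} [Group K] [Finite K] (M : Subgroup K) (π : M →* Equiv.Perm (Fin 3))
    (hπ : Function.Surjective π)
    (ti : ∀ m : M, orderOf (π m) = 3 → ∀ g : K, g * m * g⁻¹ ∈ M → g ∈ M)
    {a : K} (ha : a * a = 1) (hc : ∀ m : M, IsConj a (m : K) → π m = 1) :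
    ∃ N : Subgroup K, N.Normal ∧ a ∈ N ∧ ∀ m : M, (m : K) ∈ N → orderOf (π m) ≠ 3 :=
  s3q' M π hπ ti (fun x hx => by rw [mul_self_eq_one_of_isConj ha hx]; exact M.one_mem) hc

end Cfsg.Lib.L43
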