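import Cfsg.Agent.Recog.L43V
import Cfsg.Agent.FT.BG12.Tools
import Cfsg.Agent.Class.NegOne

/-!
The normalizer of the subgroup of order `27` is a split extension by `SL₃(3)`.
-/

set_option autoImplicit false
set_option linter.unusedSectionVars false
set_option linter.style.haveILetI false

namespace Cfsg.Lib.L43

open Subgroup Matrix Cfsg.Lib.Perm Cfsg.Lib.Mc3
open scoped commutatorElement

variable {G : Type*} [Group G] {Q V : Subgroup G} {z : G} {p : G → SL23}
  {b : (Fin 3 → F3) → G}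

namespace Bas

variable (hb : Bas b V)
include hb

theorem zero : b 0 = 1 := by simpa using hb.add 0 0

theorem mem' (w : Fin 3 → F3) : b w ∈ V := (hb.mem _).2 ⟨w, rfl⟩

theorem neg (w : Fin 3 → F3) : b (-w) = (b w)⁻¹ := by
  rw [eq_inv_iff_mul_eq_one, ← hb.add, neg_add_cancel, hb.zero]

theorem injective : Function.Injective b := fun u w e => by
  have e2 := hb.add (u - w) w
  rw [sub_add_cancel, e, right_eq_mul] at e2
  exact sub_eq_zero.1 (hb.inj _ e2)

theorem smul (c : F3) (w : Fin 3 → F3) : b (c • w) = b w ^ c.val := by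
  have : ∀ n : ℕ, b (n • w) = b w ^ n := fun n => by
    induction n with
    | zero => simp [hb.zero]
    | succ n ih => rw [succ_nsmul, hb.add, ih, pow_succ]
  rw [← this, ← Nat.cast_smul_eq_nsmul F3, ZMod.natCast_zmod_val]

theorem exists_mat (n : G) : ∃ A : Matrix (Fin 3) (Fin 3) F3, n ∈ normalizer (V : Set G) →
    ∀ w, n⁻¹ * b w * n = b (w ᵥ* A) := by
  by_cases hn : n ∈ normalizer (V : Set G)
  · have h1 : ∀ w, ∃ u, n⁻¹ * b w * n = b u := fun w =>
      (hb.mem _).1 ((mem_normalizer_iff''.1 hn _).1 (hb.mem' w))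
    choose T hT using h1
    let L := (AddMonoidHom.mk' T fun u w => hb.injective (by
      rw [hb.add, ← hT, ← hT, ← hT, hb.add]; group)).toZModLinearMap 3
    refine ⟨(LinearMap.toMatrix' L)ᵀ, fun _ w => ?_⟩
    rw [vecMul_transpose, ← toLin'_apply, toLin'_toMatrix', hT]
    rfl
  · exact ⟨0, fun h => absurd h hn⟩

theorem mat_ext {A A' : Matrix (Fin 3) (Fin 3) F3} (e : ∀ i, b (Pi.single i 1 ᵥ* A) =
    b (Pi.single i 1 ᵥ* A')) : A = A' := by
  ext i j
  have := congrFun (hb.injective (e i)) j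
  simpa using this

end Bas

variable [Finite G]

theorem VS.cent (v : VS Q V z) (h : LS Q z p) {g : G} (hg : ∀ u ∈ V, g * u = u * g) : g ∈ V :=
  h.cent_max v.le v.comm v.card (v.faith g (hg z v.zV) fun u hu => by
    rw [commutatorElement_eq_one_iff_mul_comm.2 (hg u hu)]; exact one_mem _) hg

theorem VS.split (v : VS Q V z) (h : LS Q z p) (hb : Bas b V) {k : Fin 3}
    (hk : b (Pi.single k 1) = z) : ∃ θ : SL33 →* G,
      (∀ s w, (θ s)⁻¹ * b w * θ s = b (w ᵥ* s.1)) ∧
      ∀ n ∈ normalizer (V : Set G), ∃ s w, n = θ s * b w := by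
  choose A hA using hb.exists_mat
  set N := normalizer (V : Set G) with hN
  have A1 : A 1 = 1 := hb.mat_ext fun i => by rw [← hA 1 N.one_mem]; simp
  have Am : ∀ n ∈ N, ∀ m ∈ N, A (n * m) = A n * A m := fun n hn m hm => hb.mat_ext fun i => by
    rw [← hA _ (N.mul_mem hn hm), ← vecMul_vecMul, ← hA _ hm, ← hA _ hn]; group
  have hVN : V ≤ N := le_normalizer
  have Ak : ∀ n ∈ N, A n = 1 ↔ n ∈ V := fun n hn => by
    refine ⟨fun e => v.cent h fun u hu => ?_, fun e => hb.mat_ext fun i => ?_⟩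
    · obtain ⟨w, rfl⟩ := (hb.mem u).1 hu
      have := hA n hn w
      rw [e, vecMul_one] at this
      rw [mul_assoc, inv_mul_eq_iff_eq_mul] at this
      exact this.symm
    · rw [← hA n hn, vecMul_one, mul_assoc, v.comm _ (hb.mem' _) n e, inv_mul_cancel_left]
  have notZ : ∀ i, i ≠ k → ∀ c : F3, b (c • Pi.single i 1) ∈ zpowers z → c = 0 := by
    intro i hi c hc
    obtain ⟨d, e⟩ := exists_pw h.z3 hc
    rw [← hk, ← hb.smul] at e
    simpa [hi] using congrFun (hb.injective e) i
  have third : ∀ i j : Fin 3, i ≠ j → ∃ l, l ≠ i ∧ l ≠ j ∧ ∀ a, a = i ∨ a = j ∨ a = l := by decide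
  have surj : ∀ s : SL33, ∃ n ∈ N, A n = s.1 := by
    let H : Subgroup SL33 := subOf
      { carrier := {s | ∃ n ∈ N, A n = s.1}
        one_mem' := ⟨1, N.one_mem, A1⟩
        mul_mem' := by
          rintro s t ⟨n, hn, e⟩ ⟨m, hm, e'⟩
          exact ⟨n * m, N.mul_mem hn hm, by rw [Am n hn m hm, e, e']; rfl⟩ }
    have : H = ⊤ := Chev.closure_slE H fun i j hij t => by
      obtain ⟨l, hli, hlj, hall⟩ := third i j hij
      obtain ⟨m, hm, em⟩ : ∃ m ∈ N, m * z * m⁻¹ = b (Pi.single j 1) := by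
        by_cases e : j = k
        · exact ⟨1, N.one_mem, by simp [e, hk]⟩
        · exact v.trans _ (hb.mem' _) fun e1 => one_ne_zero (notZ j e 1 (by rwa [one_smul]))
      have cV : ∀ w, m⁻¹ * b w * m ∈ V := fun w => (mem_normalizer_iff''.1 hm _).1 (hb.mem' w)
      obtain ⟨q, hq, hqV⟩ : ∃ q ∈ Q ⊓ centralizer {m⁻¹ * b (Pi.single l 1) * m}, q ∉ V := by
        by_contra! e
        have h1 := card_le_of_le e
        have h2 := h.card_D (v.le (cV (Pi.single l 1)))
        rw [v.card] at h1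
        omega
      have hr : m * q * m⁻¹ ∈ N := N.mul_mem (N.mul_mem hm (v.norm q (h.Qz q hq.1))) (N.inv_mem hm)
      have key : ∀ w, (m * q * m⁻¹)⁻¹ * b w * (m * q * m⁻¹) =
          m * ⁅q⁻¹, m⁻¹ * b w * m⁆ * m⁻¹ * b w := fun w => by rw [commutatorElement_def]; group
      obtain ⟨c, hc⟩ := exists_pw h.z3 (h.comm _ (Q.inv_mem hq.1) _ (v.le (cV (Pi.single i 1))))
      have e1 : A (m * q * m⁻¹) = (Chev.slE i j c : SL33).1 := hb.mat_ext fun a => by
        rw [← hA _ hr, key, Chev.coe_slE hij, vecMul_add, vecMul_one, add_comm, hb.add]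
        congr 1
        rcases hall a with rfl | rfl | rfl
        · rw [hc, ← conj_pow, em, ← hb.smul]
          congr 1
          ext x
          by_cases e : x = j <;> simp [e, Matrix.single, @eq_comm _ j]
        · rw [← em, show m⁻¹ * (m * z * m⁻¹) * m = z by group,
            commutatorElement_eq_one_iff_mul_comm.2 (h.Qz _ (Q.inv_mem hq.1)), mul_one,
            mul_inv_cancel, ← hb.zero]
          congr 1
          ext x
          simp [Matrix.single, hij]
        · rw [commutatorElement_eq_one_iff_mul_comm.2 (show Commute q _ from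
            mem_centralizer_singleton_iff.1 hq.2).inv_left, mul_one, mul_inv_cancel, ← hb.zero]
          congr 1
          ext x
          simp [Matrix.single, hli.symm]
      have hc0 : c ≠ 0 := by
        rintro rfl
        rw [(Chev.slE_eq_one_iff hij).2 rfl] at e1
        have := (mem_normalizer_iff''.1 hm _).1 ((Ak _ hr).1 e1)
        exact hqV (by simpa [mul_assoc] using this)
      have h1 : Chev.slE i j c ∈ H := ⟨_, hr, e1⟩
      rcases (by decide : ∀ c t : F3, c ≠ 0 → t = c ∨ t = c + c ∨ t = c + c + c) c t hc0 with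
        rfl | rfl | rfl
      · exact h1
      · rw [← Chev.stA_slE.add _ _ hij]; exact H.mul_mem h1 h1
      · rw [← Chev.stA_slE.add _ _ hij, ← Chev.stA_slE.add _ _ hij]
        exact H.mul_mem (H.mul_mem h1 h1) h1
    exact fun s => (this ▸ mem_top s : s ∈ H)
  have Adet : ∀ n ∈ N, det (A n) = 1 := fun n hn => by
    by_contra hne
    have h1 : det (A n) * det (A n⁻¹) = 1 := by
      rw [← det_mul, ← Am n hn _ (N.inv_mem hn), mul_inv_cancel, A1, det_one]
    obtain ⟨l, hl⟩ := exists_ne k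
    obtain ⟨i, hil, hik, -⟩ := third l k hl
    let D : Matrix (Fin 3) (Fin 3) F3 := diagonal fun j => if j = l then -1 else 1
    have hD : det D = -1 := by simp [D, det_diagonal]
    obtain ⟨m, hm, e⟩ := surj ⟨A n⁻¹ * D, by
      rw [det_mul, hD]
      exact (by decide : ∀ x y : F3, x ≠ 1 → x * y = 1 → y * -1 = 1) _ _ hne h1⟩
    have hc := N.mul_mem hn hm
    have Ac : A (n * m) = D := by
      rw [Am n hn m hm, e, ← mul_assoc, ← Am n hn _ (N.inv_mem hn), mul_inv_cancel, A1, one_mul]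
    generalize n * m = c at hc Ac
    have act : ∀ j, c⁻¹ * b (Pi.single j 1) * c = b ((if j = l then -1 else 1 : F3) •
        Pi.single j 1) := fun j => by
      rw [hA c hc, Ac, single_vecMul_diagonal, one_mul, ← Pi.single_smul, smul_eq_mul, mul_one]
    have cz : c⁻¹ * z = z * c⁻¹ := by
      have := act k
      rw [if_neg hl.symm, one_smul, hk] at this
      rw [← mul_inv_eq_iff_eq_mul, inv_inv, this]
    have h2 : p c⁻¹ * p c⁻¹ = 1 := by
      rw [← h.map_mul _ cz _ cz, ← _root_.mul_inv_rev]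
      refine h.p_Q (Q.inv_mem (v.le ((Ak _ (N.mul_mem hc hc)).1 ?_)))
      rw [Am c hc c hc, Ac, diagonal_mul_diagonal, ← diagonal_one]
      congr 1
      funext j
      split_ifs <;> simp
    rcases (by decide +kernel : ∀ x : SL23, x * x = 1 → x = 1 ∨ x = -1) _ h2 with e1 | e1
    · have := h.comm _ ((h.ker _ cz).1 e1) _ (v.le (hb.mem' (Pi.single l 1)))
      rw [commutatorElement_def, inv_inv, act, if_pos rfl, ← hb.neg, ← hb.add,
        ← neg_one_smul F3 (Pi.single l 1 : Fin 3 → F3), ← add_smul] at this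
      exact absurd (notZ l hl _ this) (by decide)
    · have := h.inv _ cz e1 _ (v.le (hb.mem' (Pi.single i 1)))
      rw [inv_inv, act, if_neg hil, ← hb.add, one_smul, ← two_smul F3] at this
      exact absurd (notZ i hik _ this) (by decide)
  let f : N →* SL33 :=
    { toFun := fun n => ⟨A n, Adet n n.2⟩
      map_one' := Subtype.ext A1
      map_mul' := fun n m => Subtype.ext (Am n n.2 m m.2) }
  have fs : Function.Surjective f := fun s => by
    obtain ⟨n, hn, e⟩ := surj s
    exact ⟨⟨n, hn⟩, Subtype.ext e⟩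
  have fk : f.ker = V.subgroupOf N := Subgroup.ext fun n => by
    rw [mem_subgroupOf, ← Ak n n.2, MonoidHom.mem_ker]; exact Subtype.ext_iff
  have cN : Nat.card N = 729 * 208 := by
    rw [← f.ker.card_mul_index, index_ker, MonoidHom.range_eq_top.2 fs, card_top,
      Class.card_SL_fin_three (q := 3) (by simp), fk,
      Nat.card_congr (subgroupOfEquivOfLe hVN).toEquiv, v.card]
    norm_num
  obtain ⟨Y, hY, hYV, hc⟩ := v.cpl
  have hS : V ⊔ Y ≤ N := sup_le hVN hY
  obtain ⟨H, hH⟩ := FT.X12.gaschutz_split (K := V) (M := N) (S := V ⊔ Y) (Y := Y) ⟨hVN, le_rfl⟩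
    ⟨⟨fun a c => Subtype.ext (v.comm _ a.2 _ c.2)⟩⟩ hS (by
      obtain ⟨r, hr⟩ := hc
      have h1 := card_mul_relIndex hS
      rw [hr, cN, mul_assoc] at h1
      rw [v.card]
      exact Nat.Coprime.coprime_dvd_right (Dvd.intro_left r (Nat.eq_of_mul_eq_mul_left
        (by norm_num) h1)) (by norm_num)) ⟨rfl, hY, by rw [inf_comm, hYV]⟩
  have hHN : H ≤ N := hH.norm
  have dec : ∀ n ∈ N, ∃ a ∈ H, ∃ c ∈ V, a * c = n := fun n hn =>
    (Block.Pair.mem_sup_iff_left hHN).1 (by rwa [sup_comm, hH.sup])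
  let g : H →* SL33 := f.comp (inclusion hHN)
  have gb : Function.Bijective g := ⟨(injective_iff_map_eq_one g).2 fun a ha => by
    have : (a : G) ∈ V ⊓ H := ⟨(Ak _ (hHN a.2)).1 (congrArg Subtype.val ha), a.2⟩
    rw [hH.inf] at this
    exact Subtype.ext this, fun s => by
    obtain ⟨n, hn, e⟩ := surj s
    obtain ⟨a, ha, c, hc, rfl⟩ := dec n hn
    rw [Am a (hHN ha) c (hVN hc), (Ak c (hVN hc)).2 hc, mul_one] at e
    exact ⟨⟨a, ha⟩, Subtype.ext e⟩⟩
  let e := MulEquiv.ofBijective g gb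
  refine ⟨H.subtype.comp e.symm.toMonoidHom, fun s w => ?_, fun n hn => ?_⟩
  · obtain ⟨a, rfl⟩ := e.surjective s
    change ((e.symm (e a) : H) : G)⁻¹ * _ * (e.symm (e a) : H) = _
    rw [e.symm_apply_apply]
    exact hA _ (hHN a.2) w
  · obtain ⟨a, ha, c, hc, rfl⟩ := dec n hn
    obtain ⟨w, rfl⟩ := (hb.mem c).1 hc
    refine ⟨e ⟨a, ha⟩, w, ?_⟩
    change _ = ((e.symm (e ⟨a, ha⟩) : H) : G) * _
    rw [e.symm_apply_apply]

end Cfsg.Lib.L43
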