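import Cfsg.Agent.Recog.L43Sh
import Cfsg.Agent.Block.PairLocal

/-!
The normal subgroup of order `27` of `C(z)` through a conjugate of `z` in `Q`.
-/

set_option autoImplicit false
set_option linter.unusedSectionVars false
set_option linter.style.haveILetI false

namespace Cfsg.Lib.L43

open Subgroup Matrix Cfsg.Lib.Perm Cfsg.Lib.Mc3
open scoped commutatorElement

variable {G : Type*} [Group G]

/-- Coordinates on an elementary abelian subgroup of order `27`. -/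
structure Bas (b : (Fin 3 → F3) → G) (V : Subgroup G) : Prop where
  add : ∀ v w, b (v + w) = b v * b w
  inj : ∀ v, b v = 1 → v = 0
  mem : ∀ g, g ∈ V ↔ ∃ v, g = b v

/-- The properties of the subgroup of order `27`. -/
structure VS (Q V : Subgroup G) (z : G) : Prop where
  le : V ≤ Q
  zV : z ∈ V
  card : Nat.card V = 27
  comm : ∀ a ∈ V, ∀ b ∈ V, a * b = b * a
  norm : ∀ c, c * z = z * c → c ∈ normalizer (V : Set G)
  trans : ∀ v ∈ V, v ∉ zpowers z → ∃ m ∈ normalizer (V : Set G), m * z * m⁻¹ = v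
  faith : ∀ c, c * z = z * c → (∀ v ∈ V, ⁅c, v⁆ ∈ zpowers z) → c ∈ Q
  cpl : ∃ A ≤ normalizer (V : Set G), A ⊓ V = ⊥ ∧ 729 ∣ Nat.card (V ⊔ A : Subgroup G)
  basis : ∃ b, Bas b V ∧ b (Pi.single 2 1) = z

theorem card_SL23 : Nat.card SL23 = 24 := by rw [Nat.card_eq_fintype_card]; decide +kernel

theorem sl23_comm : ∀ a b : SL23, a ^ 3 = 1 → b ^ 3 = 1 → (a * b) ^ 3 = 1 → (a * b ^ 2) ^ 3 = 1 →
    a * b = b * a := by decide +kernel

theorem sl23_conj : ∀ a : SL23, a ^ 3 = 1 → a ≠ 1 →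
    ∃ c : SL23, c * a = sU * c ∨ c * a ^ 2 = sU * c := by decide +kernel

theorem sl23_col : ∀ i j : F3, ¬ (i = 0 ∧ j = 0) → ∃ s : SL23, s 0 0 = i ∧ s 1 0 = j := by
  decide +kernel

theorem sl23_eq_one : ∀ s : SL23, s 0 0 = 1 → s 1 0 = 0 → s 0 1 = 0 → s = 1 := by decide +kernel

theorem eq_one_of_zp {z x y : G} (hx : orderOf x = 3) (hxz : x ∉ zpowers z) (h1 : y ∈ zpowers z)
    (h2 : y ∈ zpowers x) : y = 1 := by
  rcases (mem_zp3 hx).1 h2 with rfl | rfl | rfl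
  · rfl
  · exact absurd h1 hxz
  · exact absurd (inv_mem_iff.1 h1) hxz

variable [Finite G] {Q Q' : Subgroup G} {z x' : G} {p p' : G → SL23}

theorem LS.card_D (h : LS Q z p) (hx : x' ∈ Q) :
    81 ≤ Nat.card (Q ⊓ centralizer {x'} : Subgroup G) := by
  have := FT.BG4.card_le_card_mul_card_inf_centralizer (H := Q) (S := zpowers z) (v := x')
    fun y hy => h.comm y hy x' hx
  rw [h.cardQ, Nat.card_zpowers, h.z3] at this
  omega

theorem LS.mem_other (h : LS Q z p) (h' : LS Q' x' p') (hx : x' ∈ Q) : z ∈ Q' := by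
  obtain ⟨a, ha, b, hb, hab⟩ : ∃ a ∈ Q ⊓ centralizer {x'}, ∃ b ∈ Q ⊓ centralizer {x'},
      a * b ≠ b * a := by
    by_contra! hc
    have := h.card_ab inf_le_left hc
    have := h.card_D hx
    omega
  have ca := mem_centralizer_singleton_iff.1 ha.2
  have cb := mem_centralizer_singleton_iff.1 hb.2
  have cb2 : b ^ 2 * x' = x' * b ^ 2 := (show Commute b x' from cb).pow_left 2
  have key : ∀ d ∈ Q, d * x' = x' * d → p' d ^ 3 = 1 := fun d hd hc => by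
    rw [← h'.p_pow hc, h.cube d hd, h'.p_one]
  have h1 := sl23_comm _ _ (key a ha.1 ca) (key b hb.1 cb) (by
    rw [← h'.map_mul _ ca _ cb]; exact key _ (Q.mul_mem ha.1 hb.1) (LS.c_mul ca cb)) (by
    rw [← h'.p_pow cb, ← h'.map_mul _ ca _ cb2]
    exact key _ (Q.mul_mem ha.1 (Q.pow_mem hb.1 2)) (LS.c_mul ca cb2))
  have h2 : ⁅a, b⁆ ∈ Q' := by
    rw [commutatorElement_def]
    refine (h'.ker _ (LS.c_mul (LS.c_mul (LS.c_mul ca cb) (LS.c_inv ca)) (LS.c_inv cb))).1 ?_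
    rw [h'.map_mul _ (LS.c_mul (LS.c_mul ca cb) (LS.c_inv ca)) _ (LS.c_inv cb),
      h'.map_mul _ (LS.c_mul ca cb) _ (LS.c_inv ca), h'.map_mul _ ca _ cb, h'.p_inv ca, h'.p_inv cb,
      h1]
    group
  rcases (mem_zp3 h.z3).1 (h.comm a ha.1 b hb.1) with e | e | e
  · exact absurd (commutatorElement_eq_one_iff_mul_comm.1 e) hab
  · exact e ▸ h2
  · exact inv_mem_iff.1 (e ▸ h2)

theorem LS.comm_inf (h : LS Q z p) (h' : LS Q' x' p') (hxz : x' ∉ zpowers z) :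
    ∀ a ∈ Q ⊓ Q', ∀ b ∈ Q ⊓ Q', a * b = b * a := fun a ha b hb =>
  commutatorElement_eq_one_iff_mul_comm.1
    (eq_one_of_zp h'.z3 hxz (h.comm a ha.1 b hb.1) (h'.comm a ha.2 b hb.2))

theorem LS.card_inf (h : LS Q z p) (h' : LS Q' x' p') (hx : x' ∈ Q) (hxz : x' ∉ zpowers z) :
    Nat.card (Q ⊓ Q' : Subgroup G) = 27 := by
  refine le_antisymm (h.card_ab inf_le_left (h.comm_inf h' hxz)) ?_
  have hc : ∀ d : (Q ⊓ centralizer {x'} : Subgroup G), (d : G) * x' = x' * d := fun d =>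
    mem_centralizer_singleton_iff.1 d.2.2
  let f : (Q ⊓ centralizer {x'} : Subgroup G) →* SL23 :=
    { toFun := fun d => p' d
      map_one' := h'.p_one
      map_mul' := fun a b => h'.map_mul _ (hc a) _ (hc b) }
  have h1 := f.ker.card_mul_index
  rw [index_ker] at h1
  have h2 : Nat.card f.ker ≤ Nat.card (Q ⊓ Q' : Subgroup G) := by
    rw [← card_map_of_injective (subtype_injective _)]
    refine card_le_of_le ?_
    rintro _ ⟨d, hd, rfl⟩
    exact ⟨d.2.1, (h'.ker _ (hc d)).1 hd⟩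
  haveI : Fact (Nat.Prime 3) := ⟨Nat.prime_three⟩
  have h3 : IsPGroup 3 f.range := by
    rintro ⟨_, d, rfl⟩
    refine ⟨1, Subtype.ext ?_⟩
    change f d ^ 3 ^ 1 = 1
    rw [← map_pow, show d ^ 3 ^ 1 = 1 from Subtype.ext (h.cube d d.2.1), map_one]
  obtain ⟨n, hn⟩ := IsPGroup.iff_card.1 h3
  have h4 := card_subgroup_dvd_card f.range
  rw [card_SL23, hn] at h4
  have h5 : n < 2 := by
    by_contra! hc
    exact absurd ((pow_dvd_pow 3 hc).trans h4) (by norm_num)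
  have h6 := h.card_D hx
  rw [← h1, hn] at h6
  interval_cases n <;> omega

namespace Sh

variable {π : G → M4} {B : M4 →ₗ[F3] M4 →ₗ[F3] F3} {ρ : G → Module.End F3 M4}
  {σ : SL23 →* Module.End F3 M4} (S : Sh Q z p π B ρ σ) (h : LS Q z p)
include S h

theorem comm_iff {a b : G} (ha : a ∈ Q) (hb : b ∈ Q) : a * b = b * a ↔ B (π a) (π b) = 0 := by
  rw [← commutatorElement_eq_one_iff_mul_comm, S.B_π a ha b hb]
  exact ⟨fun e => pw_inj h.z3 (by simpa using e), fun e => by simp [e]⟩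

theorem e_π {x q : G} (hx : x * z = z * x) (px : p x = sU) (hq : q ∈ Q) :
    Lin.eU σ (π q) = π ⁅x, q⁆ := by
  rw [commutatorElement_def, S.pj.mul _ (h.conjQ hx hq) _ (Q.inv_mem hq), S.pj.inv hq,
    ← S.σ_π x hx q hq, px, Lin.σU]
  simp

theorem B_neg {t : G} (ht : t * z * t⁻¹ = z⁻¹) (v w : M4) : B (ρ t v) (ρ t w) = -B v w := by
  have hn : t ∈ normalizer (zpowers z : Set G) := mem_nz (by rw [ht]; simp)
  obtain ⟨a, ha, rfl⟩ := S.pj.surj v
  obtain ⟨b, hb, rfl⟩ := S.pj.surj w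
  refine pw_inj h.z3 ?_
  rw [S.ρ_π t hn a ha, S.ρ_π t hn b hb, ← S.B_π _ (h.nQ t hn a ha) _ (h.nQ t hn b hb), ← conj_comm,
    S.B_π a ha b hb, pw_neg h.z_cube, ← conj_pow, ht, inv_pow]

theorem ρ_σ {t c : G} (hn : t ∈ normalizer (zpowers z : Set G)) (hc : c * z = z * c)
    (hc' : t * c * t⁻¹ * z = z * (t * c * t⁻¹)) (v : M4) :
    ρ t (σ (p c) v) = σ (p (t * c * t⁻¹)) (ρ t v) := by
  obtain ⟨a, ha, rfl⟩ := S.pj.surj v
  rw [S.σ_π c hc a ha, S.ρ_π t hn a ha, S.ρ_π t hn _ (h.conjQ hc ha),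
    S.σ_π _ hc' _ (h.nQ t hn a ha)]
  congr 1
  group

/-- The linear algebra of the pair `Q`, `Q'`. -/
theorem exists_v (h' : LS Q' x' p') (hx' : x' ∈ Q) (hxz : x' ∉ zpowers z) {x : G} (hxQ : x ∈ Q')
    (hx : x * z = z * x) (px : p x = sU) : Lin.eU σ (π x') = 0 ∧ B (Lin.eV σ (π x')) (π x') = 0 ∧
      ∃ v ∈ Q ⊓ Q', ∃ s : F3, π v = s • π x' + Lin.eV σ (π x') := by
  have hz := h.mem_other h' hx'
  have L := S.lin
  have hxn : x ∉ Q := fun e => by rw [h.p_Q e] at px; exact absurd px (by decide)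
  have ha : Lin.eU σ (π x') = 0 := by
    rw [S.e_π h hx px hx', commutatorElement_eq_one_iff_mul_comm.2 (h'.Qz x hxQ), S.pj.one]
  have h0 : π x' ≠ 0 := fun e => hxz ((S.pj.ker x' hx').1 e)
  obtain ⟨v, hv, ev⟩ : ∃ v ∈ Q ⊓ Q', Lin.eU σ (π v) = π x' := by
    obtain ⟨v, hv, hne⟩ : ∃ v ∈ Q ⊓ Q', x * v ≠ v * x := by
      by_contra! hc
      exact hxn (h'.cent_max inf_le_right (h.comm_inf h' hxz) (h.card_inf h' hx' hxz) hxQ hc).1
    rcases (mem_zp3 h'.z3).1 (h'.comm x hxQ v hv.2) with e | e | e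
    · exact absurd (commutatorElement_eq_one_iff_mul_comm.1 e) hne
    · exact ⟨v, hv, by rw [S.e_π h hx px hv.1, e]⟩
    · exact ⟨v⁻¹, inv_mem hv, by
        rw [S.pj.inv hv.1, map_neg, S.e_π h hx px hv.1, e, S.pj.inv hx', neg_neg]⟩
  have e1 := L.ef_fe (π v)
  rw [ev] at e1
  have ha1 := L.ee (Lin.eV σ (π v))
  generalize Lin.eU σ (Lin.eV σ (π v)) = a1 at e1 ha1
  have hi : B (Lin.eV σ (π x')) (π x') = 0 := by
    have := (S.comm_iff h hv.1 hx').1 (h'.Qz v hv.2)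
    rwa [← e1, map_add, LinearMap.add_apply, L.B_ker ha1 ha, zero_add] at this
  refine ⟨ha, hi, v, hv, ?_⟩
  obtain ⟨t, ht, pt, tz⟩ : ∃ t, t * x' = x' * t ∧ p' t = -1 ∧ t * z * t⁻¹ = z⁻¹ := by
    obtain ⟨t, ht, pt⟩ := h'.surj (-1)
    have hzx : z ∉ zpowers x' := fun e => h.z_ne (eq_one_of_zp h'.z3 hxz (mem_zpowers z) e)
    have h1 := h'.inv t ht pt z hz
    obtain ⟨q, hq, e⟩ := h'.conj_coset (inv_mem hz) (fun e => hzx (inv_mem_iff.1 e)) h1
    refine ⟨q⁻¹ * t, LS.c_mul (LS.c_inv (h'.Qz q hq)) ht, ?_, ?_⟩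
    · rw [h'.map_mul _ (LS.c_inv (h'.Qz q hq)) _ ht, h'.p_Q (inv_mem hq), one_mul, pt]
    · rw [mul_inv_cancel_right] at e
      rw [show q⁻¹ * t * z * (q⁻¹ * t)⁻¹ = q⁻¹ * (t * z * t⁻¹) * q by group, ← e]
      group
  have hn : t ∈ normalizer (zpowers z : Set G) := mem_nz (by rw [tz]; simp)
  have hcz : ∀ c, c * z = z * c → t * c * t⁻¹ * z = z * (t * c * t⁻¹) := fun c hc => by
    have e : Commute (t * c * t⁻¹) (t * z * t⁻¹) := by
      change _ * _ = _ * _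
      rw [conj_mul, conj_mul, hc]
    rw [tz] at e
    exact Commute.inv_right_iff.1 e
  have Ta : ρ t (π x') = π x' := by rw [S.ρ_π t hn x' hx', ht, mul_inv_cancel_right]
  obtain ⟨γ, Tv⟩ : ∃ γ : F3, ρ t (π v) = γ • π x' - π v := by
    obtain ⟨γ, e⟩ := exists_pw h'.z3 (h'.inv t ht pt v hv.2)
    refine ⟨γ, ?_⟩
    rw [S.ρ_π t hn v hv.1, eq_sub_iff_add_eq, ← S.pj.mul _ (h.nQ t hn v hv.1) _ hv.1, e,
      S.pj.pw hx']
  obtain ⟨s, r, Tf⟩ : ∃ s r : F3, ρ t (Lin.eV σ (π x')) = s • π x' + r • Lin.eV σ (π x') := by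
    obtain ⟨c, hc, pc⟩ := h.surj sV
    have e2 := S.ρ_σ h hn hc (hcz c hc) (π x')
    obtain ⟨s, r, e3⟩ : ∃ s r : F3, σ (p (t * c * t⁻¹)) (π x') =
        s • π x' + r • Lin.eV σ (π x') := ⟨_, _, by simpa using L.act ha _ 1 0⟩
    rw [Ta, e3, pc, Lin.σV, LinearMap.add_apply, map_add, Module.End.one_apply, Ta] at e2
    exact ⟨s - 1, r, by rw [sub_smul, one_smul, eq_sub_of_add_eq' e2]; abel⟩
  have eT : Lin.eU σ (ρ t a1) = 0 := by
    have e2 := S.ρ_σ h hn hx (hcz x hx) a1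
    have e3 : p (t * x * t⁻¹) * sU = 1 := by
      rw [← px, ← h.map_mul _ (hcz x hx) _ hx]
      exact h.p_Q (zpowers_le.2 hx' (h'.inv t ht pt x hxQ))
    rw [px, Lin.σU, LinearMap.add_apply, Module.End.one_apply, ha1, add_zero] at e2
    have e4 := congrArg (σ sU) e2
    rw [← Module.End.mul_apply, ← Module.End.mul_apply (σ sU) (σ _), ← map_mul,
      mul_eq_one_comm.1 e3, map_one, Module.End.one_apply, Module.End.mul_apply, Lin.σU,
      LinearMap.add_apply, Module.End.one_apply] at e4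
    exact add_eq_left.1 e4
  have T1 : ρ t a1 = (γ - s) • π x' - a1 - (r + 1) • Lin.eV σ (π x') := by
    rw [← e1, map_add, Tf] at Tv
    rw [eq_sub_of_add_eq Tv, sub_smul, add_smul, one_smul]
    abel
  have hr : r + 1 = 0 := by
    rw [T1] at eT
    simpa [ha, ha1, L.ef_of ha, h0] using eT
  have e5 := S.B_neg h tz (Lin.eV σ (π x')) a1
  rw [T1, Tf, hr, show r = -1 by linear_combination hr] at e5
  simp only [map_add, map_sub, map_smul, LinearMap.add_apply, LinearMap.smul_apply, smul_eq_mul,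
    hi, L.alt, L.B_ker ha ha1, zero_smul, map_zero] at e5
  obtain ⟨s', e6⟩ := L.mem_span ha h0 hi ha1 (by
    revert e5
    generalize B (Lin.eV σ (π x')) a1 = y
    simp only [mul_zero, sub_zero, zero_add, zero_sub]
    revert y
    decide)
  exact ⟨s', by rw [← e1, e6]⟩

/-- The complement in a Sylow subgroup. -/
theorem exists_cpl {V : Subgroup G} {a : M4} (ha : Lin.eU σ a = 0) (h0 : a ≠ 0)
    (hi : B (Lin.eV σ a) a = 0) (hV : ∀ q, q ∈ V ↔ q ∈ Q ∧ ∃ i j : F3, π q = i • a + j • Lin.eV σ a)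
    (nV : ∀ c, c * z = z * c → c ∈ normalizer (V : Set G)) {x : G} (hx : x * z = z * x)
    (px : p x = sU) (x3 : ∀ v ∈ V, (x * v) ^ 3 = 1) :
    ∃ A ≤ normalizer (V : Set G), A ⊓ V = ⊥ ∧ 729 ∣ Nat.card (V ⊔ A : Subgroup G) := by
  have L := S.lin
  obtain ⟨b, hb, hi', hab⟩ := L.exists_iso ha h0 hi
  obtain ⟨q, hq, eq⟩ := S.pj.surj b
  obtain ⟨d, hd, ed⟩ := S.pj.surj (Lin.eV σ a)
  have hdV : d ∈ V := (hV d).2 ⟨hd, 0, 1, by simp [ed]⟩
  obtain ⟨y, hy, py, y3, yq⟩ : ∃ y, y * z = z * y ∧ p y = sU ∧ y ^ 3 = 1 ∧ y * q = q * y := by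
    obtain ⟨k, hk⟩ := exists_pw h.z3 ((S.pj.ker ⁅x, q⁆ (by
      rw [commutatorElement_def]; exact Q.mul_mem (h.conjQ hx hq) (Q.inv_mem hq))).1
      (by rw [← S.e_π h hx px hq, eq, hb]))
    obtain ⟨m, hm⟩ : ∃ m : F3, m * B (Lin.eV σ a) b + k = 0 :=
      (by decide : ∀ y k : F3, y ≠ 0 → ∃ m, m * y + k = 0) _ k hab
    have hd' := Q.pow_mem hd m.val
    refine ⟨x * d ^ m.val, LS.c_mul hx (h.Qz _ hd'), by rw [h.p_mul_Q hx hd', px],
      x3 _ (V.pow_mem hdV _), commutatorElement_eq_one_iff_mul_comm.1 ?_⟩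
    rw [comm_mul_left, conj_zp_eq hx (h.comm _ hd' q hq), S.B_π _ hd' q hq, hk, ← pw_add h.z_cube,
      S.pj.pw hd, ed, eq, map_smul, LinearMap.smul_apply, smul_eq_mul, hm]
    simp
  obtain ⟨q2, hq2, e2⟩ := S.pj.surj (Lin.eV σ b)
  have hq1 : ⁅y, q2⁆ ∈ Q := by
    rw [commutatorElement_def]; exact Q.mul_mem (h.conjQ hy hq2) (Q.inv_mem hq2)
  have e1 : π ⁅y, q2⁆ = b := by rw [← S.e_π h hy py hq2, e2, L.ef_of hb]
  have y2 : y * q2 * y⁻¹ = ⁅y, q2⁆ * q2 := by rw [commutatorElement_def]; group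
  generalize ⁅y, q2⁆ = q1 at hq1 e1 y2
  have y1 : y * q1 * y⁻¹ = q1 := by
    rw [← inv_mul_cancel_right q1 q, ← conj_mul, conj_zp_eq hy (S.pj.eq hq1 hq (e1.trans eq.symm)),
      yq, mul_inv_cancel_right]
  have c12 : Commute q2 q1 := (S.comm_iff h hq2 hq1).2 (by rw [e1, e2, hi'])
  let W : Subgroup G := subOf
    { carrier := {g | ∃ i j : F3, g = q1 ^ i.val * q2 ^ j.val}
      one_mem' := ⟨0, 0, by simp⟩
      mul_mem' := by
        rintro _ _ ⟨i, j, rfl⟩ ⟨k, l, rfl⟩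
        refine ⟨i + k, j + l, ?_⟩
        rw [pw_add (h.cube _ hq1), pw_add (h.cube _ hq2), mul_assoc, mul_assoc,
          ← mul_assoc (q2 ^ _), (c12.pow_pow _ _).eq, mul_assoc] }
  have WQ : W ≤ Q := by
    rintro _ ⟨i, j, rfl⟩
    exact Q.mul_mem (Q.pow_mem hq1 _) (Q.pow_mem hq2 _)
  have πW : ∀ i j : F3, π (q1 ^ i.val * q2 ^ j.val) = i • b + j • Lin.eV σ b := fun i j => by
    rw [S.pj.mul _ (Q.pow_mem hq1 _) _ (Q.pow_mem hq2 _), S.pj.pw hq1, S.pj.pw hq2, e1, e2]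
  have yW : zpowers y ≤ normalizer (W : Set G) := zpowers_le.2 (mem_normalizer_fintype (by
    rintro _ ⟨i, j, rfl⟩
    rw [← conj_mul, ← conj_pow, ← conj_pow, y1, y2]
    have a1 : q1 ∈ W := ⟨1, 0, by simp [ZMod.val_one]⟩
    have a2 : q2 ∈ W := ⟨0, 1, by simp [ZMod.val_one]⟩
    exact W.mul_mem (W.pow_mem a1 _) (W.pow_mem (W.mul_mem a1 a2) _)))
  have yQ : y ∉ Q := fun e => by rw [h.p_Q e] at py; exact absurd py (by decide)
  have oy : orderOf y = 3 := orderOf_eq_prime y3 fun e => yQ (e ▸ Q.one_mem)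
  refine ⟨W ⊔ zpowers y, sup_le (fun w hw => nV w (h.Qz w (WQ hw))) (zpowers_le.2 (nV y hy)),
    eq_bot_iff.2 fun g ⟨h1, h2⟩ => ?_, ?_⟩
  · obtain ⟨w, hw, u, hu, rfl⟩ := (Block.Pair.mem_sup_iff_right yW).1 h1
    obtain ⟨h3, i, j, h4⟩ := (hV _).1 h2
    have h5 : u ∈ Q := by simpa using Q.mul_mem (Q.inv_mem (WQ hw)) h3
    obtain rfl : u = 1 := by
      rcases (mem_zp3 oy).1 hu with rfl | rfl | rfl
      exacts [rfl, absurd h5 yQ, absurd (inv_mem_iff.1 h5) yQ]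
    obtain ⟨k, l, rfl⟩ := hw
    rw [mul_one, πW] at h4
    obtain ⟨-, -, rfl, rfl⟩ := L.ind4 ha hb hi hi' hab (s := -i) (t := -j) (s' := k) (t' := l)
      (by rw [h4]; module)
    simp
  · have h1 : Q ≤ V ⊔ (W ⊔ zpowers y) := fun g hg => by
      obtain ⟨i, j, k, l, e⟩ := L.span4 ha hb hi hi' hab (π g)
      have hw : q1 ^ k.val * q2 ^ l.val ∈ W := ⟨k, l, rfl⟩
      have hm := Q.mul_mem hg (Q.inv_mem (WQ hw))
      rw [← inv_mul_cancel_right g (q1 ^ k.val * q2 ^ l.val)]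
      refine mul_mem (mem_sup_left ((hV _).2 ⟨hm, i, j, ?_⟩)) (mem_sup_right (mem_sup_left hw))
      rw [S.pj.mul _ hg _ (Q.inv_mem (WQ hw)), S.pj.inv (WQ hw), πW, e]
      abel
    haveI : Fact (Nat.Prime 3) := ⟨Nat.prime_three⟩
    have h2 : IsPGroup 3 (zpowers y ⊔ Q : Subgroup G) := IsPGroup.to_sup_of_normal_right'
      (IsPGroup.of_card (n := 1) (by rw [Nat.card_zpowers, oy]; rfl))
      (IsPGroup.of_card (n := 5) h.cardQ)
      (zpowers_le.2 (mem_normalizer_fintype fun q hq => h.conjQ hy hq))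
    obtain ⟨n, hn⟩ := IsPGroup.iff_card.1 h2
    have h3 := card_lt_of_lt (right_lt_sup.2 fun e => yQ (e (mem_zpowers y)) :
      Q < zpowers y ⊔ Q)
    rw [h.cardQ, hn] at h3
    have h4 : 5 < n := (Nat.pow_lt_pow_iff_right (a := 3) (by norm_num)).1 h3
    refine ((pow_dvd_pow 3 h4).trans (hn ▸ card_dvd_of_le (sup_le ?_ h1)))
    exact le_sup_right.trans le_sup_right

theorem vs (h' : LS Q' x' p') (hx' : x' ∈ Q) (hxz : x' ∉ zpowers z) {x : G} (hxQ : x ∈ Q')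
    (hx : x * z = z * x) (px : p x = sU) : VS Q (Q ⊓ Q') z := by
  have L := S.lin
  obtain ⟨ha, hi, v, hv, s, ev⟩ := S.exists_v h h' hx' hxz hxQ hx px
  have hz := h.mem_other h' hx'
  have h0 : π x' ≠ 0 := fun e => hxz ((S.pj.ker x' hx').1 e)
  have hc := h.comm_inf h' hxz
  have card := h.card_inf h' hx' hxz
  have xV : x' ∈ Q ⊓ Q' := ⟨hx', h'.zQ⟩
  have zV : z ∈ Q ⊓ Q' := ⟨h.zQ, hz⟩
  set V := Q ⊓ Q' with hV
  let b : (Fin 3 → F3) → G := fun w => x' ^ (w 0).val * v ^ (w 1).val * z ^ (w 2).val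
  have bV : ∀ w, b w ∈ V := fun w =>
    V.mul_mem (V.mul_mem (V.pow_mem xV _) (V.pow_mem hv _)) (V.pow_mem zV _)
  have πb : ∀ w, π (b w) = (w 0 + w 1 * s) • π x' + w 1 • Lin.eV σ (π x') := fun w => by
    rw [S.pj.mul _ (Q.mul_mem (Q.pow_mem hx' _) (Q.pow_mem hv.1 _)) _ (Q.pow_mem h.zQ _),
      S.pj.mul _ (Q.pow_mem hx' _) _ (Q.pow_mem hv.1 _), S.pj.pw hx', S.pj.pw hv.1, S.pj.pw h.zQ,
      (S.pj.ker z h.zQ).2 (mem_zpowers z), ev]
    module
  have badd : ∀ u w, b (u + w) = b u * b w := fun u w => by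
    have c1 : Commute v x' := hc _ hv _ xV
    have c2 : Commute z x' := hc _ zV _ xV
    have c3 : Commute z v := hc _ zV _ hv
    simp only [b, Pi.add_apply, pw_add (h.cube _ hx'), pw_add (h.cube _ hv.1), pw_add h.z_cube,
      mul_assoc]
    rw [← mul_assoc (z ^ _) (x' ^ _), (c2.pow_pow _ _).eq, mul_assoc, ← mul_assoc (z ^ _) (v ^ _),
      (c3.pow_pow _ _).eq, ← mul_assoc (v ^ (u 1).val) (x' ^ _), (c1.pow_pow _ _).eq]
    simp only [mul_assoc]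
  have binj : ∀ w, b w = 1 → w = 0 := fun w e => by
    have e1 := πb w
    rw [e, S.pj.one] at e1
    obtain ⟨a1, a2⟩ := L.ind ha h0 e1.symm
    rw [a2, zero_mul, add_zero] at a1
    have a3 : w 2 = 0 := pw_inj h.z3 (by simpa [b, a1, a2] using e)
    funext i
    fin_cases i
    exacts [a1, a2, a3]
  have bmem : ∀ g, g ∈ V ↔ ∃ w, g = b w := fun g => by
    refine ⟨fun hg => ?_, by rintro ⟨w, rfl⟩; exact bV w⟩
    have hinj : Function.Injective fun w => (⟨b w, bV w⟩ : V) := fun u w e => by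
      have e1 : b u = b w := congrArg Subtype.val e
      have e2 := badd (u - w) w
      rw [sub_add_cancel, e1, right_eq_mul] at e2
      exact sub_eq_zero.1 (binj _ e2)
    obtain ⟨w, e⟩ := (hinj.bijective_of_nat_card_le (by rw [card]; simp)).2 ⟨g, hg⟩
    exact ⟨w, (congrArg Subtype.val e).symm⟩
  have memV : ∀ q, q ∈ V ↔ q ∈ Q ∧ ∃ i j : F3, π q = i • π x' + j • Lin.eV σ (π x') := fun q => by
    refine ⟨fun hq => ⟨hq.1, ?_⟩, fun ⟨hq, i, j, e⟩ => ?_⟩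
    · obtain ⟨w, rfl⟩ := (bmem q).1 hq
      exact ⟨_, _, πb w⟩
    · have := S.pj.eq hq (bV ![i - j * s, j, 0]).1 (by rw [πb, e]; simp)
      simpa using V.mul_mem (zpowers_le.2 zV this) (bV ![i - j * s, j, 0])
  have nV : ∀ c, c * z = z * c → c ∈ normalizer (V : Set G) := fun c hc =>
    mem_normalizer_fintype fun q hq => by
      obtain ⟨h1, i, j, e⟩ := (memV q).1 hq
      exact (memV _).2 ⟨h.conjQ hc h1, _, _, by rw [← S.σ_π c hc q h1, e, L.act ha]⟩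
  have tr : ∀ u ∈ V, u ∉ zpowers z → ∃ c, c * z = z * c ∧ c * x' * c⁻¹ = u := fun u hu huz => by
    obtain ⟨h1, i, j, e⟩ := (memV u).1 hu
    obtain ⟨g, g0, g1⟩ := sl23_col i j fun ⟨a1, a2⟩ => huz ((S.pj.ker u h1).1 (by simp [e, a1, a2]))
    obtain ⟨c, hc, rfl⟩ := h.surj g
    have e1 : π u = π (c * x' * c⁻¹) := by
      rw [← S.σ_π c hc x' hx', e, ← g0, ← g1]
      simpa using (L.act ha (p c) 1 0).symm
    obtain ⟨q, hq, e2⟩ := h.conj_coset (h.conjQ hc hx') (fun e3 => huz ((S.pj.ker u h1).1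
      (e1.trans ((S.pj.ker _ (h.conjQ hc hx')).2 e3)))) (S.pj.eq h1 (h.conjQ hc hx') e1)
    refine ⟨q * c, LS.c_mul (h.Qz q hq) hc, ?_⟩
    rw [inv_mul_cancel_right] at e2
    rw [← e2]
    group
  refine ⟨inf_le_left, zV, card, hc, nV, fun u hu huz => ?_, fun c hc h1 => ?_,
    S.exists_cpl h ha h0 hi memV nV hx px fun v hv => h'.cube _ (Q'.mul_mem hxQ hv.2),
    b, ⟨badd, binj, bmem⟩, by simp [b, ZMod.val_one]⟩
  · have hzx : z ∉ zpowers x' := fun e => h.z_ne (eq_one_of_zp h'.z3 hxz (mem_zpowers z) e)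
    obtain ⟨q, hq, e⟩ := h'.conj_coset hz hzx (mem_zpowers x')
    obtain ⟨c, hc1, e1⟩ := tr (x' * z) (V.mul_mem xV zV) fun e2 =>
      hxz (by simpa using mul_mem e2 (inv_mem (mem_zpowers z)))
    obtain ⟨d, hd, e2⟩ := tr u hu huz
    have nq : q ∈ normalizer (V : Set G) := mem_normalizer_fintype fun w hw => by
      have := h'.comm q hq w hw.2
      rw [show q * w * q⁻¹ = ⁅q, w⁆ * w by rw [commutatorElement_def]; group]
      exact V.mul_mem (zpowers_le.2 xV this) hw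
    refine ⟨d * c⁻¹ * q, mul_mem (mul_mem (nV d hd) (inv_mem (nV c hc1))) nq, ?_⟩
    rw [← e2, show d * c⁻¹ * q * z * (d * c⁻¹ * q)⁻¹ = d * c⁻¹ * (q * z * q⁻¹) * c * d⁻¹ by group, e,
      ← e1]
    group
  · have key : ∀ u ∈ V, σ (p c) (π u) = π u := fun u hu => by
      have := h1 u hu
      rw [S.σ_π c hc u hu.1, show c * u * c⁻¹ = ⁅c, u⁆ * u by rw [commutatorElement_def]; group,
        S.pj.mul _ (h.ZQ this) _ hu.1, (S.pj.ker _ (h.ZQ this)).2 this, zero_add]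
    have k1 := key x' xV
    have k2 := key v hv
    rw [ev, map_add, map_smul, k1, add_right_inj] at k2
    have a1 := L.act ha (p c) 1 0
    have a2 := L.act ha (p c) 0 1
    simp only [one_smul, zero_smul, add_zero, zero_add, mul_one, mul_zero, k1, k2] at a1 a2
    obtain ⟨b1, b2⟩ := L.ind ha h0 (s := p c 0 0 - 1) (t := p c 1 0) (by
      rw [sub_smul, one_smul, sub_add_eq_add_sub, ← a1, sub_self])
    obtain ⟨b3, -⟩ := L.ind ha h0 (s := p c 0 1) (t := p c 1 1 - 1) (by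
      rw [sub_smul, one_smul, ← add_sub_assoc, ← a2, sub_self])
    exact (h.ker c hc).1 (sl23_eq_one _ (sub_eq_zero.1 b1) b2 b3)

end Sh

theorem LS.exists_vs (h : LS Q z p) {x' : G} (hc : IsConj z x') (hx' : x' ∈ Q)
    (hxz : x' ∉ zpowers z) : ∃ V, VS Q V z ∧ x' ∈ V := by
  obtain ⟨g, rfl⟩ := isConj_iff.1 hc
  have h' := h.map (MulAut.conj g)
  rw [MulAut.conj_apply] at h'
  generalize Q.map (MulAut.conj g).toMonoidHom = Q' at h'
  obtain ⟨x, hx, hxV⟩ : ∃ x ∈ Q' ⊓ centralizer {z}, x ∉ Q ⊓ Q' := by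
    by_contra! e
    have h1 := card_le_of_le e
    have h2 := h'.card_D (h.mem_other h' hx')
    rw [h.card_inf h' hx' hxz] at h1
    omega
  have hxz' := mem_centralizer_singleton_iff.1 hx.2
  obtain ⟨c, hc⟩ := sl23_conj (p x) (by rw [← h.p_pow hxz', h'.cube x hx.1, h.p_one])
    fun e => hxV ⟨(h.ker x hxz').1 e, hx.1⟩
  have h2 := h.conjp c
  obtain ⟨π, B, ρ, σ, S⟩ := h2.exists_sh
  refine ⟨Q ⊓ Q', ?_, hx', h'.zQ⟩
  rcases hc with e | e
  · exact S.vs h2 h' hx' hxz hx.1 hxz' (mul_inv_eq_iff_eq_mul.2 e)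
  · exact S.vs h2 h' hx' hxz (Q'.pow_mem hx.1 2) ((show Commute x z from hxz').pow_left 2)
      (by rw [h.p_pow hxz']; exact mul_inv_eq_iff_eq_mul.2 e)

end Cfsg.Lib.L43
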