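import Cfsg.Agent.Recog.Mc3I

/-!
Coordinates on `J` and the action of the centraliser of `y = z z'` in `N(J)`.
-/

set_option autoImplicit false
set_option linter.unusedSectionVars false
set_option linter.unusedVariables false
set_option linter.style.haveILetI false

namespace Cfsg.Lib.Mc3

open Subgroup Cfsg.Lib.Perm Cfsg.Lib.Block Equiv.Perm Cfsg.Lib.Block.Tri Cfsg.Lib.Block.Mon
  Cfsg.Lib.Known Cfsg.Lib.Known.GTab
open scoped commutatorElement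

/-- Words for the alternating group on four of the six points. -/
def wd (i j : Fin 2) (k : Fin 3) : S6 := t0 ^ i.1 * w0 ^ j.1 * a1 ^ k.1

def r0 : S6 := Equiv.swap 2 3 * Equiv.swap 4 5

theorem A4_max : ∀ x : S6, sign x = 1 → (x 2 = 2 ∧ x 5 = 5) ∨ ∃ i j k, x * wd i j k = f0 ∨
    (x * wd i j k) ^ 5 = 1 ∧ x * wd i j k ≠ 1 := by decide +kernel

theorem A4_inv : ∀ x : S6, sign x = 1 → x 2 = 2 → x 5 = 5 → x * x = 1 → x ≠ 1 →
    (x = t0 ∨ x = w0 ∨ x = t0 * w0) ∧ ∃ k : Fin 3, a1 ^ k.1 * x * (a1 ^ k.1)⁻¹ = t0 := by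
  decide +kernel

theorem r0_ok : sign r0 = 1 ∧ r0 * a1 * r0⁻¹ = a0 ∧ a1 ≠ 1 ∧ (a1 ^ 2)⁻¹ = a1 ∧
    a1⁻¹ * t0 * a1 = w0 ∧ a1⁻¹ * w0 * a1 = t0 * w0 ∧ (a1 * a1)⁻¹ * t0 * (a1 * a1) = t0 * w0 ∧
    (a1 * a1)⁻¹ * w0 * (a1 * a1) = t0 := by decide +kernel

theorem dig_J0 : ∀ a ∈ J0, ∀ b ∈ J0, (a * b).1 % 3 = (a.1 % 3 + b.1 % 3) % 3 ∧
    (a * b).1 / 3 % 3 = (a.1 / 3 % 3 + b.1 / 3 % 3) % 3 ∧
    (a * b).1 / 9 = (a.1 / 9 + b.1 / 9) % 3 := by decide +kernel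

theorem act_tab : (ek 27 * ek 1 * (ek 27)⁻¹ = ek 1 ∧ ek 27 * ek 3 * (ek 27)⁻¹ = (ek 3)⁻¹ ∧
    ek 27 * ek 9 * (ek 27)⁻¹ = (ek 9)⁻¹) ∧ (ek 81 * ek 1 * (ek 81)⁻¹ = (ek 1)⁻¹ ∧
    ek 81 * ek 3 * (ek 81)⁻¹ = (ek 3)⁻¹ ∧ ek 81 * ek 9 * (ek 81)⁻¹ = ek 9) ∧
    (ek 324 * ek 1 * (ek 324)⁻¹ = ek 3 ∧ ek 324 * ek 3 * (ek 324)⁻¹ = ek 9 ∧
    ek 324 * ek 9 * (ek 324)⁻¹ = ek 1) ∧ (ek 108 * ek 1 * (ek 108)⁻¹ = ek 1 ∧
    ek 108 * ek 3 * (ek 108)⁻¹ = ek 9 ∧ ek 108 * ek 9 * (ek 108)⁻¹ = (ek 3)⁻¹) ∧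
    (ek 1).1 = 1 ∧ (ek 3).1 = 3 ∧ (ek 9).1 = 9 ∧ (ek 13).1 = 13 ∧ ek 13 ∈ J0 ∧ ek 13 ≠ 1 := by
  decide +kernel

theorem proj_J0 : ∀ a ∈ J0, a ≠ 1 → ∃ i : Fin 3, ∀ c, c = ek 324 ^ i.1 * a * (ek 324 ^ i.1)⁻¹ →
    ∀ d, d = ek 27 * ek 81 * c * (ek 27 * ek 81)⁻¹ * c⁻¹ →
      ek 81 * d * (ek 81)⁻¹ * d⁻¹ = ek 1 ∨ ek 81 * d * (ek 81)⁻¹ * d⁻¹ = (ek 1)⁻¹ := by
  simp only [forall_eq]
  decide +kernel

theorem W0_J0 : ∀ a ∈ J0, a ≠ 1 → ek 27 * a * (ek 27)⁻¹ * a = 1 →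
    (ek 81 * a * (ek 81)⁻¹ = a → a = ek 9 ∨ a = (ek 9)⁻¹) ∧
    (ek 27 * ek 81 * a * (ek 27 * ek 81)⁻¹ = a → a = ek 3 ∨ a = (ek 3)⁻¹) := by decide +kernel

/-- Words in the table group. -/
noncomputable def wk (i j : Fin 2) (k : Fin 3) : tK.El := ek 27 ^ i.1 * ek 81 ^ j.1 * ek 324 ^ k.1

theorem good_orb : ∀ a, good a → ∃ i j k, a = wk i j k * ek 1 * (wk i j k)⁻¹ ∨
    a = wk i j k * ek 13 * (wk i j k)⁻¹ ∨ a⁻¹ = wk i j k * ek 13 * (wk i j k)⁻¹ := by decide +kernel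

theorem fix_three : ∀ k : tK.El, k ^ 3 ∈ J0 → ∃ i j, ∀ a, a = wk i j 0 * ek 13 * (wk i j 0)⁻¹ →
    k * a * k⁻¹ = a := by
  simp only [forall_eq]
  decide +kernel

variable {G : Type*} [Group G]

/-- Coordinates. -/
def psi (v m : G) (a : tK.El) : G :=
  v ^ (a.1 % 3) * (m * v * m⁻¹) ^ (a.1 / 3 % 3) * (m * m * v * (m * m)⁻¹) ^ (a.1 / 9)

theorem psi_gens (v m : G) : psi v m (ek 1) = v ∧ psi v m (ek 3) = m * v * m⁻¹ ∧
    psi v m (ek 9) = m * m * v * (m * m)⁻¹ ∧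
    psi v m (ek 13) = v * (m * v * m⁻¹) * (m * m * v * (m * m)⁻¹) := by
  obtain ⟨-, -, -, -, h1, h2, h3, h4, -⟩ := act_tab
  simp only [psi, h1, h2, h3, h4]
  norm_num

variable [Finite G] {S : Sylow 3 G} {Q L : Subgroup G} {z : G}
  {pL : G → SL25} {J M : Subgroup G} {pM : G → S6} {t f u : G}

theorem Hyp.cent_J (h : Hyp S Q L z pL J M pM) {c : G} (hc : ∀ x ∈ J, c * x = x * c) : c ∈ J := by
  have hz := hc z h.zJ
  have hN := mem_nz_of_comm hz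
  have h1 : c ^ 3 ∈ zpowers z := h.l.cent _ fun q hq => by
    have hq' := h.l.nQ c hN q hq
    have h1 : q⁻¹ * (c * q * c⁻¹) ∈ J := h.cent_W (mul_mem (inv_mem hq) hq') fun w hw hwq => by
      have h2 := conj_zp_eq hz (h.l.comm q hq w hwq)
      rw [conj_comm, mul_inv_eq_iff_eq_mul.mpr (hc w hw), commutatorElement_def,
        commutatorElement_def, mul_left_inj] at h2
      calc q⁻¹ * (c * q * c⁻¹) * w = q⁻¹ * (c * q * c⁻¹ * w * (c * q * c⁻¹)⁻¹) * (c * q * c⁻¹) := by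
            group
        _ = _ := by rw [h2]; group
    set w := q⁻¹ * (c * q * c⁻¹) with hw
    have h2 : SemiconjBy q (w * c) c := by rw [SemiconjBy, hw]; group
    have h3 : Commute c w := hc w h1
    rw [← (h2.pow_right 3).eq, h3.symm.mul_pow, h.m.cube w h1, one_mul]
  refine h.mem_J_of_cent (h.m.three c (mem_normalizer_fintype fun x hx => by
    rwa [hc x hx, mul_inv_cancel_right]) ?_) hc
  rw [show 729 = 3 * 3 * 81 by rfl, pow_mul, pow_mul, h.m.cube _ (h.ZJ h1), one_pow]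

namespace Fr

variable (h : Fr S Q L z pL J M pM t f u)
include h

theorem fy : f * (z * (u * z * u⁻¹)) * f⁻¹ = (z * (u * z * u⁻¹))⁻¹ := by
  rw [← conj_mul, h.fz, h.fz', h.m.comm _ h.zJ _ h.z'J, mul_inv_rev (u * z * u⁻¹)]

theorem pM_fix {x : G} (hx : x ∈ M) (hy : x * (z * (u * z * u⁻¹)) = z * (u * z * u⁻¹) * x) :
    pM x 2 = 2 ∧ pM x 5 = 5 := by
  refine (A4_max _ (h.m.even x hx)).resolve_right ?_
  rintro ⟨i, j, k, e⟩
  obtain ⟨m, hm, hm1⟩ := h.m.surj a1 sign_gens.2.2.2.2.1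
  have h1 := mul_mem (pow_mem h.tM i.1) (pow_mem h.uM j.1)
  have h2 := mul_mem h1 (pow_mem hm k.1)
  have h3 := mul_mem hx h2
  have h4 : Commute (x * (t ^ i.1 * u ^ j.1 * m ^ k.1)) (z * (u * z * u⁻¹)) :=
    Commute.mul_left hy (((Commute.pow_left h.ty _).mul_left (Commute.pow_left h.uy _)).mul_left
      (Commute.pow_left (h.a1_y hm hm1).2 _))
  rw [show pM x * wd i j k = pM (x * (t ^ i.1 * u ^ j.1 * m ^ k.1)) by
    rw [h.m.map_mul _ hx _ h2, h.m.map_mul _ h1 _ (pow_mem hm _),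
      h.m.map_mul _ (pow_mem h.tM _) _ (pow_mem h.uM _), h.m.map_pow h.tM, h.m.map_pow h.uM,
      h.m.map_pow hm, h.mt, h.mu, hm1, wd]] at e
  generalize x * (t ^ i.1 * u ^ j.1 * m ^ k.1) = g at h3 h4 e
  rcases e with e | ⟨e1, e2⟩
  · have := h.m.conj_congr h3 h.fM (e.trans h.mf.symm) h.yJ
    rw [h4.eq, mul_inv_cancel_right, h.fy] at this
    exact h.y_ne (h.eq_one_of_inv h.yJ this)
  · have h5 : (g ^ 6) ^ 5 = 1 := by
      have := h.m.cube _ ((h.m.ker _ (pow_mem h3 5)).mp (by rw [h.m.map_pow h3, e1]))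
      rw [← pow_mul] at this ⊢
      rw [show 6 * 5 = 5 * 3 * 2 by rfl, pow_mul, this, one_pow]
    have h6 := h.l.modEq5 h5 (A := J) fun a ha => h.m.conj_J (pow_mem h3 6) ha
    have h7 := card_dvd_of_le (inf_le_left : J ⊓ centralizer {g ^ 6} ≤ J)
    have h8 := card_le_of_le (show zpowers (z * (u * z * u⁻¹)) ≤ J ⊓ centralizer {g ^ 6} from
      zpowers_le.mpr ⟨h.yJ, mem_Ct (h4.pow_left 6).symm⟩)
    rw [Nat.card_zpowers, h.y3] at h8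
    rw [h.m.cardJ] at h6 h7
    have h9 := card_dvd_243 (h7.trans (by norm_num))
    have h10 := Nat.le_of_dvd (by norm_num) h7
    have h11 : J ⊓ centralizer {g ^ 6} = J := eq_of_le_of_card_ge inf_le_left (by
      rw [h.m.cardJ]; unfold Nat.ModEq at h6; omega)
    have := (h.m.ker _ (pow_mem h3 6)).mpr (h.cent_J fun a ha => (comm_Ct ⟨a, (h11.ge ha).2⟩).symm)
    rw [h.m.map_pow h3, pow_succ, e1, one_mul] at this
    exact e2 this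

theorem invol_cases {c s : G} (hc : c ∈ normalizer (J : Set G))
    (hcy : c * (z * (u * z * u⁻¹)) = z * (u * z * u⁻¹) * c) (hs : s ∈ M) (hsJ : s ∉ J)
    (ss : s * s = 1) (hsy : s * (z * (u * z * u⁻¹)) = z * (u * z * u⁻¹) * s) :
    (pM (c * s * c⁻¹) = t0 ∨ pM (c * s * c⁻¹) = w0 ∨ pM (c * s * c⁻¹) = t0 * w0) ∧
      ∃ k : Fin 3, a1 ^ k.1 * pM (c * s * c⁻¹) * (a1 ^ k.1)⁻¹ = t0 := by
  have h1 := h.m.nM c hc s hs
  obtain ⟨h2, h3⟩ := h.pM_fix h1 (Commute.mul_left (Commute.mul_left hcy hsy) (Commute.inv_left hcy))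
  refine A4_inv _ (h.m.even _ h1) h2 h3 ?_ fun e => hsJ ?_
  · rw [← h.m.map_mul _ h1 _ h1, conj_mul, ss, mul_one, mul_inv_cancel, h.m.map_one]
  · exact (mem_normalizer_iff.mp hc s).mpr ((h.m.ker _ h1).mp e)

theorem t_notMem : t ∉ J := fun e =>
  rel0.2.2.2.2.2.2.2.2.1 (h.mt ▸ (h.m.ker t h.tM).mpr e)

theorem u_notMem : u ∉ J := fun e =>
  rel0.2.2.2.2.2.2.2.2.2.1 (h.mu ▸ (h.m.ker u h.uM).mpr e)

theorem CD_cases {c : G} (hz : c * z = z * c) (hz' : c * (u * z * u⁻¹) = u * z * u⁻¹ * c)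
    (ht : c * t = t * c) :
    c ∈ J ∨ c * t ∈ J ∨ ∀ x ∈ h.W0, c * c * x * (c * c)⁻¹ = x⁻¹ := by
  obtain ⟨Φ, hΦ⟩ := h.exists_phi
  let jj : NN z t := ⟨_, h.z'N⟩
  have h1 : (Φ jj).2 * (Φ jj).2 * (Φ jj).2 = 1 := by
    rw [← pow_three', ← Prod.pow_snd, ← map_pow, show jj ^ 3 = 1 from Subtype.ext (h.m.cube _ h.z'J),
      map_one, Prod.snd_one]
  have h2 : (Φ jj).2 ≠ 1 := fun e => ((hΦ.ker jj).mp (Prod.ext (hΦ.z' jj rfl) e)).elim h.z'_ne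
    fun e => h.t_notMem (e ▸ h.z'J)
  have even : ∀ n : NN z t, (n : G) * z = z * n → n * jj = jj * n → sign (Φ n).2 = 1 →
      (n : G) ∈ J ∨ n * t ∈ J := fun n hz hj hs => by
    have key : ∀ a : NN z t, (a : G) ∈ zpowers (u * z * u⁻¹) → (Φ (a * n)).2 = 1 →
        (n : G) ∈ J ∨ n * t ∈ J := fun a ha e => by
      have hJ := zpowers_le.mpr h.z'J ha
      rcases h.l.mem_or_of_cent h.m.JS h.m.comm h.m.cardJ (a * n).2.1 ((hΦ.snd _).mp e) h.tL h.tt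
        h.pt (Commute.mul_left (h.m.comm _ hJ _ h.zJ) hz) with e | e
      · exact Or.inl (by simpa using mul_mem (inv_mem hJ) (h.ZJ (h.mem_Z (a * n).2 e)))
      · exact Or.inr (by
          simpa [mul_assoc] using mul_mem (inv_mem hJ) (h.ZJ (h.mem_Z (mul_mem (a * n).2 h.tN) e)))
    rcases (S5_35 _ h1 h2).2.2 _ hs (by rw [← Prod.snd_mul, ← map_mul, hj, map_mul]; rfl) with
      e | e | e
    · exact key 1 (one_mem _) (by simpa using e)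
    · exact key jj⁻¹ (inv_mem (mem_zpowers _)) (by simp [e])
    · exact key jj (mem_zpowers _) (by simp [e])
  let cc : NN z t := ⟨c, mem_NN.mpr ⟨mem_nz_of_comm hz, ht⟩⟩
  rcases Int.units_eq_one_or (sign (Φ cc).2) with hs | hs
  · exact (even cc hz (Subtype.ext hz') hs).imp_right Or.inl
  obtain ⟨n, hn⟩ := mul_mem (hΦ.even ((Equiv.swap 0 1, 1) * Φ cc) (by
    simp [hs, (hΦ.fst cc).mpr hz])) (inv_mem ⟨cc, rfl⟩)
  rw [mul_inv_cancel_right] at hn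
  obtain ⟨H, hH⟩ := h.exists_cp
  obtain ⟨-, -, c0, -, hc0⟩ := h.exists_ou hH n.2 ((nz_cases h.l.z3 n.2.1).resolve_left fun e => by
    have := (hΦ.fst n).mpr e
    rw [hn] at this
    exact absurd this (by decide)) ((hΦ.snd n).mp (by rw [hn]))
  obtain ⟨-, k, hk, hkL, hkz, -⟩ := h.exists_fL hH
  obtain ⟨e, he, heJ⟩ := hc0.exists_e hk hkL hkz
  have heN : e ∈ NN z t := by
    have := mul_mem (hH.le hc0.cH) (hH.le hk)
    rcases he with rfl | rfl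
    exacts [this, mul_mem this h.tN]
  let τ : NN z t := ⟨f, h.fN⟩ * ⟨e, heN⟩
  have h3 : ∀ x ∈ J, (τ : G) * x * (τ : G)⁻¹ = (f * x * f⁻¹)⁻¹ := fun x hx => by
    change f * e * x * (f * e)⁻¹ = _
    calc _ = f * (e * x * e⁻¹) * f⁻¹ := by group
      _ = _ := by rw [heJ x hx]; group
  have h4 : ∀ x ∈ h.W0, (τ : G) * x * (τ : G)⁻¹ ∈ h.W0 := fun x hx =>
    h3 x hx.1 ▸ inv_mem (h.conj_W0 (h.m.MN h.fM) h.ft hx)
  have h5 : ∀ x ∈ h.W0, (τ : G) * ((τ : G) * x * (τ : G)⁻¹) * (τ : G)⁻¹ = x⁻¹ := fun x hx => by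
    rw [h3 _ (h4 x hx).1, h3 x hx.1, ← h.ff_W0 hx]; simp [mul_assoc]
  have h6 : (τ : G) * z = z * τ := mul_inv_eq_iff_eq_mul.mp (by rw [h3 z h.zJ, h.fz, inv_inv])
  have h7 : τ * jj = jj * τ := Subtype.ext (mul_inv_eq_iff_eq_mul.mp
    ((h3 _ h.z'J).trans (by rw [h.fz', inv_inv])))
  have pm : ∀ d : G, d ∈ J ∨ d * t ∈ J → (∀ x ∈ h.W0, d * x * d⁻¹ = x) ∨
      ∀ x ∈ h.W0, d * x * d⁻¹ = x⁻¹ := fun d hd => hd.imp
    (fun e x hx => by rw [h.m.comm d e x hx.1, mul_inv_cancel_right]) fun e x hx => by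
      calc _ = d * t * (t⁻¹ * x * t⁻¹⁻¹) * (d * t)⁻¹ := by group
        _ = _ := by rw [conj_inv_of_inv hx.2, h.m.comm _ e _ (inv_mem hx.1), mul_inv_cancel_right]
  rcases Int.units_eq_one_or (sign (Φ τ).2) with hs' | hs'
  · obtain ⟨v, hv, hv1⟩ := h.exists_W0
    refine absurd (h.eq_one_of_inv hv.1 ?_) hv1
    rw [← h5 v hv]
    rcases pm _ (even τ h6 h7 hs') with e | e
    · rw [e v hv, e v hv]
    · rw [e v hv, e _ (inv_mem hv), inv_inv]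
  refine Or.inr (Or.inr fun x hx => ?_)
  have h8 : ∀ x, c * x * c⁻¹ = (cc * τ⁻¹ : NN z t) * ((τ : G) * x * (τ : G)⁻¹) *
      ((cc * τ⁻¹ : NN z t) : G)⁻¹ := fun x => by
    change _ = c * (τ : G)⁻¹ * _ * (c * (τ : G)⁻¹)⁻¹
    group
  rw [show c * c * x * (c * c)⁻¹ = c * (c * x * c⁻¹) * c⁻¹ by group]
  rcases pm _ (even (cc * τ⁻¹) (Commute.mul_left hz (Commute.inv_left h6))
    (Commute.mul_left (Subtype.ext hz') (Commute.inv_left h7)) (by simp [hs, hs'])) with e | e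
  · rw [h8 x, e _ (h4 x hx), h8, e _ (h4 _ (h4 x hx)), h5 x hx]
  · rw [h8 x, e _ (h4 x hx), h8, e _ (h4 _ (inv_mem (h4 x hx))), conj_inv, inv_inv, h5 x hx]

end Fr

end Cfsg.Lib.Mc3
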