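import Cfsg.Agent.Known.ZassSylow
import Cfsg.Agent.Perm.ZassThree
import Cfsg.Agent.Class.PGL2Borel
import Cfsg.Agent.Class.PGL2Torus

/-! Counting elements of given order; the values for `PGL(2, q)`. -/

set_option autoImplicit false

namespace Cfsg.Lib.Nse

open MulAction MatrixGroups Subgroup Cfsg.Lib.Perm Cfsg.Lib.Class

/-- The number of elements of order `n`. -/
noncomputable abbrev cnt (X : Type*) [Group X] (n : ℕ) : ℕ := Nat.card {g : X // orderOf g = n}

variable {G : Type*} [Group G]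

theorem dvd_cnt (U : Subgroup G) {n : ℕ}
    (h : ∀ u ∈ U, ∀ g : G, orderOf g = n → u * g = g * u → u = 1) : Nat.card U ∣ cnt G n := by
  let _ : MulAction U {g : G // orderOf g = n} :=
    { smul := fun u g => ⟨u * g * (u : G)⁻¹, ((MulAut.conj (u : G)).orderOf_eq g.1).trans g.2⟩
      one_smul := fun g => Subtype.ext (show ((1 : U) : G) * g * ((1 : U) : G)⁻¹ = g by simp)
      mul_smul := fun u v g => Subtype.ext (show ((u * v : U) : G) * g * ((u * v : U) : G)⁻¹ =
        u * (v * g * (v : G)⁻¹) * (u : G)⁻¹ by rw [coe_mul]; group) }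
  rw [cnt, Nat.card_congr (selfEquivOrbitsQuotientProd (G := U) (X := {g : G // orderOf g = n})
    fun g => (eq_bot_iff_forall _).2 fun u hu => Subtype.ext (h u u.2 g g.2
      (mul_inv_eq_iff_eq_mul.1 (congrArg Subtype.val (mem_stabilizer_iff.1 hu))))), Nat.card_prod]
  exact Dvd.intro_left _ rfl

theorem two_dvd_cnt [Finite G] {n : ℕ} (hn : 2 < n) : 2 ∣ cnt G n := by
  let σ : Equiv.Perm {g : G // orderOf g = n} :=
    Equiv.Perm.subtypePerm (Equiv.inv G) fun g => by rw [Equiv.inv_apply, orderOf_inv]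
  have h := card_modEq_ncard_fixedBy (Ω := {g : G // orderOf g = n}) Nat.prime_two (g := σ)
    (Equiv.ext fun g => Subtype.ext (inv_inv g.1))
  rw [show fixedBy {g : G // orderOf g = n} σ = ∅ from Set.eq_empty_of_forall_notMem fun g hg => by
    have h1 : g.1 ^ 2 = 1 := by
      rw [sq]; exact inv_eq_iff_mul_eq_one.1 (congrArg Subtype.val hg)
    have := Nat.le_of_dvd two_pos (orderOf_dvd_of_pow_eq_one h1)
    rw [g.2] at this
    omega, Set.ncard_empty] at h
  exact (Nat.modEq_zero_iff_dvd).1 h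

theorem cnt_one : cnt G 1 = 1 :=
  Nat.card_eq_one_iff_exists.2 ⟨⟨1, orderOf_one⟩, fun g => Subtype.ext (orderOf_eq_one_iff.1 g.2)⟩

theorem cnt_two_iff {Ω : Type*} [MulAction G Ω] [Finite Ω] (hZ : Z2 G Ω) {q : ℕ}
    (hΩ : Nat.card Ω = q + 1) (hq : Odd q) (h3 : 3 ≤ q) (a : Ω)
    (hd : ∀ b, a ≠ b → Nat.card (stabilizer G a ⊓ stabilizer G b : Subgroup G) = q - 1) :
    cnt G 2 = q ^ 2 ↔ ∀ b, a ≠ b → ∀ s : G, s • a = b → s • b = a → s * s = 1 := by
  classical
  have := hZ.finite_group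
  have := Fintype.ofFinite G
  have := Fintype.ofFinite Ω
  have o2 : ∀ {t : G}, orderOf t = 2 ↔ t ≠ 1 ∧ t * t = 1 := fun {t} =>
    ⟨fun h => ⟨fun e => by simp [e] at h, by rw [← sq, ← h, pow_orderOf_eq_one]⟩,
      fun h => orderOf_eq_prime (sq t ▸ h.2) h.1⟩
  let T : Ω → Finset G := fun b => (Finset.univ.filter fun t : G => orderOf t = 2).filter
    fun t => t • a = b
  have mT : ∀ b t, t ∈ T b ↔ orderOf t = 2 ∧ t • a = b := fun b t => by simp [T]
  have h1 : cnt G 2 = ∑ b, (T b).card := by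
    rw [cnt, Nat.subtype_card (Finset.univ.filter fun t : G => orderOf t = 2) (by simp)]
    exact Finset.card_eq_sum_card_fiberwise fun _ _ => Finset.mem_univ _
  have hq' : (Finset.univ.erase a).card = q := by
    rw [Finset.card_erase_of_mem (Finset.mem_univ a), Finset.card_univ, ← Nat.card_eq_fintype_card,
      hΩ, Nat.add_sub_cancel]
  have h2 : (T a).card = q := by
    have key : ∀ b, ∃ t : G, a ≠ b → t ≠ 1 ∧ t * t = 1 ∧ t • a = a ∧ t • b = b := fun b => by
      by_cases hb : a = b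
      · exact ⟨1, fun h => absurd hb h⟩
      · obtain ⟨t, ht⟩ := hZ.exists_invol_of_even (a := a) (b := b) (by
          rw [hd b hb]; exact Nat.Odd.sub_odd hq odd_one)
        exact ⟨t, fun _ => ht⟩
    choose j hj using key
    rw [← hq']
    refine (Finset.card_bij (fun b _ => j b) (fun b hb => ?_) (fun b hb c hc e => ?_)
      fun t ht => ?_).symm
    · have := hj b (Finset.ne_of_mem_erase hb).symm
      exact (mT _ _).2 ⟨o2.2 ⟨this.1, this.2.1⟩, this.2.2.1⟩
    · have hb' := hj b (Finset.ne_of_mem_erase hb).symm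
      have hc' := hj c (Finset.ne_of_mem_erase hc).symm
      exact ((hZ.eq_or_eq_of_fix hb'.1 (Finset.ne_of_mem_erase hb).symm hb'.2.2.1 hb'.2.2.2
        (show j b • c = c from e ▸ hc'.2.2.2)).resolve_left (Finset.ne_of_mem_erase hc)).symm
    · obtain ⟨ht1, ht2⟩ := (mT _ _).1 ht
      obtain ⟨b, hb, hb'⟩ : ∃ b, t • b = b ∧ b ≠ a := by
        by_contra! hn
        have h4 := card_modEq_ncard_fixedBy (Ω := Ω) Nat.prime_two (ht1 ▸ pow_orderOf_eq_one t)
        rw [show fixedBy Ω t = {a} from Set.eq_singleton_iff_unique_mem.2 ⟨ht2, hn⟩,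
          Set.ncard_singleton, hΩ, Nat.ModEq] at h4
        rw [Nat.odd_iff] at hq
        omega
      have := hj b hb'.symm
      exact ⟨b, Finset.mem_erase.2 ⟨hb', Finset.mem_univ b⟩, hZ.invol_unique hb'.symm (by omega)
        (o2.1 ht1).1 (o2.1 ht1).2 ht2 hb this.1 this.2.1 this.2.2.1 this.2.2.2⟩
  let W : Ω → Finset G := fun b => Finset.univ.filter fun g => g • a = b ∧ g • b = a
  have mW : ∀ b t, t ∈ W b ↔ t • a = b ∧ t • b = a := fun b t => by simp [W]
  have h4 : ∀ b, a ≠ b → (W b).card = q - 1 := fun b hb => by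
    rw [← hd b hb, ← hZ.ncard_swaps hb, ← Set.ncard_coe_finset]
    congr 1
    exact Set.ext (mW b)
  have h5 : ∀ b, T b ⊆ W b := fun b t ht => by
    obtain ⟨e1, e2⟩ := (mT _ _).1 ht
    exact (mW _ _).2 ⟨e2, by rw [← e2, ← mul_smul, (o2.1 e1).2, one_smul]⟩
  have h6 : ∑ b ∈ Finset.univ.erase a, (W b).card = q * (q - 1) := by
    rw [Finset.sum_congr rfl fun b hb => h4 b (Finset.ne_of_mem_erase hb).symm, Finset.sum_const, hq',
      smul_eq_mul]
  have h7 : q ^ 2 = q + q * (q - 1) := by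
    obtain ⟨r, rfl⟩ : ∃ r, q = r + 1 := ⟨q - 1, by omega⟩
    rw [Nat.add_sub_cancel]; ring
  rw [h1, ← Finset.add_sum_erase _ _ (Finset.mem_univ a), h2, h7, add_right_inj, ← h6,
    Finset.sum_eq_sum_iff_of_le fun b _ => Finset.card_le_card (h5 b)]
  refine ⟨fun h b hb s e1 e2 => ?_, fun h b hb => ?_⟩
  · have := Finset.eq_of_subset_of_card_le (h5 b)
      (h b (Finset.mem_erase.2 ⟨hb.symm, Finset.mem_univ b⟩)).ge
    exact (o2.1 ((mT _ _).1 (this ▸ (mW _ _).2 ⟨e1, e2⟩)).1).2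
  · have hb' := (Finset.ne_of_mem_erase hb).symm
    refine congrArg Finset.card ((h5 b).antisymm fun s hs => ?_)
    obtain ⟨e1, e2⟩ := (mW _ _).1 hs
    exact (mT _ _).2 ⟨o2.2 ⟨fun e => hb' (by rw [← e1, e, one_smul]), h b hb' s e1 e2⟩, e1⟩

variable {F : Type*} [Field F] [Finite F]

theorem pgl_z2 : Z2 PGL(2, F) (P1 F) :=
  ⟨fun {a b c d} h h' => by
    obtain ⟨g, rfl, rfl⟩ := pgl2_exists_smul_eq_two h
    obtain ⟨k, rfl, rfl⟩ := pgl2_exists_smul_eq_two h'
    exact ⟨k * g⁻¹, by rw [mul_smul, inv_smul_smul], by rw [mul_smul, inv_smul_smul]⟩,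
   fun h1 h2 h3 => pgl2_eq_one_of_three h1 h3 h2, fun h => pgl2_eq_one_of_fix (h _) (h _) (h _)⟩

theorem pgl_cnt_two (hq : Odd (Nat.card F)) : cnt PGL(2, F) 2 = Nat.card F ^ 2 := by
  have h2 := two_le_card_field F
  refine (cnt_two_iff pgl_z2 P1.card_eq hq (by rw [Nat.odd_iff] at hq; omega) (P1.inf F)
    fun b hb => ?_).2 fun b hb s => pgl2_mul_self_of_swap hb
  have := pgl_z2.card_stabilizer hb
  rw [card_stabilizer_pgl2, P1.card_eq, Nat.add_sub_cancel] at this
  exact (Nat.eq_of_mul_eq_mul_left (by omega) this).symm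

theorem pgl_cnt_char (p : ℕ) [hp : Fact p.Prime] [CharP F p] :
    cnt PGL(2, F) p = (Nat.card F + 1) * (Nat.card F - 1) := by
  rw [← P1.card_eq, ← Known.SC.card_biUnion_of_ti (unip p) _ (card_unip p) fun x y hxy =>
    (eq_bot_iff_forall _).2 fun g hg => by_contra fun h1 => hxy (eq_of_mem_unip p hg.2 h1 hg.1.1)]
  refine Nat.card_congr (Equiv.subtypeEquivRight fun g => ⟨fun h => ?_, fun ⟨h1, x, hx⟩ =>
    orderOf_eq_prime hx.2 h1⟩)
  have h1 : g ^ p = 1 := h ▸ pow_orderOf_eq_one g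
  obtain ⟨x, hx⟩ := pgl2_exists_fixed_of_pow_char p h1
  exact ⟨fun e => hp.out.one_lt.ne (by rw [← h, e, orderOf_one]), x, hx, h1⟩

theorem pgl_dvd_cnt (p : ℕ) [hp : Fact p.Prime] [CharP F p] {n : ℕ} (h1 : n ≠ 1) (h2 : n ≠ p) :
    Nat.card F ∣ cnt PGL(2, F) n := by
  rw [← card_unip p (P1.inf F)]
  refine dvd_cnt _ fun u hu g hg e => by_contra fun hu1 => ?_
  have h3 : g • P1.inf F = P1.inf F :=
    eq_of_mem_unip p hu hu1 (by rw [← mul_smul, e, mul_smul, hu.1])
  obtain ⟨a, b, rfl⟩ := exists_aff_of_smul_inf h3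
  obtain ⟨c, rfl⟩ := (mem_unip_inf p).1 hu
  rw [aff_mul, aff_mul, aff_inj] at e
  have hc : c ≠ 0 := fun e => hu1 (e ▸ aff_one)
  have ha : a = 1 := Units.ext (mul_right_cancel₀ hc (by
    have := e.2
    simp only [Units.val_one, one_mul] at this ⊢
    linear_combination -this))
  have h4 := orderOf_dvd_of_pow_eq_one ((mem_unip_inf p).2 ⟨b, ha ▸ rfl⟩ : aff a b ∈ _).2
  exact ((Nat.dvd_prime hp.out).1 (hg ▸ h4)).elim h1 h2

end Cfsg.Lib.Nse
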