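import Cfsg.Agent.Recog.NseCnt
import Cfsg.Agent.Solv.FrobCount
import Cfsg.Agent.Class.PGL2Sub

/-! Groups with the order and the same-order counts of `PGL(2, q)`, `q` odd. -/

set_option autoImplicit false

namespace Cfsg.Lib.Nse

open MulAction MatrixGroups Subgroup Cfsg.Lib.Perm Cfsg.Lib.Class

variable {G : Type*} [Group G] [Finite G]

theorem card_eq_sum (R : ℕ → Prop) [DecidablePred R] :
    Nat.card {g : G // R (orderOf g)} = ∑ n ∈ (Nat.card G).divisors.filter R, cnt G n := by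
  classical
  have := Fintype.ofFinite G
  rw [Nat.subtype_card (Finset.univ.filter fun g : G => R (orderOf g)) (by simp),
    Finset.card_eq_sum_card_fiberwise (f := orderOf) (t := (Nat.card G).divisors.filter R)
      fun g hg => by simpa [orderOf_dvd_card] using hg]
  refine Finset.sum_congr rfl fun n hn => (Nat.subtype_card _ fun g => ?_).symm
  simp only [Finset.mem_filter, Finset.mem_univ, true_and, and_iff_right_iff_imp]
  exact fun h => h ▸ (Finset.mem_filter.1 hn).2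

theorem cnt_zero : cnt G 0 = 0 :=
  Nat.card_eq_zero.2 (Or.inl ⟨fun g => (orderOf_pos g.1).ne' g.2⟩)

theorem eq_two_of_odd {n : ℕ} (h : Odd (cnt G n)) (h1 : n ≠ 1) : n = 2 := by
  by_contra h2
  rcases Nat.eq_zero_or_pos n with rfl | h0
  · simp [cnt_zero] at h
  · exact Nat.not_even_iff_odd.2 h (even_iff_two_dvd.2 (two_dvd_cnt (by omega)))

theorem orderOf_eq_of_cnt {p q m f : ℕ} (hp : p.Prime) (hq : q = p ^ f) (h3 : 3 < q)
    (hm : m + 1 = q ^ 2) (hG : Nat.card G = q * m)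
    (h : ∀ n, cnt G n = 1 ∨ cnt G n = m ∨ q ∣ cnt G n) (h2 : cnt G 2 = q ^ 2) :
    cnt G p = m ∧ ∀ g : G, p ∣ orderOf g → orderOf g = p := by
  classical
  have hpq : p ∣ q := hq ▸ dvd_pow_self p (by rintro rfl; rw [pow_zero] at hq; omega)
  have hm0 : 0 < m := by nlinarith
  have h1 : ∀ n, n ≠ 1 → cnt G n = m ∨ q ∣ cnt G n := fun n hn => (h n).resolve_left fun e => by
    rw [eq_two_of_odd (n := n) (e ▸ odd_one) hn, h2] at e
    nlinarith
  have hG0 : Nat.card G ≠ 0 := Nat.card_pos.ne'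
  have hD : ∀ {n}, n ∣ Nat.card G → n ∈ (Nat.card G).divisors := fun h =>
    Nat.mem_divisors.2 ⟨h, hG0⟩
  have hpG : p ∣ Nat.card G := hG ▸ hpq.mul_right m
  have h4 : cnt G p = m := (h1 p hp.one_lt.ne').resolve_right fun e => by
    have h5 := Solv.Frob.dvd_card_pow_eq_one hpG
    rw [Nat.card_congr (Equiv.subtypeEquivRight fun g => orderOf_dvd_iff_pow_eq_one.symm),
      card_eq_sum (· ∣ p), show (Nat.card G).divisors.filter (· ∣ p) = {1, p} from by
        ext n
        simp only [Finset.mem_filter, Nat.dvd_prime hp, Finset.mem_insert, Finset.mem_singleton,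
          and_iff_right_iff_imp]
        rintro (rfl | rfl)
        exacts [hD (one_dvd _), hD hpG], Finset.sum_pair hp.one_lt.ne, cnt_one] at h5
    exact hp.one_lt.ne' (Nat.dvd_one.1 ((Nat.dvd_add_left (hpq.trans e)).1 h5))
  have hS : q * m = ∑ n ∈ (Nat.card G).divisors, cnt G n := by
    rw [← hG, ← Finset.filter_true (Nat.card G).divisors, ← card_eq_sum fun _ => True]
    exact (Nat.card_congr (Equiv.subtypeUnivEquiv fun _ => trivial)).symm
  have h5 : ∀ n, n ≠ 1 → n ≠ p → q ∣ cnt G n := fun n hn hnp => (h1 n hn).resolve_left fun e => by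
    have hS' := hS
    rw [← Finset.sum_filter_add_sum_filter_not _ (fun n => cnt G n = m),
      Finset.sum_congr rfl fun n hn => (Finset.mem_filter.1 hn).2, Finset.sum_const, smul_eq_mul,
      ← Finset.add_sum_erase _ _ (a := 1) (Finset.mem_filter.2 ⟨hD (one_dvd _), by
        rw [cnt_one]; nlinarith⟩), cnt_one] at hS'
    obtain ⟨r, hr⟩ : q ∣ _ := Finset.dvd_sum (f := cnt G)
      (s := ((Nat.card G).divisors.filter fun n => ¬ cnt G n = m).erase 1) fun n hn =>
        (h1 n (Finset.ne_of_mem_erase hn)).resolve_left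
          (Finset.mem_filter.1 (Finset.mem_of_mem_erase hn)).2
    obtain ⟨g, hg⟩ : Nonempty {g : G // orderOf g = n} := (Nat.card_pos_iff.1 (hm0.trans_eq e.symm)).1
    have hk : 1 < ((Nat.card G).divisors.filter fun n => cnt G n = m).card :=
      Finset.one_lt_card.2 ⟨n, Finset.mem_filter.2 ⟨hD (hg ▸ orderOf_dvd_natCard g), e⟩, p,
        Finset.mem_filter.2 ⟨hD hpG, h4⟩, hnp⟩
    rw [hr] at hS'
    generalize ((Nat.card G).divisors.filter fun n => cnt G n = m).card = k at hS' hk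
    obtain ⟨j, rfl⟩ : ∃ j, k = j + 1 := ⟨k - 1, by omega⟩
    have h6 : q ∣ j := by
      have : (q : ℤ) ∣ j := ⟨(j + 1) * q + r - m, by
        have e1 : (m : ℤ) + 1 = q ^ 2 := by exact_mod_cast hm
        have e2 : (q : ℤ) * m = (j + 1) * m + (1 + q * r) := by exact_mod_cast hS'
        linear_combination (j + 1) * e1 + e2⟩
      exact_mod_cast this
    have := Nat.le_of_dvd (by omega) h6
    nlinarith
  have hqm : q.Coprime m := by
    rw [← Nat.coprime_add_mul_left_right q m 0, ← Nat.coprime_comm]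
    exact Nat.Coprime.symm (Nat.Coprime.coprime_dvd_left (dvd_pow_self q two_ne_zero)
      (hm ▸ by simp))
  have h6 : m ∣ ∑ n ∈ (Nat.card G).divisors.filter (fun n => ¬ p ∣ n), cnt G n := by
    rw [← card_eq_sum fun n => ¬ p ∣ n, ← Nat.card_congr (Equiv.subtypeEquivRight
      (p := fun g : G => g ^ m = 1) fun g => ?_)]
    · exact Solv.Frob.dvd_card_pow_eq_one (hG ▸ dvd_mul_left m q)
    · rw [← orderOf_dvd_iff_pow_eq_one]
      refine ⟨fun h h' => hp.one_lt.ne' (Nat.eq_one_of_dvd_coprimes hqm hpq (h'.trans h)),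
        fun h => Nat.Coprime.dvd_of_dvd_mul_left ?_ (hG ▸ orderOf_dvd_natCard g)⟩
      exact hq ▸ ((Nat.Prime.coprime_iff_not_dvd hp).2 h).symm.pow_right f
  rw [← Finset.sum_filter_add_sum_filter_not _ (p ∣ ·), ← Finset.add_sum_erase _ _ (a := p)
    (Finset.mem_filter.2 ⟨hD hpG, dvd_rfl⟩), h4] at hS
  have h7 : q ∣ _ := Finset.dvd_sum (f := cnt G)
    (s := ((Nat.card G).divisors.filter (p ∣ ·)).erase p) fun n hn =>
      h5 n (fun e => hp.one_lt.ne' (Nat.dvd_one.1
        (e ▸ (Finset.mem_filter.1 (Finset.mem_of_mem_erase hn)).2))) (Finset.ne_of_mem_erase hn)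
  have h8 : m ∣ ∑ n ∈ ((Nat.card G).divisors.filter (p ∣ ·)).erase p, cnt G n :=
    (Nat.dvd_add_right dvd_rfl).1 ((Nat.dvd_add_left h6).1 (hS ▸ dvd_mul_left m q))
  have h9 := Nat.eq_zero_of_dvd_of_lt (hqm.mul_dvd_of_dvd_of_dvd h7 h8)
    (((Nat.lt_add_of_pos_left hm0).trans_le (Nat.le_add_right _ _)).trans_eq hS.symm)
  refine ⟨h4, fun g hg => by_contra fun e => ?_⟩
  have := Finset.sum_eq_zero_iff.1 h9 (orderOf g) (Finset.mem_erase.2
    ⟨e, Finset.mem_filter.2 ⟨hD (orderOf_dvd_natCard g), hg⟩⟩)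
  exact (Nat.card_pos_iff.2 ⟨⟨⟨g, rfl⟩⟩, inferInstance⟩).ne' this

theorem centralizer_le_of_cnt {p : ℕ} [hp : Fact p.Prime] (hp2 : Odd p) (P : Sylow p G)
    (hP : (P : Subgroup G) ≠ ⊥) (hG : Nat.card G = cnt G p * Nat.card (P : Subgroup G))
    (h : ∀ g : G, p ∣ orderOf g → orderOf g = p) :
    ∀ x ∈ (P : Subgroup G), x ≠ 1 → ∀ y : G, y * x = x * y → y ∈ (P : Subgroup G) := by
  have o : ∀ x ∈ (P : Subgroup G), x ≠ 1 → orderOf x = p := fun x hx h1 => by
    obtain ⟨k, hk⟩ := (IsPGroup.iff_orderOf.1 P.isPGroup') ⟨x, hx⟩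
    rw [Subgroup.orderOf_mk] at hk
    refine h x (hk ▸ dvd_pow_self p ?_)
    rintro rfl
    exact h1 (orderOf_eq_one_iff.1 hk)
  have c : ∀ x ∈ (P : Subgroup G), x ≠ 1 → ∀ y : G, y * x = x * y → y ^ p = 1 :=
    fun x hx h1 y e => by
    by_cases hy : p ∣ orderOf y
    · rw [← h y hy, pow_orderOf_eq_one]
    · have h2 := Commute.orderOf_mul_eq_mul_orderOf_of_coprime (show Commute y x from e)
        (by rw [o x hx h1]; exact ((Nat.Prime.coprime_iff_not_dvd hp.out).2 hy).symm)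
      rw [o x hx h1] at h2
      rw [h (y * x) (h2 ▸ dvd_mul_left _ _)] at h2
      rw [orderOf_eq_one_iff.1 (Nat.eq_of_mul_eq_mul_right hp.out.pos
        (h2.symm.trans (one_mul p).symm)), one_pow]
  have c' : ∀ x ∈ (P : Subgroup G), x ≠ 1 → (∀ y ∈ (P : Subgroup G), y * x = x * y) →
      centralizer {x} = (P : Subgroup G) := fun x hx h1 hc =>
    P.is_maximal' (fun y => ⟨1, Subtype.ext (by
      simpa using c x hx h1 y (mem_centralizer_singleton_iff.1 y.2))⟩)
      fun y hy => mem_centralizer_singleton_iff.2 (hc y hy)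
  obtain ⟨z, hz, hz1, hz2⟩ := Known.exists_center_ne_one_of_isPGroup P.isPGroup' hP
  have hC := c' z hz hz1 hz2
  have h1 := Known.SC.card_isConj_mul_card_centralizer z
  rw [hC, hG, Nat.mul_left_inj Nat.card_pos.ne'] at h1
  have h2 : {g | IsConj z g} = {g | orderOf g = p} :=
    Set.eq_of_subset_of_ncard_le (fun g hg => by
      obtain ⟨u, rfl⟩ := isConj_iff.1 hg
      exact ((MulAut.conj u).orderOf_eq z).trans (o z hz hz1)) h1.ge
  obtain ⟨g, hg⟩ := isConj_iff.1 (show z⁻¹ ∈ {g | IsConj z g} from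
    h2 ▸ (orderOf_inv z).trans (o z hz hz1))
  have h3 : ∀ k : ℕ, g ^ (2 * k + 1) * z * (g ^ (2 * k + 1))⁻¹ = z⁻¹ := fun k => by
    induction k with
    | zero => simpa using hg
    | succ k ih =>
      calc _ = g * (g * (g ^ (2 * k + 1) * z * (g ^ (2 * k + 1))⁻¹) * g⁻¹) * g⁻¹ := by group
      _ = g * (g * z * g⁻¹)⁻¹ * g⁻¹ := by rw [ih]; group
      _ = z⁻¹ := by rw [hg, inv_inv, hg]
  have h4 : g ^ p * g ^ p = 1 := by
    rw [← sq, ← pow_mul, mul_comm, pow_mul]
    refine c z hz hz1 _ (mul_inv_eq_iff_eq_mul.1 ?_)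
    calc _ = g * (g * z * g⁻¹) * g⁻¹ := by rw [sq]; group
      _ = g * z⁻¹ * g⁻¹ := by rw [hg]
      _ = (g * z * g⁻¹)⁻¹ := by group
      _ = z := by rw [hg, inv_inv]
  obtain ⟨k, hk⟩ := id hp2
  have h5 := hk ▸ h3 k
  generalize g ^ p = t at h4 h5
  have odd : ∀ y : G, y * y = 1 → y ^ p = 1 → y = 1 := fun y e1 e2 => by
    rwa [hk, pow_succ, pow_mul, sq, e1, one_pow, one_mul] at e2
  have h6 : ∀ y ∈ (P : Subgroup G), t * y * t⁻¹ ∈ (P : Subgroup G) := fun y hy => by
    rw [← hC, mem_centralizer_singleton_iff]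
    have e : z = t * z⁻¹ * t⁻¹ := by
      rw [← h5, ← mul_assoc, ← mul_assoc, h4, one_mul, mul_assoc, ← mul_inv_rev, h4, inv_one, mul_one]
    have e2 : y * z⁻¹ = z⁻¹ * y := (show Commute y z from hz2 y hy).inv_right
    rw [e]
    calc _ = t * (y * z⁻¹) * t⁻¹ := by group
      _ = _ := by rw [e2]; group
  let φ : (P : Subgroup G) →* (P : Subgroup G) :=
    ((MulAut.conj t).toMonoidHom.comp (P : Subgroup G).subtype).codRestrict _ fun y => h6 y y.2
  have h7 : MonoidHom.FixedPointFree φ := fun y hy => by_contra fun h1 => by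
    have e := odd t h4 (c y y.2 (fun e => h1 (Subtype.ext e)) t
      (mul_inv_eq_iff_eq_mul.1 (congrArg Subtype.val hy)))
    rw [e, one_mul, inv_one, mul_one] at h5
    exact hz1 (odd z (eq_inv_iff_mul_eq_one.1 h5) (o z hz hz1 ▸ pow_orderOf_eq_one z))
  have h8 := h7.commute_all_of_involutive fun y => Subtype.ext
    (show t * (t * y * t⁻¹) * t⁻¹ = y by
      rw [← mul_assoc, ← mul_assoc, h4, one_mul, mul_assoc, ← mul_inv_rev, h4, inv_one, mul_one])
  intro x hx h1 y e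
  rw [← c' x hx h1 fun y hy => congrArg Subtype.val (h8 ⟨y, hy⟩ ⟨x, hx⟩).eq]
  exact mem_centralizer_singleton_iff.2 e

theorem pgl_of_cnt {F : Type*} [Field F] [Fintype F] (hodd : Odd (Nat.card F))
    (h3 : 3 < Nat.card F) (hG : Nat.card G = Nat.card PGL(2, F))
    (h : ∀ n, 0 < cnt G n → ∃ k, cnt G n = cnt PGL(2, F) k)
    (h' : ∀ k, 0 < cnt PGL(2, F) k → ∃ n, cnt PGL(2, F) k = cnt G n) :
    Nonempty (G ≃* PGL(2, F)) := by
  obtain ⟨p, hF⟩ := CharP.exists F
  obtain ⟨f, hp, hf⟩ := FiniteField.card F p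
  have := Fact.mk hp
  rw [← Nat.card_eq_fintype_card] at hf
  have c2 := pgl_cnt_two hodd
  have cp := pgl_cnt_char (F := F) p
  have cn := fun n => pgl_dvd_cnt (F := F) p (n := n)
  rw [card_PGL2, mul_assoc, mul_comm (_ - 1)] at hG
  have hK : ∀ {K : Type} [Field K] [Fintype K], Fintype.card K = Nat.card F → Nonempty (K ≃+* F) :=
    fun h => nonempty_ringEquiv_of_card_eq (h.trans Nat.card_eq_fintype_card)
  generalize Nat.card F = q at *
  have hm : (q + 1) * (q - 1) + 1 = q ^ 2 := by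
    obtain ⟨r, rfl⟩ : ∃ r, q = r + 1 := ⟨q - 1, by omega⟩
    rw [Nat.add_sub_cancel]; ring
  have h2 : cnt G 2 = q ^ 2 := by
    obtain ⟨n, hn⟩ := h' 2 (c2 ▸ by positivity)
    rw [c2] at hn
    rw [hn, eq_two_of_odd (n := n) (hn ▸ hodd.pow) fun e => by
      rw [e, cnt_one] at hn; nlinarith]
  obtain ⟨h4, h5⟩ := orderOf_eq_of_cnt hp hf h3 hm hG (fun n => by
    rcases Nat.eq_zero_or_pos (cnt G n) with e | e
    · exact Or.inr (Or.inr (e ▸ dvd_zero q))
    obtain ⟨k, hk⟩ := h n e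
    rw [hk]
    by_cases e1 : k = 1
    · exact Or.inl (by rw [e1, cnt_one])
    by_cases e2 : k = p
    · exact Or.inr (Or.inl (e2 ▸ cp))
    exact Or.inr (Or.inr (cn k e1 e2))) h2
  obtain ⟨P⟩ : Nonempty (Sylow p G) := inferInstance
  have hq : ∀ Q : Sylow p G, Nat.card (Q : Subgroup G) = q := fun Q => by
    rw [Q.card_eq_multiplicity, hG, Nat.factorization_mul (by omega) (by nlinarith), hf,
      Finsupp.add_apply, hp.factorization_pow, Finsupp.single_eq_same,
      Nat.factorization_eq_zero_of_not_dvd, add_zero]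
    intro e
    rw [← hf] at e
    have : p ∣ q ^ 2 := dvd_pow (hf ▸ dvd_pow_self p f.ne_zero) two_ne_zero
    exact hp.one_lt.ne' (Nat.dvd_one.1 ((Nat.dvd_add_right e).1 (hm ▸ this)))
  have hC := centralizer_le_of_cnt (hodd.of_dvd_nat (hf ▸ dvd_pow_self p f.ne_zero)) P
    (fun e => by have := hq P; rw [e, card_bot] at this; omega) (by rw [h4, hq, hG, mul_comm]) h5
  have hn : Nat.card (Sylow p G) = q + 1 := by
    have h6 := Known.SC.card_biUnion_of_ti (fun Q : Sylow p G => (Q : Subgroup G)) q hq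
      fun Q R hQ => (eq_bot_iff_forall _).2 fun x hx => by_contra fun h1 =>
        hQ (Known.sylow_eq_of_centralizer_le hC h1 hx.1 hx.2)
    rw [← Nat.card_congr (Equiv.subtypeEquivRight (p := fun g : G => orderOf g = p) fun g => ?_)]
      at h6
    · exact (Nat.eq_of_mul_eq_mul_right (by omega) (h4.symm.trans h6)).symm
    refine ⟨fun e => ⟨fun e' => hp.one_lt.ne (by rw [← e, e', orderOf_one]), ?_⟩,
      fun ⟨h1, Q, hx⟩ => ?_⟩
    · obtain ⟨Q, hQ⟩ := IsPGroup.exists_le_sylow (P := zpowers g)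
        (IsPGroup.of_card (n := 1) (by rw [Nat.card_zpowers, e, pow_one]))
      exact ⟨Q, hQ (mem_zpowers g)⟩
    · obtain ⟨k, hk⟩ := (IsPGroup.iff_orderOf.1 Q.isPGroup') ⟨g, hx⟩
      rw [Subgroup.orderOf_mk] at hk
      refine h5 g (hk ▸ dvd_pow_self p ?_)
      rintro rfl
      exact h1 (orderOf_eq_one_iff.1 hk)
  have hz := Known.z2_of_sylow hC (by rw [hn, hq]) (by rw [hq]; omega)
  have hd : ∀ b, P ≠ b → Nat.card (stabilizer G P ⊓ stabilizer G b : Subgroup G) = q - 1 :=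
    fun b hb => by
    have h1 := hz.card_group hb
    rw [hG, hn, ← mul_assoc, mul_comm q, mul_assoc, Nat.mul_right_inj (by omega),
      Nat.add_sub_cancel, Nat.mul_right_inj (by omega)] at h1
    exact h1.symm
  have h6 : 3 ≤ Nat.card (Sylow p G) := by omega
  obtain ⟨b, hb, -⟩ := exists_ne_ne_of_three_le h6 P P
  have hab := hb.symm
  have hinv := (cnt_two_iff hz hn hodd h3.le P hd).1 h2 b hab
  obtain ⟨K, _, _, hK', ⟨e⟩⟩ := hz.exists_pgl hab h6
    (hz.three_of_card_stab2 hab (by rw [hd b hab]; omega)).1 (hz.stab2_comm_of_swaps_invol hab hinv)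
    (fun s h h1 h2 h3 h4 => Z2.conj_eq_inv_of_swaps_invol hinv h1 h2
      (by rw [mul_smul, h3, h3]) (by rw [mul_smul, h4, h4]))
  obtain ⟨e'⟩ := hK (K := K) (by omega)
  exact ⟨e.trans (pglEquiv (Fin 2) e')⟩

end Cfsg.Lib.Nse
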