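import Cfsg.Agent.Char.SqBase
import Cfsg.Agent.KInv.Big
import Cfsg.Agent.Gold.TFKP
import Cfsg.Agent.MinCA.Basic

/-! Pairwise non-adjacent primes and the non-abelian composition factor. -/

set_option autoImplicit false

namespace Cfsg.Lib.Nse.Ree

open Subgroup Cfsg.Lib.Solv

universe u

variable {G : Type u} [Group G] [Finite G]

/-- Three pairwise non-adjacent primes. -/
structure Tri (G : Type u) [Group G] (r s t : ℕ) : Prop where
  hr : r.Prime
  hs : s.Prime
  ht : t.Prime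
  rs : r ≠ s
  rt : r ≠ t
  st : s ≠ t
  nrs : ∀ x : G, ¬ r * s ∣ orderOf x
  nrt : ∀ x : G, ¬ r * t ∣ orderOf x
  nst : ∀ x : G, ¬ s * t ∣ orderOf x

namespace Tri

variable {r s t : ℕ} (h : Tri G r s t)
include h

omit [Finite G] in
theorem sw12 : Tri G s r t :=
  ⟨h.hs, h.hr, h.ht, h.rs.symm, h.st, h.rt, mul_comm r s ▸ h.nrs, h.nst, h.nrt⟩

omit [Finite G] in
theorem sw23 : Tri G r t s :=
  ⟨h.hr, h.ht, h.hs, h.rt, h.rs, h.st.symm, h.nrt, h.nrs, mul_comm s t ▸ h.nst⟩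

omit [Finite G] in
theorem sub (H : Subgroup G) : Tri H r s t :=
  ⟨h.hr, h.hs, h.ht, h.rs, h.rt, h.st, fun x => orderOf_coe x ▸ h.nrs x,
    fun x => orderOf_coe x ▸ h.nrt x, fun x => orderOf_coe x ▸ h.nst x⟩

omit [Finite G] in
theorem quot (N : Subgroup G) [N.Normal] : Tri (G ⧸ N) r s t := by
  have key : ∀ n, (∀ x : G, ¬ n ∣ orderOf x) → ∀ x : G ⧸ N, ¬ n ∣ orderOf x := fun n hn x e => by
    obtain ⟨y, rfl⟩ := QuotientGroup.mk'_surjective N x
    exact hn y (e.trans (orderOf_map_dvd _ y))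
  exact ⟨h.hr, h.hs, h.ht, h.rs, h.rt, h.st, key _ h.nrs, key _ h.nrt, key _ h.nst⟩

theorem solv (hG : Group.IsSolvable G) (h1 : r ∣ Nat.card G) (h2 : s ∣ Nat.card G)
    (h3 : t ∣ Nat.card G) : False := by
  obtain ⟨x, e | e | e⟩ := Char.Sq.lucido hG h.hr h.hs h.ht h.rs h.rt h.st h1 h2 h3
  exacts [h.nrs x e.symm.dvd, h.nrt x e.symm.dvd, h.nst x e.symm.dvd]

theorem vas (K M : Subgroup G) [K.Normal] [M.Normal] (hKM : K ≤ M) (h1 : r ∣ Nat.card K)
    (h2 : s ∣ K.relIndex M) (h3 : t ∣ M.index) : False := by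
  obtain ⟨x, e⟩ | ⟨x, e⟩ | ⟨x, e⟩ :=
    Perm.GK.three_primes K M hKM h.hr h.hs h.ht h.rs h.rt h.st h1 h2 h3
  exacts [h.nrs x e.symm.dvd, h.nrt x e.symm.dvd, h.nst x e.symm.dvd]

theorem bot (K : Subgroup G) [K.Normal] (hK : Group.IsSolvable K) (h1 : r ∣ Nat.card K)
    (h2 : s ∣ Nat.card K) (h3 : t ∣ Nat.card G) : False := by
  have := Fact.mk h.ht
  obtain ⟨x, hx⟩ := exists_prime_orderOf_dvd_card' t h3
  exact (h.sub (K ⊔ zpowers x)).solv (MinCA.solv_sup hK inferInstance)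
    (h1.trans (card_dvd_of_le le_sup_left)) (h2.trans (card_dvd_of_le le_sup_left))
    (hx ▸ orderOf_dvd_natCard _ (mem_sup_right (mem_zpowers x)))

theorem top (M : Subgroup G) : ∀ [M.Normal], Group.IsSolvable (G ⧸ M) → r ∣ Nat.card M →
    s ∣ M.index → t ∣ M.index → False := by
  induction M using WellFoundedGT.induction with
  | ind M ih =>
  intro _ hs h1 h2 h3
  have : Group.IsSolvable (⊤ : Subgroup (G ⧸ M)) := inferInstance
  obtain ⟨p, N, hp, hN, -, -, -, hP⟩ := exists_isMinNormal_elementary_le (⊤ : Subgroup (G ⧸ M))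
    fun e => h.hs.one_lt.ne' (Nat.dvd_one.1 (by
      rwa [index, ← card_top, e, card_bot] at h2))
  have := hN.normal
  have := Fact.mk hp
  obtain ⟨k, hk⟩ := hP.exists_card_eq
  have hle : M ≤ N.comap (QuotientGroup.mk' M) := QuotientGroup.le_comap_mk' M N
  have e1 : M.relIndex (N.comap (QuotientGroup.mk' M)) = p ^ k := by
    have h4 := card_comap_mk' M N
    rw [← KInv.card_mul_rel hle, hk, mul_comm (p ^ k)] at h4
    exact Nat.eq_of_mul_eq_mul_left Nat.card_pos h4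
  have k0 : k ≠ 0 := by
    rintro rfl
    exact hN.ne_bot (card_eq_one.1 hk)
  have e2 := relIndex_mul_index hle
  rw [e1] at e2
  have key : ∀ l : ℕ, l.Prime → l ≠ p → l ∣ M.index → l ∣ (N.comap (QuotientGroup.mk' M)).index :=
    fun l hl lp e => (hl.dvd_mul.1 (e2 ▸ e)).resolve_left fun e' =>
      lp ((Nat.prime_dvd_prime_iff_eq hl hp).1 (hl.dvd_of_dvd_pow e'))
  by_cases sp : s = p
  · exact h.vas M _ hle h1 (e1 ▸ sp ▸ dvd_pow_self _ k0) (key t h.ht (sp ▸ h.st.symm) h3)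
  by_cases tp : t = p
  · exact h.sw23.vas M _ hle h1 (e1 ▸ tp ▸ dvd_pow_self _ k0) (key s h.hs sp h2)
  refine ih _ (lt_of_le_of_ne hle fun e => ?_) (Group.isSolvable_of_surjective
    (f := QuotientGroup.map M _ (MonoidHom.id G) hle) fun x => ?_)
    (h1.trans (card_dvd_of_le hle)) (key s h.hs sp h2) (key t h.ht tp h3)
  · rw [← e, relIndex_self] at e1
    exact (Nat.one_lt_pow k0 hp.one_lt).ne e1
  · obtain ⟨y, rfl⟩ := QuotientGroup.mk_surjective x
    exact ⟨y, rfl⟩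

theorem two {K M : Subgroup G} [K.Normal] [M.Normal] (hKM : K ≤ M) (hK : Group.IsSolvable K)
    (hM : Group.IsSolvable (G ⧸ M)) (h1 : r ∣ Nat.card K * M.index)
    (h2 : s ∣ Nat.card K * M.index) (h3 : t ∣ Nat.card G) : False := by
  have dG : ∀ l, l ∣ M.index → l ∣ Nat.card G := fun l e => e.trans M.index_dvd_card
  have dM : ∀ l, l ∣ Nat.card K → l ∣ Nat.card M := fun l e => e.trans (card_dvd_of_le hKM)
  have mix : ∀ {r s}, Tri G r s t → r ∣ Nat.card K → s ∣ M.index → False := fun h h1 h2 => by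
    rw [← M.card_mul_index, ← KInv.card_mul_rel hKM] at h3
    rcases h.ht.dvd_mul.1 h3 with e | e
    · rcases h.ht.dvd_mul.1 e with e | e
      exacts [h.sw23.bot K hK h1 e (dG _ h2), h.sw23.vas K M hKM h1 e h2]
    · exact h.top M hM (dM _ h1) h2 e
  rcases h.hr.dvd_mul.1 h1 with e1 | e1 <;> rcases h.hs.dvd_mul.1 h2 with e2 | e2
  · exact h.bot K hK e1 e2 h3
  · exact mix h e1 e2
  · exact mix h.sw12 e2 e1
  · rcases h.ht.dvd_mul.1 (M.card_mul_index ▸ h3) with e | e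
    exacts [h.sw23.sw12.top M hM e e1 e2, (h.quot M).solv hM e1 e2 e]

end Tri

theorem four_dvd [IsSimpleGroup G] (h : ¬ IsMulCommutative G) : 4 ∣ Nat.card G := by
  by_contra e
  have := KInv.solv_of_not_four e
  exact h ⟨⟨IsSimpleGroup.comm_iff_isSolvable.2 this⟩⟩

theorem exists_factor (h16 : ¬ 16 ∣ Nat.card G) (hs : ¬ Group.IsSolvable G) :
    ∃ (M : Subgroup G) (N : Subgroup M) (_ : M.Normal) (_ : N.Normal),
      (N.map M.subtype).Normal ∧ IsSimpleGroup (M ⧸ N) ∧ ¬ IsMulCommutative (M ⧸ N) ∧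
      Group.IsSolvable (N.map M.subtype) ∧ Group.IsSolvable (G ⧸ M) := by
  obtain ⟨M, ⟨hM, hM2⟩, hmin⟩ := Set.Finite.exists_minimal
    (s := {M : Subgroup G | M.Normal ∧ ¬ Group.IsSolvable M}) (Set.toFinite _)
    ⟨⊤, inferInstance, fun e => hs (Group.isSolvable_of_surjective
      (f := (⊤ : Subgroup G).subtype) fun x => ⟨⟨x, trivial⟩, rfl⟩)⟩
  have : Nontrivial M := by
    by_contra e
    have := not_nontrivial_iff_subsingleton.1 e
    exact hM2 inferInstance
  obtain ⟨N, hN, h1, h2⟩ := Gold.TF.exists_normal_simple_quotient M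
  have h3 : ¬ IsMulCommutative (M ⧸ N) := fun e => by
    have h4 : _root_.commutator M ≤ N := Normal.quotient_commutative_iff_commutator_le.1 e
    by_cases h5 : Group.IsSolvable (⁅M, M⁆ : Subgroup G)
    · have : Group.IsSolvable (_root_.commutator M) := by
        rw [← Subgroup.map_subtype_commutator] at h5
        exact Group.isSolvable_of_surjective (f := ((_root_.commutator M).equivMapOfInjective _
          M.subtype_injective).symm.toMonoidHom) (MulEquiv.surjective _)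
      exact hM2 (Group.isSolvable_of_ker_le_range (_root_.commutator M).subtype
        (Abelianization.of (G := M)) (by rw [Abelianization.ker_of, range_subtype]))
    · refine h1 (eq_top_iff.2 fun x _ => h4 ?_)
      have := hmin ⟨inferInstance, h5⟩ (commutator_le_left M M) x.2
      rw [← Subgroup.map_subtype_commutator] at this
      obtain ⟨y, hy, e⟩ := this
      exact Subtype.ext e ▸ hy
  have h4 : 4 ∣ N.index := four_dvd h3
  have c1 : Nat.card (N.map M.subtype) = Nat.card N := card_map_of_injective M.subtype_injective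
  have h5 : ¬ 4 ∣ Nat.card N := fun e => h16 ((mul_dvd_mul e h4).trans
    (N.card_mul_index ▸ M.card_subgroup_dvd_card))
  refine ⟨M, N, hM, hN, ⟨fun x hx g => ?_⟩, h2, h3, KInv.solv_of_not_four (c1 ▸ h5),
    KInv.solv_of_not_four fun e => h16 ((mul_dvd_mul (h4.trans N.index_dvd_card) e).trans
      M.card_mul_index.dvd)⟩
  let φ : M ≃* M := MulAut.conjNormal g
  have : (N.map φ.toMonoidHom).Normal := hN.map _ φ.surjective
  rcases IsSimpleGroup.eq_bot_or_eq_top_of_normal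
    ((N.map φ.toMonoidHom).map (QuotientGroup.mk' N))
    (Normal.map ‹_› _ (QuotientGroup.mk'_surjective N)) with e | e
  · rw [Subgroup.map_eq_bot_iff, QuotientGroup.ker_mk'] at e
    obtain ⟨x, hx, rfl⟩ := hx
    exact ⟨_, e ⟨x, hx, rfl⟩, rfl⟩
  · have := Subgroup.card_map_dvd (N.map φ.toMonoidHom) (QuotientGroup.mk' N)
    rw [e, card_top, card_map_of_injective (f := φ.toMonoidHom) φ.injective] at this
    exact absurd (h4.trans this) h5

theorem tri_of {N : Fin 5 → ℕ} (cop : Pairwise fun i j => (N i).Coprime (N j))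
    (odd : ∀ i, Odd (N i)) (ord : ∀ g : G, ∃ i, orderOf g ∣ 4 * N i) {i j : Fin 5} (ij : i ≠ j)
    {r s : ℕ} (hr : r.Prime) (hs : s.Prime) (ri : r ∣ N i) (sj : s ∣ N j) :
    r ≠ s ∧ ∀ x : G, ¬ r * s ∣ orderOf x := by
  refine ⟨fun e => hr.one_lt.ne' (Nat.eq_one_of_dvd_coprimes (cop ij) ri (e ▸ sj)), fun x e => ?_⟩
  obtain ⟨k, hk⟩ := ord x
  have key : ∀ {r i}, r.Prime → r ∣ N i → r ∣ 4 * N k → i = k := fun {r i} hr ri e => by
    by_contra ik
    exact hr.one_lt.ne' (Nat.eq_one_of_dvd_coprimes (cop ik) ri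
      (((Nat.coprime_two_right.2 ((odd i).of_dvd_nat ri)).pow_right 2).dvd_of_dvd_mul_left e))
  exact ij ((key hr ri ((dvd_mul_right r s).trans (e.trans hk))).trans
    (key hs sj ((dvd_mul_left s r).trans (e.trans hk))).symm)

/-- The simple section contains four of the five parts. -/
theorem exists_section {N : Fin 5 → ℕ} (cop : Pairwise fun i j => (N i).Coprime (N j))
    (odd : ∀ i, Odd (N i)) (one : ∀ i, 1 < N i) (dvd : ∀ i, N i ∣ Nat.card G)
    (h16 : ¬ 16 ∣ Nat.card G) (ord : ∀ g : G, ∃ i, orderOf g ∣ 4 * N i) :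
    ∃ (M : Subgroup G) (K : Subgroup M) (_ : K.Normal), IsSimpleGroup (M ⧸ K) ∧
      ¬ IsMulCommutative (M ⧸ K) ∧ ∃ i₀, ∀ i, i ≠ i₀ → N i ∣ Nat.card (M ⧸ K) := by
  have tri : ∀ {i j k : Fin 5} {r s t : ℕ}, i ≠ j → i ≠ k → j ≠ k → r.Prime → s.Prime → t.Prime →
      r ∣ N i → s ∣ N j → t ∣ N k → Tri G r s t := fun ij ik jk hr hs ht ri sj tk =>
    ⟨hr, hs, ht, (tri_of cop odd ord ij hr hs ri sj).1, (tri_of cop odd ord ik hr ht ri tk).1,
      (tri_of cop odd ord jk hs ht sj tk).1, (tri_of cop odd ord ij hr hs ri sj).2,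
      (tri_of cop odd ord ik hr ht ri tk).2, (tri_of cop odd ord jk hs ht sj tk).2⟩
  choose p hp pd using fun i => Nat.exists_prime_and_dvd (one i).ne'
  obtain ⟨M, K, _, _, _, h1, h2, h3, h4⟩ := exists_factor h16 fun e =>
    (tri (i := 0) (j := 1) (k := 2) (by decide) (by decide) (by decide) (hp _) (hp _) (hp _)
      (pd _) (pd _) (pd _)).solv e ((pd _).trans (dvd _)) ((pd _).trans (dvd _))
      ((pd _).trans (dvd _))
  refine ⟨M, K, ‹_›, h1, h2, ?_⟩
  have key : ∀ i, (N i).Coprime (Nat.card (K.map M.subtype) * M.index) →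
      N i ∣ Nat.card (M ⧸ K) := fun i e => e.dvd_of_dvd_mul_left (by
    have := dvd i
    rwa [← M.card_mul_index, ← K.card_mul_index, ← card_map_of_injective M.subtype_injective,
      mul_right_comm] at this)
  by_cases h5 : ∀ i, (N i).Coprime (Nat.card (K.map M.subtype) * M.index)
  · exact ⟨0, fun i _ => key i (h5 i)⟩
  obtain ⟨i₀, h6⟩ := not_forall.1 h5
  refine ⟨i₀, fun i hi => key i (by_contra fun h7 => ?_)⟩
  obtain ⟨r, hr, r1, r2⟩ := Nat.Prime.not_coprime_iff_dvd.1 h6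
  obtain ⟨s, hs, s1, s2⟩ := Nat.Prime.not_coprime_iff_dvd.1 h7
  obtain ⟨k, k1, k2⟩ : ∃ k, i₀ ≠ k ∧ i ≠ k := by
    clear * -
    revert i i₀
    decide
  exact (tri hi.symm k1 k2 hr hs (hp k) r1 s1 (pd k)).two (map_subtype_le K) h3 h4 r2 s2
    ((pd k).trans (dvd k))

end Cfsg.Lib.Nse.Ree
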