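import Cfsg.Agent.Recog.O8Defs

/-!
Finite computations for the group `2⁸ : 3³ : (2 × S₄)`.
-/

set_option autoImplicit false
set_option synthInstance.maxSize 2000

namespace Cfsg.Lib.O8.CB

/-- Coordinates on a four-group. -/
abbrev A2 : Type := ZMod 2 × ZMod 2
/-- Coordinates on the group of order `256`. -/
abbrev E : Type := Fin 4 → A2
/-- Signed permutations. -/
abbrev W : Type := V3 × Fin 6

/-- The action of `ℤ/3` on a four-group. -/
def om (k : F3) (a : A2) : A2 :=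
  if k = 0 then a else if k = 1 then (a.2, a.1 + a.2) else (a.1 + a.2, a.1)
/-- The action of the group of order `27`. -/
def act (v : V3) (w : E) : E := fun i => om (ch i v) (w i)
/-- The zero pattern. -/
def zp (w : E) (i : Fin 4) : Bool := decide (w i = 0)
/-- The number of `false` entries. -/
def cn (z : Fin 4 → Bool) : ℕ :=
  (if z 0 then 0 else 1) + (if z 1 then 0 else 1) + (if z 2 then 0 else 1) + (if z 3 then 0 else 1)
/-- The weight. -/
def wt (w : E) : ℕ := cn (zp w)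
/-- The permutations of the coordinates. -/
def pm (k : Fin 6) (v : V3) : V3 :=
  if k = 0 then v else if k = 1 then rot v else if k = 2 then rot (rot v) else
    if k = 3 then swp v else if k = 4 then swp (rot v) else swp (rot (rot v))
/-- The action of a signed permutation. -/
def ac (x : W) (v : V3) : V3 := sg x.1 (pm x.2 v)
/-- The linear map with prescribed values. -/
def lin (a b c v : V3) : V3 := v.1 • a + v.2.1 • b + v.2.2 • c
/-- The permutation of the four blocks. -/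
def bl (x : W) (i : Fin 4) : Fin 4 :=
  if ∀ v, ch i v = 0 → ch 0 (ac x v) = 0 then 0 else if ∀ v, ch i v = 0 → ch 1 (ac x v) = 0 then 1
  else if ∀ v, ch i v = 0 → ch 2 (ac x v) = 0 then 2 else 3
/-- The identity. -/
def x1 : W := ((1, 1, 1), 0)
/-- The cyclic shift. -/
def xb : W := ((1, 1, 1), 1)
/-- The transposition. -/
def xu : W := ((1, 1, 1), 3)
/-- A vector on which the character takes the value one. -/
def yv (i : Fin 4) : V3 := if i = 1 then (0, 1, 0) else (1, 0, 0)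
/-- Killing the fixed blocks. -/
def dd (v : V3) (w : E) : E := act v w + w
/-- The number of neighbours of weight two. -/
def cnt (s : E) : ℕ := (Finset.univ.filter fun w => wt w = 2 ∧ wt (w + s) = 2).card

theorem ch_yv : ∀ i, ch i (yv i) = 1 := by decide
theorem ch_sub : ∀ i v, ch i (v - ch i v • yv i) = 0 := by decide +kernel
theorem ch_two : ∀ i, ch i (yv i + yv i) ≠ 0 := by decide
theorem om_add : ∀ k a b, om k (a + b) = om k a + om k b := by decide +kernel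
theorem om_zero : ∀ k, om k 0 = 0 := by decide
theorem om_trans : ∀ a b : A2, (a = 0 ↔ b = 0) → ∃ k, om k a = b := by decide +kernel
theorem ch_pair : ∀ k l : F3, ∃ v, ch 0 v = 0 ∧ ch 1 v = k ∧ ch 2 v = l := by decide +kernel
theorem A2_add : ∀ a : A2, a + a = 0 := by decide
theorem iso_cases : ∀ a, q3 a = 1 → ∀ b, q3 b = 1 → q3 (a + b) = 2 → ∀ c, q3 c = 1 →
    q3 (a + c) = 2 → q3 (b + c) = 2 → ∃ x : W, IsSg x.1 ∧ ∀ v, lin a b c v = ac x v := by
  decide +kernel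
theorem lin_id : ∀ v : V3, v = lin (1, 0, 0) (0, 1, 0) (0, 0, 1) v := by decide +kernel
theorem ac_inj : ∀ x : W, IsSg x.1 → ∀ y : W, IsSg y.1 → (∀ v, ac x v = ac y v) → x = y := by
  decide +kernel
theorem ac_x1 : ∀ v, ac x1 v = v := by decide +kernel
theorem ac_xb : ∀ v, ac xb v = rot v := by decide +kernel
theorem ac_xu : ∀ v, ac xu v = swp v := by decide +kernel
theorem bl_eq : ∀ x : W, IsSg x.1 → ∀ i k, (∀ v, ch i v = 0 → ch k (ac x v) = 0) → k = bl x i := by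
  decide +kernel
theorem bl_bij : ∀ x : W, IsSg x.1 → Function.Bijective (bl x) := by decide +kernel
theorem bl_xb : bl xb 0 = 0 ∧ bl xb 1 = 2 ∧ bl xb 2 = 3 ∧ bl xb 3 = 1 := by decide +kernel
theorem cn_perm : ∀ σ : Fin 4 → Fin 4, Function.Bijective σ → ∀ z : Fin 4 → Bool,
    cn (z ∘ σ) = cn z := by decide +kernel
theorem cn_rot : ∀ z : Fin 4 → Bool, z 2 = z 1 → z 3 = z 2 → cn z ≠ 2 := by decide +kernel
theorem cn_move : ∀ z : Fin 4 → Bool, cn z ≠ 2 → ∃ e, IsSg e ∧ ∀ z' : Fin 4 → Bool,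
    z' ∘ bl (e, 0) = z → z' 1 = z' 2 ∧ z' 2 = z' 3 := by decide +kernel
theorem isolate' : ∀ i, ∀ w : E, dd (![(1, 0, 1), (0, 1, 1), (1, 0, 1), (1, 0, 2)] i)
    (dd (![(1, 1, 0), (1, 2, 0), (1, 2, 0), (1, 1, 0)] i) w) = Pi.single i
      (om (ch i (![(1, 1, 0), (1, 2, 0), (1, 2, 0), (1, 1, 0)] i) +
        ch i (![(1, 0, 1), (0, 1, 1), (1, 0, 1), (1, 0, 2)] i) +
        ch i (![(1, 1, 0), (1, 2, 0), (1, 2, 0), (1, 1, 0)] i) +
        ch i (![(1, 0, 1), (0, 1, 1), (1, 0, 1), (1, 0, 2)] i)) (w i)) := by decide +kernel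
theorem om_eq_zero : ∀ k a, om k a = 0 → a = 0 := by decide
theorem isolate (i : Fin 4) : ∃ v v' k, ∀ w : E, dd v' (dd v w) = Pi.single i (om k (w i)) :=
  ⟨_, _, _, isolate' i⟩
theorem act_faith : ∀ v, (∀ i, ch i v = 0) → v = 0 := by decide +kernel
theorem wt_fix : ∀ w, wt w = 2 → ∃ v, v ≠ 0 ∧ act v w = w := by decide +kernel
theorem cnt_iff : ∀ s, 18 ≤ cnt s ↔ wt s ≤ 1 := by decide +kernel
theorem wt_single : ∀ i a, wt (Pi.single i a) ≤ 1 := by decide +kernel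
theorem wt_le_one : ∀ s, wt s ≤ 1 → ∃ k, s = Pi.single k (s k) := by decide +kernel
theorem wt_same : ∀ (i : Fin 4) (a : A2), a ≠ 0 → ∀ s : E, wt s ≤ 1 → wt (Pi.single i a + s) ≤ 1 →
    s = Pi.single i (s i) := by decide +kernel
theorem om_comm : ∀ f : A2 → A2, (∀ a b, f (a + b) = f a + f b) → (∀ a, f (f (f a)) = a) →
    ∀ k a, f (om k a) = om k (f a) := by decide +kernel
theorem inv_vec : ∀ x : W, IsSg x.1 → (∀ v, ac x (ac x v) = v) → x ≠ x1 →
    ∃ y, y ≠ 0 ∧ ac x y = -y ∧ (x.2 = 0 → q3 y = 1) := by decide +kernel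
theorem fix_le : ∀ y, y ≠ 0 → (Finset.univ.filter fun z => act y z = z).card ≤ 16 := by
  decide +kernel
theorem fix_one : ∀ y, q3 y = 1 → (Finset.univ.filter fun z => act y z = z).card ≤ 1 := by
  decide +kernel
theorem norm_one : ∀ y, q3 y = 1 → ∀ d, act y d + d + act (-y) d = 0 := by decide +kernel
theorem cent_le : ∀ y : W, IsSg y.1 → y.2 ≠ 0 → (∀ v, ac y (ac y v) = v) →
    (Finset.univ.filter fun x : W => IsSg x.1 ∧ ∀ v, ac x (ac y v) = ac y (ac x v)).card ≤ 8 := by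
  decide +kernel
theorem diag_le : (Finset.univ.filter fun x : W => IsSg x.1 ∧ x.2 = 0).card ≤ 8 := by
  decide +kernel
theorem two_nd : ∀ x : W, IsSg x.1 → x.2 ≠ 0 → (∀ v, ac x (ac x v) = v) → ∀ y : W, IsSg y.1 →
    y.2 ≠ 0 → (∀ v, ac y (ac y v) = v) → (∀ v, ac x (ac y v) = ac y (ac x v)) →
    x = y ∨ ∃ e, IsSg e ∧ (e, 0) ≠ x1 ∧ ∀ v, ac x (ac y v) = ac (e, 0) v := by decide +kernel
theorem pm_mul : ∀ k l, ∃ m, (m < 3 ↔ (k < 3 ↔ l < 3)) ∧ ∀ v, pm k (pm l v) = pm m v := by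
  decide +kernel
theorem pm_sg (k : Fin 6) (e v : V3) : pm k (sg e v) = sg (pm k e) (pm k v) := by
  fin_cases k <;> rfl
theorem sg_pm : ∀ e, IsSg e → ∀ f, IsSg f → ∀ k, IsSg (sg e (pm k f)) := by decide +kernel
theorem ev_mul (x : W) (hx : IsSg x.1) (y : W) (hy : IsSg y.1) : ∃ z : W, IsSg z.1 ∧
    (z.2 < 3 ↔ (x.2 < 3 ↔ y.2 < 3)) ∧ ∀ v, ac x (ac y v) = ac z v := by
  obtain ⟨m, h1, h2⟩ := pm_mul x.2 y.2
  exact ⟨(sg x.1 (pm x.2 y.1), m), sg_pm _ hx _ hy _, h1, fun v => by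
    simp only [ac, pm_sg, h2]
    simp only [sg, mul_assoc]⟩
theorem ev_inv : ∀ x : W, IsSg x.1 → (∀ v, ac x (ac x v) = v) → x.2 < 3 → x.2 = 0 := by
  decide +kernel
theorem cn_cases : ∀ z : Fin 4 → Bool, (∃ i k, i ≠ k ∧ ∀ l, l ≠ i → l ≠ k → z l = true) ∨
    (∃ i, z i = true ∧ ∀ l, l ≠ i → z l = false) ∨ ∀ l, z l = false := by decide +kernel
theorem rot_sum : ∀ v, rot v + rot (rot v) + v = 0 ↔ ch 0 v = 0 := by decide +kernel

end Cfsg.Lib.O8.CB
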