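import Cfsg.Agent.Recog.O8Kb
import Cfsg.Agent.SporChar.LargeX
import Cfsg.Agent.Trans.GenFitting

/-!
The structure of the centralizer of the involution: `2^{1+8}.(S₃ × S₃ × S₃)`.
-/

set_option autoImplicit false

namespace Cfsg.Lib.O8

open Cfsg Subgroup _root_.Cfsg.Lib.Trans Cfsg.Lib.Recog.P43
open scoped commutatorElement

/-- Three copies of the symmetric group of degree three. -/
abbrev S333 : Type := Equiv.Perm (Fin 3) × Equiv.Perm (Fin 3) × Equiv.Perm (Fin 3)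

/-- The coordinatewise action. -/
def act3 (σ : S333) (v : V3) : V3 := (σ.1 v.1, σ.2.1 v.2.1, σ.2.2 v.2.2)

theorem act3_mul (σ τ : S333) (v : V3) : act3 (σ * τ) v = act3 σ (act3 τ v) := rfl

theorem act3_one (v : V3) : act3 1 v = v := rfl

theorem act3_inj {σ τ : S333} (h : ∀ v, act3 σ v = act3 τ v) : σ = τ :=
  Prod.ext (Equiv.ext fun x => congrArg (·.1) (h (x, 0, 0)))
    (Prod.ext (Equiv.ext fun x => congrArg (·.2.1) (h (0, x, 0)))
      (Equiv.ext fun x => congrArg (·.2.2) (h (0, 0, x))))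

theorem perm_aff : ∀ σ : Equiv.Perm (Fin 3), ∃ c e : Fin 3, e ≠ 0 ∧ ∀ x, σ x = c + e * x := by
  decide +kernel

theorem aff_perm : ∀ c e : Fin 3, e ≠ 0 → ∃ σ : Equiv.Perm (Fin 3), ∀ x, σ x = c + e * x := by
  decide +kernel

theorem act3_aff (σ : S333) : ∃ c e, IsSg e ∧ ∀ v, act3 σ v = c + sg e v := by
  obtain ⟨c1, e1, h1, k1⟩ := perm_aff σ.1
  obtain ⟨c2, e2, h2, k2⟩ := perm_aff σ.2.1
  obtain ⟨c3, e3, h3, k3⟩ := perm_aff σ.2.2
  exact ⟨(c1, c2, c3), (e1, e2, e3), ⟨h1, h2, h3⟩, fun v =>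
    Prod.ext (k1 _) (Prod.ext (k2 _) (k3 _))⟩

theorem aff_act3 (c : V3) {e : V3} (he : IsSg e) : ∃ σ, ∀ v, act3 σ v = c + sg e v := by
  obtain ⟨σ1, k1⟩ := aff_perm c.1 e.1 he.1
  obtain ⟨σ2, k2⟩ := aff_perm c.2.1 e.2.1 he.2.1
  obtain ⟨σ3, k3⟩ := aff_perm c.2.2 e.2.2 he.2.2
  exact ⟨(σ1, σ2, σ3), fun v => Prod.ext (k1 _) (Prod.ext (k2 _) (k3 _))⟩

theorem perm3_comm : ∀ x y : Equiv.Perm (Fin 3), (x * y * x⁻¹ * y⁻¹) ^ 3 = 1 := by decide +kernel

theorem perm3_center : ∀ x : Equiv.Perm (Fin 3), (∀ y, x * y * x⁻¹ * y⁻¹ = 1) → x = 1 := by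
  decide +kernel

theorem s333_core {Q : Subgroup S333} (hQ : Q.Normal) (h2 : IsPGroup 2 Q) : Q = ⊥ := by
  refine (eq_bot_iff_forall _).2 fun x hx => ?_
  have key : ∀ y, x * y * x⁻¹ * y⁻¹ = 1 := fun y => by
    have h1 : x * y * x⁻¹ * y⁻¹ ∈ Q := by
      rw [mul_assoc, mul_assoc, ← mul_assoc y]
      exact mul_mem hx (hQ.conj_mem _ (inv_mem hx) y)
    have h3 : (x * y * x⁻¹ * y⁻¹) ^ 3 = 1 :=
      Prod.ext (perm3_comm _ _) (Prod.ext (perm3_comm _ _) (perm3_comm _ _))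
    obtain ⟨k, hk⟩ := h2 ⟨_, h1⟩
    have h4 : (x * y * x⁻¹ * y⁻¹) ^ 2 ^ k = 1 := congrArg Subtype.val hk
    exact orderOf_eq_one_iff.1 (Nat.eq_one_of_dvd_coprimes
      (Nat.Coprime.pow_left k (by decide : Nat.Coprime 2 3))
      (orderOf_dvd_of_pow_eq_one h4) (orderOf_dvd_of_pow_eq_one h3))
  exact Prod.ext (perm3_center _ fun y => congrArg (·.1) (key (y, 1, 1)))
    (Prod.ext (perm3_center _ fun y => congrArg (·.2.1) (key (1, y, 1)))
      (perm3_center _ fun y => congrArg (·.2.2) (key (1, 1, y))))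

namespace KB

variable {K : Type*} [Group K] [Finite K] {t : K} {J : Subgroup K} {j : V3 → K}
  {P : Fin 4 → Subgroup K} (h : KB t J j P)
include h

theorem extra_S : IsExtraspecial 2 (⨆ i, P i : Subgroup K) := by
  have : Fact (Nat.Prime 2) := ⟨Nat.prime_two⟩
  refine Local.SympPair.isExtraspecial (z := t) ⟨h.t_mem_S,
    orderOf_eq_prime (by rw [pow_two, h.t2]) h.t1, fun q _ => h.tc q,
    fun q hq => h.mem_zp.2 (h.sq_S hq), fun c hc e _ => h.mem_zp.2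
      (h.center_S hc fun y hy => (e y hy).symm)⟩ (fun c hc => h.mem_zp.2
      (h.center_S hc.1 fun y hy => (mem_centralizer_iff.1 hc.2 y hy).symm)) fun hle => ?_
  have := Subgroup.card_le_of_le hle
  rw [h.card_S, h.card_zp] at this
  omega

theorem exists_hom
    (diag : ∀ n ∈ normalizer (J : Set K), ∃ e, IsSg e ∧ ∀ v, n * j v * n⁻¹ = j (sg e v))
    (hN : (⨆ i, P i).Normal) (htop : (⨆ i, P i) ⊔ normalizer (J : Set K) = ⊤) :
    ∃ ψ : K →* S333, Function.Surjective ψ ∧ ψ.ker = ⨆ i, P i := by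
  set S : Subgroup K := ⨆ i, P i with hS
  let ρ := QuotientGroup.mk' S
  have ρ1 : ∀ {x}, ρ x = 1 ↔ x ∈ S := fun {x} => QuotientGroup.eq_one_iff x
  have ρt : ρ t = 1 := ρ1.2 h.t_mem_S
  obtain ⟨r, hr⟩ := h.sur (-1, -1, -1) (by decide)
  have sgn : ∀ v, sg (-1, -1, -1) v = -v := by decide
  simp only [sgn, h.j_neg] at hr
  have hrJ : ∀ x ∈ J, r * x * r⁻¹ = x⁻¹ := fun x hx => by
    obtain ⟨v, rfl⟩ := (h.mem x).1 hx
    exact hr v
  have dec : ∀ g : K, ∃ m ∈ S, ∃ n ∈ normalizer (J : Set K), m * n = g := fun g =>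
    (Solv.mem_sup_of_le_normalizer (le_top.trans (normalizer_eq_top _).ge)).1
      (htop.ge (mem_top g))
  have inj : ∀ {v w}, ρ (j v * r) = ρ (j w * r) → v = w := fun {v w} e => by
    rw [map_mul, map_mul, mul_left_inj, ← mul_inv_eq_one, ← map_inv, ← map_mul, ρ1,
      ← h.j_neg, ← h.add] at e
    exact add_neg_eq_zero.1 (h.j_mem_S e)
  have L1 : ∀ n ∈ normalizer (J : Set K), ∀ e, (∀ v, n * j v * n⁻¹ = j (sg e v)) →
      ∃ c, ∀ v, ρ (n * (j v * r) * n⁻¹) = ρ (j (c + sg e v) * r) := fun n hn e he => by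
    have h1 : ∀ v, n * r * n⁻¹ * r⁻¹ * j v = j v * (n * r * n⁻¹ * r⁻¹) := fun v => by
      have a1 : r⁻¹ * j v * r = (j v)⁻¹ := by
        have := hrJ _ (inv_mem (h.j_mem v))
        rw [inv_inv] at this
        calc r⁻¹ * j v * r = r⁻¹ * (r * (j v)⁻¹ * r⁻¹) * r := by rw [this]
          _ = _ := by group
      have a2 := hrJ _ (mem_normalizer_conj' hn (inv_mem (h.j_mem v)))
      calc n * r * n⁻¹ * r⁻¹ * j v = n * r * n⁻¹ * (r⁻¹ * j v * r) * r⁻¹ := by group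
        _ = n * (r * (n⁻¹ * (j v)⁻¹ * n) * r⁻¹) * r * n⁻¹ * r⁻¹ := by rw [a1]; group
        _ = _ := by rw [a2]; group
    obtain ⟨c, hc⟩ := h.cJ _ h1
    have h2 : ρ (n * r * n⁻¹ * r⁻¹) = ρ (j c) := by
      rcases hc with e | e
      · rw [e]
      · rw [e, map_mul, ρt, mul_one]
    refine ⟨c, fun v => ?_⟩
    rw [show n * (j v * r) * n⁻¹ = n * j v * n⁻¹ * (n * r * n⁻¹ * r⁻¹) * r by group, he, map_mul,
      map_mul, h2, add_comm c, h.add, map_mul, map_mul]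
  have L2 : ∀ u v, j u * (j v * r) * (j u)⁻¹ = j (v - u) * r := fun u v => by
    have a1 : ∀ u v : V3, v - u = u + v + u := by decide
    have a2 := hrJ _ (inv_mem (h.j_mem u))
    rw [inv_inv] at a2
    rw [a1, h.add, h.add]
    calc _ = j u * j v * (r * (j u)⁻¹ * r⁻¹) * r := by group
      _ = _ := by rw [a2]
  have cong : ∀ {g g' : K}, ρ g = ρ g' → ∀ x, ρ (g * x * g⁻¹) = ρ (g' * x * g'⁻¹) :=
    fun {g g'} e x => by simp only [map_mul, map_inv, e]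
  have ex : ∀ g : K, ∃ σ, ∀ v, ρ (g * (j v * r) * g⁻¹) = ρ (j (act3 σ v) * r) := fun g => by
    obtain ⟨m, hm, n, hn, rfl⟩ := dec g
    obtain ⟨e, he, h1⟩ := diag n hn
    obtain ⟨c, hc⟩ := L1 n hn e h1
    obtain ⟨σ, hσ⟩ := aff_act3 c he
    exact ⟨σ, fun v => by
      rw [hσ, ← hc]; exact cong (by rw [map_mul, ρ1.2 hm, one_mul]) _⟩
  choose f hf using ex
  have uniq : ∀ {g σ}, (∀ v, ρ (g * (j v * r) * g⁻¹) = ρ (j (act3 σ v) * r)) → f g = σ :=
    fun {g σ} e => act3_inj fun v => inj ((hf g v).symm.trans (e v))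
  have comp : ∀ (a : K) {x y : K}, ρ x = ρ y → ρ (a * x * a⁻¹) = ρ (a * y * a⁻¹) :=
    fun a {x y} e => by simp only [map_mul, map_inv, e]
  let ψ : K →* S333 := MonoidHom.mk' f fun a b => uniq fun v => by
    rw [act3_mul, ← hf a, ← comp a (hf b v)]
    congr 1; group
  refine ⟨ψ, fun σ => ?_, le_antisymm (fun g hg => ?_) fun g hg => ?_⟩
  · obtain ⟨c, e, he, hσ⟩ := act3_aff σ
    obtain ⟨n, hn⟩ := h.sur e he
    obtain ⟨c', hc'⟩ := L1 n (h.mem_Ns fun v => ⟨_, hn v⟩) e hn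
    refine ⟨j (c' - c) * n, uniq fun v => ?_⟩
    rw [show j (c' - c) * n * (j v * r) * (j (c' - c) * n)⁻¹ =
      j (c' - c) * (n * (j v * r) * n⁻¹) * (j (c' - c))⁻¹ by group, comp _ (hc' v), L2, hσ]
    congr 3
    abel
  · have e1 : f g = 1 := hg
    obtain ⟨m, hm, n, hn, rfl⟩ := dec g
    have e2 : ρ (m * n) = ρ n := by rw [map_mul, ρ1.2 hm, one_mul]
    have e3 : ∀ v, ρ (n * (j v * r) * n⁻¹) = ρ (j v * r) := fun v => by
      rw [← cong e2, hf, e1, act3_one]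
    obtain ⟨e, he, h1⟩ := diag n hn
    obtain ⟨c, hc⟩ := L1 n hn e h1
    have e4 : ∀ v, c + sg e v = v := fun v => inj ((hc v).symm.trans (e3 v))
    have c0 : c = 0 := by
      have := e4 0
      rwa [show sg e 0 = 0 by simp [sg], add_zero] at this
    obtain ⟨u, hu⟩ := h.cJ n fun v => by
      have := e4 v
      rw [c0, zero_add] at this
      rw [← mul_inv_eq_iff_eq_mul, h1, this]
    have e5 : ρ n = ρ (j u) := by
      rcases hu with e | e
      · rw [e]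
      · rw [e, map_mul, ρt, mul_one]
    have e6 := e3 0
    rw [cong e5, L2] at e6
    have u0 : u = 0 := by simpa using inj e6
    rw [u0, h.j0, map_one] at e5
    exact ρ1.1 (e2.trans e5)
  · exact uniq fun v => by
      rw [cong (g' := 1) (by rw [ρ1.2 hg, map_one]), act3_one]; simp

end KB

theorem KB.fin {K : Type*} [Group K] [Finite K] {t : K} {J : Subgroup K} {j : V3 → K}
    {P : Fin 4 → Subgroup K} (h : KB t J j P)
    (diag : ∀ n ∈ normalizer (J : Set K), ∃ e, IsSg e ∧ ∀ v, n * j v * n⁻¹ = j (sg e v))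
    (hN : (⨆ i, P i).Normal) (htop : (⨆ i, P i) ⊔ normalizer (J : Set K) = ⊤) :
    IsExtraspecial 2 (generalizedFittingSubgroup K) ∧
      Nat.card (generalizedFittingSubgroup K) = 2 ^ 9 ∧
      Nonempty (K ⧸ pCore 2 K ≃* Equiv.Perm (Fin 3) × Equiv.Perm (Fin 3) × Equiv.Perm (Fin 3)) ∧
      centralizer (pCore 2 K : Set K) ≤ pCore 2 K ∧ t ∈ pCore 2 K := by
  have : Fact (Nat.Prime 2) := ⟨Nat.prime_two⟩
  obtain ⟨ψ, hs, hk⟩ := h.exists_hom diag hN htop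
  have e : pCore 2 K = ⨆ i, P i := le_antisymm (by
    rw [← hk, ← Subgroup.map_eq_bot_iff]
    exact s333_core (Normal.map inferInstance ψ hs) ((Solv.pCore_isPGroup 2 K).map ψ))
    (Solv.le_pCore hN h.two_S)
  have hc : centralizer (pCore 2 K : Set K) ≤ pCore 2 K := fun g hg => by
    rw [e] at hg ⊢
    obtain ⟨m, hm, n, hn, rfl⟩ := (Solv.mem_sup_of_le_normalizer
      (le_top.trans (normalizer_eq_top _).ge)).1 (htop.ge (mem_top g))
    refine mul_mem hm ?_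
    rcases h.cent_le hm hn fun y hy => (mem_centralizer_iff.1 hg y hy).symm with rfl | rfl
    exacts [one_mem _, h.t_mem_S]
  rw [genFitting_eq_pCore_iff.2 hc]
  exact ⟨e ▸ h.extra_S, e ▸ h.card_S, ⟨(QuotientGroup.quotientMulEquivOfEq (e.trans hk.symm)).trans
    (QuotientGroup.quotientKerEquivOfSurjective ψ hs)⟩, hc, e ▸ h.t_mem_S⟩

end Cfsg.Lib.O8
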