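import Cfsg.Agent.Recog.O8Kb

/-!
Normality of the product of the four quaternion groups, from the statement for four-groups.
-/

set_option autoImplicit false

namespace Cfsg.Lib.O8

open Cfsg Subgroup _root_.Cfsg.Lib.Trans Cfsg.Lib.Recog.P43

theorem KB.syl_map {K : Type*} [Group K] [Finite K] {t : K} {J : Subgroup K}
    [(zpowers t).Normal] (syl : IsSylowIn 3 J ⊤) :
    IsSylowIn 3 (J.map (QuotientGroup.mk' (zpowers t))) ⊤ :=
  ⟨le_top, syl.isPGroup.map _, fun e => syl.not_dvd (by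
    rw [relIndex_top_right] at e ⊢
    exact e.trans (index_map_dvd J (QuotientGroup.mk'_surjective _)))⟩

theorem KB.diag_map {K : Type*} [Group K] [Finite K] {t : K} {J : Subgroup K} {j : V3 → K}
    {P : Fin 4 → Subgroup K} (h : KB t J j P) [(zpowers t).Normal]
    (diag : ∀ n ∈ normalizer (J : Set K), ∃ e, IsSg e ∧ ∀ v, n * j v * n⁻¹ = j (sg e v)) :
    ∀ n ∈ normalizer ((J.map (QuotientGroup.mk' (zpowers t)) : Subgroup _) : Set (K ⧸ zpowers t)),
      ∃ e, IsSg e ∧ ∀ v, n * QuotientGroup.mk' (zpowers t) (j v) * n⁻¹ =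
        QuotientGroup.mk' (zpowers t) (j (sg e v)) := fun n hn => by
  obtain ⟨n, rfl⟩ := QuotientGroup.mk'_surjective _ n
  obtain ⟨e, he, h1⟩ := diag n (h.mk_mem_Ns.1 hn)
  exact ⟨e, he, fun v => h.mk_conj.2 (h1 v)⟩

universe u

theorem KB.normal' {K : Type u} [Group K] [Finite K] {t : K} {J : Subgroup K} {j : V3 → K}
    {P : Fin 4 → Subgroup K} (h : KB t J j P) (syl : IsSylowIn 3 J ⊤)
    (diag : ∀ n ∈ normalizer (J : Set K), ∃ e, IsSg e ∧ ∀ v, n * j v * n⁻¹ = j (sg e v))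
    (tb : ∀ {X : Type u} [Group X] [Finite X] {J : Subgroup X} {j : V3 → X}
      {P : Fin 4 → Subgroup X}, TB J j P → IsSylowIn 3 J ⊤ →
      (∀ n ∈ normalizer (J : Set X), ∃ e, IsSg e ∧ ∀ v, n * j v * n⁻¹ = j (sg e v)) →
      (⨆ i, P i).Normal ∧ (⨆ i, P i) ⊔ normalizer (J : Set X) = ⊤) :
    (⨆ i, P i).Normal ∧ (⨆ i, P i) ⊔ normalizer (J : Set K) = ⊤ := by
  have := h.normal_zp
  obtain ⟨h1, h2⟩ := tb h.toTB (KB.syl_map syl) (h.diag_map diag)
  refine ⟨⟨fun x hx g => h.mk_mem_S.1 ?_⟩, eq_top_iff.2 fun g _ => ?_⟩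
  · rw [map_mul, map_mul, map_inv]
    exact h1.conj_mem _ (h.mk_mem_S.2 hx) _
  · rw [← KB.map_S, ← h.map_Ns, ← Subgroup.map_sup] at h2
    exact (h.mk_mem (mem_sup_left h.t_mem_S)).1 (h2.ge (mem_top _))

end Cfsg.Lib.O8
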