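import Cfsg.Agent.Recog.O8Defs
import Cfsg.Agent.S2807
import Cfsg.Agent.Trans.Fus
import Cfsg.Agent.Solv.PGroupBasic

/-!
The normal subgroup of index three when no element centralizing the centre inverts the short root.
-/

set_option autoImplicit false

namespace Cfsg.Lib.O8.MA

open Cfsg Subgroup _root_.Cfsg.Lib.Trans Cfsg.Lib.Recog.P43 Cfsg.Lib.Recog
open Cfsg.Lib.Odd3 (conj_mem_of_norm conj_mem_of_norm' mem_norm_of_conj)

variable {G : Type*} [Group G] (D : OD G)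

theorem f3_cases : ∀ k : F3, k = 0 ∨ k = 1 ∨ k = -1 := by decide

theorem vz_eq : ∀ k : F3, k ≠ 0 → vz = k • k • vz := by decide

theorem j_zero : D.j 0 = 1 := by simpa using D.add 0 0

theorem j_neg (v : V4) : D.j (-v) = (D.j v)⁻¹ :=
  eq_inv_of_mul_eq_one_left (by rw [← D.add, neg_add_cancel, j_zero])

theorem j_mem (v : V4) : D.j v ∈ D.J := (D.mem_J _).2 ⟨v, rfl⟩

theorem j_comm (v w : V4) : D.j v * D.j w = D.j w * D.j v := by rw [← D.add, ← D.add, add_comm]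

theorem j_smul {g : G} {v w : V4} (h : g * D.j v * g⁻¹ = D.j w) (k : F3) :
    g * D.j (k • v) * g⁻¹ = D.j (k • w) := by
  obtain rfl | rfl | rfl : k = 0 ∨ k = 1 ∨ k = 2 := by revert k; decide
  · simp [j_zero]
  · simpa using h
  · rw [two_smul, two_smul, D.add, D.add, ← h, conj_mul]

theorem smul_mem {N : Subgroup G} {v : V4} (h : D.j v ∈ N) (k : F3) : D.j (k • v) ∈ N := by
  obtain rfl | rfl | rfl : k = 0 ∨ k = 1 ∨ k = 2 := by revert k; decide
  · simp [j_zero]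
  · simpa using h
  · rw [two_smul, D.add]; exact mul_mem h h

/-- The component along the short root. -/
def dk (v : V4) : F3 := 2 * b4 v va

/-- The component orthogonal to the short root. -/
def dw (v : V4) : V3 := (2 * v.2.1, 2 * v.2.2.1 + 2 * v.2.2.2 + v.2.1 + 2 * v.1,
  v.1 + v.2.1 + 2 * v.2.2.1 + 2 * v.2.2.2)

theorem dec : ∀ v : V4, v = emb (dw v) + dk v • va := by decide +kernel

/-- The action of the centralizer of the short root. -/
def ac (π : Equiv.Perm (Fin 4)) (v : V4) : V4 := emb (lin π (dw v)) + dk v • va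

theorem φ_j {p : X} {π : Equiv.Perm (Fin 4)} (h : ∀ v, p * X.jv v * p⁻¹ = X.jv (lin π v))
    (v : V4) : D.φ p * D.j v * (D.φ p)⁻¹ = D.j (ac π v) := by
  conv_lhs => rw [dec v]
  rw [ac, D.add, D.add, ← conj_mul, D.j_emb, D.j_emb, ← h, map_mul, map_mul, map_inv,
    j_smul D (mul_inv_eq_iff_eq_mul.2 (D.a_comm p))]

theorem t_j (v : V4) : D.t * D.j v * D.t⁻¹ = D.j (-v.1, v.2) := by
  rw [φ_j D (p := X.t) t_act, (by decide +kernel : ∀ v : V4, ac (Equiv.swap 2 3) v = (-v.1, v.2))]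

theorem t_sq : D.t * D.t = 1 := by rw [← map_mul, show X.t * X.t = 1 by decide +kernel, map_one]

theorem t_ne : D.t ≠ 1 := fun e =>
  absurd (D.inj (e.trans (map_one _).symm)) (by decide +kernel : X.t ≠ 1)

theorem b_t : D.b * D.t = D.t * D.b := D.b_comm _ (by decide +kernel)

theorem exists_refl (y : V4) (hy : q4 y = 1) :
    ∃ r, IsConj D.t r ∧ ∀ v, r * D.j v * r⁻¹ = D.j (v + b4 v y • y) := by
  obtain ⟨n, hn, e⟩ := D.conj v1 y (by decide) (fun e => absurd (e ▸ hy) (by decide))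
    (hy ▸ by decide)
  refine ⟨n * D.t * n⁻¹, isConj_iff.2 ⟨n, rfl⟩, fun v => ?_⟩
  obtain ⟨w, hw⟩ := (D.mem_J _).1 (conj_mem_of_norm' hn (j_mem D v))
  have e1 : n * D.j w * n⁻¹ = D.j v := by rw [hw]; group
  have e2 := D.iso n (w + v1) (v + y) (by rw [D.add, D.add, ← conj_mul, e, e1])
  have e3 := D.iso n _ _ e1
  have e4 : w.1 = b4 v y := by
    have k : ∀ v y : V4, q4 (v + y) = q4 v + q4 y - b4 v y := fun v y => by
      simp only [q4, q3, b4, Prod.fst_add, Prod.snd_add]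
      linear_combination (v.1 * y.1 + v.2.1 * y.2.1 + v.2.2.1 * y.2.2.1 + v.2.2.2 * y.2.2.2) *
        (by decide : (3 : F3) = 0)
    rw [k, k, e3, hy, (by decide : q4 v1 = 1), (by decide +kernel : ∀ w : V4, b4 w v1 = w.1)] at e2
    linear_combination -e2
  calc _ = n * (D.t * (n⁻¹ * D.j v * n) * D.t⁻¹) * n⁻¹ := by group
    _ = _ := by
      rw [← hw, t_j, (by decide +kernel : ∀ w : V4, ((-w.1, w.2) : V4) = w + w.1 • v1), D.add,
        ← conj_mul, e1, j_smul D e, e4, D.add]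

theorem exists_inv : ∃ g : G, ∀ v, g * D.j v * g⁻¹ = D.j (-v) := by
  obtain ⟨r₁, -, h₁⟩ := exists_refl D (0, 1, 0, 0) (by decide)
  obtain ⟨r₂, -, h₂⟩ := exists_refl D (0, 0, 1, 0) (by decide)
  obtain ⟨r₃, -, h₃⟩ := exists_refl D (0, 0, 0, 1) (by decide)
  refine ⟨D.t * r₁ * r₂ * r₃, fun v => ?_⟩
  calc _ = D.t * (r₁ * (r₂ * (r₃ * D.j v * r₃⁻¹) * r₂⁻¹) * r₁⁻¹) * D.t⁻¹ := by group
    _ = _ := by
      rw [h₃, h₂, h₁, t_j]
      congr 1
      revert v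
      decide +kernel

theorem mem_of_one {N : Subgroup G} [hN : N.Normal] {v : V4} (hv : q4 v = 1) (h : D.j v ∈ N)
    (w : V4) : D.j w ∈ N := by
  have k : ∀ y, q4 y = 1 → D.j y ∈ N := fun y hy => by
    obtain ⟨n, -, e⟩ := D.conj v y (fun e => absurd (e ▸ hv) (by decide))
      (fun e => absurd (e ▸ hy) (by decide)) (hv.trans hy.symm)
    exact e ▸ hN.conj_mem _ h n
  rw [(by decide +kernel : ∀ w : V4, w = w.1 • (1, 0, 0, 0) + w.2.1 • (0, 1, 0, 0) +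
    w.2.2.1 • (0, 0, 1, 0) + w.2.2.2 • (0, 0, 0, 1)) w, D.add, D.add, D.add]
  exact mul_mem (mul_mem (mul_mem (smul_mem D (k _ (by decide)) _) (smul_mem D (k _ (by decide)) _))
    (smul_mem D (k _ (by decide)) _)) (smul_mem D (k _ (by decide)) _)

theorem comm_t : D.j v1 * D.t * (D.j v1)⁻¹ * D.t⁻¹ = D.j (2, 0, 0, 0) := by
  rw [← j_neg, mul_assoc, mul_assoc, ← mul_assoc D.t, t_j, ← D.add]
  rfl

theorem j_mem_of_t {N : Subgroup G} [hN : N.Normal] (ht : D.t ∈ N) (w : V4) : D.j w ∈ N :=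
  mem_of_one D (v := (2, 0, 0, 0)) (by decide)
    (comm_t D ▸ mul_mem (hN.conj_mem _ ht _) (inv_mem ht)) w

theorem φ_mem_of_t {N : Subgroup G} [hN : N.Normal] (ht : D.t ∈ N) (p : X) : D.φ p ∈ N := by
  have h1 : ∀ v, X.jv v ∈ N.comap D.φ := fun v => mem_comap.2 (D.j_emb v ▸ j_mem_of_t D ht _)
  obtain ⟨g, h, u, v, w, e⟩ := (by decide +kernel : ∀ g : Q, ∃ h k : Q, ∃ u v w : ZMod 3,
    g = Q.sp u * (h * Q.sp v * h⁻¹) * (k * Q.sp w * k⁻¹)) p.g
  have h2 : ∀ (k : Q) (u : ZMod 3), X.ell (k * Q.sp u * k⁻¹) ∈ N.comap D.φ := fun k u => by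
    rw [map_mul, map_mul, map_inv, (by decide +kernel : ∀ u, X.ell (Q.sp u) = X.jv (u, 0, 0))]
    exact (hN.comap D.φ).conj_mem _ (h1 _) _
  have h3 : X.ell p.g ∈ N.comap D.φ := by
    rw [e, map_mul, map_mul]
    exact mul_mem (mul_mem (by simpa using h2 1 u) (h2 _ _)) (h2 _ _)
  obtain ⟨u, v, e'⟩ := (by decide +kernel : ∀ x y z : ZMod 3, ∃ u v : V,
    (⟨x, y, z, 1⟩ : X) = X.jv u * (X.ell ⟨1⟩ * X.jv v * (X.ell ⟨1⟩)⁻¹)) p.x p.y p.z
  have h4 := (by decide +kernel : ∀ p : X, p = ⟨p.x, p.y, p.z, 1⟩ * X.ell p.g) p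
  rw [← mem_comap, h4, e']
  exact mul_mem (mul_mem (h1 _) ((hN.comap D.φ).conj_mem _ (h1 _) _)) h3

/-- The action of `b`. -/
def rb (v : V4) : V4 := (v.1, rot v.2)

theorem b_pow (i : ℕ) (v : V4) : D.b ^ i * D.j v * (D.b ^ i)⁻¹ = D.j (rb^[i] v) := by
  induction i with
  | zero => simp
  | succ i ih =>
    rw [Function.iterate_succ_apply', rb, ← D.b_j, ← ih, pow_succ']
    group

theorem σ_pow (i : ℕ) (v : V4) : D.φ X.σ ^ i * D.j v * (D.φ X.σ ^ i)⁻¹ =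
    D.j ((ac (Equiv.swap 1 2 * Equiv.swap 2 3))^[i] v) := by
  induction i with
  | zero => simp
  | succ i ih =>
    rw [Function.iterate_succ_apply', ← φ_j D σ_act, ← ih, pow_succ']
    group

theorem b_pow_mod (i : ℕ) : ∃ m : Fin 3, D.b ^ i = D.b ^ m.1 :=
  ⟨⟨i % 3, Nat.mod_lt _ (by norm_num)⟩, pow_eq_pow_mod i D.b3⟩

theorem J_le : D.J ≤ D.S := fun g hg => by
  obtain ⟨v, rfl⟩ := (D.mem_J g).1 hg
  refine (D.mem_S _).2 ⟨0, X.jv (dw v), dk v, ((X.inJ_iff _).2 ⟨_, rfl⟩).2, ?_⟩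
  rw [pow_zero, one_mul, ← D.j_emb, ← D.add, ← dec]

theorem b_mem : D.b ∈ D.S := (D.mem_S _).2 ⟨1, 1, 0, one_mem _, by simp [j_zero]⟩

theorem σ_mem : D.φ X.σ ∈ D.S :=
  (D.mem_S _).2 ⟨0, X.σ, 0, X.a_facts.2.2.2.2.2.2, by simp [j_zero]⟩

theorem b_a : D.b * D.j va ≠ D.j va * D.b := fun e =>
  absurd (D.jinj _ _ ((D.b_j va).symm.trans (mul_inv_eq_iff_eq_mul.2 e))) (by decide)

theorem z_φ (p : X) : D.φ p * D.j vz = D.j vz * D.φ p := by
  rw [(by decide : vz = emb (2, 2, 2)), D.j_emb, X.a_facts.2.2.1, ← map_mul, ← map_mul, X.a_comm]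

theorem S_z {x : G} (hx : x ∈ D.S) : x * D.j vz = D.j vz * x := by
  obtain ⟨i, p, k, -, rfl⟩ := (D.mem_S x).1 hx
  have h : Commute D.b (D.j vz) := mul_inv_eq_iff_eq_mul.1 (D.b_j vz)
  exact ((h.pow_left i).mul_left (z_φ D p)).mul_left (j_comm D _ _)

theorem center_S {w : G} (h : ∀ x ∈ D.S, x * w = w * x) : ∃ k : F3, w = D.j (k • vz) := by
  obtain ⟨v, rfl⟩ := (D.mem_J w).1 (D.cJ w fun v => (h _ (J_le D (j_mem D v))).symm)
  have h1 := D.jinj _ _ ((D.b_j v).symm.trans (mul_inv_eq_iff_eq_mul.2 (h _ (b_mem D))))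
  have h2 := D.jinj _ _ ((φ_j D σ_act v).symm.trans (mul_inv_eq_iff_eq_mul.2 (h _ (σ_mem D))))
  obtain ⟨k, hk⟩ := (by decide +kernel : ∀ v : V4, (v.1, rot v.2) = v →
    ac (Equiv.swap 1 2 * Equiv.swap 2 3) v = v → ∃ k : F3, v = k • vz) v h1 h2
  exact ⟨k, congrArg _ hk⟩

theorem cube_S {x : G} (hx : x ∈ D.S) : ∃ k : F3, x ^ 3 = D.j (k • vz) := by
  obtain ⟨i, p, k, hp, rfl⟩ := (D.mem_S x).1 hx
  obtain ⟨i, hi⟩ := b_pow_mod D i
  obtain ⟨m, w, rfl⟩ := (by decide +kernel : ∀ p : X, X.InS p → ∃ m : Fin 3, ∃ w,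
    p = X.σ ^ m.1 * X.jv w) p hp
  rw [hi, map_mul, map_pow, ← D.j_emb, ← mul_assoc, mul_assoc, ← D.add]
  generalize emb w + k • va = v
  let A : V4 → V4 := fun v => rb^[i.1] ((ac (Equiv.swap 1 2 * Equiv.swap 2 3))^[m.1] v)
  set c := D.b ^ i.1 * D.φ X.σ ^ m.1 with hc
  have h1 : ∀ v, c * D.j v * c⁻¹ = D.j (A v) := fun v => by
    simp only [A, ← b_pow, ← σ_pow, hc]
    group
  have h2 : c * c * c = 1 := by
    have e : Commute D.b (D.φ X.σ) := D.b_comm _ (by decide +kernel)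
    rw [← pow_three', hc, (e.pow_pow _ _).mul_pow, ← pow_mul, ← pow_mul, mul_comm i.1, mul_comm m.1,
      pow_mul, pow_mul, D.b3, ← map_pow, (by decide +kernel : X.σ ^ 3 = 1)]
    simp
  obtain ⟨n, hn⟩ := (by decide +kernel : ∀ (i m : Fin 3) (v : V4),
    let A : V4 → V4 := fun v => rb^[i.1] ((ac (Equiv.swap 1 2 * Equiv.swap 2 3))^[m.1] v)
    ∃ n : F3, A (v + A (v + A v)) = n • vz) i m v
  refine ⟨n, ?_⟩
  rw [← hn, ← h1, D.add, ← h1, D.add, ← h1]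
  calc _ = c * D.j v * (c * D.j v * (c * D.j v)) * (c * c * c)⁻¹ := by rw [h2, pow_three]; simp
    _ = _ := by group

theorem card_J : Nat.card D.J = 81 := by
  rw [← Nat.card_congr (Equiv.ofBijective (fun v : V4 => (⟨D.j v, j_mem D v⟩ : D.J))
    ⟨fun v w e => D.jinj v w (congrArg Subtype.val e), fun ⟨g, hg⟩ =>
      ((D.mem_J g).1 hg).imp fun _ e => Subtype.ext e⟩)]
  simp

theorem no_wreath [Finite G] (P : Sylow 3 (Equiv.Perm (Fin (3 ^ 2))))
    (f : D.S →* (P : Subgroup (Equiv.Perm (Fin (3 ^ 2))))) (hf : Function.Surjective f) : False := by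
  have := Fact.mk Nat.prime_three
  have hS := D.syl.isPGroup
  have h1 : f.ker ≠ ⊥ := fun e => by
    have e1 := Nat.card_eq_of_bijective f ⟨(MonoidHom.ker_eq_bot_iff f).1 e, hf⟩
    obtain ⟨k, hk⟩ := IsPGroup.iff_card.1 hS
    have e2 : Nat.card D.J < Nat.card D.S := (Subgroup.card_le_of_le (J_le D)).lt_of_ne fun e =>
      b_a D (by
        obtain ⟨v, e⟩ := (D.mem_J _).1 ((eq_of_le_of_card_ge (J_le D) e.ge).ge (b_mem D))
        rw [← e, j_comm])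
    rw [card_J, hk, show 81 = 3 ^ 4 from rfl, Nat.pow_lt_pow_iff_right (by norm_num)] at e2
    have e3 := (pow_dvd_pow 3 (show 5 ≤ k from e2)).trans
      (hk ▸ e1 ▸ card_subgroup_dvd_card (P : Subgroup (Equiv.Perm (Fin (3 ^ 2)))))
    rw [Nat.card_perm] at e3
    simp only [Nat.card_eq_fintype_card, Fintype.card_fin] at e3
    exact absurd e3 (by decide)
  have := hS.isNilpotent
  obtain ⟨⟨w, w1, w2⟩, hw⟩ := ne_bot_iff_exists_ne_one.1 (Solv.PG.inf_center_ne_bot f.ker h1)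
  obtain ⟨k, hk⟩ := center_S D (w := w) fun x hx =>
    congrArg Subtype.val (mem_center_iff.1 w2 ⟨x, hx⟩)
  have h2 : D.j vz ∈ f.ker.map D.S.subtype := by
    have k0 : k ≠ 0 := fun e => hw (Subtype.ext (Subtype.ext (by simp [hk, e, j_zero])))
    rw [vz_eq k k0]
    exact smul_mem D (hk ▸ mem_map_of_mem _ w1) k
  have h3 : ∀ y ∈ (P : Subgroup (Equiv.Perm (Fin (3 ^ 2)))), y ^ 3 = 1 := fun y hy => by
    obtain ⟨x, hx⟩ := hf ⟨y, hy⟩
    obtain ⟨n, hn⟩ := cube_S D x.2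
    obtain ⟨u, u1, u2⟩ := smul_mem D h2 n
    have : x ^ 3 = u := Subtype.ext (hn.trans u2.symm)
    have e := map_pow f x 3
    rw [this, hx, show f u = 1 from u1] at e
    exact (congrArg Subtype.val e).symm
  let c : Equiv.Perm (Fin (3 ^ 2)) := finRotate 9
  obtain ⟨T, hT⟩ := (show IsPGroup 3 (zpowers c) from fun ⟨_, n, rfl⟩ => ⟨2, Subtype.ext (by
    change (c ^ n) ^ 3 ^ 2 = 1
    rw [← zpow_natCast, ← zpow_mul, mul_comm, zpow_mul, zpow_natCast,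
      (by decide +kernel : c ^ 3 ^ 2 = 1), one_zpow])⟩).exists_le_sylow
  obtain ⟨g, rfl⟩ := MulAction.exists_smul_eq (Equiv.Perm (Fin (3 ^ 2))) P T
  have h4 := hT (mem_zpowers c)
  rw [Sylow.coe_subgroup_smul, mem_pointwise_smul_iff_inv_smul_mem] at h4
  have h5 := h3 _ h4
  rw [← smul_pow', smul_eq_iff_eq_inv_smul, smul_one] at h5
  exact absurd h5 (by decide +kernel)

theorem conj_a (hA : D.CaseA) {g : G} (hg : g * D.j vz = D.j vz * g) :
    ∃ k : F3, g * D.j va * g⁻¹ = D.j va * D.j (k • vz) := by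
  obtain ⟨i, hi⟩ := D.cz g hg
  have hb : Commute D.b (D.j vz) := mul_inv_eq_iff_eq_mul.1 (D.b_j vz)
  have h1 := hi.resolve_right (hA _ ((hb.pow_left i).mul_left hg))
  obtain ⟨m, hm⟩ := b_pow_mod D (2 * i)
  obtain ⟨k, hk⟩ := (by decide +kernel : ∀ m : Fin 3, ∃ k : F3, rb^[m.1] va = va + k • vz) m
  refine ⟨k, ?_⟩
  have h2 : D.b ^ (2 * i) * D.b ^ i = 1 := by
    rw [← pow_add, show 2 * i + i = 3 * i by ring, pow_mul, D.b3, one_pow]
  rw [← D.add, ← hk, ← b_pow, ← hm, eq_inv_of_mul_eq_one_left h2]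
  conv_rhs => rw [← h1]
  group

theorem focal (hA : D.CaseA) {n x : G} (hx : x * D.j vz = D.j vz * x)
    (hn : n * D.j vz * n⁻¹ = D.j vz ∨ n * D.j vz * n⁻¹ = D.j (-vz)) :
    n * x * n⁻¹ * D.j va * (n * x * n⁻¹)⁻¹ = x * D.j va * x⁻¹ := by
  have k1 : ∀ n x, n * D.j vz = D.j vz * n → x * D.j vz = D.j vz * x →
      n * x * n⁻¹ * D.j va * (n * x * n⁻¹)⁻¹ = x * D.j va * x⁻¹ := fun n x hn hx => by
    obtain ⟨k, hk⟩ := conj_a D hA hx
    obtain ⟨m, hm⟩ := conj_a D hA (show Commute n _ from hn).inv_left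
    have e1 := j_smul D (mul_inv_eq_iff_eq_mul.2 hx) m
    have e2 := j_smul D (mul_inv_eq_iff_eq_mul.2 hn) k
    calc _ = n * (x * (n⁻¹ * D.j va * n⁻¹⁻¹) * x⁻¹) * n⁻¹ := by group
      _ = n * (D.j va * D.j (m • vz) * D.j (k • vz)) * n⁻¹ := by
        rw [hm, ← conj_mul (a := D.j va), e1, hk, mul_assoc (D.j va), j_comm, mul_assoc (D.j va)]
      _ = _ := by rw [← hm, ← conj_mul, e2, hk]; group
  rcases hn with hn | hn
  · exact k1 n x (mul_inv_eq_iff_eq_mul.1 hn) hx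
  obtain ⟨g, hg⟩ := exists_inv D
  have hg' : ∀ v, g⁻¹ * D.j v * g = D.j (-v) := fun v => by
    rw [← neg_neg v, ← hg, neg_neg]; group
  have e1 : n * g⁻¹ * D.j vz = D.j vz * (n * g⁻¹) := by
    rw [← mul_inv_eq_iff_eq_mul]
    calc _ = n * (g⁻¹ * D.j vz * g) * n⁻¹ := by group
      _ = _ := by rw [hg', j_neg, ← conj_inv, hn, j_neg, inv_inv]
  have e2 : g * x * g⁻¹ * D.j vz = D.j vz * (g * x * g⁻¹) := by
    rw [← mul_inv_eq_iff_eq_mul]
    calc _ = g * (x * (g⁻¹ * D.j vz * g) * x⁻¹) * g⁻¹ := by group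
      _ = _ := by rw [hg', j_neg, ← conj_inv, mul_inv_eq_iff_eq_mul.2 hx, ← j_neg, hg, neg_neg]
  have e3 := k1 _ _ e1 e2
  obtain ⟨k, hk⟩ := conj_a D hA hx
  calc _ = n * g⁻¹ * (g * x * g⁻¹) * (n * g⁻¹)⁻¹ * D.j va *
        (n * g⁻¹ * (g * x * g⁻¹) * (n * g⁻¹)⁻¹)⁻¹ := by group
    _ = g * (x * (g⁻¹ * D.j va * g) * x⁻¹) * g⁻¹ := by rw [e3]; group
    _ = _ := by rw [hg', j_neg, ← conj_inv, hk, ← D.add, ← j_neg, hg, neg_neg]

theorem exists_index_three [Finite G] (hA : D.CaseA) :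
    ∃ N : Subgroup G, N.Normal ∧ N.index = 3 ∧ D.t ∈ N ∧ D.b ∉ N := by
  have := Fact.mk Nat.prime_three
  obtain ⟨S, hS⟩ := D.syl.exists_sylow_eq
  have h1 : D.S ⊓ ⁅normalizer (D.S : Set G), normalizer (D.S : Set G)⁆ ≤ centralizer {D.j va} :=
    (D.syl.mono le_normalizer le_top).inf_commutator_le fun x hx n hn _ => by
      obtain ⟨k, hk⟩ := center_S D (w := n * D.j vz * n⁻¹) fun y hy => by
        have := S_z D (conj_mem_of_norm' hn hy)
        calc y * (n * D.j vz * n⁻¹) = n * (n⁻¹ * y * n * D.j vz) * n⁻¹ := by group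
          _ = _ := by rw [this]; group
      have := focal D hA (S_z D hx) (n := n) (by
        obtain rfl | rfl | rfl := f3_cases k
        · rw [zero_smul, j_zero, conj_eq_one_iff, ← j_zero D] at hk
          exact absurd (D.jinj _ _ hk) (by decide)
        · exact .inl (by simpa using hk)
        · exact .inr (by simpa using hk))
      rw [mem_centralizer_singleton_iff, ← mul_inv_eq_iff_eq_mul]
      calc _ = x⁻¹ * (n * x * n⁻¹ * D.j va * (n * x * n⁻¹)⁻¹) * x := by group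
        _ = _ := by rw [this]; group
  have h2 : D.S ⊓ commutator G ≤ centralizer {D.j va} := by
    by_contra h
    obtain ⟨P, f, hf⟩ := Agent.S2807.result S (by rw [hS]; exact fun e => h (e ▸ h1))
    exact no_wreath D P (f.comp (MulEquiv.subgroupCongr hS.symm).toMonoidHom)
      (hf.comp (MulEquiv.subgroupCongr hS.symm).surjective)
  obtain ⟨K, -, -, k3, k4, -⟩ := exists_focal (U := centralizer {D.j va}) D.syl
    fun x hx g _ hg => h2 ⟨D.S.mul_mem hx (D.S.inv_mem hg), by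
      have := commutator_mem_commutator (mem_top x) (mem_top g)
      rw [commutatorElement_def] at this
      change _ ∈ (⁅⊤, ⊤⁆ : Subgroup G)
      convert this using 1
      group⟩
  obtain ⟨M, m1, m2, m3⟩ := exists_normal_index_eq_prime_of_pResidual_ne_top (p := 3) (G := G)
    fun e => b_a D (mem_centralizer_singleton_iff.1 (k3 ⟨(pResidual_le_iff_forall.2 fun g =>
      k4 g (mem_top g)) (e ▸ mem_top _), b_mem D⟩))
  have ht : D.t ∈ M := m3 (mem_pResidual_of_coprime (Nat.Coprime.coprime_dvd_left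
    (orderOf_dvd_of_pow_eq_one (n := 2) (by rw [pow_two, t_sq])) (by norm_num)))
  refine ⟨M, m1, m2, ht, fun hb => D.syl.not_dvd ?_⟩
  rw [relIndex_top_right, ← m2]
  refine index_dvd_of_le fun x hx => ?_
  obtain ⟨i, p, k, -, rfl⟩ := (D.mem_S x).1 hx
  exact mul_mem (mul_mem (pow_mem hb i) (φ_mem_of_t D ht p)) (j_mem_of_t D ht _)

end Cfsg.Lib.O8.MA
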