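import Cfsg.Agent.Recog.O8Kb
import Cfsg.Agent.Block.SmithTyrer
import Cfsg.Agent.FT.PLength
import Mathlib.GroupTheory.NoncommPiCoprod

/-! Four four-groups normalized by a group of order `27`: the basic structure. -/

set_option autoImplicit false

namespace Cfsg.Lib.O8

open Cfsg Subgroup _root_.Cfsg.Lib.Trans Cfsg.Lib.Recog.P43
open Cfsg.Lib.Odd3 (conj_mem_of_norm conj_mem_of_norm' mem_norm_of_conj)

variable {X : Type*} [Group X]

theorem st_le [Finite X] {C H M : Subgroup X} (hs : IsSylowIn 3 H C) [IsMulCommutative H]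
    (nc : ¬ IsCyclic H) (pm : ∀ n ∈ C, n ∈ normalizer (H : Set X) → n ∈ M ∧
      ((∀ y ∈ H, n * y * n⁻¹ = y) ∨ ∀ y ∈ H, n * y * n⁻¹ = y⁻¹))
    (hc : ∀ a ∈ H, a ≠ 1 → centralizer {a} ≤ M) : C ≤ M := by
  have : Fact (Nat.Prime 3) := ⟨Nat.prime_three⟩
  let Q := hs.toSylow
  have hn : ∀ n : C, n ∈ normalizer ((Q : Subgroup C) : Set C) → n.1 ∈ normalizer (H : Set X) :=
    fun n hn => by rwa [hs.coe_toSylow, ← subgroupOf_normalizer_eq hs.le, mem_subgroupOf] at hn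
  have h3 : ∀ n ∈ normalizer ((Q : Subgroup C) : Set C),
      (∀ y ∈ (Q : Subgroup C), n * y * n⁻¹ = y) ∨ ∀ y ∈ (Q : Subgroup C), n * y * n⁻¹ = y⁻¹ :=
    fun n h => (pm n n.2 (hn n h)).2.imp (fun e y hy => Subtype.ext (e y hy))
      fun e y hy => Subtype.ext (e y hy)
  have c : IsMulCommutative (Q : Subgroup C) := ⟨⟨fun x y => Subtype.ext (Subtype.ext
    (setLike_mul_comm (s := H) x.2 y.2))⟩⟩
  have h4 : (pPrimeCore 3 C ⊔ Q).Normal := by
    by_cases h2 : ∃ n ∈ normalizer ((Q : Subgroup C) : Set C), ∀ y ∈ (Q : Subgroup C), n * y * n⁻¹ = y⁻¹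
    · exact FT.plength_one_sup_normal (Block.ST.InvSub.plength (by norm_num) Q c
        (fun e => nc ((subgroupOfEquivOfLe hs.le).isCyclic.1 e)) ⟨h3, h2⟩) Q
    · have h5 : normalizer (Q : Set C) ≤ centralizer (Q : Set C) := fun n hn y hy =>
        (mul_inv_eq_iff_eq_mul.1 ((h3 n hn).resolve_right (fun h => h2 ⟨n, hn, h⟩) y hy)).symm
      have h6 := MonoidHom.ker_transferSylow_isComplement' Q h5
      rw [eq_top_iff.2 (h6.sup_eq_top.ge.trans (sup_le_sup_right (FT.pl_le_pPrimeCore (p := 3) _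
        (h6.index_eq_card ▸ ((Nat.Prime.coprime_iff_not_dvd Nat.prime_three).2
          Q.not_dvd_index).symm)) _))]
      infer_instance
  obtain ⟨n, e⟩ := IsPGroup.iff_card.1 hs.isPGroup
  have h5 : pPrimeCore 3 C ⊔ Q ≤ M.subgroupOf C := sup_le (map_le_iff_le_comap.1
    (Solv.Coprime.le_of_forall_centralizer_singleton nc
      (fun p hp => le_normalizer_map _ ⟨⟨p, hs.le hp⟩, by rw [normalizer_eq_top]; trivial, rfl⟩) (by
        rw [card_subtype, e]; exact ((Solv.coprime_card_pPrimeCore 3 _).pow_right n).symm)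
      fun a ha a1 => inf_le_right.trans (hc a ha a1)))
    fun p hp => (pm p p.2 (le_normalizer hp)).1
  intro g hg
  obtain ⟨k, hk, n, hn', e⟩ := ((isSylowIn_top Q).mono le_sup_right le_top).frattini
    (K := pPrimeCore 3 C ⊔ Q) (g := ⟨g, hg⟩) (by rw [normalizer_eq_top]; trivial)
  rw [show g = k * n from congrArg Subtype.val e]
  exact mul_mem (h5 hk) (pm n n.2 (hn n hn')).1

/-- The permutation of the four subgroups given by a sign vector. -/
def bl (e : V3) (i : Fin 4) : Fin 4 :=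
  if ch i (e * (0, 1, 2)) = 0 then (if ch i (e * (1, 2, 0)) = 0 then 0 else 1)
  else if ch i (e * (1, 0, 2)) = 0 then 2 else 3

theorem IsSg.mul {e d : V3} : IsSg e → IsSg d → IsSg (e * d) := by revert e d; decide

theorem IsSg.sq {e : V3} : IsSg e → e * e = 1 := by revert e; decide

theorem bl_fix : ∀ e i, IsSg e → bl e i = i → e = 1 ∨ e = -1 := by decide

theorem bl_inj : ∀ e i k, IsSg e → bl e i = bl e k → i = k := by decide

namespace TB

variable {J : Subgroup X} {j : V3 → X} {P : Fin 4 → Subgroup X} (h : TB J j P)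
include h

theorem jz : j 0 = 1 := hom_zero h.add

theorem jneg (v : V3) : j (-v) = (j v)⁻¹ := hom_neg h.add v

theorem jmem (v : V3) : j v ∈ J := (h.mem _).2 ⟨v, rfl⟩

theorem jcomm (v w : V3) : j v * j w = j w * j v := by rw [← h.add, ← h.add, add_comm]

theorem j3 (v : V3) : j v ^ 3 = 1 := by
  rw [pow_three', ← h.add, ← h.add, show v + v + v = 0 by revert v; decide, h.jz]

theorem jeq {v : V3} (e : j v = 1) : v = 0 := h.inj _ _ (e.trans h.jz.symm)

theorem commJ {x y : X} (hx : x ∈ J) (hy : y ∈ J) : x * y = y * x := by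
  obtain ⟨v, rfl⟩ := (h.mem _).1 hx
  obtain ⟨w, rfl⟩ := (h.mem _).1 hy
  exact h.jcomm v w

theorem ind {i k l m : Fin 4} {a b c d : X} (ha : a ∈ P i) (hb : b ∈ P k) (hc : c ∈ P l)
    (hd : d ∈ P m) (h1 : k ≠ i) (h2 : l ≠ i) (h3 : m ≠ i) (e : a * (b * c) * d = 1) : a = 1 := by
  obtain ⟨v, v1, v2, v3⟩ := (by decide : ∀ i k l : Fin 4, k ≠ i → l ≠ i →
    ∃ v, ch k v = 0 ∧ ch l v = 0 ∧ ch i v ≠ 0) i k l h1 h2
  have e1 : j v * (b * c) * (j v)⁻¹ = b * c := by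
    rw [← conj_mul, (h.cP _ v b hb).2 (.inl v1), (h.cP _ v c hc).2 (.inl v2)]; group
  have e2 : b * c = a⁻¹ * d⁻¹ := by rw [← mul_one a⁻¹, ← e]; group
  have e3 : a * (j v * a⁻¹ * (j v)⁻¹) = d⁻¹ * (j v * d * (j v)⁻¹) := by
    rw [eq_inv_mul_iff_mul_eq, ← mul_assoc, h.comm _ _ d hd a ha, mul_assoc a,
      h.comm _ _ d hd _ (h.nP _ v _ (inv_mem ha)), show j v * a⁻¹ * (j v)⁻¹ =
        j v * (b * c) * (j v)⁻¹ * (j v * d * (j v)⁻¹) by rw [e2]; group, e1, e2, mul_assoc _ _ d,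
      ← h.comm _ _ d hd _ (h.nP _ v _ hd)]
    group
  have e4 := h.disj h3 (e3 ▸ mul_mem (inv_mem hd) (h.nP _ v _ hd)) (mul_mem ha (h.nP _ v _ (inv_mem ha)))
  refine ((h.cP i v a ha).1 ?_).resolve_left v3
  rw [← one_mul (j v * a), ← e4]; group

theorem exists_phi : ∃ Φ : (∀ i, P i) →* X, Function.Injective Φ ∧ Φ.range = ⨆ i, P i ∧
    ∀ w, Φ w = w 0 * (w 1 * w 2) * w 3 := by
  let Φ := noncommPiCoprod (H := P) fun i k _ x y hx hy => h.comm i k x hx y hy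
  have e : ∀ w, Φ w = w 0 * (w 1 * w 2) * w 3 := fun w => by
    conv_lhs => rw [show w = Pi.mulSingle 0 (w 0) * (Pi.mulSingle 1 (w 1) * Pi.mulSingle 2 (w 2)) *
      Pi.mulSingle 3 (w 3) by ext i; fin_cases i <;> simp]
    have k : ∀ i (y : P i), Φ (Pi.mulSingle i y) = y := fun i y => noncommPiCoprod_mulSingle i y
    rw [map_mul, map_mul, map_mul, k, k, k, k]
  refine ⟨Φ, (injective_iff_map_eq_one Φ).2 fun w hw => ?_, noncommPiCoprod_range, e⟩
  rw [e] at hw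
  have a0 := h.ind (w 0).2 (w 1).2 (w 2).2 (w 3).2 (by decide) (by decide) (by decide) hw
  have a1 := h.ind (w 1).2 (w 2).2 (w 3).2 (w 0).2 (by decide) (by decide) (by decide)
    (by simpa [a0, mul_assoc] using hw)
  have a2 := h.ind (w 2).2 (w 3).2 (w 0).2 (w 1).2 (by decide) (by decide) (by decide)
    (by simpa [a0, a1] using hw)
  ext i
  fin_cases i
  exacts [a0, a1, a2, by simpa [a0, a1, a2] using hw]

theorem cardV : Nat.card ↥(⨆ i, P i) = 256 := by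
  obtain ⟨Φ, a, b, -⟩ := h.exists_phi
  rw [← b, ← Nat.card_congr (MonoidHom.ofInjective a).toEquiv, Nat.card_pi]
  simp [h.card]

theorem comV {x y : X} (hx : x ∈ ⨆ i, P i) (hy : y ∈ ⨆ i, P i) : x * y = y * x := by
  obtain ⟨Φ, -, b, -⟩ := h.exists_phi
  obtain ⟨x, rfl⟩ := b.ge hx
  obtain ⟨y, rfl⟩ := b.ge hy
  rw [← map_mul, ← map_mul]
  exact congrArg Φ (funext fun i => Subtype.ext (h.comm i i _ (x i).2 _ (y i).2))

theorem sqV {x : X} (hx : x ∈ ⨆ i, P i) : x * x = 1 := by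
  obtain ⟨Φ, -, b, -⟩ := h.exists_phi
  obtain ⟨x, rfl⟩ := b.ge hx
  rw [← map_mul, ← map_one Φ]
  exact congrArg Φ (funext fun i => Subtype.ext (h.sq i _ (x i).2))

theorem fpf {v : V3} (hv : q3 v = 1) {x : X} (hx : x ∈ ⨆ i, P i) (e : j v * x = x * j v) : x = 1 := by
  obtain ⟨Φ, a, b, c⟩ := h.exists_phi
  obtain ⟨x, rfl⟩ := b.ge hx
  have := a (a₁ := fun i => ⟨_, h.nP i v _ (x i).2⟩) (a₂ := x) (by
    rw [← mul_inv_eq_of_eq_mul e, c, c]; simp only [conj_mul])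
  rw [← map_one Φ]
  exact congrArg Φ (funext fun i => Subtype.ext (((h.cP i v _ (x i).2).1 (mul_inv_eq_iff_eq_mul.1
    (congrArg Subtype.val (congrFun this i)))).resolve_left (by clear * - hv; revert v i; decide)))

theorem VJ {x : X} (hx : x ∈ ⨆ i, P i) (hj : x ∈ J) : x = 1 := by
  obtain ⟨v, rfl⟩ := (h.mem _).1 hj
  exact eq_one_of_sq_cube (h.sqV hx) (h.j3 v)

theorem M_le [Finite X] : (⨆ i, P i) ⊔ normalizer (J : Set X) ≤ normalizer ((⨆ i, P i : Subgroup X) : Set X) :=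
  sup_le le_normalizer fun n hn => mem_norm_of_conj (cj_le_iff.1 (map_le_iff_le_comap.2 (iSup_le fun i x hx =>
    let ⟨k, hk⟩ := h.nV n hn i; le_iSup P k (hk x hx))))

theorem fus [Finite X] (syl : IsSylowIn 3 J ⊤) (g : X) (Y : Set X) (hY : ∀ y ∈ Y, y ∈ J ∧ g * y * g⁻¹ ∈ J) :
    ∃ n ∈ normalizer (J : Set X), ∀ y ∈ Y, n * y * n⁻¹ = g * y * g⁻¹ := by
  have : Fact (Nat.Prime 3) := ⟨Nat.prime_three⟩
  obtain ⟨c, hc, h2⟩ := (syl.mono (K := centralizer Y) (fun u hu => mem_centralizer_iff.2 fun y hy =>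
    h.commJ (hY y hy).1 hu) le_top).exists_cj_le (Q := cj g⁻¹ J) (syl.isPGroup.map _) fun u hu =>
    mem_centralizer_iff.2 fun y hy => by
      have := h.commJ (hY y hy).2 (mem_cj_inv.1 hu)
      calc y * u = g⁻¹ * (g * y * g⁻¹ * (g * u * g⁻¹)) * g := by group
        _ = _ := by rw [this]; group
  rw [cj_cj] at h2
  refine ⟨_, inv_mem (mem_norm_of_conj (cj_le_iff.1 h2)), fun y hy => ?_⟩
  calc (c * g⁻¹)⁻¹ * y * (c * g⁻¹)⁻¹⁻¹ = g * c⁻¹ * (y * c) * g⁻¹ := by group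
    _ = _ := by rw [mem_centralizer_iff.1 hc y hy]; group

end TB

/-- The configuration with a complement in the normalizer. -/
structure TC (J : Subgroup X) (j : V3 → X) (P : Fin 4 → Subgroup X) (β : V3 → X) : Prop
    extends TB J j P where
  syl : IsSylowIn 3 J ⊤
  bj : ∀ e, IsSg e → ∀ v, β e * j v * (β e)⁻¹ = j (e * v)
  bm : ∀ e d, IsSg e → IsSg d → β (e * d) = β e * β d
  dec : ∀ n ∈ normalizer (J : Set X), ∃ u e, IsSg e ∧ n = j u * β e

theorem TB.exists_tc {J : Subgroup X} {j : V3 → X} {P : Fin 4 → Subgroup X} (h : TB J j P)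
    (syl : IsSylowIn 3 J ⊤)
    (diag : ∀ n ∈ normalizer (J : Set X), ∃ e, IsSg e ∧ ∀ v, n * j v * n⁻¹ = j (sg e v)) :
    ∃ β, TC J j P β := by
  have k : ∀ e n m, (∀ v, n * j v * n⁻¹ = j (e * v)) → (∀ v, m * j v * m⁻¹ = j (e * v)) →
      ∃ u, n = j u * m := fun e n m a b => by
    obtain ⟨u, hu⟩ := (h.mem _).1 (h.cJ (m⁻¹ * n) fun v => by
      rw [← mul_inv_eq_iff_eq_mul, show m⁻¹ * n * j v * (m⁻¹ * n)⁻¹ = m⁻¹ * (n * j v * n⁻¹) * m by group,
        a, ← b]; group)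
    exact ⟨e * u, by rw [← b, hu]; group⟩
  obtain ⟨z, hz⟩ := h.sur (-1) (by decide)
  replace hz : ∀ v, z * j v * z⁻¹ = j (-1 * v) := hz
  have : ∀ e, ∃ b, IsSg e → (∀ v, b * j v * b⁻¹ = j (e * v)) ∧ b * z = z * b := fun e => by
    by_cases he : IsSg e
    · obtain ⟨n, hn⟩ := h.sur e he
      replace hn : ∀ v, n * j v * n⁻¹ = j (e * v) := hn
      obtain ⟨u, hu⟩ := k (-e) (n * z) (z * n) (fun v => by
        rw [show n * z * j v * (n * z)⁻¹ = n * (z * j v * z⁻¹) * n⁻¹ by group, hz, hn]; congr 1; ring)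
        fun v => by
          rw [show z * n * j v * (z * n)⁻¹ = z * (n * j v * n⁻¹) * z⁻¹ by group, hn, hz]; congr 1; ring
      refine ⟨j u * n, fun _ => ⟨fun v => ?_, ?_⟩⟩
      · rw [show j u * n * j v * (j u * n)⁻¹ = j u * (n * j v * n⁻¹) * (j u)⁻¹ by group, hn, h.jcomm]; group
      · rw [mul_assoc, hu, ← mul_assoc, ← h.add, ← mul_assoc z, mul_inv_eq_iff_eq_mul.1 (hz u),
          show u + u = -1 * u by clear * -; revert u; decide, mul_assoc]
    · exact ⟨1, fun a => absurd a he⟩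
  choose β hβ using this
  refine ⟨β, h, syl, fun e he => (hβ e he).1, fun e d he hd => ?_, fun n hn => ?_⟩
  · obtain ⟨u, hu⟩ := k (e * d) _ (β e * β d) (hβ _ (he.mul hd)).1 fun v => by
      rw [show β e * β d * j v * (β e * β d)⁻¹ = β e * (β d * j v * (β d)⁻¹) * (β e)⁻¹ by group,
        (hβ d hd).1, (hβ e he).1, mul_assoc]
    have a := (hβ _ (he.mul hd)).2
    rw [hu, mul_assoc, mul_assoc, (hβ d hd).2, ← mul_assoc (β e), (hβ e he).2, ← mul_assoc z,
      mul_inv_eq_iff_eq_mul.1 (hz u), mul_assoc, mul_assoc, mul_left_inj] at a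
    rw [hu, show u = 0 by have := h.inj _ _ a; clear * - this; revert u; decide, h.jz, one_mul]
  · obtain ⟨e, he, a⟩ := diag n hn
    obtain ⟨u, hu⟩ := k e n _ a (hβ e he).1
    exact ⟨u, e, he, hu⟩

end Cfsg.Lib.O8
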