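import Cfsg.Agent.Recog.O8Ta

/-! Four four-groups normalized by a group of order `27`: signs and `3`-local analysis. -/

set_option autoImplicit false

namespace Cfsg.Lib.O8

open Cfsg Subgroup _root_.Cfsg.Lib.Trans Cfsg.Lib.Recog.P43
open Cfsg.Lib.Odd3 (conj_mem_of_norm conj_mem_of_norm' mem_norm_of_conj)

variable {X : Type*} [Group X]

theorem eq_one_odd {R : Type*} [Monoid R] {x : R} (h2 : x * x = 1) {k : ℕ} (h : x ^ 3 ^ k = 1) :
    x = 1 := by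
  obtain ⟨t, ht⟩ := (by decide : Odd 3).pow (n := k)
  rwa [ht, pow_succ, pow_mul, pow_two, h2, one_pow, one_mul] at h

set_option synthInstance.maxSize 1024 in
theorem wt_one (a : V3) (ha : q3 a = 1) : ∃ b r p t : V3, IsSg p ∧ IsSg t ∧ b ≠ 0 ∧ r ≠ 0 ∧
    dot a b = 0 ∧ dot a r = 0 ∧ p * a = a ∧ t * a = a ∧ p * b = -b ∧ p * r = r ∧ t * b = b ∧
    t * r = -r ∧ (∀ v, dot a v = 0 → ∃ k l : F3, v = k • b + l • r) ∧
    (∀ e, IsSg e → e * a = a → e = 1 ∨ e = p ∨ e = t ∨ e = p * t) ∧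
    (∀ v, dot a v = 0 → v ≠ 0 → v + a ≠ 0 ∧ q3 (v + a) ≠ 1) ∧
    ∀ v, ∃ w, ∃ k : F3, dot a w = 0 ∧ v = w + k • a := by
  refine ⟨rot a, rot (rot a), 1 + rot a * rot a, 1 + rot (rot a) * rot (rot a), ?_⟩
  revert a; decide +kernel

theorem dot_fix : ∀ d a : V3, d * a = a → ∀ v, dot a (v + -(d * v)) = 0 := by decide +kernel

theorem neg_neg3 : ∀ v : V3, -v + -v = v := by decide

/-- The subgroup to be shown to be everything. -/
abbrev MM (J : Subgroup X) (P : Fin 4 → Subgroup X) : Subgroup X :=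
  (⨆ i, P i) ⊔ normalizer (J : Set X)

/-- The element `m` has signs `e`. -/
def Sg (j : V3 → X) (P : Fin 4 → Subgroup X) (β : V3 → X) (m : X) (e : V3) : Prop :=
  IsSg e ∧ ∃ v ∈ ⨆ i, P i, ∃ u, m = v * (j u * β e)

variable {J : Subgroup X} {j : V3 → X} {P : Fin 4 → Subgroup X} {β : V3 → X}

/-- A plane. -/
def TB.pl (h : TB J j P) (c : V3) : Subgroup X where
  carrier := {g | ∃ v, dot c v = 0 ∧ j v = g}
  mul_mem' := by
    rintro _ _ ⟨v, hv, rfl⟩ ⟨w, hw, rfl⟩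
    exact ⟨v + w, by rw [dot_add, hv, hw, add_zero], h.add v w⟩
  one_mem' := ⟨0, by simp [dot], h.jz⟩
  inv_mem' := by
    rintro _ ⟨v, hv, rfl⟩
    exact ⟨-v, by rw [dot_neg, hv, neg_zero], h.jneg v⟩

theorem TB.mem_pl (h : TB J j P) {c v : V3} : j v ∈ h.pl c ↔ dot c v = 0 :=
  ⟨fun ⟨_, a, e⟩ => h.inj _ _ e ▸ a, fun a => ⟨v, a, rfl⟩⟩

theorem TB.pl_le (h : TB J j P) (c : V3) : h.pl c ≤ J := by
  rintro _ ⟨v, -, rfl⟩; exact h.jmem v

theorem TB.card_pl (h : TB J j P) {c : V3} (hc : c ≠ 0) : Nat.card (h.pl c) = 9 := by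
  rw [← card_dot c hc, ← Fintype.card_coe, ← Nat.card_eq_fintype_card]
  exact (Nat.card_congr (Equiv.ofBijective
    (fun v : (Finset.univ.filter fun v => dot c v = 0) =>
      (⟨j v.1, v.1, (Finset.mem_filter.1 v.2).2, rfl⟩ : h.pl c))
    ⟨fun v w e => Subtype.ext (h.inj _ _ (congrArg Subtype.val e)), fun ⟨_, v, hv, e⟩ =>
      ⟨⟨v, Finset.mem_filter.2 ⟨Finset.mem_univ _, hv⟩⟩, Subtype.ext e⟩⟩)).symm

namespace TC

variable (h : TC J j P β)
include h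

theorem b1 : β 1 = 1 := by
  have := h.bm 1 1 (by decide) (by decide)
  rw [mul_one] at this
  exact left_eq_mul.1 this

theorem b2 {e : V3} (he : IsSg e) : β e * β e = 1 := by rw [← h.bm e e he he, he.sq, h.b1]

theorem bc {e d : V3} (he : IsSg e) (hd : IsSg d) : β e * β d = β d * β e := by
  rw [← h.bm e d he hd, ← h.bm d e hd he, mul_comm]

theorem jN (v : V3) : j v ∈ normalizer (J : Set X) := le_normalizer (h.jmem v)

theorem jM (v : V3) : j v ∈ MM J P := mem_sup_right (h.jN v)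

omit h in
theorem PV {i : Fin 4} {x : X} (hx : x ∈ P i) : x ∈ ⨆ i, P i := le_iSup P i hx

omit h in
theorem PM {i : Fin 4} {x : X} (hx : x ∈ P i) : x ∈ MM J P := mem_sup_left (PV hx)

theorem sgV {v : X} (hv : v ∈ ⨆ i, P i) : Sg j P β v 1 :=
  ⟨by decide, v, hv, 0, by rw [h.jz, h.b1, mul_one, mul_one]⟩

theorem sgB {e : V3} (he : IsSg e) : Sg j P β (β e) e :=
  ⟨he, 1, one_mem _, 0, by rw [h.jz, one_mul, one_mul]⟩

variable [Finite X]

theorem bN {e : V3} (he : IsSg e) : β e ∈ normalizer (J : Set X) := mem_norm_of_conj fun y hy => by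
  obtain ⟨v, rfl⟩ := (h.mem _).1 hy
  rw [h.bj e he]; exact h.jmem _

theorem cV {m v : X} (hm : m ∈ MM J P) (hv : v ∈ ⨆ i, P i) : m * v * m⁻¹ ∈ ⨆ i, P i :=
  conj_mem_of_norm (h.M_le hm) hv

theorem sgn {m : X} (hm : m ∈ MM J P) : ∃ e, Sg j P β m e := by
  obtain ⟨v, hv, n, hn, rfl⟩ := (Solv.mem_sup_of_le_normalizer (le_sup_right.trans h.M_le)).1 hm
  obtain ⟨u, e, he, rfl⟩ := h.dec n hn
  exact ⟨e, he, v, hv, u, rfl⟩

theorem sgM {m : X} {e : V3} (a : Sg j P β m e) : m ∈ MM J P := by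
  obtain ⟨he, v, hv, u, rfl⟩ := a
  exact mul_mem_sup hv (mul_mem (h.jN u) (h.bN he))

theorem dmul {v v' : X} {u u' e e' : V3} (he : IsSg e) (he' : IsSg e') (hv : v ∈ ⨆ i, P i)
    (hv' : v' ∈ ⨆ i, P i) : ∃ w ∈ ⨆ i, P i,
      v * (j u * β e) * (v' * (j u' * β e')) = w * (j (u + e * u') * β (e * e')) :=
  ⟨_, mul_mem hv (h.cV (mem_sup_right (mul_mem (h.jN u) (h.bN he))) hv'), by
    rw [h.add, ← h.bj e he, h.bm e e' he he']; group⟩

theorem sg_mul {m n : X} {e d : V3} (a : Sg j P β m e) (b : Sg j P β n d) :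
    Sg j P β (m * n) (e * d) := by
  obtain ⟨he, v, hv, u, rfl⟩ := a
  obtain ⟨hd, v', hv', u', rfl⟩ := b
  obtain ⟨w, hw, e1⟩ := h.dmul (u := u) (u' := u') he hd hv hv'
  exact ⟨he.mul hd, w, hw, _, e1⟩

theorem act {m : X} {e : V3} (a : Sg j P β m e) (w : V3) :
    ∃ v ∈ ⨆ i, P i, m * j w * m⁻¹ = v * j (e * w) := by
  obtain ⟨he, v, hv, u, rfl⟩ := a
  refine ⟨_, mul_mem hv (h.cV (h.jM (e * w)) (inv_mem hv)), ?_⟩
  rw [show v * (j u * β e) * j w * (v * (j u * β e))⁻¹ =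
    v * (j u * (β e * j w * (β e)⁻¹) * (j u)⁻¹) * v⁻¹ by group, h.bj e he, h.jcomm u]
  group

theorem actJ {m : X} {e : V3} (a : Sg j P β m e) {w : V3} (hw : m * j w * m⁻¹ ∈ J) :
    m * j w * m⁻¹ = j (e * w) := by
  obtain ⟨v, hv, e1⟩ := h.act a w
  rw [e1] at hw ⊢
  rw [h.VJ hv ((J.mul_mem_cancel_right (h.jmem _)).1 hw), one_mul]

theorem uniq {m : X} {e d : V3} (a : Sg j P β m e) (b : Sg j P β m d) : e = d := by
  obtain ⟨v, hv, e1⟩ := h.act a 1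
  obtain ⟨w, hw, e2⟩ := h.act b 1
  have e3 : w⁻¹ * v = j (d * 1) * (j (e * 1))⁻¹ := by
    rw [eq_mul_inv_iff_mul_eq, mul_assoc, ← e1, e2]; group
  have := h.VJ (mul_mem (inv_mem hw) hv) (e3 ▸ mul_mem (h.jmem _) (inv_mem (h.jmem _)))
  simpa using h.inj _ _ (mul_inv_eq_one.1 (e3.symm.trans this)).symm

theorem sg_inv {m : X} {e : V3} (a : Sg j P β m e) : Sg j P β m⁻¹ e := by
  obtain ⟨d, b⟩ := h.sgn (inv_mem (h.sgM a))
  have := h.uniq (h.sg_mul a b) (by rw [mul_inv_cancel]; exact h.sgV (one_mem _))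
  rwa [show e = d by rw [← mul_one e, ← b.1.sq, ← mul_assoc, this, one_mul]]

theorem sg_three {m : X} {e : V3} (a : Sg j P β m e) {k : ℕ} (hk : m ^ 3 ^ k = 1) : e = 1 := by
  have : ∀ n : ℕ, Sg j P β (m ^ n) (e ^ n) := fun n => by
    induction n with
    | zero => simpa using h.sgV (one_mem _)
    | succ n ih => rw [pow_succ, pow_succ]; exact h.sg_mul ih a
  exact eq_one_odd a.1.sq (h.uniq (this _) (hk ▸ h.sgV (one_mem _)))

theorem cube {m : X} (a : Sg j P β m 1) : m ^ 3 ∈ ⨆ i, P i := by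
  obtain ⟨he, v, hv, u, rfl⟩ := a
  obtain ⟨w, hw, e1⟩ := h.dmul (u := u) (u' := u) he he hv hv
  obtain ⟨w', hw', e2⟩ := h.dmul (u := u + 1 * u) (u' := u) (he.mul he) he hw hv
  rwa [pow_three', e1, e2, show u + 1 * u + 1 * 1 * u = 0 by clear * -; revert u; decide, h.jz,
    mul_one, mul_one, h.b1, mul_one, mul_one]

theorem two {m : X} (a : Sg j P β m 1) (h4 : m ^ 4 = 1) : m ∈ ⨆ i, P i := by
  rw [show m = (m ^ 3)⁻¹ by rw [eq_inv_iff_mul_eq_one, ← pow_succ', h4]]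
  exact inv_mem (h.cube a)

theorem blk {m x : X} {e : V3} (a : Sg j P β m e) {i : Fin 4} (hx : x ∈ P i) :
    m * x * m⁻¹ ∈ P (bl e i) := by
  obtain ⟨he, v, hv, u, rfl⟩ := a
  obtain ⟨k, hk⟩ := h.nV _ (h.bN he) i
  obtain ⟨y, hy, y1⟩ := h.exists_ne i
  obtain rfl := (by decide +kernel : ∀ e, IsSg e → ∀ i k, (∀ v, ch i v = 0 → ch k (e * v) = 0) →
    k = bl e i) e he i k fun w hw => ((h.cP k _ _ (hk y hy)).1 (by
      rw [← h.bj e he, conj_mul, conj_mul, (h.cP i w y hy).2 (.inl hw)])).resolve_right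
        (mt conj_eq_one_iff.1 y1)
  have := h.nP _ u _ (hk x hx)
  rwa [show v * (j u * β e) * x * (v * (j u * β e))⁻¹ =
    v * (j u * (β e * x * (β e)⁻¹) * (j u)⁻¹) * v⁻¹ by group, h.comV hv (PV this),
    mul_inv_cancel_right]

theorem pm {m x : X} {e : V3} (a : Sg j P β m e) {i : Fin 4} (hx : x ∈ P i) (x1 : x ≠ 1)
    (hm : m * x * m⁻¹ ∈ P i) : e = 1 ∨ e = -1 :=
  bl_fix e i a.1 (by_contra fun c => x1 (conj_eq_one_iff.1 (h.disj c (h.blk a hx) hm)))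

theorem mem_N {a : V3} (ha : q3 a = 1) {g : X} (hg : g ∈ MM J P) (e : g * j a = j a * g) :
    g ∈ normalizer (J : Set X) := by
  obtain ⟨d, b⟩ := h.sgn hg
  have e1 := h.actJ b (w := a) (by rw [e, mul_inv_cancel_right]; exact h.jmem a)
  rw [e, mul_inv_cancel_right] at e1
  obtain ⟨hd, v, hv, u, rfl⟩ := b
  have e2 : j u * β d * j a = j a * (j u * β d) := by
    rw [mul_assoc, mul_inv_eq_iff_eq_mul.1 (h.bj d hd a), ← e1, ← mul_assoc, h.jcomm, mul_assoc]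
  rw [mul_assoc, e2, ← mul_assoc, ← mul_assoc (j a), mul_left_inj] at e
  rw [h.fpf ha hv e.symm, one_mul]
  exact mul_mem (h.jN u) (h.bN hd)

theorem cent_one {a : V3} (ha : q3 a = 1) {g : X} (hg : g * j a = j a * g) :
    g ∈ normalizer (J : Set X) := by
  have : Fact (Nat.Prime 3) := ⟨Nat.prime_three⟩
  set B := centralizer ({j a} : Set X)
  have hB : ∀ g, g ∈ B ↔ g * j a = j a * g := fun g => mem_centralizer_singleton_iff
  have h1 : J ≤ B := fun u hu => (hB u).2 (h.commJ hu (h.jmem a))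
  have h2 := h.syl.mono h1 le_top
  obtain ⟨K, k1, k2, k3, k4, k5⟩ := exists_focal (U := h.pl a) h2 fun x hx g hg hx' => by
    have e0 := mul_inv_eq_iff_eq_mul.2 ((hB g).1 hg)
    obtain ⟨n, hn, e⟩ := h.fus h.syl g {x, j a} (by
      rintro y (rfl | rfl)
      · exact ⟨hx, hx'⟩
      · rw [e0]; exact ⟨h.jmem _, h.jmem _⟩)
    obtain ⟨d, hd⟩ := h.sgn (mem_sup_right hn)
    obtain ⟨v, rfl⟩ := (h.mem x).1 hx
    have e1 := h.inj _ _ ((h.actJ hd (conj_mem_of_norm hn (h.jmem a))).symm.trans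
      ((e _ (Or.inr rfl)).trans e0))
    rw [← e _ (Or.inl rfl), h.actJ hd (conj_mem_of_norm hn hx), ← h.jneg, ← h.add, h.mem_pl]
    exact dot_fix d a e1 v
  obtain ⟨b, r, p, t, hp, ht, b0, r0, ab, ar, pa, ta, pb, pr, tb, tr, sp, fx, wt, sp'⟩ :=
    wt_one a ha
  have fx' : ∀ e v, IsSg e → e * v = v → β e * j v = j v * β e := fun e v he e1 => by
    rw [← mul_inv_eq_iff_eq_mul, h.bj e he, e1]
  have hK : ∀ e, IsSg e → e * a = a → β e ∈ K := fun e he e1 =>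
    k4 _ ((hB _).2 (fx' e a he e1)) (Nat.Coprime.coprime_dvd_left
      (orderOf_dvd_of_pow_eq_one (n := 2) (by rw [pow_two, h.b2 he])) (by norm_num))
  have hj : ∀ e v, IsSg e → e * a = a → e * v = -v → j v ∈ K := fun e v he e1 e2 => by
    have := k5 _ (k1 (hK e he e1)) _ (h1 (h.jmem v))
    rwa [h.bj e he, e2, ← h.jneg, ← h.add, neg_neg3] at this
  have h3 : J ⊓ K = h.pl a := le_antisymm (inf_comm K _ ▸ k3) (le_inf (h.pl_le _) (by
    rintro _ ⟨v, hv, rfl⟩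
    obtain ⟨k, l, rfl⟩ := sp v hv
    rw [h.add, hom_smul h.add, hom_smul h.add]
    exact mul_mem (K.pow_mem (hj p b hp pa pb) _) (K.pow_mem (hj t r ht ta tr) _)))
  have h4 : IsSylowIn 3 (h.pl a) K := h3 ▸ h2.inf_normal_of_le k2 k1
  have NT : ∀ y ∈ B, y ∈ normalizer (h.pl a : Set X) → y ∈ normalizer (J : Set X) := fun y hy hn =>
    mem_norm_of_conj fun u hu => by
      obtain ⟨v, rfl⟩ := (h.mem u).1 hu
      obtain ⟨w, k, hw, rfl⟩ := sp' v
      rw [h.add, hom_smul h.add, ← conj_mul, conj_p3, (hB y).1 hy, mul_inv_cancel_right]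
      exact mul_mem (h.pl_le _ (conj_mem_of_norm hn (h.mem_pl.2 hw))) (J.pow_mem (h.jmem a) _)
  have h5 : K ≤ normalizer (h.pl a : Set X) := hayden_rel h4 (h.card_pl (by rintro rfl; revert ha; decide))
    (mt h.jeq b0) (mt h.jeq r0) (h.j3 b) (h.j3 r) (h.jcomm _ _) (fun u => ⟨by
      rintro ⟨v, hv, rfl⟩
      obtain ⟨k, l, rfl⟩ := sp v hv
      exact ⟨k.val, l.val, by
        rw [h.add, hom_smul h.add, hom_smul h.add, zpow_natCast, zpow_natCast]; rfl⟩,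
      fun ⟨i, k, e⟩ => e ▸ mul_mem (zpow_mem (h.mem_pl.2 ab) i) (zpow_mem (h.mem_pl.2 ar) k)⟩)
    (hK p hp pa) (hK t ht ta) (h.b2 hp) (h.b2 ht) (h.bc hp ht) (by rw [h.bj p hp, pb, h.jneg])
    (fx' p r hp pr) (fx' t b ht tb) (by rw [h.bj t ht, tr, h.jneg]) (fun y hy hn => by
      obtain ⟨u, e, he, rfl⟩ := h.dec y (NT y (k1 hy) hn)
      have e1 : e * a = a := h.inj _ _ (by
        rw [← h.bj e he, mul_inv_eq_iff_eq_mul]
        exact (hB _).1 ((B.mul_mem_cancel_left (h1 (h.jmem u))).1 (k1 hy)))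
      refine ⟨_, h3.le ⟨h.jmem u, (K.mul_mem_cancel_right (hK e he e1)).1 hy⟩, ?_⟩
      rcases fx e he e1 with rfl | rfl | rfl | rfl
      exacts [.inl (by rw [h.b1, mul_one]), .inr (.inl rfl), .inr (.inr (.inl rfl)),
        .inr (.inr (.inr (by rw [h.bm p t hp ht])))]) (by
      rintro _ ⟨v, hv, rfl⟩ h0 y hy e
      obtain ⟨w1, w2⟩ := wt v hv fun e => h0 (e ▸ h.jz)
      have h6 := h.mem_N ha (h.cent _ w1 w2 y (by
        rw [h.add]; exact (show Commute y _ from e).mul_right ((hB y).1 (k1 hy)))) ((hB y).1 (k1 hy))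
      rw [← h3]
      exact mem_norm_of_conj fun u hu =>
        ⟨conj_mem_of_norm h6 hu.1, K.mul_mem (K.mul_mem hy hu.2) (K.inv_mem hy)⟩)
  obtain ⟨k, hk, n, hn, e⟩ := h4.frattini (k2 ((hB g).2 hg))
  exact NT g ((hB g).2 hg) (e ▸ mul_mem (h5 hk) hn)

theorem ti {y g : X} (hy : y ∈ MM J P) (y3 : y ^ 3 = 1) (y1 : y ≠ 1) (hg : g * y * g⁻¹ ∈ MM J P) :
    g ∈ MM J P := by
  have : Fact (Nat.Prime 3) := ⟨Nat.prime_three⟩
  have k : ∀ y ∈ MM J P, y ^ 3 = 1 → y ≠ 1 → ∃ c ∈ MM J P, c * y * c⁻¹ ∈ J := fun y hy y3 y1 => by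
    obtain ⟨c, hc, e⟩ := (h.syl.mono (le_normalizer.trans le_sup_right) le_top).exists_cj_le
      (Q := zpowers y) (IsPGroup.of_card (n := 1) (by
        rw [Nat.card_zpowers, orderOf_eq_prime y3 y1, pow_one])) (zpowers_le.2 hy)
    exact ⟨c, hc, cj_le_iff.1 e y (mem_zpowers y)⟩
  obtain ⟨c, hc, e⟩ := k y hy y3 y1
  obtain ⟨d, hd, e'⟩ := k _ hg (by rw [conj_pow, y3]; group) (mt conj_eq_one_iff.1 y1)
  obtain ⟨n, hn, e1⟩ := h.fus h.syl (d * g * c⁻¹) {c * y * c⁻¹} (by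
    rintro _ rfl; exact ⟨e, by convert e' using 1; group⟩)
  obtain ⟨v, hv⟩ := (h.mem _).1 e
  have e2 : n⁻¹ * (d * g * c⁻¹) * j v = j v * (n⁻¹ * (d * g * c⁻¹)) := by
    rw [hv, mul_assoc, mul_inv_eq_iff_eq_mul.1 (e1 _ rfl).symm]; group
  have : n⁻¹ * (d * g * c⁻¹) ∈ MM J P := by
    by_cases hq : q3 v = 1
    · exact mem_sup_right (h.cent_one hq e2)
    · exact h.cent v (by rintro rfl; exact y1 (conj_eq_one_iff.1 (hv.symm.trans h.jz))) hq _ e2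
  rwa [mul_mem_cancel_left (inv_mem (mem_sup_right hn)), mul_mem_cancel_right (inv_mem hc),
    mul_mem_cancel_left hd] at this

end TC

end Cfsg.Lib.O8
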