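import Cfsg.Agent.Recog.O8Tb

/-! Four four-groups normalized by a group of order `27`: weak closure. -/

set_option autoImplicit false

namespace Cfsg.Lib.O8

open Cfsg Subgroup _root_.Cfsg.Lib.Trans Cfsg.Lib.Recog.P43
open Cfsg.Lib.Odd3 (conj_mem_of_norm conj_mem_of_norm' mem_norm_of_conj)

theorem ch_dot : ∀ i, ∃ c : V3, c ≠ 0 ∧ (∀ v, ch i v = dot c v) ∧ ∃ v, v ≠ 0 ∧ dot c v = 0 := by
  decide +kernel

theorem bl_sur : ∀ i k, ∃ e, IsSg e ∧ bl e i = k := by decide +kernel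

theorem ch_ep : ∀ i, ∀ k : F3, ch i (k, 0, 0) = 0 → k = 0 := by decide

theorem sg_wt : ∀ e, IsSg e → e ≠ 1 → ∀ u, u + e * u = 0 → ∃ a, q3 (u + e * (a + -(e * a))) = 1 := by
  decide +kernel

theorem sg_inv1 : ∀ e, IsSg e → e ≠ 1 → ∃ c, q3 c = 1 ∧ q3 (c + c) = 1 ∧ e * c = -c := by
  decide +kernel

theorem card_units3 : Nat.card V3ˣ = 8 := by
  rw [Nat.card_congr MulEquiv.prodUnits.toEquiv, Nat.card_prod,
    Nat.card_congr MulEquiv.prodUnits.toEquiv, Nat.card_prod, Nat.card_eq_fintype_card,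
    ZMod.card_units_eq_totient]
  decide

namespace TC

variable {X : Type*} [Group X] [Finite X] {J : Subgroup X} {j : V3 → X} {P : Fin 4 → Subgroup X}
  {β : V3 → X} (h : TC J j P β)
include h

theorem tij {v : V3} (hv : v ≠ 0) {g : X} (hg : g * j v * g⁻¹ ∈ MM J P) : g ∈ MM J P :=
  h.ti (h.jM v) (h.j3 v) (mt h.jeq hv) hg

theorem cent_s {i : Fin 4} {s : X} (hs : s ∈ P i) (s1 : s ≠ 1) {g : X} (hg : g * s = s * g) :
    g ∈ MM J P := by
  have : Fact (Nat.Prime 3) := ⟨Nat.prime_three⟩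
  obtain ⟨c, c0, hc, v, v0, hv⟩ := ch_dot i
  have : IsMulCommutative (h.pl c) :=
    ⟨⟨fun x y => Subtype.ext (h.commJ (h.pl_le c x.2) (h.pl_le c y.2))⟩⟩
  have hC : ∀ g, g ∈ centralizer {s} ↔ g * s = s * g := fun g => mem_centralizer_singleton_iff
  have h1 : ∀ n ∈ centralizer {s}, n ∈ normalizer (h.pl c : Set X) → ∃ e, Sg j P β n e ∧
      (e = 1 ∨ e = -1) ∧ ∀ w, dot c w = 0 → n * j w * n⁻¹ = j (e * w) := fun n hn hn' => by
    obtain ⟨e, he⟩ := h.sgn (h.tij v0 (mem_sup_right (le_normalizer (h.pl_le c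
      (conj_mem_of_norm hn' (h.mem_pl.2 hv))))))
    exact ⟨e, he, h.pm he hs s1 (by rwa [(hC n).1 hn, mul_inv_cancel_right]), fun w hw =>
      h.actJ he (h.pl_le c (conj_mem_of_norm hn' (h.mem_pl.2 hw)))⟩
  refine st_le (H := h.pl c) (isSylowIn_of_norm ?_ (h.syl.isPGroup.to_le (h.pl_le c))
    fun y hy hn ⟨k, hk⟩ => ?_) (fun e => ?_) (fun n hn hn' => ?_) ?_ ((hC g).2 hg)
  · rintro _ ⟨w, hw, rfl⟩
    exact (hC _).2 ((h.cP i w s hs).2 (.inl (hc w ▸ hw)))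
  · obtain ⟨e, he, -, a⟩ := h1 y hy hn
    obtain rfl := h.sg_three he hk
    obtain ⟨-, x, hx, u, rfl⟩ := he
    rw [h.b1, mul_one] at *
    have hu := ((h.cP i u s hs).1 (by
      have := (hC _).1 hy
      rwa [mul_assoc, ← mul_assoc s, ← h.comV hx (PV hs), mul_assoc, mul_right_inj] at this)).resolve_right s1
    have e1 := mul_inv_eq_iff_eq_mul.1 (a u (hc u ▸ hu))
    rw [one_mul, ← mul_assoc, mul_left_inj] at e1
    have e2 : (x * j u) ^ 3 = x := by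
      rw [(show Commute x (j u) from e1).mul_pow, h.j3, mul_one, pow_three', h.sqV hx, one_mul]
    rw [eq_one_odd (h.sqV hx) (k := k) (by rw [← e2, pow_right_comm, hk, one_pow]), one_mul]
    exact h.mem_pl.2 (hc u ▸ hu)
  · have := e.exponent_eq_card ▸ Monoid.exponent_dvd_of_forall_pow_eq_one (G := h.pl c) (n := 3)
      (by rintro ⟨_, w, hw, rfl⟩; exact Subtype.ext (h.j3 w))
    rw [h.card_pl c0] at this
    omega
  · obtain ⟨e, he, a, b⟩ := h1 n hn hn'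
    refine ⟨h.sgM he, a.imp ?_ ?_⟩ <;> rintro rfl _ ⟨w, hw, rfl⟩ <;> rw [b w hw]
    exacts [by rw [one_mul], by rw [neg_one_mul, h.jneg]]
  · rintro _ ⟨w, -, rfl⟩ w1 g hg
    exact h.ti (h.jM w) (h.j3 w) w1 (by
      rw [mem_centralizer_singleton_iff.1 hg, mul_inv_cancel_right]; exact h.jM w)

theorem nV_le {g : X} (hg : g ∈ normalizer ((⨆ i, P i : Subgroup X) : Set X)) : g ∈ MM J P := by
  by_contra hM
  obtain ⟨s, hs, s1⟩ := h.exists_ne 0
  choose e he he' using bl_sur 0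
  let m : Fin 4 × F3 → X := fun p => j (p.2, 0, 0) * β (e p.1)
  have hm : ∀ p, m p ∈ MM J P := fun p => mul_mem (h.jM _) (h.sgM (h.sgB (he _)))
  have hb : ∀ i, β (e i) * s * (β (e i))⁻¹ ∈ P i := fun i => by
    have := h.blk (h.sgB (he i)) hs
    rwa [he' i] at this
  have hp : ∀ p, m p * s * (m p)⁻¹ ∈ P p.1 := fun p => by
    convert h.nP _ (p.2, 0, 0) _ (hb p.1) using 1; simp only [m]; group
  have := Nat.card_le_card_of_injective (fun q : V3 × Fin 4 × F3 => (⟨_, h.cV (h.jM q.1)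
    (conj_mem_of_norm hg (PV (hp q.2)))⟩ : ↥(⨆ i, P i))) fun ⟨v, p⟩ ⟨w, q⟩ a => by
      replace a : j v * (g * (m p * s * (m p)⁻¹) * g⁻¹) * (j v)⁻¹ =
        j w * (g * (m q * s * (m q)⁻¹) * g⁻¹) * (j w)⁻¹ := congrArg Subtype.val a
      have b := h.cent_s hs s1 (g := (m q)⁻¹ * (g⁻¹ * j (-w + v) * g⁻¹⁻¹) * m p) (by
        rw [← mul_inv_eq_iff_eq_mul, h.add, h.jneg]
        calc _ = (m q)⁻¹ * g⁻¹ * (j w)⁻¹ * (j v * (g * (m p * s * (m p)⁻¹) * g⁻¹) * (j v)⁻¹) *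
              j w * g * m q := by group
          _ = _ := by rw [a]; group)
      rw [mul_mem_cancel_right (hm p), mul_mem_cancel_left (inv_mem (hm q))] at b
      obtain rfl : w = v := neg_add_eq_zero.1 (by_contra fun c => hM (inv_mem_iff.1 (h.tij c b)))
      simp only [mul_left_inj, mul_right_inj] at a
      obtain ⟨i, k⟩ := p
      obtain ⟨i', l⟩ := q
      obtain rfl : i = i' := by_contra fun c =>
        s1 (conj_eq_one_iff.1 (h.disj c (hp (i, k)) (a ▸ hp (i', l))))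
      have := ((h.cP i (-l + k, 0, 0) _ (hb i)).1 (by
        rw [← mul_inv_eq_iff_eq_mul, show ((-l + k, 0, 0) : V3) = -(l, 0, 0) + (k, 0, 0) by simp,
          h.add, h.jneg]
        calc _ = (j (l, 0, 0))⁻¹ * (m (i, k) * s * (m (i, k))⁻¹) * j (l, 0, 0) := by
              simp only [m]; group
          _ = _ := by rw [a]; simp only [m]; group)).resolve_right (mt conj_eq_one_iff.1 s1)
      rw [neg_add_eq_zero.1 (ch_ep _ _ this)]
  rw [h.cardV] at this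
  simp at this

theorem wc {g : X} (hg : cj g (⨆ i, P i) ≤ MM J P) : g ∈ MM J P := by
  by_contra hM
  set A := cj g (⨆ i, P i)
  have hA : ∀ x ∈ A, ∀ y ∈ A, x * y = y * x := by
    rintro _ ⟨x, hx, rfl⟩ _ ⟨y, hy, rfl⟩
    rw [← map_mul, ← map_mul, h.comV hx hy]
  have h4 : ∀ x ∈ A, Sg j P β x 1 → x ∈ ⨆ i, P i := by
    rintro _ ⟨x, hx, rfl⟩ a
    exact h.two a (by rw [← map_pow, pow_succ, pow_three', h.sqV hx, one_mul, h.sqV hx, map_one])
  obtain ⟨a, ha, ha'⟩ := SetLike.not_le_iff_exists.1 fun c : A ≤ ⨆ i, P i =>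
    hM (h.nV_le (mem_norm_of_conj (cj_le_iff.1 c)))
  obtain ⟨e, he⟩ := h.sgn (hg ha)
  obtain ⟨c, c1, c2, c3⟩ := sg_inv1 e he.1 (by rintro rfl; exact ha' (h4 a ha he))
  obtain ⟨v, hv, e1⟩ := h.act he c
  have h1 : cj (j c) (A ⊓ ⨆ i, P i) ≤ ⨆ i, P i := cj_le_iff.2 fun x hx => h.cV (h.jM c) hx.2
  have h2 := Subgroup.card_le_of_le (sup_le (inf_le_right (a := A)) h1)
  rw [Solv.card_sup_of_disjoint_of_le_normalizer (N := A ⊓ ⨆ i, P i)
    (H := cj (j c) (A ⊓ ⨆ i, P i)) (fun x hx => mem_norm_of_conj fun y hy => by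
    rwa [h.comV (h1 hx) hy.2, mul_inv_cancel_right]) (eq_bot_iff.2 fun x hx => h.fpf c2 hx.1.2 (by
      have a1 : Commute x a := hA x hx.1.1 a ha
      have a2 : Commute x (j c * a * (j c)⁻¹) := by
        have := hA _ (mem_cj.1 hx.2).1 a ha
        calc x * (j c * a * (j c)⁻¹) = j c * ((j c)⁻¹ * x * j c * a) * (j c)⁻¹ := by group
          _ = _ := by rw [this]; group
      have a3 := ((a2.mul_right a1.inv_right).mul_right (h.comV hx.1.2 hv)).symm
      rwa [show j c * a * (j c)⁻¹ * a⁻¹ * v = j c * (a * j c * a⁻¹)⁻¹ * v by group, e1, c3, h.jneg,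
        show j c * (v * (j c)⁻¹)⁻¹ * v = j c * j c by group, ← h.add] at a3)), card_cj, h.cardV] at h2
  choose f hf using fun x : A => h.sgn (hg x.2)
  let φ : A →* V3 := ⟨⟨f, h.uniq (hf 1) (h.sgV (one_mem _))⟩, fun x y =>
    h.uniq (hf (x * y)) (h.sg_mul (hf x) (hf y))⟩
  have h3 := φ.toHomUnits.ker.card_mul_index
  have h5 : Nat.card φ.toHomUnits.ker ≤ Nat.card ↥(A ⊓ ⨆ i, P i) :=
    Nat.card_le_card_of_injective (fun x => ⟨x.1.1, x.1.2, h4 _ x.1.2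
      ((show f x.1 = 1 from congrArg Units.val x.2) ▸ hf x.1)⟩) fun x y e =>
        Subtype.ext (Subtype.ext (congrArg Subtype.val e :))
  have h6 := card_units3 ▸ φ.toHomUnits.range.card_le_card_group
  rw [index_ker, card_cj, h.cardV] at h3
  have h7 : Nat.card ↥(A ⊓ ⨆ i, P i) ≤ 16 := by nlinarith
  have := Nat.mul_le_mul (h5.trans h7) h6
  omega

theorem invol {p : X} {e : V3} (a : Sg j P β p e) (he : e ≠ 1) (p2 : p * p = 1) :
    ∃ m ∈ MM J P, p = m * β e * m⁻¹ := by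
  have hM := h.sgM a
  obtain ⟨hs, v, hv, u, e1⟩ := a
  obtain ⟨w, hw, e2⟩ := h.dmul (u := u) (u' := u) hs hs hv hv
  rw [← e1, p2, hs.sq, h.b1, mul_one, eq_comm, mul_eq_one_iff_inv_eq] at e2
  obtain ⟨c, hc⟩ := sg_wt e hs he u (h.jeq (h.VJ (e2 ▸ inv_mem hw) (h.jmem _)))
  set q := j c * β e * (j c)⁻¹ with hq
  have q2 : q * q = 1 := by rw [hq, conj_mul, h.b2 hs]; group
  obtain ⟨x, hx, e3⟩ := h.dmul (u := u) (u' := c + -(e * c)) hs hs hv (one_mem _)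
  rw [← e1, show 1 * (j (c + -(e * c)) * β e) = q by rw [h.add, h.jneg, ← h.bj e hs, hq]; group,
    hs.sq] at e3
  have e4 := h.cube ⟨by decide, x, hx, _, e3⟩
  have e5 : (p * q) ^ 3 = 1 := h.fpf hc e4 (by
    rw [h.b1, mul_one] at e3
    rw [show j (u + e * (c + -(e * c))) = x⁻¹ * (p * q) by rw [e3]; group]
    exact ((show Commute x _ from h.comV hx e4).inv_left.mul_left (Commute.self_pow _ 3)).eq)
  refine ⟨q * p * j c, mul_mem (mul_mem (mul_mem (mul_mem (h.jM c) (h.sgM (h.sgB hs)))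
    (inv_mem (h.jM c))) hM) (h.jM c), ?_⟩
  rw [show q * p * j c * β e * (q * p * j c)⁻¹ = q * p * q * p⁻¹ * q⁻¹ by rw [hq]; group,
    inv_eq_of_mul_eq_one_right p2, inv_eq_of_mul_eq_one_right q2, ← mul_right_inj p, p2, ← e5,
    pow_three']
  group

end TC

end Cfsg.Lib.O8
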