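import Cfsg.Agent.Recog.DegL2
import Cfsg.Agent.Len.Ch
import Cfsg.Agent.Perm.Socle
import Cfsg.Agent.Solv.CoprimeSylow
import Cfsg.Agent.Solv.CardModEq
import Cfsg.Agent.Solv.Cores
import Cfsg.Agent.S0999

/-!
# Groups of order dividing `p²(p⁴-1)/2`: self-centralising elements of order `p`
-/

set_option autoImplicit false

namespace Cfsg.Lib.Recog.PSq

open Subgroup Cfsg.Lib.Solv Cfsg.Lib.Perm.Socle

/-- Twice `n` divides `p²(p-1)(p+1)(p²+1)`. -/
def Dv (p n : ℕ) : Prop := 2 * n ∣ p ^ 2 * ((p - 1) * (p + 1) * (p ^ 2 + 1))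

theorem Dv.of_dvd {p m n : ℕ} (h : Dv p n) (hm : m ∣ n) : Dv p m :=
  (Nat.mul_dvd_mul_left 2 hm).trans h

section Arith

variable {p : ℕ}

theorem odd_p (hp : p.Prime) (h5 : 5 < p) : p % 2 = 1 := hp.eq_two_or_odd.resolve_left (by omega)

theorem not_dvd_fac (hp : p.Prime) : ¬ p ∣ (p - 1) * (p + 1) * (p ^ 2 + 1) := by
  have h1 := hp.one_lt
  rw [hp.dvd_mul, hp.dvd_mul]
  rintro ((h | h) | h)
  · exact absurd (Nat.le_of_dvd (by omega) h) (by omega)
  · exact h1.ne' (Nat.dvd_one.1 ((Nat.dvd_add_right dvd_rfl).1 h))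
  · exact h1.ne' (Nat.dvd_one.1 ((Nat.dvd_add_right (dvd_pow_self p two_ne_zero)).1 h))

theorem Dv.not_cube (hp : p.Prime) {n : ℕ} (h : Dv p n) : ¬ p ^ 3 ∣ n := fun h3 => by
  have h1 : p ^ 2 * p ∣ p ^ 2 * ((p - 1) * (p + 1) * (p ^ 2 + 1)) :=
    (show p ^ 2 * p ∣ 2 * n from (pow_succ p 2 ▸ h3).mul_left 2).trans h
  exact not_dvd_fac hp (Nat.dvd_of_mul_dvd_mul_left (pow_pos hp.pos 2) h1)

theorem Dv.cop (hp : p.Prime) {n : ℕ} (h5 : 5 < p) (h : Dv p n) (hn : ¬ p ∣ n) :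
    2 * n ∣ (p - 1) * (p + 1) * (p ^ 2 + 1) := by
  refine Nat.Coprime.dvd_of_dvd_mul_left (Nat.Coprime.pow_right 2 ?_) h
  rw [Nat.coprime_comm, hp.coprime_iff_not_dvd, hp.dvd_mul]
  rintro (h | h)
  · exact absurd (Nat.le_of_dvd (by omega) h) (by omega)
  · exact hn h

theorem sq_odd (hp : p.Prime) (h5 : 5 < p) : ∃ v, p ^ 2 + 1 = 2 * v ∧ v % 2 = 1 := by
  have h := odd_p hp h5
  obtain ⟨a, rfl⟩ : ∃ a, p = 2 * a + 1 := ⟨p / 2, by omega⟩
  exact ⟨2 * (a * a + a) + 1, by ring, by omega⟩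

theorem star_arith (hp : p.Prime) (h5 : 5 < p) {r b : ℕ} (hr : r.Prime) (hb : r ^ b ≠ 1)
    (h1 : r ^ b ≡ 1 [MOD p]) (h : 2 * r ^ b ∣ (p - 1) * (p + 1) * (p ^ 2 + 1)) :
    r = 2 ∧ r ^ b = p + 1 := by
  have ho := odd_p hp h5
  obtain ⟨v, hv, hv1⟩ := sq_odd hp h5
  have hb0 : b ≠ 0 := by rintro rfl; simp at hb
  have key : r ^ b ∣ (p - 1) * (p + 1) → r = 2 ∧ r ^ b = p + 1 := by
    rintro ⟨m, hm⟩
    have e := DegL2.arith (q := p) (by omega) h1 hb hm.symm
    refine ⟨?_, e⟩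
    have : 2 ∣ r ^ b := by omega
    exact ((Nat.prime_dvd_prime_iff_eq Nat.prime_two hr).1 (Nat.prime_two.dvd_of_dvd_pow this)).symm
  rw [hv, mul_left_comm] at h
  have h' := Nat.dvd_of_mul_dvd_mul_left two_pos h
  by_cases hrv : r ∣ v
  · have hc : Nat.Coprime (r ^ b) ((p - 1) * (p + 1)) := by
      refine Nat.Coprime.pow_left _ (hr.coprime_iff_not_dvd.2 fun hd => ?_)
      have e : 2 * v = (p - 1) * (p + 1) + 2 := by
        rw [← hv]
        obtain ⟨q, rfl⟩ : ∃ q, p = q + 1 := ⟨p - 1, by omega⟩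
        simp only [Nat.add_sub_cancel]; ring
      have h2 : r ∣ 2 := (Nat.dvd_add_right hd).1 (e ▸ hrv.mul_left 2)
      have := (Nat.prime_dvd_prime_iff_eq hr Nat.prime_two).1 h2
      subst this
      omega
    obtain ⟨c, hc'⟩ := hc.dvd_of_dvd_mul_left h'
    exfalso
    have hn0 : 0 < r ^ b := pow_pos hr.pos b
    obtain ⟨a, ha⟩ := (Nat.modEq_iff_dvd' hn0).1 h1.symm
    have hn : r ^ b = p * a + 1 := by omega
    have ha0 : a ≠ 0 := by rintro rfl; omega
    rw [hn] at hc'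
    have h3 : p ∣ 2 * c + (p - 1) := by
      have e : p * (p + 1) = p * (2 * a * c) + (2 * c + (p - 1)) := by
        have : p - 1 + 1 = p := by omega
        nlinarith
      exact (Nat.dvd_add_right (Dvd.intro _ rfl)).1 (e ▸ Dvd.intro _ rfl)
    obtain ⟨s, hs⟩ := h3
    have h4 : p ≤ p * a := Nat.le_mul_of_pos_right _ (Nat.pos_of_ne_zero ha0)
    have h6 : 2 * c < p := by nlinarith
    have h7 : s < 2 := by
      by_contra h8
      have : p * 2 ≤ p * s := Nat.mul_le_mul_left _ (by omega)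
      omega
    interval_cases s <;> omega
  · exact key ((Nat.Coprime.pow_left _ (hr.coprime_iff_not_dvd.2 hrv)).dvd_of_dvd_mul_right h')

theorem not8_psl (hp : p.Prime) (h5 : 5 < p) {n : ℕ} (hn : 2 * n = p * (p - 1) * (p + 1)) :
    ¬ Dv p (4 * n) := fun h => by
  have ho := odd_p hp h5
  obtain ⟨v, hv, hv1⟩ := sq_odd hp h5
  have h1 : (p * (p - 1) * (p + 1)) * 4 ∣ (p * (p - 1) * (p + 1)) * (p * (2 * v)) := by
    have h2 : 2 * (4 * n) = (p * (p - 1) * (p + 1)) * 4 := by rw [← hn]; ring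
    rw [← h2, ← hv]
    have h3 := h
    rw [Dv] at h3
    convert h3 using 1
    ring
  have h3 := Nat.dvd_of_mul_dvd_mul_left
    (Nat.mul_pos (Nat.mul_pos hp.pos (by omega)) (by omega)) h1
  have h4 : (p * v) % 2 = 1 := by rw [Nat.mul_mod, ho, hv1]
  rw [mul_left_comm] at h3
  omega

theorem not8_minus (hp : p.Prime) (h5 : 5 < p) (h4 : p % 4 = 1) : ¬ Dv p (4 * (p - 1)) := fun h => by
  obtain ⟨v, hv, hv1⟩ := sq_odd hp h5
  obtain ⟨w, hw⟩ : ∃ w, p + 1 = 2 * w := ⟨(p + 1) / 2, by omega⟩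
  have h1 : ((p - 1) * 4) * 2 ∣ ((p - 1) * 4) * (p * p * w * v) := by
    have h2 := h
    rw [Dv, hv, hw] at h2
    convert h2 using 1 <;> ring
  have h3 := Nat.dvd_of_mul_dvd_mul_left (Nat.mul_pos (by omega) (by omega)) h1
  simp only [Nat.prime_two.dvd_mul] at h3
  omega

theorem not8_plus (hp : p.Prime) (h5 : 5 < p) (h4 : p % 4 = 3) : ¬ Dv p (4 * (p + 1)) := fun h => by
  obtain ⟨v, hv, hv1⟩ := sq_odd hp h5
  obtain ⟨w, hw⟩ : ∃ w, p - 1 = 2 * w := ⟨(p - 1) / 2, by omega⟩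
  have h1 : ((p + 1) * 4) * 2 ∣ ((p + 1) * 4) * (p * p * w * v) := by
    have h2 := h
    rw [Dv, hv, hw] at h2
    convert h2 using 1 <;> ring
  have h3 := Nat.dvd_of_mul_dvd_mul_left (Nat.mul_pos (by omega) (by omega)) h1
  simp only [Nat.prime_two.dvd_mul] at h3
  omega

theorem eight_dvd_of_pow {a n : ℕ} (h : n = 2 ^ a) (h5 : 4 < n) : 8 ∣ n := by
  subst h
  have : 3 ≤ a := by
    by_contra h3
    have : a ≤ 2 := by omega
    interval_cases a <;> omega
  exact pow_dvd_pow 2 this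

theorem Dv.lt (hp : p.Prime) {n : ℕ} (h : Dv p n) : n < p ^ 3 * p ^ 3 := by
  have h1 := hp.one_lt
  have := Nat.le_of_dvd (Nat.mul_pos (pow_pos hp.pos 2) (Nat.mul_pos (Nat.mul_pos (by omega)
    (by omega)) (by omega))) h
  obtain ⟨q, rfl⟩ : ∃ q, p = q + 1 := ⟨p - 1, by omega⟩
  simp only [Nat.add_sub_cancel] at this
  have e : (q + 1) ^ 3 * (q + 1) ^ 3 =
      (q + 1) ^ 2 * (q * (q + 1 + 1) * ((q + 1) ^ 2 + 1)) + (q + 1) ^ 2 := by ring
  have : 0 < (q + 1) ^ 2 := by positivity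
  omega

end Arith

variable {G : Type*} [Group G] [Finite G] {p : ℕ} [hp : Fact p.Prime]

/-- A `p'`-group with a fixed-point-free `p`-group of operators has order `p + 1`. -/
theorem star (h5 : 5 < p) {A Y : Subgroup G} (hA : IsPGroup p A)
    (hAY : A ≤ normalizer (Y : Set G)) (h0 : Y ≠ ⊥) (hc : Y ⊓ centralizer (A : Set G) = ⊥)
    (hD : Dv p (Nat.card Y)) : IsPGroup 2 Y ∧ Nat.card Y = p + 1 := by
  have hpY : ¬ p ∣ Nat.card Y := fun h => inf_centralizer_ne_bot_of_dvd_card hA hAY h hc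
  have hcop : (Nat.card A).Coprime (Nat.card Y) :=
    coprime_card_of_isPGroup hA (hp.out.coprime_iff_not_dvd.2 hpY).symm
  have hs : Group.IsSolvable A := by
    have := hA.isNilpotent
    infer_instance
  have key : ∀ r : ℕ, r.Prime → r ∣ Nat.card Y →
      r = 2 ∧ ∃ R ≤ Y, Nat.card R = p + 1 ∧ ¬ r ∣ R.relIndex Y := by
    intro r hr hd
    have : Fact r.Prime := ⟨hr⟩
    obtain ⟨R, hRY, hR, hi, hAR⟩ := Coprime.exists_invariant_sylow' hAY hcop (.inl hs) r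
    obtain ⟨b, hb⟩ := hR.exists_card_eq
    have e := card_mul_relIndex_of_le hRY
    have h1 := card_modEq_one_of_inf_centralizer_eq_bot hA hAR
      (eq_bot_iff.2 (hc ▸ inf_le_inf_right _ hRY))
    rw [hb] at h1
    have := star_arith hp.out h5 hr (fun h => hi (by rw [hb, h, one_mul] at e; rwa [e])) h1
      ((Nat.mul_dvd_mul_left 2 (hb ▸ card_dvd_of_le hRY)).trans (hD.cop hp.out h5 hpY))
    exact ⟨this.1, R, hRY, hb.trans this.2, hi⟩
  have h2 : IsPGroup 2 Y := IsPGroup.of_card (n := _)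
    (Nat.eq_prime_pow_of_unique_prime_dvd Nat.card_pos.ne' fun hr hd => (key _ hr hd).1)
  refine ⟨h2, ?_⟩
  obtain ⟨r, hr, hd⟩ := Nat.exists_prime_and_dvd (fun h => h0 (card_eq_one.1 h))
  obtain ⟨rfl, R, hRY, hR, hi⟩ := key r hr hd
  rw [← hR, Coprime.eq_of_sylow_le (h2.to_le hRY) hi hRY le_rfl h2]

/-- A factor of a minimal normal subgroup of order divisible by `p`. -/
theorem dvd_factor {N T : Subgroup G} (hN : MinN N) (hT : Factor N T) (h : p ∣ Nat.card N) :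
    p ∣ Nat.card T := by
  by_contra hn
  have := hN.normal
  have h1 : T ≤ (pPrimeCore p N).map N.subtype := le_map_pPrimeCore hT.le
    (fun n hn => mem_normalizer_fintype fun t ht => hT.conj n hn t ht)
    (hp.out.coprime_iff_not_dvd.2 hn).symm
  rcases hN.min _ (ConjAct.normal_of_characteristic_of_normal (H := N) (K := pPrimeCore p N))
    (map_subtype_le _) with e | e
  · exact hT.ne (eq_bot_iff.2 (e ▸ h1))
  · have := coprime_card_map_pPrimeCore p N
    rw [e] at this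
    exact hp.out.coprime_iff_not_dvd.1 this.symm h

omit [Finite G] in
theorem mem_zpowers_of_ne {x y : G} (hx : orderOf x = p) (hy : y ∈ zpowers x) (h1 : y ≠ 1) :
    x ∈ zpowers y := by
  have : Fact (Nat.card (zpowers x)).Prime := ⟨by rw [Nat.card_zpowers, hx]; exact hp.out⟩
  have h2 : zpowers y ≤ zpowers x := zpowers_le.2 hy
  rcases ((zpowers y).subgroupOf (zpowers x)).eq_bot_or_eq_top_of_prime_card with e | e
  · exact absurd (zpowers_eq_bot.1 (by rwa [subgroupOf_eq_bot, disjoint_iff, inf_eq_left.2 h2] at e))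
      h1
  · exact subgroupOf_eq_top.1 e (mem_zpowers x)

omit [Finite G] hp in
theorem isPGroup_zpowers {x : G} (hx : orderOf x = p) : IsPGroup p (zpowers x) :=
  IsPGroup.of_card (n := 1) (by rw [Nat.card_zpowers, hx, pow_one])

/-- A self-centralising element of order `p` generating a non-normal subgroup. -/
def SC (p : ℕ) (X : Type*) [Group X] : Prop :=
  ∃ x : X, orderOf x = p ∧ (∀ y, y * x = x * y → y ∈ zpowers x) ∧ ¬ (zpowers x).Normal

omit [Finite G] hp in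
theorem SC.of_mem {A : Subgroup G} {x a : G} (hx : x ∈ A) (ho : orderOf x = p)
    (hc : ∀ y ∈ A, y * x = x * y → y ∈ zpowers x) (ha : a ∈ A) (hn : a * x * a⁻¹ ∉ zpowers x) :
    SC p A := by
  refine ⟨⟨x, hx⟩, by rw [← orderOf_coe, ho], fun y hy => ?_, fun h => hn ?_⟩
  · obtain ⟨n, hn⟩ := hc y y.2 (congrArg Subtype.val hy)
    exact ⟨n, Subtype.ext (by simpa using hn)⟩
  · obtain ⟨n, hn⟩ := h.conj_mem _ (mem_zpowers _) ⟨a, ha⟩
    exact ⟨n, by simpa using congrArg Subtype.val hn⟩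

omit [Finite G] in
theorem mem_of_sc {x : G} (ho : orderOf x = p) (hc : ∀ y, y * x = x * y → y ∈ zpowers x)
    {N : Subgroup G} (hN : x ∈ normalizer (N : Set G)) :
    x ∈ N ∨ N ⊓ centralizer (zpowers x : Set G) = ⊥ := by
  refine (em _).imp_right fun hx => eq_bot_iff.2 fun y hy => ?_
  by_contra h1
  exact hx (zpowers_le.2 hy.1 (mem_zpowers_of_ne ho (hc y (hy.2 x (mem_zpowers x)).symm) h1))

theorem SC.dich (h5 : 5 < p) (h : SC p G) (hD : Dv p (Nat.card G)) :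
    (∃ T : Subgroup G, IsSimpleGroup T ∧ ¬ Group.IsSolvable T ∧ p ∣ Nat.card T) ∨
      ∃ Y : Subgroup G, Y.Normal ∧ IsPGroup 2 Y ∧ Nat.card Y = p + 1 := by
  obtain ⟨x, ho, hc, hn⟩ := h
  obtain ⟨N, hN, -⟩ := exists_minN (⊤ : Subgroup G) fun e => hn (by
    rw [eq_bot_iff.2 (e ▸ le_top : zpowers x ≤ ⊥)]; infer_instance)
  have := hN.normal
  rcases mem_of_sc ho hc (N := N) (by rw [normalizer_eq_top]; trivial) with hx | hx
  · have hna : ¬ IsMulCommutative N := fun hab => hn (by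
      rwa [le_antisymm (zpowers_le.2 hx) fun y hy => hc y
        (congrArg Subtype.val (hab.is_comm.comm (⟨y, hy⟩ : N) ⟨x, hx⟩))])
    obtain ⟨T, hT⟩ := exists_factor hN.ne
    exact .inl ⟨T, hT.isSimpleGroup hN, hT.not_isSolvable hN hna,
      dvd_factor hN hT (ho ▸ Subgroup.orderOf_dvd_natCard N hx)⟩
  · exact .inr ⟨N, this, star h5 (isPGroup_zpowers ho) (by rw [normalizer_eq_top]; exact le_top)
      hN.ne hx (hD.of_dvd (card_subgroup_dvd_card N))⟩

omit hp in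
theorem eight_dvd {Y : Subgroup G} (h5 : 5 < p) (h2 : IsPGroup 2 Y) (hY : Nat.card Y = p + 1) :
    8 ∣ p + 1 := by
  obtain ⟨a, ha⟩ := h2.exists_card_eq
  exact eight_dvd_of_pow (hY ▸ ha) (by omega)

theorem SC.four (h5 : 5 < p) (h : SC p G) (hD : Dv p (Nat.card G)) : 4 ∣ Nat.card G := by
  rcases h.dich h5 hD with ⟨T, -, hT, -⟩ | ⟨Y, -, h2, hY⟩
  · exact (Len.four_dvd_card hT).trans (card_subgroup_dvd_card T)
  · exact ((show 4 ∣ 8 by norm_num).trans (hY ▸ eight_dvd h5 h2 hY)).trans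
      (card_subgroup_dvd_card Y)

theorem ord_small [IsSimpleGroup G] (h5 : 5 < p) (hs : ¬ Group.IsSolvable G) (hd : p ∣ Nat.card G)
    (hlt : Nat.card G < p ^ 3) : 2 * Nat.card G = p * (p - 1) * (p + 1) ∨
      (p % 4 = 1 ∧ Nat.card G = (p - 1) * (p - 2) * p) := by
  have ho := odd_p hp.out h5
  rcases Cfsg.Agent.S0999.result (fun hc => hs (by
      have := hc.isMulCommutative
      exact Group.isSolvable_of_comm fun a b => this.is_comm.comm a b)) p hp.out hd hlt with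
    ⟨F, _, _, hF, -, ⟨e⟩⟩ | ⟨m, F, _, _, hF, hm, -, ⟨e⟩⟩
  · have h := Class.gcd_mul_card_PSL2 (F := F)
    rw [Nat.card_eq_fintype_card (α := F), hF, Nat.gcd_eq_left (by omega),
      ← Nat.card_congr e.toEquiv] at h
    exact .inl h
  · have h := Class.gcd_mul_card_PSL2 (F := F)
    have h8 := eight_dvd_of_pow (rfl : 2 ^ m = 2 ^ m) (by omega)
    rw [Nat.card_eq_fintype_card (α := F), hF, ← Nat.card_congr e.toEquiv,
      Nat.Coprime.gcd_eq_one (Nat.coprime_two_left.2 (Nat.odd_iff.2 (by omega))), one_mul] at h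
    refine .inr ⟨by omega, ?_⟩
    rw [h, hm]
    rfl

theorem SC.eight (h5 : 5 < p) (h : SC p G) (hlt : Nat.card G < p ^ 3) :
    ¬ Dv p (4 * Nat.card G) := fun hD => by
  rcases h.dich h5 (hD.of_dvd (Dvd.intro_left _ rfl)) with ⟨T, _, hT, hd⟩ | ⟨Y, -, h2, hY⟩
  · have h1 := hD.of_dvd (Nat.mul_dvd_mul_left 4 (card_subgroup_dvd_card T))
    rcases ord_small h5 hT hd ((card_le_card_group T).trans_lt hlt) with e | ⟨e1, e⟩
    · exact not8_psl hp.out h5 e h1
    · exact not8_minus hp.out h5 e1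
        (h1.of_dvd (Nat.mul_dvd_mul_left 4 (by rw [e, mul_assoc]; exact Dvd.intro _ rfl)))
  · have h8 := eight_dvd h5 h2 hY
    exact not8_plus hp.out h5 (by omega)
      (hD.of_dvd (Nat.mul_dvd_mul_left 4 (hY ▸ card_subgroup_dvd_card Y)))

omit hp in
theorem card_mul_dvd {A B : Subgroup G} (hc : ∀ a ∈ A, ∀ b ∈ B, a * b = b * a) (hd : A ⊓ B = ⊥) :
    Nat.card A * Nat.card B ∣ Nat.card G := by
  rw [← Coprime.card_sup (fun b hb => mem_normalizer_fintype fun a ha => by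
    rw [← hc a ha b hb, mul_inv_cancel_right]; exact ha) (disjoint_iff.2 hd)]
  exact card_subgroup_dvd_card _

/-- Two commuting subgroups cannot both have such an element. -/
theorem two_comm (h5 : 5 < p) (hD : Dv p (Nat.card G)) {A B : Subgroup G}
    (hc : ∀ a ∈ A, ∀ b ∈ B, a * b = b * a) (hd : A ⊓ B = ⊥) (hA : SC p A) (hB : SC p B) :
    False := by
  have h1 := hD.of_dvd (card_mul_dvd hc hd)
  have h2 := h1.lt hp.out
  have hA4 := hA.four h5 (h1.of_dvd (Dvd.intro _ rfl))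
  have hB4 := hB.four h5 (h1.of_dvd (Dvd.intro_left _ rfl))
  by_cases h : Nat.card A < p ^ 3
  · exact hA.eight h5 h (h1.of_dvd (by rw [mul_comm]; exact Nat.mul_dvd_mul_left _ hB4))
  · refine hB.eight h5 ?_ (h1.of_dvd (Nat.mul_dvd_mul_right hA4 _))
    by_contra h3
    exact absurd (Nat.mul_le_mul (not_lt.1 h) (not_lt.1 h3)) (not_le.2 h2)

end Cfsg.Lib.Recog.PSq
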