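import Cfsg.Agent.Recog.A8Set

/-! Two finite facts on `S₆`. -/

set_option autoImplicit false
set_option maxRecDepth 100000
set_option linter.unusedSimpArgs false
set_option linter.unusedSectionVars false
set_option linter.unusedVariables false
set_option maxHeartbeats 1000000

namespace Cfsg.Lib.L3

open Subgroup Cfsg.Lib.Spor Cfsg.Lib.Spor.Bulk Cfsg.Lib.Spor.PK Cfsg.Lib.Spor.WF

variable {G : Type*} [Group G] 

@[reducible] def M6 : PM where
  w := 7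
  n := 6
  cs := [1210151306112,
    1210151305223,
    1210136739847,
    971497619463,
    9454307079,
    490490643328,
    1210136740736,
    1210121718414,
    971512185728,
    240592030350]
  SW := [([[1],[4]],
    [⟨0, [64, 321, 257, 193, 129], [[1, 0, 1, 1, 1, 1, 0], [1, 1, 1, 1, 1, 0]]⟩,
     ⟨1, [192, 129, 256, 320], [[1, 0, 1, 0, 0, 0, 0, 0, 0, 1], [1, 0, 1, 0, 0, 0, 0, 1, 0, 0]]⟩,
     ⟨2, [256, 192, 321], [[0, 0, 1], [1, 1, 0]]⟩,
     ⟨3, [256, 321], [[1]]⟩,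
     ⟨4, [320], []⟩]),
   ([[1],[5],[6]],
    [⟨0, [64], [[2], [1]]⟩,
     ⟨2, [192, 321, 257], [[1, 1, 0, 1, 0], [1, 1, 1, 0]]⟩,
     ⟨3, [256, 321], [[1, 0]]⟩,
     ⟨4, [320], []⟩]),
   ([[1],[7],[8]],
    [⟨0, [64, 129, 193], [[1, 0, 1], [2]]⟩,
     ⟨4, [321], [[0]]⟩,
     ⟨2, [192], []⟩]),
   ([[1],[7],[9]],
    [⟨0, [64, 129, 258, 193, 322], [[2, 0, 2, 1], [1, 2]]⟩,
     ⟨2, [320, 257, 192], [[1, 0]]⟩,
     ⟨4, [320], []⟩])]

instance : NeZero M6.n := ⟨by decide⟩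

theorem M6_ok : M6.ok = true := by decide +kernel

theorem M6_subs : M6.subsOK = true := by decide +kernel

theorem M6_top : sub M6.m (M6.W 0) = ⊤ := eq_top_of_card_eq _ (by
  rw [PM.card_sub M6_ok M6_subs 0, Nat.card_perm, Nat.card_eq_fintype_card, Fintype.card_fin]
  decide +kernel)

theorem M6_holds {φ : Fm} (h : M6.dec φ = true) (g : Equiv.Perm (Fin 6)) :
    φ.sem (fun i => (sub M6.m (M6.W i)).map (MulAut.conj g).toMonoidHom) fun l => g * M6.m l * g⁻¹ :=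
  (φ.sem_map (MulAut.conj g).toMonoidHom (MulAut.conj g).injective _ _).2
    ((PM.dec_iff M6_ok M6_subs φ).1 h)

theorem M6_top' (g : Equiv.Perm (Fin 6)) :
    (sub M6.m (M6.W 0)).map (MulAut.conj g).toMonoidHom = ⊤ := by
  rw [M6_top]; exact map_top_of_surjective _ (MulAut.conj g).surjective

theorem S6_cl (i : Equiv.Perm (Fin 6)) (h : i * i = 1) (h1 : i ≠ 1) :
    ∃ c : Equiv.Perm (Fin 6), c * M6.m 1 * c⁻¹ = i ∨ c * M6.m 2 * c⁻¹ = i ∨ c * M6.m 3 * c⁻¹ = i := by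
  have := (PM.dec_iff M6_ok M6_subs (.all 0 30 (.imp (.eq [30,30] []) (.or (.eq [30] []) (.ex 0 31 (.or (.eq [1,31] [31,30]) (.or (.eq
      [2,31] [31,30]) (.eq [3,31] [31,30])))))))).1 (by decide +kernel)
  simp only [Fm.sem, wv_cons, wv_nil, one_mul, upd_apply, Nat.reduceEqDiff, ↓reduceIte] at this
  rw [M6_top] at this
  obtain ⟨c, -, e⟩ := (this i trivial h).resolve_left h1
  exact ⟨c, by simpa only [mul_inv_eq_iff_eq_mul] using e⟩

theorem S6_cox (r : Equiv.Perm (Fin 6)) (h : r * r = 1) (h1 : r ≠ 1) :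
    ∀ p6 : Equiv.Perm (Fin 6), p6 * p6 = 1 → p6 * r * p6 * r * p6 * r = 1 → ¬ p6 * r = 1 → ∀ p5 :
    Equiv.Perm (Fin 6), p5 * p5 = 1 → p5 * r = r * p5 → p5 * p6 * p5 * p6 * p5 * p6 = 1 → ∀ p4 :
    Equiv.Perm (Fin 6), p4 * p4 = 1 → p4 * r = r * p4 → p4 * p6 = p6 * p4 → p4 * p5 * p4 * p5 * p4 *
    p5 = 1 → ∀ p3 : Equiv.Perm (Fin 6), p3 * p3 = 1 → p3 * r = r * p3 → p3 * p6 = p6 * p3 → p3 * p4
    * p3 * p4 * p3 * p4 = 1 → ¬ p3 * p4 = 1 → (p3 * p5 * p3 * p5 = 1 ∨ (p4 * p3 * p4 * p5 * p4 * p3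
    * p4 * p5 = 1 ∧ p3 * p5 * p3 * p5 * p3 * p5 = 1)) := by
  obtain ⟨c, rfl | rfl | rfl⟩ := S6_cl r h h1
  · have := M6_holds (φ := (.and (.all 0 30 (.imp (.eq [1,30] [30,1]) (.ex 1 31 (.eq [30] [31])))) (.all 0 30 (.imp (.eq
      [30,30] []) (.imp (.eq [1,30,1,30,1,30] []) (.imp (.not (.eq [1,30] [])) (.all 1 31 (.imp (.eq
      [31,31] []) (.imp (.eq [1,31] [31,1]) (.imp (.eq [30,31,30,31,30,31] []) (.all 1 32 (.imp (.eq
      [32,32] []) (.imp (.eq [1,32] [32,1]) (.imp (.eq [30,32] [32,30]) (.imp (.eq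
      [31,32,31,32,31,32] []) (.all 1 33 (.imp (.eq [33,33] []) (.imp (.eq [1,33] [33,1]) (.imp (.eq
      [30,33] [33,30]) (.imp (.eq [32,33,32,33,32,33] []) (.imp (.not (.eq [32,33] [])) (.or (.eq
      [31,33,31,33] []) (.and (.eq [31,32,33,32,31,32,33,32] []) (.eq [31,33,31,33,31,33]
      [])))))))))))))))))))))))) (by decide +kernel) c
    simp only [Fm.sem, wv_cons, wv_nil, one_mul, upd_apply, Nat.reduceEqDiff, ↓reduceIte, exists_eq_right'] at this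
    rw [M6_top' c] at this
    obtain ⟨m, H⟩ := this
    exact fun p6 a1 a2 a3 p5 b1 b2 b3 p4 c1 c2 c3 c4 p3 d1 d2 => H p6 trivial a1 a2 a3 p5
      (m _ trivial b2) b1 b2 b3 p4 (m _ trivial c2) c1 c2 c3 c4 p3 (m _ trivial d2) d1 d2
  · have := M6_holds (φ := (.and (.all 0 30 (.imp (.eq [2,30] [30,2]) (.ex 2 31 (.eq [30] [31])))) (.all 0 30 (.imp (.eq
      [30,30] []) (.imp (.eq [2,30,2,30,2,30] []) (.imp (.not (.eq [2,30] [])) (.all 2 31 (.imp (.eq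
      [31,31] []) (.imp (.eq [2,31] [31,2]) (.imp (.eq [30,31,30,31,30,31] []) (.all 2 32 (.imp (.eq
      [32,32] []) (.imp (.eq [2,32] [32,2]) (.imp (.eq [30,32] [32,30]) (.imp (.eq
      [31,32,31,32,31,32] []) (.all 2 33 (.imp (.eq [33,33] []) (.imp (.eq [2,33] [33,2]) (.imp (.eq
      [30,33] [33,30]) (.imp (.eq [32,33,32,33,32,33] []) (.imp (.not (.eq [32,33] [])) (.or (.eq
      [31,33,31,33] []) (.and (.eq [31,32,33,32,31,32,33,32] []) (.eq [31,33,31,33,31,33]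
      [])))))))))))))))))))))))) (by decide +kernel) c
    simp only [Fm.sem, wv_cons, wv_nil, one_mul, upd_apply, Nat.reduceEqDiff, ↓reduceIte, exists_eq_right'] at this
    rw [M6_top' c] at this
    obtain ⟨m, H⟩ := this
    exact fun p6 a1 a2 a3 p5 b1 b2 b3 p4 c1 c2 c3 c4 p3 d1 d2 => H p6 trivial a1 a2 a3 p5
      (m _ trivial b2) b1 b2 b3 p4 (m _ trivial c2) c1 c2 c3 c4 p3 (m _ trivial d2) d1 d2
  · have := M6_holds (φ := (.and (.all 0 30 (.imp (.eq [3,30] [30,3]) (.ex 3 31 (.eq [30] [31])))) (.all 0 30 (.imp (.eq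
      [30,30] []) (.imp (.eq [3,30,3,30,3,30] []) (.imp (.not (.eq [3,30] [])) (.all 3 31 (.imp (.eq
      [31,31] []) (.imp (.eq [3,31] [31,3]) (.imp (.eq [30,31,30,31,30,31] []) (.all 3 32 (.imp (.eq
      [32,32] []) (.imp (.eq [3,32] [32,3]) (.imp (.eq [30,32] [32,30]) (.imp (.eq
      [31,32,31,32,31,32] []) (.all 3 33 (.imp (.eq [33,33] []) (.imp (.eq [3,33] [33,3]) (.imp (.eq
      [30,33] [33,30]) (.imp (.eq [32,33,32,33,32,33] []) (.imp (.not (.eq [32,33] [])) (.or (.eq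
      [31,33,31,33] []) (.and (.eq [31,32,33,32,31,32,33,32] []) (.eq [31,33,31,33,31,33]
      [])))))))))))))))))))))))) (by decide +kernel) c
    simp only [Fm.sem, wv_cons, wv_nil, one_mul, upd_apply, Nat.reduceEqDiff, ↓reduceIte, exists_eq_right'] at this
    rw [M6_top' c] at this
    obtain ⟨m, H⟩ := this
    exact fun p6 a1 a2 a3 p5 b1 b2 b3 p4 c1 c2 c3 c4 p3 d1 d2 => H p6 trivial a1 a2 a3 p5
      (m _ trivial b2) b1 b2 b3 p4 (m _ trivial c2) c1 c2 c3 c4 p3 (m _ trivial d2) d1 d2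

theorem S6_four (r : Equiv.Perm (Fin 6)) (h : r * r = 1) (h1 : r ≠ 1) :
    ∀ y : Equiv.Perm (Fin 6), y * y * y = 1 → y * r = r * y → ¬ y = 1 → (∃ j : Equiv.Perm (Fin 6), j * r
    = r * j ∧ j * j = 1 ∧ j * y * j * y * j * y = 1 ∧ ¬ (j * y * j * y * y * y = y * j * y * j * y *
    y ∨ j * y * j * y * y * y = y * y * j * y * j * y * y) ∧ (∀ i : Equiv.Perm (Fin 6), i * r = r *
    i → (i * i = 1 ∨ i * i = r) → (i * y * i * y * i * y = 1 ∨ i * y * i * y * i * y = r) → ((i = 1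
    ∨ i = r) ∨ (i = j ∨ i = j * r) ∨ (i = y * j * y * y ∨ i = y * j * y * y * r) ∨ i = y * y * j * y
    ∨ i = y * y * j * y * r))) := by
  obtain ⟨c, rfl | rfl | rfl⟩ := S6_cl r h h1
  · have := M6_holds (φ := (.and (.all 0 30 (.imp (.eq [1,30] [30,1]) (.ex 1 31 (.eq [30] [31])))) (.all 1 30 (.imp (.eq
      [30,30,30] []) (.imp (.eq [1,30] [30,1]) (.imp (.not (.eq [30] [])) (.ex 1 31 (.and (.eq
      [1,31] [31,1]) (.and (.eq [31,31] []) (.and (.eq [30,31,30,31,30,31] []) (.and (.not (.or (.eq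
      [30,30,30,31,30,31] [30,30,31,30,31,30]) (.eq [30,30,30,31,30,31] [30,30,31,30,31,30,30])))
      (.all 1 32 (.imp (.eq [1,32] [32,1]) (.imp (.or (.eq [32,32] []) (.eq [32,32] [1])) (.imp (.or
      (.eq [30,32,30,32,30,32] []) (.eq [30,32,30,32,30,32] [1])) (.or (.or (.eq [32] []) (.eq [32]
      [1])) (.or (.or (.eq [32] [31]) (.eq [32] [1,31])) (.or (.or (.eq [32] [30,30,31,30]) (.eq
      [32] [1,30,30,31,30])) (.or (.eq [32] [30,31,30,30]) (.eq [32]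
      [1,30,31,30,30])))))))))))))))))))) (by decide +kernel) c
    simp only [Fm.sem, wv_cons, wv_nil, one_mul, upd_apply, Nat.reduceEqDiff, ↓reduceIte, exists_eq_right'] at this
    rw [M6_top' c] at this
    obtain ⟨m, H⟩ := this
    intro y a1 a2 a3
    obtain ⟨j, -, b1, b2, b3, b4, b5⟩ := H y (m _ trivial a2) a1 a2 a3
    exact ⟨j, b1, b2, b3, b4, fun i c1 => b5 i (m _ trivial c1) c1⟩
  · have := M6_holds (φ := (.and (.all 0 30 (.imp (.eq [2,30] [30,2]) (.ex 2 31 (.eq [30] [31])))) (.all 2 30 (.imp (.eq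
      [30,30,30] []) (.imp (.eq [2,30] [30,2]) (.imp (.not (.eq [30] [])) (.ex 2 31 (.and (.eq
      [2,31] [31,2]) (.and (.eq [31,31] []) (.and (.eq [30,31,30,31,30,31] []) (.and (.not (.or (.eq
      [30,30,30,31,30,31] [30,30,31,30,31,30]) (.eq [30,30,30,31,30,31] [30,30,31,30,31,30,30])))
      (.all 2 32 (.imp (.eq [2,32] [32,2]) (.imp (.or (.eq [32,32] []) (.eq [32,32] [2])) (.imp (.or
      (.eq [30,32,30,32,30,32] []) (.eq [30,32,30,32,30,32] [2])) (.or (.or (.eq [32] []) (.eq [32]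
      [2])) (.or (.or (.eq [32] [31]) (.eq [32] [2,31])) (.or (.or (.eq [32] [30,30,31,30]) (.eq
      [32] [2,30,30,31,30])) (.or (.eq [32] [30,31,30,30]) (.eq [32]
      [2,30,31,30,30])))))))))))))))))))) (by decide +kernel) c
    simp only [Fm.sem, wv_cons, wv_nil, one_mul, upd_apply, Nat.reduceEqDiff, ↓reduceIte, exists_eq_right'] at this
    rw [M6_top' c] at this
    obtain ⟨m, H⟩ := this
    intro y a1 a2 a3
    obtain ⟨j, -, b1, b2, b3, b4, b5⟩ := H y (m _ trivial a2) a1 a2 a3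
    exact ⟨j, b1, b2, b3, b4, fun i c1 => b5 i (m _ trivial c1) c1⟩
  · have := M6_holds (φ := (.and (.all 0 30 (.imp (.eq [3,30] [30,3]) (.ex 3 31 (.eq [30] [31])))) (.all 3 30 (.imp (.eq
      [30,30,30] []) (.imp (.eq [3,30] [30,3]) (.imp (.not (.eq [30] [])) (.ex 3 31 (.and (.eq
      [3,31] [31,3]) (.and (.eq [31,31] []) (.and (.eq [30,31,30,31,30,31] []) (.and (.not (.or (.eq
      [30,30,30,31,30,31] [30,30,31,30,31,30]) (.eq [30,30,30,31,30,31] [30,30,31,30,31,30,30])))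
      (.all 3 32 (.imp (.eq [3,32] [32,3]) (.imp (.or (.eq [32,32] []) (.eq [32,32] [3])) (.imp (.or
      (.eq [30,32,30,32,30,32] []) (.eq [30,32,30,32,30,32] [3])) (.or (.or (.eq [32] []) (.eq [32]
      [3])) (.or (.or (.eq [32] [31]) (.eq [32] [3,31])) (.or (.or (.eq [32] [30,30,31,30]) (.eq
      [32] [3,30,30,31,30])) (.or (.eq [32] [30,31,30,30]) (.eq [32]
      [3,30,31,30,30])))))))))))))))))))) (by decide +kernel) c
    simp only [Fm.sem, wv_cons, wv_nil, one_mul, upd_apply, Nat.reduceEqDiff, ↓reduceIte, exists_eq_right'] at this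
    rw [M6_top' c] at this
    obtain ⟨m, H⟩ := this
    intro y a1 a2 a3
    obtain ⟨j, -, b1, b2, b3, b4, b5⟩ := H y (m _ trivial a2) a1 a2 a3
    exact ⟨j, b1, b2, b3, b4, fun i c1 => b5 i (m _ trivial c1) c1⟩

end Cfsg.Lib.L3
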