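import Cfsg.Agent.Recog.A8Set

/-! Three-local recognition of `S₈`: permutation models and finite facts. -/

set_option autoImplicit false
set_option maxRecDepth 100000
set_option linter.unusedSimpArgs false
set_option linter.unusedSectionVars false
set_option linter.unusedVariables false
set_option maxHeartbeats 1000000

namespace Cfsg.Lib.L3

open Subgroup Cfsg.Lib.Spor Cfsg.Lib.Spor.Bulk Cfsg.Lib.Spor.PK Cfsg.Lib.Spor.WF

variable {G : Type*} [Group G] {z x s u a b e p q v k w f c2 c5 c6 g1 g2 g3 g4 g5 g6 g7 : G}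

/-- letters -/
def gMS (z x s u a b e p q v k w f c2 c5 c6 : G) : ℕ → G := lf [1, z, z⁻¹, x, x⁻¹, s, u, a, b, e, p, q, v, k, w, f, c2, c5, c6]

theorem gMS_0 : gMS z x s u a b e p q v k w f c2 c5 c6 0 = 1 := rfl
theorem gMS_1 : gMS z x s u a b e p q v k w f c2 c5 c6 1 = z := rfl
theorem gMS_2 : gMS z x s u a b e p q v k w f c2 c5 c6 2 = z⁻¹ := rfl
theorem gMS_3 : gMS z x s u a b e p q v k w f c2 c5 c6 3 = x := rfl
theorem gMS_4 : gMS z x s u a b e p q v k w f c2 c5 c6 4 = x⁻¹ := rfl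
theorem gMS_5 : gMS z x s u a b e p q v k w f c2 c5 c6 5 = s := rfl
theorem gMS_6 : gMS z x s u a b e p q v k w f c2 c5 c6 6 = u := rfl
theorem gMS_7 : gMS z x s u a b e p q v k w f c2 c5 c6 7 = a := rfl
theorem gMS_8 : gMS z x s u a b e p q v k w f c2 c5 c6 8 = b := rfl
theorem gMS_9 : gMS z x s u a b e p q v k w f c2 c5 c6 9 = e := rfl
theorem gMS_10 : gMS z x s u a b e p q v k w f c2 c5 c6 10 = p := rfl
theorem gMS_11 : gMS z x s u a b e p q v k w f c2 c5 c6 11 = q := rfl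
theorem gMS_12 : gMS z x s u a b e p q v k w f c2 c5 c6 12 = v := rfl
theorem gMS_13 : gMS z x s u a b e p q v k w f c2 c5 c6 13 = k := rfl
theorem gMS_14 : gMS z x s u a b e p q v k w f c2 c5 c6 14 = w := rfl
theorem gMS_15 : gMS z x s u a b e p q v k w f c2 c5 c6 15 = f := rfl
theorem gMS_16 : gMS z x s u a b e p q v k w f c2 c5 c6 16 = c2 := rfl
theorem gMS_17 : gMS z x s u a b e p q v k w f c2 c5 c6 17 = c5 := rfl
theorem gMS_18 : gMS z x s u a b e p q v k w f c2 c5 c6 18 = c6 := rfl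

@[reducible] def MS : PM where
  w := 7
  n := 8
  cs := [27770475822416768,
    27770475822188295,
    27770475822301198,
    27769996679807872,
    27770233454560128,
    27770473958047751,
    23860610609677184,
    27739928150639488,
    27708425922380672,
    23860612474045312,
    27770475822415879,
    27770473958048640,
    15856173505020800,
    15979316884243328,
    19920203318264704,
    15856652647629696,
    27770475822302976,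
    27770237183296384,
    27739930015007616]
  SW := [([[1],[3],[5],[6],[7],[8],[9]],
    [⟨0, [128, 66], [[6, 2, 5, 0], [3, 2, 4, 0]]⟩,
     ⟨3, [384, 257, 448, 320], [[0, 0, 0, 1, 0, 1, 1, 0], [1, 0, 0, 0, 0, 1, 0]]⟩,
     ⟨1, [129], [[1, 1], [0]]⟩,
     ⟨4, [384, 321, 448], [[0, 1, 0], [1, 0, 1, 0, 0]]⟩,
     ⟨5, [448, 385], [[1, 0]]⟩,
     ⟨6, [448], []⟩]),
   ([[1],[3]],
    [⟨0, [128, 64], [[1]]⟩,
     ⟨3, [320, 256], []⟩]),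
   ([[7],[8]],
    [⟨3, [256, 321, 385], []⟩]),
   ([[3],[6],[7],[8]],
    [⟨3, [320, 257, 386, 449], [[1, 2], [0, 2, 3, 0]]⟩,
     ⟨4, [385, 448, 321], [[1, 0, 1, 0, 1]]⟩,
     ⟨5, [448, 384], []⟩]),
   ([[1],[3],[5],[6],[9]],
    [⟨0, [128, 66], [[4, 2, 4, 0], [2, 0, 4], [2, 1, 0, 3]]⟩,
     ⟨3, [256, 322], [[0, 2, 2], [2, 0], [0, 1]]⟩,
     ⟨1, [128], [[1], [2]]⟩,
     ⟨4, [320], [[1]]⟩,
     ⟨6, [448], []⟩]),
   ([[3],[6]],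
    [⟨3, [320, 257], [[1, 0]]⟩,
     ⟨4, [320], []⟩]),
   ([[1],[10],[3],[6]],
    [⟨0, [128, 65], [[1, 3, 0], [1, 2, 0]]⟩,
     ⟨1, [128], [[1, 0], [0, 1]]⟩,
     ⟨3, [320, 257], [[1]]⟩,
     ⟨4, [320], []⟩]),
   ([[7],[8],[1],[10]],
    [⟨3, [256, 321, 385], [[2], [3]]⟩,
     ⟨0, [128, 65], [[1, 0]]⟩,
     ⟨1, [128], []⟩])]

instance : NeZero MS.n := ⟨by decide⟩

theorem MS_ok : MS.ok = true := by decide +kernel

theorem MS_subs : MS.subsOK = true := by decide +kernel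

theorem gMS_s0 : sub (gMS z x s u a b e p q v k w f c2 c5 c6) (MS.W 0) = gen [z, x, s, u, a, b, e] := by
  change gen (List.map (wv _) [[1],[3],[5],[6],[7],[8],[9]]) = _
  simp only [List.map_cons, List.map_nil, wv_cons, wv_nil, one_mul, gMS_1, gMS_2, gMS_3, gMS_4, gMS_5, gMS_6, gMS_7, gMS_8, gMS_9, gMS_10, gMS_11, gMS_12, gMS_13, gMS_14, gMS_15, gMS_16, gMS_17, gMS_18]

theorem gMS_s1 : sub (gMS z x s u a b e p q v k w f c2 c5 c6) (MS.W 1) = gen [z, x] := by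
  change gen (List.map (wv _) [[1],[3]]) = _
  simp only [List.map_cons, List.map_nil, wv_cons, wv_nil, one_mul, gMS_1, gMS_2, gMS_3, gMS_4, gMS_5, gMS_6, gMS_7, gMS_8, gMS_9, gMS_10, gMS_11, gMS_12, gMS_13, gMS_14, gMS_15, gMS_16, gMS_17, gMS_18]

theorem gMS_s2 : sub (gMS z x s u a b e p q v k w f c2 c5 c6) (MS.W 2) = gen [a, b] := by
  change gen (List.map (wv _) [[7],[8]]) = _
  simp only [List.map_cons, List.map_nil, wv_cons, wv_nil, one_mul, gMS_1, gMS_2, gMS_3, gMS_4, gMS_5, gMS_6, gMS_7, gMS_8, gMS_9, gMS_10, gMS_11, gMS_12, gMS_13, gMS_14, gMS_15, gMS_16, gMS_17, gMS_18]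

theorem gMS_s3 : sub (gMS z x s u a b e p q v k w f c2 c5 c6) (MS.W 3) = gen [x, u, a, b] := by
  change gen (List.map (wv _) [[3],[6],[7],[8]]) = _
  simp only [List.map_cons, List.map_nil, wv_cons, wv_nil, one_mul, gMS_1, gMS_2, gMS_3, gMS_4, gMS_5, gMS_6, gMS_7, gMS_8, gMS_9, gMS_10, gMS_11, gMS_12, gMS_13, gMS_14, gMS_15, gMS_16, gMS_17, gMS_18]

theorem gMS_s4 : sub (gMS z x s u a b e p q v k w f c2 c5 c6) (MS.W 4) = gen [z, x, s, u, e] := by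
  change gen (List.map (wv _) [[1],[3],[5],[6],[9]]) = _
  simp only [List.map_cons, List.map_nil, wv_cons, wv_nil, one_mul, gMS_1, gMS_2, gMS_3, gMS_4, gMS_5, gMS_6, gMS_7, gMS_8, gMS_9, gMS_10, gMS_11, gMS_12, gMS_13, gMS_14, gMS_15, gMS_16, gMS_17, gMS_18]

theorem gMS_s5 : sub (gMS z x s u a b e p q v k w f c2 c5 c6) (MS.W 5) = gen [x, u] := by
  change gen (List.map (wv _) [[3],[6]]) = _
  simp only [List.map_cons, List.map_nil, wv_cons, wv_nil, one_mul, gMS_1, gMS_2, gMS_3, gMS_4, gMS_5, gMS_6, gMS_7, gMS_8, gMS_9, gMS_10, gMS_11, gMS_12, gMS_13, gMS_14, gMS_15, gMS_16, gMS_17, gMS_18]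

theorem gMS_s6 : sub (gMS z x s u a b e p q v k w f c2 c5 c6) (MS.W 6) = gen [z, p, x, u] := by
  change gen (List.map (wv _) [[1],[10],[3],[6]]) = _
  simp only [List.map_cons, List.map_nil, wv_cons, wv_nil, one_mul, gMS_1, gMS_2, gMS_3, gMS_4, gMS_5, gMS_6, gMS_7, gMS_8, gMS_9, gMS_10, gMS_11, gMS_12, gMS_13, gMS_14, gMS_15, gMS_16, gMS_17, gMS_18]

theorem gMS_s7 : sub (gMS z x s u a b e p q v k w f c2 c5 c6) (MS.W 7) = gen [a, b, z, p] := by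
  change gen (List.map (wv _) [[7],[8],[1],[10]]) = _
  simp only [List.map_cons, List.map_nil, wv_cons, wv_nil, one_mul, gMS_1, gMS_2, gMS_3, gMS_4, gMS_5, gMS_6, gMS_7, gMS_8, gMS_9, gMS_10, gMS_11, gMS_12, gMS_13, gMS_14, gMS_15, gMS_16, gMS_17, gMS_18]

/-- Standard generators of the normaliser of `⟨z⟩`. -/
structure NS (z x s u a b e p q v k w f c2 c5 c6 : G) : Prop where
  emb : Emb MS.m (gMS z x s u a b e p q v k w f c2 c5 c6)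
  embL : Emb ML.m (gML z x s u a b)
  eN : gen [z, x, s, u, a, b, e] = normalizer (zpowers z : Set G)
  eA : ∃ ψ : alternatingGroup (Fin 5) →* G, Function.Injective ψ ∧ ψ.range = gen [x, u, a, b]

theorem NS.rels (h : NS z x s u a b e p q v k w f c2 c5 c6) :
    z * z * z = 1 ∧ x * x * x = 1 ∧ z * x * z⁻¹ * x⁻¹ = 1 ∧ s * z * s * z = 1 ∧ s * x * s * x = 1 ∧ z *
    a * z⁻¹ * a = 1 ∧ z * b * z⁻¹ * b = 1 ∧ x * a * x⁻¹ * a * b = 1 ∧ x * b * x⁻¹ * a = 1 ∧ s * a *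
    s * a = 1 ∧ s * b * s * a * b = 1 ∧ a * b * a * b = 1 := by
  have := PM.holds MS_ok MS_subs h.emb (p := (.and (.eq [1,1,1] []) (.and (.eq [3,3,3] []) (.and (.eq [4,2,3,1] []) (.and (.eq [1,5,1,5] [])
      (.and (.eq [3,5,3,5] []) (.and (.eq [7,2,7,1] []) (.and (.eq [8,2,8,1] []) (.and (.eq
      [8,7,4,7,3] []) (.and (.eq [7,4,8,3] []) (.and (.eq [7,5,7,5] []) (.and (.eq [8,7,5,8,5] [])
      (.eq [8,7,8,7] []))))))))))))) (by decide +kernel)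
  simp only [Fm.sem, wv_cons, wv_nil, one_mul, upd_apply, Nat.reduceEqDiff, ↓reduceIte, gMS_1, gMS_2, gMS_3, gMS_4, gMS_5, gMS_6, gMS_7, gMS_8, gMS_9, gMS_10, gMS_11, gMS_12, gMS_13, gMS_14, gMS_15, gMS_16, gMS_17, gMS_18, gMS_s0, gMS_s1, gMS_s2, gMS_s3, gMS_s4, gMS_s5, gMS_s6, gMS_s7, exists_eq_right', h.eN] at this
  exact this

theorem NS.sqs (h : NS z x s u a b e p q v k w f c2 c5 c6) :
    s * s = 1 ∧ u * u = 1 ∧ a * a = 1 ∧ b * b = 1 ∧ e * e = 1 ∧ p * p = 1 ∧ q * q = 1 ∧ v * v = 1 ∧ c2 *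
    c2 = 1 ∧ c5 * c5 = 1 ∧ c6 * c6 = 1 ∧ a * b * a * b = 1 ∧ f * f * f * f * f = 1 := by
  have := PM.holds MS_ok MS_subs h.emb (p := (.and (.eq [5,5] []) (.and (.eq [6,6] []) (.and (.eq [7,7] []) (.and (.eq [8,8] []) (.and (.eq [9,9]
      []) (.and (.eq [10,10] []) (.and (.eq [11,11] []) (.and (.eq [12,12] []) (.and (.eq [16,16]
      []) (.and (.eq [17,17] []) (.and (.eq [18,18] []) (.and (.eq [8,7,8,7] []) (.eq
      [15,15,15,15,15] [])))))))))))))) (by decide +kernel)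
  simp only [Fm.sem, wv_cons, wv_nil, one_mul, upd_apply, Nat.reduceEqDiff, ↓reduceIte, gMS_1, gMS_2, gMS_3, gMS_4, gMS_5, gMS_6, gMS_7, gMS_8, gMS_9, gMS_10, gMS_11, gMS_12, gMS_13, gMS_14, gMS_15, gMS_16, gMS_17, gMS_18, gMS_s0, gMS_s1, gMS_s2, gMS_s3, gMS_s4, gMS_s5, gMS_s6, gMS_s7, exists_eq_right', h.eN] at this
  exact this

theorem NS.ss (h : NS z x s u a b e p q v k w f c2 c5 c6) : s * s = 1 := h.sqs.1
theorem NS.uu (h : NS z x s u a b e p q v k w f c2 c5 c6) : u * u = 1 := h.sqs.2.1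
theorem NS.aa (h : NS z x s u a b e p q v k w f c2 c5 c6) : a * a = 1 := h.sqs.2.2.1
theorem NS.bb (h : NS z x s u a b e p q v k w f c2 c5 c6) : b * b = 1 := h.sqs.2.2.2.1
theorem NS.ee (h : NS z x s u a b e p q v k w f c2 c5 c6) : e * e = 1 := h.sqs.2.2.2.2.1
theorem NS.pp (h : NS z x s u a b e p q v k w f c2 c5 c6) : p * p = 1 := h.sqs.2.2.2.2.2.1
theorem NS.qq (h : NS z x s u a b e p q v k w f c2 c5 c6) : q * q = 1 := h.sqs.2.2.2.2.2.2.1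
theorem NS.vv (h : NS z x s u a b e p q v k w f c2 c5 c6) : v * v = 1 := h.sqs.2.2.2.2.2.2.2.1
theorem NS.c2c2 (h : NS z x s u a b e p q v k w f c2 c5 c6) : c2 * c2 = 1 := h.sqs.2.2.2.2.2.2.2.2.1
theorem NS.c5c5 (h : NS z x s u a b e p q v k w f c2 c5 c6) : c5 * c5 = 1 := h.sqs.2.2.2.2.2.2.2.2.2.1
theorem NS.c6c6 (h : NS z x s u a b e p q v k w f c2 c5 c6) : c6 * c6 = 1 := h.sqs.2.2.2.2.2.2.2.2.2.2.1
theorem NS.ab2 (h : NS z x s u a b e p q v k w f c2 c5 c6) : a * b * a * b = 1 := h.sqs.2.2.2.2.2.2.2.2.2.2.2.1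
theorem NS.f5 (h : NS z x s u a b e p q v k w f c2 c5 c6) : f * f * f * f * f = 1 := h.sqs.2.2.2.2.2.2.2.2.2.2.2.2

theorem NS.nes (h : NS z x s u a b e p q v k w f c2 c5 c6) :
    ¬ z = 1 ∧ ¬ x = 1 ∧ ¬ s = 1 ∧ ¬ u = 1 ∧ ¬ a = 1 ∧ ¬ b = 1 ∧ ¬ e = 1 ∧ ¬ p = 1 ∧ ¬ q = 1 ∧ ¬ f = 1 ∧
    ¬ a * b = 1 ∧ ¬ z * x = 1 ∧ ¬ z = x ∧ ¬ a = b ∧ ¬ p * q = 1 ∧ ¬ p * q = e ∧ ¬ p * u = 1 ∧ ¬ p *
    u = e ∧ ¬ e * a = a * e ∧ ¬ p = u ∧ ¬ p = e ∧ ¬ c6 * e = 1 ∧ ¬ c6 * e = p ∧ ¬ c6 * q = 1 ∧ ¬ c2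
    * p = 1 ∧ ¬ c2 * p = e ∧ ¬ c5 * q = 1 ∧ ¬ c5 * q = e ∧ ¬ p = c2 ∧ ¬ (v * x = x * v ∨ v * x = x⁻¹
    * v) ∧ ¬ p * z = z * p ∧ ¬ x * a = a * x ∧ ¬ u = e := by
  have := PM.holds MS_ok MS_subs h.emb (p := (.and (.not (.eq [1] [])) (.and (.not (.eq [3] [])) (.and (.not (.eq [5] [])) (.and (.not (.eq [6]
      [])) (.and (.not (.eq [7] [])) (.and (.not (.eq [8] [])) (.and (.not (.eq [9] [])) (.and (.not
      (.eq [10] [])) (.and (.not (.eq [11] [])) (.and (.not (.eq [15] [])) (.and (.not (.eq [8,7]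
      [])) (.and (.not (.eq [3,1] [])) (.and (.not (.eq [1] [3])) (.and (.not (.eq [7] [8])) (.and
      (.not (.eq [11,10] [])) (.and (.not (.eq [11,10] [9])) (.and (.not (.eq [6,10] [])) (.and
      (.not (.eq [6,10] [9])) (.and (.not (.eq [7,9] [9,7])) (.and (.not (.eq [10] [6])) (.and (.not
      (.eq [10] [9])) (.and (.not (.eq [9,18] [])) (.and (.not (.eq [9,18] [10])) (.and (.not (.eq
      [11,18] [])) (.and (.not (.eq [10,16] [])) (.and (.not (.eq [10,16] [9])) (.and (.not (.eq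
      [11,17] [])) (.and (.not (.eq [11,17] [9])) (.and (.not (.eq [10] [16])) (.and (.not (.or (.eq
      [3,12] [12,3]) (.eq [3,12] [12,4]))) (.and (.not (.eq [1,10] [10,1])) (.and (.not (.eq [7,3]
      [3,7])) (.not (.eq [6] [9]))))))))))))))))))))))))))))))))))) (by decide +kernel)
  simp only [Fm.sem, wv_cons, wv_nil, one_mul, upd_apply, Nat.reduceEqDiff, ↓reduceIte, gMS_1, gMS_2, gMS_3, gMS_4, gMS_5, gMS_6, gMS_7, gMS_8, gMS_9, gMS_10, gMS_11, gMS_12, gMS_13, gMS_14, gMS_15, gMS_16, gMS_17, gMS_18, gMS_s0, gMS_s1, gMS_s2, gMS_s3, gMS_s4, gMS_s5, gMS_s6, gMS_s7, exists_eq_right', h.eN] at this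
  exact this

theorem NS.z1 (h : NS z x s u a b e p q v k w f c2 c5 c6) : ¬ z = 1 := h.nes.1
theorem NS.x1 (h : NS z x s u a b e p q v k w f c2 c5 c6) : ¬ x = 1 := h.nes.2.1
theorem NS.s1 (h : NS z x s u a b e p q v k w f c2 c5 c6) : ¬ s = 1 := h.nes.2.2.1
theorem NS.u1 (h : NS z x s u a b e p q v k w f c2 c5 c6) : ¬ u = 1 := h.nes.2.2.2.1
theorem NS.a1 (h : NS z x s u a b e p q v k w f c2 c5 c6) : ¬ a = 1 := h.nes.2.2.2.2.1
theorem NS.b1 (h : NS z x s u a b e p q v k w f c2 c5 c6) : ¬ b = 1 := h.nes.2.2.2.2.2.1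
theorem NS.e1 (h : NS z x s u a b e p q v k w f c2 c5 c6) : ¬ e = 1 := h.nes.2.2.2.2.2.2.1
theorem NS.p1 (h : NS z x s u a b e p q v k w f c2 c5 c6) : ¬ p = 1 := h.nes.2.2.2.2.2.2.2.1
theorem NS.q1 (h : NS z x s u a b e p q v k w f c2 c5 c6) : ¬ q = 1 := h.nes.2.2.2.2.2.2.2.2.1
theorem NS.f1 (h : NS z x s u a b e p q v k w f c2 c5 c6) : ¬ f = 1 := h.nes.2.2.2.2.2.2.2.2.2.1
theorem NS.ab1 (h : NS z x s u a b e p q v k w f c2 c5 c6) : ¬ a * b = 1 := h.nes.2.2.2.2.2.2.2.2.2.2.1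
theorem NS.zx1 (h : NS z x s u a b e p q v k w f c2 c5 c6) : ¬ z * x = 1 := h.nes.2.2.2.2.2.2.2.2.2.2.2.1
theorem NS.z_x (h : NS z x s u a b e p q v k w f c2 c5 c6) : ¬ z = x := h.nes.2.2.2.2.2.2.2.2.2.2.2.2.1
theorem NS.a_b (h : NS z x s u a b e p q v k w f c2 c5 c6) : ¬ a = b := h.nes.2.2.2.2.2.2.2.2.2.2.2.2.2.1
theorem NS.pq1 (h : NS z x s u a b e p q v k w f c2 c5 c6) : ¬ p * q = 1 := h.nes.2.2.2.2.2.2.2.2.2.2.2.2.2.2.1
theorem NS.pq_e (h : NS z x s u a b e p q v k w f c2 c5 c6) : ¬ p * q = e := h.nes.2.2.2.2.2.2.2.2.2.2.2.2.2.2.2.1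
theorem NS.pu1 (h : NS z x s u a b e p q v k w f c2 c5 c6) : ¬ p * u = 1 := h.nes.2.2.2.2.2.2.2.2.2.2.2.2.2.2.2.2.1
theorem NS.pu_e (h : NS z x s u a b e p q v k w f c2 c5 c6) : ¬ p * u = e := h.nes.2.2.2.2.2.2.2.2.2.2.2.2.2.2.2.2.2.1
theorem NS.ea (h : NS z x s u a b e p q v k w f c2 c5 c6) : ¬ e * a = a * e := h.nes.2.2.2.2.2.2.2.2.2.2.2.2.2.2.2.2.2.2.1
theorem NS.p_u (h : NS z x s u a b e p q v k w f c2 c5 c6) : ¬ p = u := h.nes.2.2.2.2.2.2.2.2.2.2.2.2.2.2.2.2.2.2.2.1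
theorem NS.p_e (h : NS z x s u a b e p q v k w f c2 c5 c6) : ¬ p = e := h.nes.2.2.2.2.2.2.2.2.2.2.2.2.2.2.2.2.2.2.2.2.1
theorem NS.c6e1 (h : NS z x s u a b e p q v k w f c2 c5 c6) : ¬ c6 * e = 1 := h.nes.2.2.2.2.2.2.2.2.2.2.2.2.2.2.2.2.2.2.2.2.2.1
theorem NS.c6e_p (h : NS z x s u a b e p q v k w f c2 c5 c6) : ¬ c6 * e = p := h.nes.2.2.2.2.2.2.2.2.2.2.2.2.2.2.2.2.2.2.2.2.2.2.1
theorem NS.c6q1 (h : NS z x s u a b e p q v k w f c2 c5 c6) : ¬ c6 * q = 1 := h.nes.2.2.2.2.2.2.2.2.2.2.2.2.2.2.2.2.2.2.2.2.2.2.2.1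
theorem NS.pc1 (h : NS z x s u a b e p q v k w f c2 c5 c6) : ¬ c2 * p = 1 := h.nes.2.2.2.2.2.2.2.2.2.2.2.2.2.2.2.2.2.2.2.2.2.2.2.2.1
theorem NS.pc_e (h : NS z x s u a b e p q v k w f c2 c5 c6) : ¬ c2 * p = e := h.nes.2.2.2.2.2.2.2.2.2.2.2.2.2.2.2.2.2.2.2.2.2.2.2.2.2.1
theorem NS.c5q1 (h : NS z x s u a b e p q v k w f c2 c5 c6) : ¬ c5 * q = 1 := h.nes.2.2.2.2.2.2.2.2.2.2.2.2.2.2.2.2.2.2.2.2.2.2.2.2.2.2.1
theorem NS.c5q_e (h : NS z x s u a b e p q v k w f c2 c5 c6) : ¬ c5 * q = e := h.nes.2.2.2.2.2.2.2.2.2.2.2.2.2.2.2.2.2.2.2.2.2.2.2.2.2.2.2.1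
theorem NS.p_c2 (h : NS z x s u a b e p q v k w f c2 c5 c6) : ¬ p = c2 := h.nes.2.2.2.2.2.2.2.2.2.2.2.2.2.2.2.2.2.2.2.2.2.2.2.2.2.2.2.2.1
theorem NS.vx (h : NS z x s u a b e p q v k w f c2 c5 c6) : ¬ (v * x = x * v ∨ v * x = x⁻¹ * v) := h.nes.2.2.2.2.2.2.2.2.2.2.2.2.2.2.2.2.2.2.2.2.2.2.2.2.2.2.2.2.2.1
theorem NS.pz (h : NS z x s u a b e p q v k w f c2 c5 c6) : ¬ p * z = z * p := h.nes.2.2.2.2.2.2.2.2.2.2.2.2.2.2.2.2.2.2.2.2.2.2.2.2.2.2.2.2.2.2.1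
theorem NS.xa (h : NS z x s u a b e p q v k w f c2 c5 c6) : ¬ x * a = a * x := h.nes.2.2.2.2.2.2.2.2.2.2.2.2.2.2.2.2.2.2.2.2.2.2.2.2.2.2.2.2.2.2.2.1
theorem NS.u_e (h : NS z x s u a b e p q v k w f c2 c5 c6) : ¬ u = e := h.nes.2.2.2.2.2.2.2.2.2.2.2.2.2.2.2.2.2.2.2.2.2.2.2.2.2.2.2.2.2.2.2.2

theorem NS.comms (h : NS z x s u a b e p q v k w f c2 c5 c6) :
    z * x = x * z ∧ z * a = a * z ∧ z * b = b * z ∧ z * u = u * z ∧ z * e = e * z ∧ z * q = q * z ∧ z *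
    v = v * z ∧ z * f = f * z ∧ z * w = w * z ∧ x * e = e * x ∧ x * p = p * x ∧ a * b = b * a ∧ s *
    u = u * s ∧ s * a = a * s ∧ s * e = e * s ∧ s * p = p * s ∧ p * a = a * p ∧ p * b = b * p ∧ p *
    u = u * p ∧ p * q = q * p ∧ p * e = e * p ∧ p * v = v * p ∧ p * k = k * p ∧ p * w = w * p ∧ p *
    f = f * p ∧ u * e = e * u ∧ u * v = v * u ∧ q * e = e * q ∧ q * a = a * q ∧ p * c5 = c5 * p ∧ p
    * c6 = c6 * p ∧ c2 * q = q * c2 ∧ c2 * c5 = c5 * c2 ∧ c2 * c6 = c6 * c2 ∧ c2 * e = e * c2 ∧ c2 *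
    f = f * c2 ∧ q * c6 = c6 * q ∧ c5 * e = e * c5 := by
  have := PM.holds MS_ok MS_subs h.emb (p := (.and (.eq [3,1] [1,3]) (.and (.eq [7,1] [1,7]) (.and (.eq [8,1] [1,8]) (.and (.eq [6,1] [1,6])
      (.and (.eq [9,1] [1,9]) (.and (.eq [11,1] [1,11]) (.and (.eq [12,1] [1,12]) (.and (.eq [15,1]
      [1,15]) (.and (.eq [14,1] [1,14]) (.and (.eq [9,3] [3,9]) (.and (.eq [10,3] [3,10]) (.and (.eq
      [8,7] [7,8]) (.and (.eq [6,5] [5,6]) (.and (.eq [7,5] [5,7]) (.and (.eq [9,5] [5,9]) (.and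
      (.eq [10,5] [5,10]) (.and (.eq [7,10] [10,7]) (.and (.eq [8,10] [10,8]) (.and (.eq [6,10]
      [10,6]) (.and (.eq [11,10] [10,11]) (.and (.eq [9,10] [10,9]) (.and (.eq [12,10] [10,12])
      (.and (.eq [13,10] [10,13]) (.and (.eq [14,10] [10,14]) (.and (.eq [15,10] [10,15]) (.and (.eq
      [9,6] [6,9]) (.and (.eq [12,6] [6,12]) (.and (.eq [9,11] [11,9]) (.and (.eq [7,11] [11,7])
      (.and (.eq [17,10] [10,17]) (.and (.eq [18,10] [10,18]) (.and (.eq [11,16] [16,11]) (.and (.eq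
      [17,16] [16,17]) (.and (.eq [18,16] [16,18]) (.and (.eq [9,16] [16,9]) (.and (.eq [15,16]
      [16,15]) (.and (.eq [18,11] [11,18]) (.eq [9,17] [17,9]))))))))))))))))))))))))))))))))))))))) (by decide +kernel)
  simp only [Fm.sem, wv_cons, wv_nil, one_mul, upd_apply, Nat.reduceEqDiff, ↓reduceIte, gMS_1, gMS_2, gMS_3, gMS_4, gMS_5, gMS_6, gMS_7, gMS_8, gMS_9, gMS_10, gMS_11, gMS_12, gMS_13, gMS_14, gMS_15, gMS_16, gMS_17, gMS_18, gMS_s0, gMS_s1, gMS_s2, gMS_s3, gMS_s4, gMS_s5, gMS_s6, gMS_s7, exists_eq_right', h.eN] at this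
  exact this

theorem NS.zx (h : NS z x s u a b e p q v k w f c2 c5 c6) : z * x = x * z := h.comms.1
theorem NS.za (h : NS z x s u a b e p q v k w f c2 c5 c6) : z * a = a * z := h.comms.2.1
theorem NS.zb (h : NS z x s u a b e p q v k w f c2 c5 c6) : z * b = b * z := h.comms.2.2.1
theorem NS.zu (h : NS z x s u a b e p q v k w f c2 c5 c6) : z * u = u * z := h.comms.2.2.2.1
theorem NS.ze (h : NS z x s u a b e p q v k w f c2 c5 c6) : z * e = e * z := h.comms.2.2.2.2.1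
theorem NS.zq (h : NS z x s u a b e p q v k w f c2 c5 c6) : z * q = q * z := h.comms.2.2.2.2.2.1
theorem NS.zv (h : NS z x s u a b e p q v k w f c2 c5 c6) : z * v = v * z := h.comms.2.2.2.2.2.2.1
theorem NS.zf (h : NS z x s u a b e p q v k w f c2 c5 c6) : z * f = f * z := h.comms.2.2.2.2.2.2.2.1
theorem NS.zw (h : NS z x s u a b e p q v k w f c2 c5 c6) : z * w = w * z := h.comms.2.2.2.2.2.2.2.2.1
theorem NS.xe (h : NS z x s u a b e p q v k w f c2 c5 c6) : x * e = e * x := h.comms.2.2.2.2.2.2.2.2.2.1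
theorem NS.xp (h : NS z x s u a b e p q v k w f c2 c5 c6) : x * p = p * x := h.comms.2.2.2.2.2.2.2.2.2.2.1
theorem NS.ab (h : NS z x s u a b e p q v k w f c2 c5 c6) : a * b = b * a := h.comms.2.2.2.2.2.2.2.2.2.2.2.1
theorem NS.su (h : NS z x s u a b e p q v k w f c2 c5 c6) : s * u = u * s := h.comms.2.2.2.2.2.2.2.2.2.2.2.2.1
theorem NS.sa (h : NS z x s u a b e p q v k w f c2 c5 c6) : s * a = a * s := h.comms.2.2.2.2.2.2.2.2.2.2.2.2.2.1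
theorem NS.se (h : NS z x s u a b e p q v k w f c2 c5 c6) : s * e = e * s := h.comms.2.2.2.2.2.2.2.2.2.2.2.2.2.2.1
theorem NS.sp (h : NS z x s u a b e p q v k w f c2 c5 c6) : s * p = p * s := h.comms.2.2.2.2.2.2.2.2.2.2.2.2.2.2.2.1
theorem NS.pa (h : NS z x s u a b e p q v k w f c2 c5 c6) : p * a = a * p := h.comms.2.2.2.2.2.2.2.2.2.2.2.2.2.2.2.2.1
theorem NS.pb (h : NS z x s u a b e p q v k w f c2 c5 c6) : p * b = b * p := h.comms.2.2.2.2.2.2.2.2.2.2.2.2.2.2.2.2.2.1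
theorem NS.pu (h : NS z x s u a b e p q v k w f c2 c5 c6) : p * u = u * p := h.comms.2.2.2.2.2.2.2.2.2.2.2.2.2.2.2.2.2.2.1
theorem NS.pq (h : NS z x s u a b e p q v k w f c2 c5 c6) : p * q = q * p := h.comms.2.2.2.2.2.2.2.2.2.2.2.2.2.2.2.2.2.2.2.1
theorem NS.pe (h : NS z x s u a b e p q v k w f c2 c5 c6) : p * e = e * p := h.comms.2.2.2.2.2.2.2.2.2.2.2.2.2.2.2.2.2.2.2.2.1
theorem NS.pv (h : NS z x s u a b e p q v k w f c2 c5 c6) : p * v = v * p := h.comms.2.2.2.2.2.2.2.2.2.2.2.2.2.2.2.2.2.2.2.2.2.1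
theorem NS.pk (h : NS z x s u a b e p q v k w f c2 c5 c6) : p * k = k * p := h.comms.2.2.2.2.2.2.2.2.2.2.2.2.2.2.2.2.2.2.2.2.2.2.1
theorem NS.pw (h : NS z x s u a b e p q v k w f c2 c5 c6) : p * w = w * p := h.comms.2.2.2.2.2.2.2.2.2.2.2.2.2.2.2.2.2.2.2.2.2.2.2.1
theorem NS.pf (h : NS z x s u a b e p q v k w f c2 c5 c6) : p * f = f * p := h.comms.2.2.2.2.2.2.2.2.2.2.2.2.2.2.2.2.2.2.2.2.2.2.2.2.1
theorem NS.ue (h : NS z x s u a b e p q v k w f c2 c5 c6) : u * e = e * u := h.comms.2.2.2.2.2.2.2.2.2.2.2.2.2.2.2.2.2.2.2.2.2.2.2.2.2.1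
theorem NS.uv (h : NS z x s u a b e p q v k w f c2 c5 c6) : u * v = v * u := h.comms.2.2.2.2.2.2.2.2.2.2.2.2.2.2.2.2.2.2.2.2.2.2.2.2.2.2.1
theorem NS.qe (h : NS z x s u a b e p q v k w f c2 c5 c6) : q * e = e * q := h.comms.2.2.2.2.2.2.2.2.2.2.2.2.2.2.2.2.2.2.2.2.2.2.2.2.2.2.2.1
theorem NS.qa (h : NS z x s u a b e p q v k w f c2 c5 c6) : q * a = a * q := h.comms.2.2.2.2.2.2.2.2.2.2.2.2.2.2.2.2.2.2.2.2.2.2.2.2.2.2.2.2.1
theorem NS.pc5 (h : NS z x s u a b e p q v k w f c2 c5 c6) : p * c5 = c5 * p := h.comms.2.2.2.2.2.2.2.2.2.2.2.2.2.2.2.2.2.2.2.2.2.2.2.2.2.2.2.2.2.1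
theorem NS.pc6 (h : NS z x s u a b e p q v k w f c2 c5 c6) : p * c6 = c6 * p := h.comms.2.2.2.2.2.2.2.2.2.2.2.2.2.2.2.2.2.2.2.2.2.2.2.2.2.2.2.2.2.2.1
theorem NS.c2q (h : NS z x s u a b e p q v k w f c2 c5 c6) : c2 * q = q * c2 := h.comms.2.2.2.2.2.2.2.2.2.2.2.2.2.2.2.2.2.2.2.2.2.2.2.2.2.2.2.2.2.2.2.1
theorem NS.c2c5 (h : NS z x s u a b e p q v k w f c2 c5 c6) : c2 * c5 = c5 * c2 := h.comms.2.2.2.2.2.2.2.2.2.2.2.2.2.2.2.2.2.2.2.2.2.2.2.2.2.2.2.2.2.2.2.2.1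
theorem NS.c2c6 (h : NS z x s u a b e p q v k w f c2 c5 c6) : c2 * c6 = c6 * c2 := h.comms.2.2.2.2.2.2.2.2.2.2.2.2.2.2.2.2.2.2.2.2.2.2.2.2.2.2.2.2.2.2.2.2.2.1
theorem NS.c2e (h : NS z x s u a b e p q v k w f c2 c5 c6) : c2 * e = e * c2 := h.comms.2.2.2.2.2.2.2.2.2.2.2.2.2.2.2.2.2.2.2.2.2.2.2.2.2.2.2.2.2.2.2.2.2.2.1
theorem NS.c2f (h : NS z x s u a b e p q v k w f c2 c5 c6) : c2 * f = f * c2 := h.comms.2.2.2.2.2.2.2.2.2.2.2.2.2.2.2.2.2.2.2.2.2.2.2.2.2.2.2.2.2.2.2.2.2.2.2.1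
theorem NS.qc6 (h : NS z x s u a b e p q v k w f c2 c5 c6) : q * c6 = c6 * q := h.comms.2.2.2.2.2.2.2.2.2.2.2.2.2.2.2.2.2.2.2.2.2.2.2.2.2.2.2.2.2.2.2.2.2.2.2.2.1
theorem NS.c5e (h : NS z x s u a b e p q v k w f c2 c5 c6) : c5 * e = e * c5 := h.comms.2.2.2.2.2.2.2.2.2.2.2.2.2.2.2.2.2.2.2.2.2.2.2.2.2.2.2.2.2.2.2.2.2.2.2.2.2

theorem NS.eqs (h : NS z x s u a b e p q v k w f c2 c5 c6) :
    u * x = x⁻¹ * u ∧ s * z = z⁻¹ * s ∧ s * x = x⁻¹ * s ∧ p * z = z⁻¹ * p ∧ x * a = a * b * x ∧ x * b =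
    a * x ∧ s = p * q ∧ u = q * e ∧ q = u * e ∧ a = q * c6 ∧ z = p * c2 ∧ x = q * c5 ∧ z * p = c2 *
    z ∧ x * q = c5 * x ∧ f * q = c6 * f ∧ f * c5 = e * f ∧ f * e = q * f ∧ w * a = u * w ∧ w * b = v
    * w ∧ v * e = q * v ∧ e * v = u * v * e ∧ k * u = v * k ∧ k * v = u * v * k ∧ a = u * f * f * x
    ∧ a = e * f * e * u * e * f * e * x ∧ b = x * x * e * f * e * e * f * e * u ∧ b = x * f * f * u
    * f ∧ b = c5 * q * c6 * c5 ∧ p * c2 * p * c2 * p * c2 = 1 ∧ q * c5 * q * c5 * q * c5 = 1 ∧ c5 *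
    c6 * c5 * c6 * c5 * c6 = 1 ∧ c6 * e * c6 * e * c6 * e = 1 ∧ c6 * c5 * c6 * c5 * c6 * c5 = 1 ∧ e
    * c6 * e * c6 * e * c6 = 1 ∧ c2 * p * c2 * p * c2 * p = 1 ∧ c5 * q * c5 * q * c5 * q = 1 := by
  have := PM.holds MS_ok MS_subs h.emb (p := (.and (.eq [3,6] [6,4]) (.and (.eq [1,5] [5,2]) (.and (.eq [3,5] [5,4]) (.and (.eq [1,10] [10,2])
      (.and (.eq [7,3] [3,8,7]) (.and (.eq [8,3] [3,7]) (.and (.eq [5] [11,10]) (.and (.eq [6]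
      [9,11]) (.and (.eq [11] [9,6]) (.and (.eq [7] [18,11]) (.and (.eq [1] [16,10]) (.and (.eq [3]
      [17,11]) (.and (.eq [10,1] [1,16]) (.and (.eq [11,3] [3,17]) (.and (.eq [11,15] [15,18]) (.and
      (.eq [17,15] [15,9]) (.and (.eq [9,15] [15,11]) (.and (.eq [7,14] [14,6]) (.and (.eq [8,14]
      [14,12]) (.and (.eq [9,12] [12,11]) (.and (.eq [12,9] [9,12,6]) (.and (.eq [6,13] [13,12])
      (.and (.eq [12,13] [13,12,6]) (.and (.eq [7] [3,15,15,6]) (.and (.eq [7] [3,9,15,9,6,9,15,9])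
      (.and (.eq [8] [6,9,15,9,9,15,9,3,3]) (.and (.eq [8] [15,6,15,15,3]) (.and (.eq [8]
      [17,18,11,17]) (.and (.eq [16,10,16,10,16,10] []) (.and (.eq [17,11,17,11,17,11] []) (.and
      (.eq [18,17,18,17,18,17] []) (.and (.eq [9,18,9,18,9,18] []) (.and (.eq [17,18,17,18,17,18]
      []) (.and (.eq [18,9,18,9,18,9] []) (.and (.eq [10,16,10,16,10,16] []) (.eq
      [11,17,11,17,11,17] []))))))))))))))))))))))))))))))))))))) (by decide +kernel)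
  simp only [Fm.sem, wv_cons, wv_nil, one_mul, upd_apply, Nat.reduceEqDiff, ↓reduceIte, gMS_1, gMS_2, gMS_3, gMS_4, gMS_5, gMS_6, gMS_7, gMS_8, gMS_9, gMS_10, gMS_11, gMS_12, gMS_13, gMS_14, gMS_15, gMS_16, gMS_17, gMS_18, gMS_s0, gMS_s1, gMS_s2, gMS_s3, gMS_s4, gMS_s5, gMS_s6, gMS_s7, exists_eq_right', h.eN] at this
  exact this

theorem NS.ux (h : NS z x s u a b e p q v k w f c2 c5 c6) : u * x = x⁻¹ * u := h.eqs.1
theorem NS.sz (h : NS z x s u a b e p q v k w f c2 c5 c6) : s * z = z⁻¹ * s := h.eqs.2.1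
theorem NS.sx (h : NS z x s u a b e p q v k w f c2 c5 c6) : s * x = x⁻¹ * s := h.eqs.2.2.1
theorem NS.pz2 (h : NS z x s u a b e p q v k w f c2 c5 c6) : p * z = z⁻¹ * p := h.eqs.2.2.2.1
theorem NS.xa2 (h : NS z x s u a b e p q v k w f c2 c5 c6) : x * a = a * b * x := h.eqs.2.2.2.2.1
theorem NS.xb2 (h : NS z x s u a b e p q v k w f c2 c5 c6) : x * b = a * x := h.eqs.2.2.2.2.2.1
theorem NS.es (h : NS z x s u a b e p q v k w f c2 c5 c6) : s = p * q := h.eqs.2.2.2.2.2.2.1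
theorem NS.eu (h : NS z x s u a b e p q v k w f c2 c5 c6) : u = q * e := h.eqs.2.2.2.2.2.2.2.1
theorem NS.eq (h : NS z x s u a b e p q v k w f c2 c5 c6) : q = u * e := h.eqs.2.2.2.2.2.2.2.2.1
theorem NS.ea2 (h : NS z x s u a b e p q v k w f c2 c5 c6) : a = q * c6 := h.eqs.2.2.2.2.2.2.2.2.2.1
theorem NS.ez (h : NS z x s u a b e p q v k w f c2 c5 c6) : z = p * c2 := h.eqs.2.2.2.2.2.2.2.2.2.2.1
theorem NS.ex (h : NS z x s u a b e p q v k w f c2 c5 c6) : x = q * c5 := h.eqs.2.2.2.2.2.2.2.2.2.2.2.1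
theorem NS.zp (h : NS z x s u a b e p q v k w f c2 c5 c6) : z * p = c2 * z := h.eqs.2.2.2.2.2.2.2.2.2.2.2.2.1
theorem NS.xq (h : NS z x s u a b e p q v k w f c2 c5 c6) : x * q = c5 * x := h.eqs.2.2.2.2.2.2.2.2.2.2.2.2.2.1
theorem NS.fq (h : NS z x s u a b e p q v k w f c2 c5 c6) : f * q = c6 * f := h.eqs.2.2.2.2.2.2.2.2.2.2.2.2.2.2.1
theorem NS.fc5 (h : NS z x s u a b e p q v k w f c2 c5 c6) : f * c5 = e * f := h.eqs.2.2.2.2.2.2.2.2.2.2.2.2.2.2.2.1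
theorem NS.fe (h : NS z x s u a b e p q v k w f c2 c5 c6) : f * e = q * f := h.eqs.2.2.2.2.2.2.2.2.2.2.2.2.2.2.2.2.1
theorem NS.wa (h : NS z x s u a b e p q v k w f c2 c5 c6) : w * a = u * w := h.eqs.2.2.2.2.2.2.2.2.2.2.2.2.2.2.2.2.2.1
theorem NS.wb (h : NS z x s u a b e p q v k w f c2 c5 c6) : w * b = v * w := h.eqs.2.2.2.2.2.2.2.2.2.2.2.2.2.2.2.2.2.2.1
theorem NS.ve (h : NS z x s u a b e p q v k w f c2 c5 c6) : v * e = q * v := h.eqs.2.2.2.2.2.2.2.2.2.2.2.2.2.2.2.2.2.2.2.1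
theorem NS.ev (h : NS z x s u a b e p q v k w f c2 c5 c6) : e * v = u * v * e := h.eqs.2.2.2.2.2.2.2.2.2.2.2.2.2.2.2.2.2.2.2.2.1
theorem NS.ku (h : NS z x s u a b e p q v k w f c2 c5 c6) : k * u = v * k := h.eqs.2.2.2.2.2.2.2.2.2.2.2.2.2.2.2.2.2.2.2.2.2.1
theorem NS.kv (h : NS z x s u a b e p q v k w f c2 c5 c6) : k * v = u * v * k := h.eqs.2.2.2.2.2.2.2.2.2.2.2.2.2.2.2.2.2.2.2.2.2.2.1
theorem NS.af (h : NS z x s u a b e p q v k w f c2 c5 c6) : a = u * f * f * x := h.eqs.2.2.2.2.2.2.2.2.2.2.2.2.2.2.2.2.2.2.2.2.2.2.2.1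
theorem NS.ag (h : NS z x s u a b e p q v k w f c2 c5 c6) : a = e * f * e * u * e * f * e * x := h.eqs.2.2.2.2.2.2.2.2.2.2.2.2.2.2.2.2.2.2.2.2.2.2.2.2.1
theorem NS.bg (h : NS z x s u a b e p q v k w f c2 c5 c6) : b = x * x * e * f * e * e * f * e * u := h.eqs.2.2.2.2.2.2.2.2.2.2.2.2.2.2.2.2.2.2.2.2.2.2.2.2.2.1
theorem NS.bf (h : NS z x s u a b e p q v k w f c2 c5 c6) : b = x * f * f * u * f := h.eqs.2.2.2.2.2.2.2.2.2.2.2.2.2.2.2.2.2.2.2.2.2.2.2.2.2.2.1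
theorem NS.eb (h : NS z x s u a b e p q v k w f c2 c5 c6) : b = c5 * q * c6 * c5 := h.eqs.2.2.2.2.2.2.2.2.2.2.2.2.2.2.2.2.2.2.2.2.2.2.2.2.2.2.2.1
theorem NS.br1 (h : NS z x s u a b e p q v k w f c2 c5 c6) : p * c2 * p * c2 * p * c2 = 1 := h.eqs.2.2.2.2.2.2.2.2.2.2.2.2.2.2.2.2.2.2.2.2.2.2.2.2.2.2.2.2.1
theorem NS.b4 (h : NS z x s u a b e p q v k w f c2 c5 c6) : q * c5 * q * c5 * q * c5 = 1 := h.eqs.2.2.2.2.2.2.2.2.2.2.2.2.2.2.2.2.2.2.2.2.2.2.2.2.2.2.2.2.2.1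
theorem NS.b5 (h : NS z x s u a b e p q v k w f c2 c5 c6) : c5 * c6 * c5 * c6 * c5 * c6 = 1 := h.eqs.2.2.2.2.2.2.2.2.2.2.2.2.2.2.2.2.2.2.2.2.2.2.2.2.2.2.2.2.2.2.1
theorem NS.b6 (h : NS z x s u a b e p q v k w f c2 c5 c6) : c6 * e * c6 * e * c6 * e = 1 := h.eqs.2.2.2.2.2.2.2.2.2.2.2.2.2.2.2.2.2.2.2.2.2.2.2.2.2.2.2.2.2.2.2.1
theorem NS.b5r (h : NS z x s u a b e p q v k w f c2 c5 c6) : c6 * c5 * c6 * c5 * c6 * c5 = 1 := h.eqs.2.2.2.2.2.2.2.2.2.2.2.2.2.2.2.2.2.2.2.2.2.2.2.2.2.2.2.2.2.2.2.2.1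
theorem NS.b6r (h : NS z x s u a b e p q v k w f c2 c5 c6) : e * c6 * e * c6 * e * c6 = 1 := h.eqs.2.2.2.2.2.2.2.2.2.2.2.2.2.2.2.2.2.2.2.2.2.2.2.2.2.2.2.2.2.2.2.2.2.1
theorem NS.b1r (h : NS z x s u a b e p q v k w f c2 c5 c6) : c2 * p * c2 * p * c2 * p = 1 := h.eqs.2.2.2.2.2.2.2.2.2.2.2.2.2.2.2.2.2.2.2.2.2.2.2.2.2.2.2.2.2.2.2.2.2.2.1
theorem NS.b4r (h : NS z x s u a b e p q v k w f c2 c5 c6) : c5 * q * c5 * q * c5 * q = 1 := h.eqs.2.2.2.2.2.2.2.2.2.2.2.2.2.2.2.2.2.2.2.2.2.2.2.2.2.2.2.2.2.2.2.2.2.2.2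

theorem NS.mems (h : NS z x s u a b e p q v k w f c2 c5 c6) :
    p ∈ normalizer (zpowers z : Set G) ∧ q ∈ normalizer (zpowers z : Set G) ∧ v ∈ normalizer (zpowers z
    : Set G) ∧ k ∈ normalizer (zpowers z : Set G) ∧ w ∈ normalizer (zpowers z : Set G) ∧ f ∈
    normalizer (zpowers z : Set G) ∧ c2 ∈ normalizer (zpowers z : Set G) ∧ c5 ∈ normalizer (zpowers
    z : Set G) ∧ c6 ∈ normalizer (zpowers z : Set G) ∧ v ∈ gen [x, u, a, b] ∧ w ∈ gen [x, u, a, b] ∧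
    f ∈ gen [x, u, a, b] := by
  have := PM.holds MS_ok MS_subs h.emb (p := (.and (.ex 0 30 (.eq [10] [30])) (.and (.ex 0 30 (.eq [11] [30])) (.and (.ex 0 30 (.eq [12] [30]))
      (.and (.ex 0 30 (.eq [13] [30])) (.and (.ex 0 30 (.eq [14] [30])) (.and (.ex 0 30 (.eq [15]
      [30])) (.and (.ex 0 30 (.eq [16] [30])) (.and (.ex 0 30 (.eq [17] [30])) (.and (.ex 0 30 (.eq
      [18] [30])) (.and (.ex 3 30 (.eq [12] [30])) (.and (.ex 3 30 (.eq [14] [30])) (.ex 3 30 (.eq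
      [15] [30])))))))))))))) (by decide +kernel)
  simp only [Fm.sem, wv_cons, wv_nil, one_mul, upd_apply, Nat.reduceEqDiff, ↓reduceIte, gMS_1, gMS_2, gMS_3, gMS_4, gMS_5, gMS_6, gMS_7, gMS_8, gMS_9, gMS_10, gMS_11, gMS_12, gMS_13, gMS_14, gMS_15, gMS_16, gMS_17, gMS_18, gMS_s0, gMS_s1, gMS_s2, gMS_s3, gMS_s4, gMS_s5, gMS_s6, gMS_s7, exists_eq_right', h.eN] at this
  exact this

theorem NS.mem_p (h : NS z x s u a b e p q v k w f c2 c5 c6) : p ∈ normalizer (zpowers z : Set G) := h.mems.1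
theorem NS.mem_q (h : NS z x s u a b e p q v k w f c2 c5 c6) : q ∈ normalizer (zpowers z : Set G) := h.mems.2.1
theorem NS.mem_v (h : NS z x s u a b e p q v k w f c2 c5 c6) : v ∈ normalizer (zpowers z : Set G) := h.mems.2.2.1
theorem NS.mem_k (h : NS z x s u a b e p q v k w f c2 c5 c6) : k ∈ normalizer (zpowers z : Set G) := h.mems.2.2.2.1
theorem NS.mem_w (h : NS z x s u a b e p q v k w f c2 c5 c6) : w ∈ normalizer (zpowers z : Set G) := h.mems.2.2.2.2.1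
theorem NS.mem_f (h : NS z x s u a b e p q v k w f c2 c5 c6) : f ∈ normalizer (zpowers z : Set G) := h.mems.2.2.2.2.2.1
theorem NS.mem_c2 (h : NS z x s u a b e p q v k w f c2 c5 c6) : c2 ∈ normalizer (zpowers z : Set G) := h.mems.2.2.2.2.2.2.1
theorem NS.mem_c5 (h : NS z x s u a b e p q v k w f c2 c5 c6) : c5 ∈ normalizer (zpowers z : Set G) := h.mems.2.2.2.2.2.2.2.1
theorem NS.mem_c6 (h : NS z x s u a b e p q v k w f c2 c5 c6) : c6 ∈ normalizer (zpowers z : Set G) := h.mems.2.2.2.2.2.2.2.2.1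
theorem NS.vL (h : NS z x s u a b e p q v k w f c2 c5 c6) : v ∈ gen [x, u, a, b] := h.mems.2.2.2.2.2.2.2.2.2.1
theorem NS.wL (h : NS z x s u a b e p q v k w f c2 c5 c6) : w ∈ gen [x, u, a, b] := h.mems.2.2.2.2.2.2.2.2.2.2.1
theorem NS.fL (h : NS z x s u a b e p q v k w f c2 c5 c6) : f ∈ gen [x, u, a, b] := h.mems.2.2.2.2.2.2.2.2.2.2.2

theorem NS.memD (h : NS z x s u a b e p q v k w f c2 c5 c6) :
    ∀ d ∈ gen [z, x], d * d * d = 1 ∧ s * d * s * d = 1 ∧ (d = 1 ∨ d = z ∨ d = z⁻¹ ∨ d = x ∨ d = x⁻¹ ∨ d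
    = z * x ∨ d = z⁻¹ * x⁻¹ ∨ d = z * x⁻¹ ∨ d = z⁻¹ * x) := by
  have := PM.holds MS_ok MS_subs h.emb (p := (.all 1 30 (.and (.eq [30,30,30] []) (.and (.eq [30,5,30,5] []) (.or (.eq [30] []) (.or (.eq [30]
      [1]) (.or (.eq [30] [2]) (.or (.eq [30] [3]) (.or (.eq [30] [4]) (.or (.eq [30] [3,1]) (.or
      (.eq [30] [4,2]) (.or (.eq [30] [4,1]) (.eq [30] [3,2]))))))))))))) (by decide +kernel)
  simp only [Fm.sem, wv_cons, wv_nil, one_mul, upd_apply, Nat.reduceEqDiff, ↓reduceIte, gMS_1, gMS_2, gMS_3, gMS_4, gMS_5, gMS_6, gMS_7, gMS_8, gMS_9, gMS_10, gMS_11, gMS_12, gMS_13, gMS_14, gMS_15, gMS_16, gMS_17, gMS_18, gMS_s0, gMS_s1, gMS_s2, gMS_s3, gMS_s4, gMS_s5, gMS_s6, gMS_s7, exists_eq_right', h.eN] at this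
  exact this

theorem NS.commD (h : NS z x s u a b e p q v k w f c2 c5 c6) :
    ∀ d ∈ gen [z, x], ∀ g ∈ gen [z, x], d * g = g * d := by
  have := PM.holds MS_ok MS_subs h.emb (p := (.all 1 30 (.all 1 31 (.eq [31,30] [30,31])))) (by decide +kernel)
  simp only [Fm.sem, wv_cons, wv_nil, one_mul, upd_apply, Nat.reduceEqDiff, ↓reduceIte, gMS_1, gMS_2, gMS_3, gMS_4, gMS_5, gMS_6, gMS_7, gMS_8, gMS_9, gMS_10, gMS_11, gMS_12, gMS_13, gMS_14, gMS_15, gMS_16, gMS_17, gMS_18, gMS_s0, gMS_s1, gMS_s2, gMS_s3, gMS_s4, gMS_s5, gMS_s6, gMS_s7, exists_eq_right', h.eN] at this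
  exact this

theorem NS.cD (h : NS z x s u a b e p q v k w f c2 c5 c6) :
    ∀ n ∈ normalizer (zpowers z : Set G), n * z = z * n → n * x = x * n → ((n ∈ gen [z, x] ∨ n * e ∈ gen
    [z, x]) ∧ (n * n = 1 → (n = 1 ∨ n = e))) := by
  have := PM.holds MS_ok MS_subs h.emb (p := (.all 0 30 (.imp (.eq [1,30] [30,1]) (.imp (.eq [3,30] [30,3]) (.and (.or (.ex 1 31 (.eq [30] [31]))
      (.ex 1 31 (.eq [9,30] [31]))) (.imp (.eq [30,30] []) (.or (.eq [30] []) (.eq [30] [9])))))))) (by decide +kernel)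
  simp only [Fm.sem, wv_cons, wv_nil, one_mul, upd_apply, Nat.reduceEqDiff, ↓reduceIte, gMS_1, gMS_2, gMS_3, gMS_4, gMS_5, gMS_6, gMS_7, gMS_8, gMS_9, gMS_10, gMS_11, gMS_12, gMS_13, gMS_14, gMS_15, gMS_16, gMS_17, gMS_18, gMS_s0, gMS_s1, gMS_s2, gMS_s3, gMS_s4, gMS_s5, gMS_s6, gMS_s7, exists_eq_right', h.eN] at this
  exact this

theorem NS.nD (h : NS z x s u a b e p q v k w f c2 c5 c6) :
    ∀ n ∈ normalizer (zpowers z : Set G), (∃ d ∈ gen [z, x], n * x = d * n) → n ∈ gen [z, x, s, u, e] := by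
  have := PM.holds MS_ok MS_subs h.emb (p := (.all 0 30 (.imp (.ex 1 31 (.eq [3,30] [30,31])) (.ex 4 31 (.eq [30] [31]))))) (by decide +kernel)
  simp only [Fm.sem, wv_cons, wv_nil, one_mul, upd_apply, Nat.reduceEqDiff, ↓reduceIte, gMS_1, gMS_2, gMS_3, gMS_4, gMS_5, gMS_6, gMS_7, gMS_8, gMS_9, gMS_10, gMS_11, gMS_12, gMS_13, gMS_14, gMS_15, gMS_16, gMS_17, gMS_18, gMS_s0, gMS_s1, gMS_s2, gMS_s3, gMS_s4, gMS_s5, gMS_s6, gMS_s7, exists_eq_right', h.eN] at this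
  exact this

theorem NS.nE (h : NS z x s u a b e p q v k w f c2 c5 c6) :
    ∀ n ∈ gen [z, x, s, u, e], n * e = e * n ∧ (n ∈ gen [z, p, x, u] ∨ n * e ∈ gen [z, p, x, u]) ∧ (∀ d
    ∈ gen [z, x], ∃ g ∈ gen [z, x], n * d = g * n) := by
  have := PM.holds MS_ok MS_subs h.emb (p := (.all 4 30 (.and (.eq [9,30] [30,9]) (.and (.or (.ex 6 31 (.eq [30] [31])) (.ex 6 31 (.eq [9,30]
      [31]))) (.all 1 31 (.ex 1 32 (.eq [31,30] [30,32]))))))) (by decide +kernel)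
  simp only [Fm.sem, wv_cons, wv_nil, one_mul, upd_apply, Nat.reduceEqDiff, ↓reduceIte, gMS_1, gMS_2, gMS_3, gMS_4, gMS_5, gMS_6, gMS_7, gMS_8, gMS_9, gMS_10, gMS_11, gMS_12, gMS_13, gMS_14, gMS_15, gMS_16, gMS_17, gMS_18, gMS_s0, gMS_s1, gMS_s2, gMS_s3, gMS_s4, gMS_s5, gMS_s6, gMS_s7, exists_eq_right', h.eN] at this
  exact this

theorem NS.cent_e (h : NS z x s u a b e p q v k w f c2 c5 c6) :
    ∀ n ∈ normalizer (zpowers z : Set G), n * e = e * n → n ∈ gen [z, x, s, u, e] := by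
  have := PM.holds MS_ok MS_subs h.emb (p := (.all 0 30 (.imp (.eq [9,30] [30,9]) (.ex 4 31 (.eq [30] [31]))))) (by decide +kernel)
  simp only [Fm.sem, wv_cons, wv_nil, one_mul, upd_apply, Nat.reduceEqDiff, ↓reduceIte, gMS_1, gMS_2, gMS_3, gMS_4, gMS_5, gMS_6, gMS_7, gMS_8, gMS_9, gMS_10, gMS_11, gMS_12, gMS_13, gMS_14, gMS_15, gMS_16, gMS_17, gMS_18, gMS_s0, gMS_s1, gMS_s2, gMS_s3, gMS_s4, gMS_s5, gMS_s6, gMS_s7, exists_eq_right', h.eN] at this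
  exact this

theorem NS.ud (h : NS z x s u a b e p q v k w f c2 c5 c6) :
    ∀ d ∈ gen [z, x], (u * d = d * u ∨ u * d * u * d = 1) → (d = 1 ∨ d = z ∨ d = z⁻¹ ∨ d = x ∨ d = x⁻¹) := by
  have := PM.holds MS_ok MS_subs h.emb (p := (.all 1 30 (.imp (.or (.eq [30,6] [6,30]) (.eq [30,6,30,6] [])) (.or (.eq [30] []) (.or (.eq [30]
      [1]) (.or (.eq [30] [2]) (.or (.eq [30] [3]) (.eq [30] [4])))))))) (by decide +kernel)
  simp only [Fm.sem, wv_cons, wv_nil, one_mul, upd_apply, Nat.reduceEqDiff, ↓reduceIte, gMS_1, gMS_2, gMS_3, gMS_4, gMS_5, gMS_6, gMS_7, gMS_8, gMS_9, gMS_10, gMS_11, gMS_12, gMS_13, gMS_14, gMS_15, gMS_16, gMS_17, gMS_18, gMS_s0, gMS_s1, gMS_s2, gMS_s3, gMS_s4, gMS_s5, gMS_s6, gMS_s7, exists_eq_right', h.eN] at this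
  exact this

theorem NS.tp (h : NS z x s u a b e p q v k w f c2 c5 c6) :
    ∀ i ∈ normalizer (zpowers z : Set G), i * z = z * i → i * i = 1 → i * x * i * x = 1 → (∃ d ∈ gen [z,
    x], d * p = p * d ∧ (i * d = d * q ∨ i * d = d * u)) := by
  have := PM.holds MS_ok MS_subs h.emb (p := (.all 0 30 (.imp (.eq [1,30] [30,1]) (.imp (.eq [30,30] []) (.imp (.eq [3,30,3,30] []) (.ex 1 31
      (.and (.eq [10,31] [31,10]) (.or (.eq [31,30] [11,31]) (.eq [31,30] [6,31]))))))))) (by decide +kernel)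
  simp only [Fm.sem, wv_cons, wv_nil, one_mul, upd_apply, Nat.reduceEqDiff, ↓reduceIte, gMS_1, gMS_2, gMS_3, gMS_4, gMS_5, gMS_6, gMS_7, gMS_8, gMS_9, gMS_10, gMS_11, gMS_12, gMS_13, gMS_14, gMS_15, gMS_16, gMS_17, gMS_18, gMS_s0, gMS_s1, gMS_s2, gMS_s3, gMS_s4, gMS_s5, gMS_s6, gMS_s7, exists_eq_right', h.eN] at this
  exact this

theorem NS.cent_a (h : NS z x s u a b e p q v k w f c2 c5 c6) :
    ∀ n ∈ normalizer (zpowers z : Set G), n * a = a * n → (n * n * n * n = 1 ∨ n * n * n * n = z ∨ n * n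
    * n * n = z⁻¹) := by
  have := PM.holds MS_ok MS_subs h.emb (p := (.all 0 30 (.imp (.eq [7,30] [30,7]) (.or (.eq [30,30,30,30] []) (.or (.eq [30,30,30,30] [1]) (.eq
      [30,30,30,30] [2])))))) (by decide +kernel)
  simp only [Fm.sem, wv_cons, wv_nil, one_mul, upd_apply, Nat.reduceEqDiff, ↓reduceIte, gMS_1, gMS_2, gMS_3, gMS_4, gMS_5, gMS_6, gMS_7, gMS_8, gMS_9, gMS_10, gMS_11, gMS_12, gMS_13, gMS_14, gMS_15, gMS_16, gMS_17, gMS_18, gMS_s0, gMS_s1, gMS_s2, gMS_s3, gMS_s4, gMS_s5, gMS_s6, gMS_s7, exists_eq_right', h.eN] at this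
  exact this

theorem NS.cVz (h : NS z x s u a b e p q v k w f c2 c5 c6) :
    ∀ n ∈ normalizer (zpowers z : Set G), n * a = a * n → n * b = b * n → n * z = z * n → ((n ∈ gen [a,
    b] ∨ n * z⁻¹ ∈ gen [a, b] ∨ n * z ∈ gen [a, b]) ∧ n * n * n * n * n * n = 1 ∧ (n ∈ gen [a, b] ∨
    ¬ n * n = 1)) := by
  have := PM.holds MS_ok MS_subs h.emb (p := (.all 0 30 (.imp (.eq [7,30] [30,7]) (.imp (.eq [8,30] [30,8]) (.imp (.eq [1,30] [30,1]) (.and (.or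
      (.ex 2 31 (.eq [30] [31])) (.or (.ex 2 31 (.eq [2,30] [31])) (.ex 2 31 (.eq [1,30] [31]))))
      (.and (.eq [30,30,30,30,30,30] []) (.or (.ex 2 31 (.eq [30] [31])) (.not (.eq [30,30]
      [])))))))))) (by decide +kernel)
  simp only [Fm.sem, wv_cons, wv_nil, one_mul, upd_apply, Nat.reduceEqDiff, ↓reduceIte, gMS_1, gMS_2, gMS_3, gMS_4, gMS_5, gMS_6, gMS_7, gMS_8, gMS_9, gMS_10, gMS_11, gMS_12, gMS_13, gMS_14, gMS_15, gMS_16, gMS_17, gMS_18, gMS_s0, gMS_s1, gMS_s2, gMS_s3, gMS_s4, gMS_s5, gMS_s6, gMS_s7, exists_eq_right', h.eN] at this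
  exact this

theorem NS.memV (h : NS z x s u a b e p q v k w f c2 c5 c6) :
    ∀ g ∈ gen [a, b], g * g = 1 ∧ g * z = z * g ∧ (∀ d ∈ gen [z, x], ∃ m ∈ gen [a, b], d * g = m * d) := by
  have := PM.holds MS_ok MS_subs h.emb (p := (.all 2 30 (.and (.eq [30,30] []) (.and (.eq [1,30] [30,1]) (.all 1 31 (.ex 2 32 (.eq [30,31]
      [31,32]))))))) (by decide +kernel)
  simp only [Fm.sem, wv_cons, wv_nil, one_mul, upd_apply, Nat.reduceEqDiff, ↓reduceIte, gMS_1, gMS_2, gMS_3, gMS_4, gMS_5, gMS_6, gMS_7, gMS_8, gMS_9, gMS_10, gMS_11, gMS_12, gMS_13, gMS_14, gMS_15, gMS_16, gMS_17, gMS_18, gMS_s0, gMS_s1, gMS_s2, gMS_s3, gMS_s4, gMS_s5, gMS_s6, gMS_s7, exists_eq_right', h.eN] at this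
  exact this

theorem NS.sig0 (h : NS z x s u a b e p q v k w f c2 c5 c6) :
    ∀ m ∈ normalizer (zpowers z : Set G), m * z = z * m → (m = 1 ∨ m = e ∨ (m * m * m * m * m * m = 1 ∧
    ¬ m * m = 1) ∨ (m * m * x * m * x⁻¹ * x⁻¹ * m * x * m * m * x * m * x⁻¹ * x⁻¹ * m * x * m * m *
    x * m * x⁻¹ * x⁻¹ * m * x = 1 ∧ ¬ m * m * x * m * x⁻¹ * x⁻¹ * m * x = 1) ∨ (m * m * x⁻¹ * m * x
    * x * m * x⁻¹ * m * m * x⁻¹ * m * x * x * m * x⁻¹ * m * m * x⁻¹ * m * x * x * m * x⁻¹ = 1 ∧ ¬ m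
    * m * x⁻¹ * m * x * x * m * x⁻¹ = 1) ∨ (m * x * m * x⁻¹ * m * x⁻¹ * m * x * m * x * m * x⁻¹ * m
    * x⁻¹ * m * x * m * x * m * x⁻¹ * m * x⁻¹ * m * x = 1 ∧ ¬ m * x * m * x⁻¹ * m * x⁻¹ * m * x = 1)
    ∨ (m * u * m * u * x * m * x⁻¹ * u * x * m * x⁻¹ * u * m * u * m * u * x * m * x⁻¹ * u * x * m *
    x⁻¹ * u * m * u * m * u * x * m * x⁻¹ * u * x * m * x⁻¹ * u = 1 ∧ ¬ m * u * m * u * x * m * x⁻¹
    * u * x * m * x⁻¹ * u = 1) ∨ (m * u * x * m * x⁻¹ * u * m * u * x * m * x⁻¹ * u * m * u * x * m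
    * x⁻¹ * u = 1 ∧ ¬ m * u * x * m * x⁻¹ * u = 1)) := by
  have := PM.holds MS_ok MS_subs h.emb (p := (.all 0 30 (.imp (.eq [1,30] [30,1]) (.or (.eq [30] []) (.or (.eq [30] [9]) (.or (.and (.eq
      [30,30,30,30,30,30] []) (.not (.eq [30,30] []))) (.or (.and (.eq
      [3,30,4,4,30,3,30,30,3,30,4,4,30,3,30,30,3,30,4,4,30,3,30,30] []) (.not (.eq
      [3,30,4,4,30,3,30,30] []))) (.or (.and (.eq
      [4,30,3,3,30,4,30,30,4,30,3,3,30,4,30,30,4,30,3,3,30,4,30,30] []) (.not (.eq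
      [4,30,3,3,30,4,30,30] []))) (.or (.and (.eq
      [3,30,4,30,4,30,3,30,3,30,4,30,4,30,3,30,3,30,4,30,4,30,3,30] []) (.not (.eq
      [3,30,4,30,4,30,3,30] []))) (.or (.and (.eq
      [6,4,30,3,6,4,30,3,6,30,6,30,6,4,30,3,6,4,30,3,6,30,6,30,6,4,30,3,6,4,30,3,6,30,6,30] [])
      (.not (.eq [6,4,30,3,6,4,30,3,6,30,6,30] []))) (.and (.eq
      [6,4,30,3,6,30,6,4,30,3,6,30,6,4,30,3,6,30] []) (.not (.eq [6,4,30,3,6,30] []))))))))))))) (by decide +kernel)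
  simp only [Fm.sem, wv_cons, wv_nil, one_mul, upd_apply, Nat.reduceEqDiff, ↓reduceIte, gMS_1, gMS_2, gMS_3, gMS_4, gMS_5, gMS_6, gMS_7, gMS_8, gMS_9, gMS_10, gMS_11, gMS_12, gMS_13, gMS_14, gMS_15, gMS_16, gMS_17, gMS_18, gMS_s0, gMS_s1, gMS_s2, gMS_s3, gMS_s4, gMS_s5, gMS_s6, gMS_s7, exists_eq_right', h.eN] at this
  exact this

theorem NS.sig (h : NS z x s u a b e p q v k w f c2 c5 c6) {K : Subgroup G} (hK : ∀ m ∈ K, m ^ 3 = 1 → m = 1)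
    (hx : x ∈ normalizer (K : Set G)) (hu : u ∈ normalizer (K : Set G)) {m : G} (p0 : m ∈ K)
    (hN : m ∈ normalizer (zpowers z : Set G)) (hm : m * z = z * m) : m = 1 ∨ m = e := by
  have ui : u⁻¹ = u := inv_eq_of_mul_eq_one_right h.uu
  have p1 := Odd3.conj_mem_of_norm hx p0
  have p2 := Odd3.conj_mem_of_norm' hx p0
  have p3 := Odd3.conj_mem_of_norm hu p0
  have p4 := Odd3.conj_mem_of_norm hu p1
  rw [ui] at p3 p4
  rcases h.sig0 m hN hm with e | e | e | e | e | e | e | e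
  · exact Or.inl e
  · exact Or.inr e
  · exact absurd (hK _ (by simpa only [mul_assoc] using K.mul_mem p0 (p0))
      (by simpa only [pow_three', mul_assoc] using e.1)) e.2
  · exact absurd (hK _ (by simpa only [mul_assoc] using K.mul_mem p0 (K.mul_mem p0 (K.mul_mem p1 (p2))))
      (by simpa only [pow_three', mul_assoc] using e.1)) e.2
  · exact absurd (hK _ (by simpa only [mul_assoc] using K.mul_mem p0 (K.mul_mem p0 (K.mul_mem p2 (p1))))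
      (by simpa only [pow_three', mul_assoc] using e.1)) e.2
  · exact absurd (hK _ (by simpa only [mul_assoc] using K.mul_mem p0 (K.mul_mem p1 (K.mul_mem p0 (p2))))
      (by simpa only [pow_three', mul_assoc] using e.1)) e.2
  · exact absurd (hK _ (by simpa only [mul_assoc] using K.mul_mem p0 (K.mul_mem p3 (K.mul_mem p1 (p4))))
      (by simpa only [pow_three', mul_assoc] using e.1)) e.2
  · exact absurd (hK _ (by simpa only [mul_assoc] using K.mul_mem p0 (p4))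
      (by simpa only [pow_three', mul_assoc] using e.1)) e.2

theorem NS.five (h : NS z x s u a b e p q v k w f c2 c5 c6) :
    ∀ n ∈ normalizer (zpowers z : Set G), n * n * n * n * n = 1 → (n = 1 ∨ (∃ m ∈ gen [x, u], (m * n = f
    * m ∨ m * n = e * f * e * m) ∨ (m * n * n = f * m ∨ m * n * n = e * f * e * m) ∨ (m * n * n * n
    = f * m ∨ m * n * n * n = e * f * e * m) ∨ m * n * n * n * n = f * m ∨ m * n * n * n * n = e * f
    * e * m)) := by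
  have := PM.holds MS_ok MS_subs h.emb (p := (.all 0 30 (.imp (.eq [30,30,30,30,30] []) (.or (.eq [30] []) (.ex 5 31 (.or (.or (.eq [30,31]
      [31,15]) (.eq [30,31] [31,9,15,9])) (.or (.or (.eq [30,30,31] [31,15]) (.eq [30,30,31]
      [31,9,15,9])) (.or (.or (.eq [30,30,30,31] [31,15]) (.eq [30,30,30,31] [31,9,15,9])) (.or (.eq
      [30,30,30,30,31] [31,15]) (.eq [30,30,30,30,31] [31,9,15,9])))))))))) (by decide +kernel)
  simp only [Fm.sem, wv_cons, wv_nil, one_mul, upd_apply, Nat.reduceEqDiff, ↓reduceIte, gMS_1, gMS_2, gMS_3, gMS_4, gMS_5, gMS_6, gMS_7, gMS_8, gMS_9, gMS_10, gMS_11, gMS_12, gMS_13, gMS_14, gMS_15, gMS_16, gMS_17, gMS_18, gMS_s0, gMS_s1, gMS_s2, gMS_s3, gMS_s4, gMS_s5, gMS_s6, gMS_s7, exists_eq_right', h.eN] at this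
  exact this

theorem NS.cE0 (h : NS z x s u a b e p q v k w f c2 c5 c6) :
    ∀ n ∈ normalizer (zpowers z : Set G), n * p = p * n → n * u = u * n → ((n * e = e * n → ((n = 1 ∨ n
    = p ∨ n = u ∨ n = p * u) ∨ n * e = 1 ∨ n * e = p ∨ n * e = u ∨ n * e = p * u)) ∧ (n * v = v * n
    → ((n = 1 ∨ n = p ∨ n = u ∨ n = p * u) ∨ n * v = 1 ∨ n * v = p ∨ n * v = u ∨ n * v = p * u))) := by
  have := PM.holds MS_ok MS_subs h.emb (p := (.all 0 30 (.imp (.eq [10,30] [30,10]) (.imp (.eq [6,30] [30,6]) (.and (.imp (.eq [9,30] [30,9])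
      (.or (.or (.eq [30] []) (.or (.eq [30] [10]) (.or (.eq [30] [6]) (.eq [30] [6,10])))) (.or
      (.eq [9,30] []) (.or (.eq [9,30] [10]) (.or (.eq [9,30] [6]) (.eq [9,30] [6,10])))))) (.imp
      (.eq [12,30] [30,12]) (.or (.or (.eq [30] []) (.or (.eq [30] [10]) (.or (.eq [30] [6]) (.eq
      [30] [6,10])))) (.or (.eq [12,30] []) (.or (.eq [12,30] [10]) (.or (.eq [12,30] [6]) (.eq
      [12,30] [6,10]))))))))))) (by decide +kernel)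
  simp only [Fm.sem, wv_cons, wv_nil, one_mul, upd_apply, Nat.reduceEqDiff, ↓reduceIte, gMS_1, gMS_2, gMS_3, gMS_4, gMS_5, gMS_6, gMS_7, gMS_8, gMS_9, gMS_10, gMS_11, gMS_12, gMS_13, gMS_14, gMS_15, gMS_16, gMS_17, gMS_18, gMS_s0, gMS_s1, gMS_s2, gMS_s3, gMS_s4, gMS_s5, gMS_s6, gMS_s7, exists_eq_right', h.eN] at this
  exact this

theorem NS.factL (h : NS z x s u a b e p q v k w f c2 c5 c6) :
    ∀ n ∈ gen [x, u, a, b], n * z = z * n ∧ n * p = p * n ∧ (∃ m ∈ gen [x, u, a, b], e * n = m * e) ∧ (n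
    * x = x * n → n * a = a * n → n = 1) ∧ (n * a = a * n → (n = 1 ∨ n = a ∨ n = b ∨ n = a * b)) ∧
    (n * e = e * n → (n * x = x * n ∨ n * x = x⁻¹ * n)) ∧ (n * n = 1 → (n = 1 ∨ (∃ m ∈ gen [x, u, a,
    b], m * a = n * m))) ∧ (n * e * n * e = 1 → (∃ m ∈ gen [x, u, a, b], m * e = n * e * m)) ∧ ¬ n =
    e := by
  have := PM.holds MS_ok MS_subs h.emb (p := (.all 3 30 (.and (.eq [1,30] [30,1]) (.and (.eq [10,30] [30,10]) (.and (.ex 3 31 (.eq [30,9]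
      [9,31])) (.and (.imp (.eq [3,30] [30,3]) (.imp (.eq [7,30] [30,7]) (.eq [30] []))) (.and (.imp
      (.eq [7,30] [30,7]) (.or (.eq [30] []) (.or (.eq [30] [7]) (.or (.eq [30] [8]) (.eq [30]
      [8,7]))))) (.and (.imp (.eq [9,30] [30,9]) (.or (.eq [3,30] [30,3]) (.eq [3,30] [30,4])))
      (.and (.imp (.eq [30,30] []) (.or (.eq [30] []) (.ex 3 31 (.eq [7,31] [31,30])))) (.and (.imp
      (.eq [9,30,9,30] []) (.ex 3 31 (.eq [9,31] [31,9,30]))) (.not (.eq [30] [9])))))))))))) (by decide +kernel)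
  simp only [Fm.sem, wv_cons, wv_nil, one_mul, upd_apply, Nat.reduceEqDiff, ↓reduceIte, gMS_1, gMS_2, gMS_3, gMS_4, gMS_5, gMS_6, gMS_7, gMS_8, gMS_9, gMS_10, gMS_11, gMS_12, gMS_13, gMS_14, gMS_15, gMS_16, gMS_17, gMS_18, gMS_s0, gMS_s1, gMS_s2, gMS_s3, gMS_s4, gMS_s5, gMS_s6, gMS_s7, exists_eq_right', h.eN] at this
  exact this

theorem MS_zz (h : Emb MS.m (gMS z x s u a b e p q v k w f c2 c5 c6)) :
    ∀ n ∈ gen [z, x, s, u, a, b, e], n * n * n = 1 → (a * n = n * a ∨ a * n * a * n = 1) → (b * n = n *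
    b ∨ b * n * b * n = 1) → (u * n = n * u ∨ u * n * u * n = 1) → (n = 1 ∨ n = z ∨ n = z⁻¹) := by
  have := PM.holds MS_ok MS_subs h (p := (.all 0 30 (.imp (.eq [30,30,30] []) (.imp (.or (.eq [30,7] [7,30]) (.eq [30,7,30,7] [])) (.imp (.or
      (.eq [30,8] [8,30]) (.eq [30,8,30,8] [])) (.imp (.or (.eq [30,6] [6,30]) (.eq [30,6,30,6] []))
      (.or (.eq [30] []) (.or (.eq [30] [1]) (.eq [30] [2]))))))))) (by decide +kernel)
  simp only [Fm.sem, wv_cons, wv_nil, one_mul, upd_apply, Nat.reduceEqDiff, ↓reduceIte, gMS_1, gMS_2, gMS_3, gMS_4, gMS_5, gMS_6, gMS_7, gMS_8, gMS_9, gMS_10, gMS_11, gMS_12, gMS_13, gMS_14, gMS_15, gMS_16, gMS_17, gMS_18, gMS_s0, gMS_s1, gMS_s2, gMS_s3, gMS_s4, gMS_s5, gMS_s6, gMS_s7, exists_eq_right'] at this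
  exact this

theorem MS_s (h : Emb MS.m (gMS z x s u a b e p q v k w f c2 c5 c6)) :
    a * a = 1 ∧ b * b = 1 ∧ u * u = 1 ∧ s * z = z⁻¹ * s ∧ s * x = x⁻¹ * s := by
  have := PM.holds MS_ok MS_subs h (p := (.and (.eq [7,7] []) (.and (.eq [8,8] []) (.and (.eq [6,6] []) (.and (.eq [1,5] [5,2]) (.eq [3,5]
      [5,4])))))) (by decide +kernel)
  simp only [Fm.sem, wv_cons, wv_nil, one_mul, upd_apply, Nat.reduceEqDiff, ↓reduceIte, gMS_1, gMS_2, gMS_3, gMS_4, gMS_5, gMS_6, gMS_7, gMS_8, gMS_9, gMS_10, gMS_11, gMS_12, gMS_13, gMS_14, gMS_15, gMS_16, gMS_17, gMS_18, gMS_s0, gMS_s1, gMS_s2, gMS_s3, gMS_s4, gMS_s5, gMS_s6, gMS_s7, exists_eq_right'] at this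
  exact this

theorem MS_cardN (h : Emb MS.m (gMS z x s u a b e p q v k w f c2 c5 c6)) : Nat.card (gen [z, x, s, u, a, b, e]) = 720 := by
  rw [← gMS_s0]; exact PM.card_of_emb MS_ok MS_subs h 0

theorem MS_cardD (h : Emb MS.m (gMS z x s u a b e p q v k w f c2 c5 c6)) : Nat.card (gen [z, x]) = 9 := by
  rw [← gMS_s1]; exact PM.card_of_emb MS_ok MS_subs h 1

theorem MS_cardV (h : Emb MS.m (gMS z x s u a b e p q v k w f c2 c5 c6)) : Nat.card (gen [a, b]) = 4 := by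
  rw [← gMS_s2]; exact PM.card_of_emb MS_ok MS_subs h 2

theorem MS_cardL (h : Emb MS.m (gMS z x s u a b e p q v k w f c2 c5 c6)) : Nat.card (gen [x, u, a, b]) = 60 := by
  rw [← gMS_s3]; exact PM.card_of_emb MS_ok MS_subs h 3

theorem MS_cardE (h : Emb MS.m (gMS z x s u a b e p q v k w f c2 c5 c6)) : Nat.card (gen [z, x, s, u, e]) = 72 := by
  rw [← gMS_s4]; exact PM.card_of_emb MS_ok MS_subs h 4

theorem MS_cardB (h : Emb MS.m (gMS z x s u a b e p q v k w f c2 c5 c6)) : Nat.card (gen [a, b, z, p]) = 24 := by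
  rw [← gMS_s7]; exact PM.card_of_emb MS_ok MS_subs h 7

/-- letters -/
def gMP (g1 g2 g3 g4 g5 g6 g7 : G) : ℕ → G := lf [1, g1, g2, g3, g4, g5, g6, g7]

theorem gMP_0 : gMP g1 g2 g3 g4 g5 g6 g7 0 = 1 := rfl
theorem gMP_1 : gMP g1 g2 g3 g4 g5 g6 g7 1 = g1 := rfl
theorem gMP_2 : gMP g1 g2 g3 g4 g5 g6 g7 2 = g2 := rfl
theorem gMP_3 : gMP g1 g2 g3 g4 g5 g6 g7 3 = g3 := rfl
theorem gMP_4 : gMP g1 g2 g3 g4 g5 g6 g7 4 = g4 := rfl
theorem gMP_5 : gMP g1 g2 g3 g4 g5 g6 g7 5 = g5 := rfl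
theorem gMP_6 : gMP g1 g2 g3 g4 g5 g6 g7 6 = g6 := rfl
theorem gMP_7 : gMP g1 g2 g3 g4 g5 g6 g7 7 = g7 := rfl

@[reducible] def MP : PM where
  w := 7
  n := 8
  cs := [27770475822416768,
    27770475822415879,
    27770475822302976,
    27770475807851392,
    27770473958048640,
    27770237183296384,
    27739930015007616,
    23860612474045312]
  SW := [([[1],[2],[3],[4],[5],[7]],
    [⟨0, [64, 129, 194, 259, 324], [[5, 3, 2], [2, 4, 1]]⟩,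
     ⟨1, [129, 192, 256, 321], [[1, 1, 1], [1, 0, 0, 1, 0, 1, 0, 0, 1]]⟩,
     ⟨2, [257, 320, 193], [[0], [1, 1, 0, 1]]⟩,
     ⟨3, [321, 256], [[0], [1, 0, 1, 0, 1]]⟩,
     ⟨4, [320], [[0, 1]]⟩,
     ⟨6, [448], []⟩])]

instance : NeZero MP.n := ⟨by decide⟩

theorem MP_ok : MP.ok = true := by decide +kernel

theorem MP_subs : MP.subsOK = true := by decide +kernel

theorem gMP_s0 : sub (gMP g1 g2 g3 g4 g5 g6 g7) (MP.W 0) = gen [g1, g2, g3, g4, g5, g7] := by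
  change gen (List.map (wv _) [[1],[2],[3],[4],[5],[7]]) = _
  simp only [List.map_cons, List.map_nil, wv_cons, wv_nil, one_mul, gMP_1, gMP_2, gMP_3, gMP_4, gMP_5, gMP_6, gMP_7]

theorem MP_card (h : Emb MP.m (gMP g1 g2 g3 g4 g5 g6 g7)) : Nat.card (gen [g1, g2, g3, g4, g5, g7]) = 1440 := by
  rw [← gMP_s0]; exact PM.card_of_emb MP_ok MP_subs h 0

end Cfsg.Lib.L3
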