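import Cfsg.Agent.Solv.ManyClasses
import Cfsg.Agent.GW.BSWMain
import Cfsg.Agent.Known.Simple504

/-!
# Groups whose element orders divide one of three coprime numbers

Counting arguments that recognise `PSL₂(q)` from its order and its element orders.
-/

set_option autoImplicit false

namespace Cfsg.Lib.Recog.Tri

open Cfsg.Lib.FT Cfsg.Lib.GW Cfsg.Lib.Known Cfsg.Lib.Perm Cfsg.Lib.Solv Subgroup Matrix
  MatrixGroups Pointwise

variable {G : Type*} [Group G] [Finite G] {a b c m : ℕ}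

/-- The non-identity elements of order dividing `a`. -/
def T (G : Type*) [Group G] (a : ℕ) : Set G := {w | w ≠ 1 ∧ orderOf w ∣ a}

/-- Every element order divides `a` or is prime to it. -/
def Iso (G : Type*) [Group G] (a : ℕ) : Prop := ∀ g : G, orderOf g ∣ a ∨ (orderOf g).Coprime a

omit [Finite G] in
theorem T.conj {w : G} (h : w ∈ T G a) (g : G) : g * w * g⁻¹ ∈ T G a :=
  ⟨conj_ne_one h.1, by rw [orderOf_conj']; exact h.2⟩

theorem Iso.coprime (h : Iso G a) (hm : a.Coprime m) {w : G} (hw : w ∈ T G a) :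
    (Nat.card (𝐂₁ w)).Coprime m := by
  refine Nat.coprime_of_dvd fun r hr h1 h2 => ?_
  have := Fact.mk hr
  obtain ⟨y, hy⟩ := exists_prime_orderOf_dvd_card' r h1
  obtain ⟨s, hs, hd⟩ := Nat.exists_prime_and_dvd (mt orderOf_eq_one_iff.1 hw.1)
  have hra : ¬ r ∣ a := fun e => hr.ne_one (Nat.eq_one_of_dvd_coprimes hm e h2)
  obtain ⟨g, hg⟩ := exists_mixed (mem_cent1.1 y.2).symm hs hr
    (fun e => hra (e ▸ hd.trans hw.2)) hd (by rw [Subgroup.orderOf_coe, hy])
  rcases h g with e | e <;> rw [hg] at e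
  · exact hra ((Dvd.intro_left _ rfl).trans e)
  · exact hs.ne_one (Nat.eq_one_of_dvd_coprimes e (Dvd.intro _ rfl) (hd.trans hw.2))

theorem Iso.card_dvd (h : Iso G a) (hm : a.Coprime m) (hG : Nat.card G = c * m) {w : G}
    (hw : w ∈ T G a) : Nat.card (𝐂₁ w) ∣ c :=
  (h.coprime hm hw).dvd_of_dvd_mul_right (hG ▸ card_subgroup_dvd_card _)

theorem Iso.dvd_ncard (h : Iso G a) (hm : a.Coprime m) (hG : m ∣ Nat.card G) :
    m ∣ (T G a).ncard := by
  classical
  have := Fintype.ofFinite G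
  rw [Set.ncard_eq_toFinset_card', Finset.card_eq_sum_card_image ConjClasses.mk]
  refine Finset.dvd_sum fun C hC => ?_
  obtain ⟨w, hw, rfl⟩ := Finset.mem_image.1 hC
  rw [Set.mem_toFinset] at hw
  rw [← SC.card_isConj_mul_card_centralizer w] at hG
  refine ((h.coprime hm hw).symm.dvd_of_dvd_mul_right hG).trans (dvd_of_eq ?_)
  rw [Nat.card_eq_fintype_card, Fintype.card_subtype]
  congr 1
  ext y
  simp only [Finset.mem_filter, Set.mem_toFinset, Finset.mem_univ, true_and,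
    ConjClasses.mk_eq_mk_iff_isConj, isConj_comm (g := y), iff_and_self]
  intro e
  obtain ⟨g, rfl⟩ := isConj_iff.1 e
  exact T.conj hw g

theorem card_eq (h : ∀ g : G, orderOf g ∣ a ∨ orderOf g ∣ b ∨ orderOf g ∣ c) (hab : a.Coprime b)
    (hac : a.Coprime c) (hbc : b.Coprime c) :
    Nat.card G = 1 + (T G a).ncard + (T G b).ncard + (T G c).ncard := by
  have hd : ∀ {a b : ℕ}, a.Coprime b → Disjoint (T G a) (T G b) := fun hab =>
    Set.disjoint_left.2 fun w h1 h2 =>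
      h1.1 (orderOf_eq_one_iff.1 (Nat.eq_one_of_dvd_coprimes hab h1.2 h2.2))
  have h1 : ∀ a, Disjoint {1} (T G a) := fun a => Set.disjoint_singleton_left.2 fun e => e.1 rfl
  rw [← Set.ncard_singleton (1 : G), ← Set.ncard_union_eq (h1 a), ← Set.ncard_union_eq
    (Set.disjoint_union_left.2 ⟨h1 b, hd hab⟩), ← Set.ncard_union_eq (Set.disjoint_union_left.2
      ⟨Set.disjoint_union_left.2 ⟨h1 c, hd hac⟩, hd hbc⟩), ← Set.ncard_univ]
  congr 1
  refine (Set.eq_univ_of_forall fun g => ?_).symm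
  by_cases e : g = 1
  · simp [e]
  · simpa [T, e, or_assoc] using h g

omit [Finite G] in
theorem iso_of (h : ∀ g : G, orderOf g ∣ a ∨ orderOf g ∣ b ∨ orderOf g ∣ c) (hab : a.Coprime b)
    (hac : a.Coprime c) : Iso G a := fun g => (h g).imp_right fun e =>
  e.elim (fun e => hab.symm.coprime_dvd_left e) fun e => hac.symm.coprime_dvd_left e

/-- The elements conjugating `w` into `A`. -/
def fib (A : Subgroup G) (w : G) : Set G := {g | g * w * g⁻¹ ∈ A}

theorem sum_fib {A : Subgroup G} (hA : ∀ x ∈ A, orderOf x ∣ a) :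
    ∑ w ∈ (T G a).toFinite.toFinset, (fib A w).ncard = Nat.card G * (Nat.card A - 1) := by
  classical
  have := Fintype.ofFinite G
  have h1 : ∀ w, (fib A w).ncard = ∑ g : G, if g * w * g⁻¹ ∈ A then 1 else 0 := fun w => by
    rw [Set.ncard_eq_toFinset_card', ← Finset.card_filter]
    congr 1
    ext
    rw [Set.mem_toFinset]
    simp [fib]
  simp_rw [h1]
  rw [Finset.sum_comm, Nat.card_eq_fintype_card, ← Finset.card_univ, ← smul_eq_mul,
    ← Finset.sum_const]
  refine Finset.sum_congr rfl fun g _ => ?_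
  rw [← Finset.card_filter, ← Set.ncard_coe_finset, ← Set.ncard_image_of_injective _
    (MulAut.conj g).injective]
  change _ = (A : Set G).ncard - 1
  rw [← Set.ncard_sdiff_singleton_of_mem A.one_mem]
  congr 1
  ext x
  simp only [Finset.coe_filter, Set.Finite.mem_toFinset, MulAut.conj_apply, Set.mem_image,
    Set.mem_ofPred_eq, Set.mem_sdiff, SetLike.mem_coe, Set.mem_singleton_iff]
  refine ⟨?_, fun h => ⟨g⁻¹ * x * g⁻¹⁻¹, ⟨T.conj ⟨h.2, hA x h.1⟩ _, by simpa [mul_assoc] using h.1⟩,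
    by group⟩⟩
  rintro ⟨w, ⟨h1, h2⟩, rfl⟩
  exact ⟨h2, conj_ne_one h1.1⟩

/-- An abelian Hall subgroup bounds the number of `a`-elements. -/
theorem ncard_mul_le {A : Subgroup G} (hc : IsMulCommutative A) (hA : ∀ x ∈ A, orderOf x ∣ a)
    (hi : a.Coprime A.index) :
    (T G a).ncard * Nat.card (𝐍 A) ≤ Nat.card G * (Nat.card A - 1) := by
  have hH : IsPiHallOf (piOf a) A ⊤ := pHall_of le_top
    (fun r hr h => by
      have := Fact.mk hr
      obtain ⟨y, hy⟩ := exists_prime_orderOf_dvd_card' r h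
      exact ⟨hr, hy ▸ (Subgroup.orderOf_coe y) ▸ hA y y.2⟩)
    (by rw [relIndex_top_right]; exact coprime_pi'.1 hi)
  rw [← sum_fib hA, Set.ncard_eq_toFinset_card _ (T G a).toFinite, ← smul_eq_mul]
  refine Finset.card_nsmul_le_sum _ _ _ fun w hw => ?_
  rw [Set.Finite.mem_toFinset] at hw
  obtain ⟨g, -, hg⟩ := Many.exists_conj_mem hH (abelian_nil hc) (mem_top w)
    fun r hr h => ⟨hr, h.trans hw.2⟩
  change (𝐍 A : Set G).ncard ≤ _
  rw [← Set.ncard_image_of_injective _ (mul_left_injective g)]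
  refine Set.ncard_le_ncard ?_
  rintro _ ⟨n, hn, rfl⟩
  simpa [fib, mul_assoc] using (memJ_norm hn).2 hg

/-- The recognition in characteristic two. -/
theorem psl2_even {k n : ℕ} (hk : 1 < k) (hkn : 2 * k = 2 ^ n)
    (hG : Nat.card G = (2 * k + 1) * ((2 * k) * (2 * k - 1)))
    (h : ∀ g : G, orderOf g ∣ 2 ∨ orderOf g ∣ 2 * k - 1 ∨ orderOf g ∣ 2 * k + 1)
    {F : Type*} [Field F] [Fintype F] (hF : Fintype.card F = 2 * k) :
    Nonempty (G ≃* PSL(2, F)) := by
  obtain ⟨k, rfl⟩ : ∃ j, k = j + 1 := ⟨k - 1, by omega⟩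
  rw [show 2 * (k + 1) - 1 = 2 * k + 1 by omega] at hG h
  have h1 : (2 : ℕ).Coprime (2 * k + 1) := by simp
  have h2 : (2 : ℕ).Coprime (2 * (k + 1) + 1) := by simp
  have h3 : (2 * k + 1).Coprime (2 * (k + 1) + 1) := by
    rw [show 2 * (k + 1) + 1 = 2 + (2 * k + 1) by ring, Nat.coprime_add_self_right]
    exact h1.symm
  have i1 := iso_of h h1 h2
  have i2 := iso_of (fun g => or_left_comm.1 (h g)) h1.symm h3
  have i3 := iso_of (fun g => or_rotate.2 (h g)) h2.symm h3.symm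
  have hq : 2 * (k + 1) ∣ Nat.card G := hG ▸ (Dvd.intro _ rfl).mul_left _
  obtain ⟨j, hj⟩ := i1.dvd_ncard (h2.mul_right h1) (hG ▸ mul_dvd_mul_left _ (Dvd.intro_left _ rfl))
  obtain ⟨u, hu⟩ := i2.dvd_ncard (hkn ▸ h1.symm.pow_right n) hq
  obtain ⟨v, hv⟩ := i3.dvd_ncard (hkn ▸ h2.symm.pow_right n) hq
  have h4 := card_eq h h1 h2 h3
  rw [hG, hj, hu, hv] at h4
  have h5 : j < 2 * (k + 1) := by
    refine Nat.lt_of_mul_lt_mul_left (a := (2 * (k + 1) + 1) * (2 * k + 1)) ?_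
    nlinarith [Nat.zero_le (2 * (k + 1) * u), Nat.zero_le (2 * (k + 1) * v)]
  have h6 : ((2 * (k + 1) : ℕ) : ℤ) ∣ j - 1 := by
    zify at h4
    exact ⟨2 * (k + 1) * j + u + v - (2 * (k + 1) + 1) * (2 * k + 1), by push_cast; linarith⟩
  obtain rfl : j = 1 := by have := Int.eq_zero_of_abs_lt_dvd h6 (abs_lt.2 ⟨by omega, by omega⟩); omega
  refine psl2_of_count (by omega) hkn (by rw [hG]; rfl) (T G 2) (by rw [hj, mul_one]; rfl)
    (fun g m h1 e => ⟨h1, (i1 g).resolve_right fun e' => h1 ?_⟩) (fun g hg => Nat.le_of_dvd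
      (by omega) (i1.card_dvd (h2.mul_right h1) (by rw [hG]; ring)
        ⟨ne_one_of_orderOf (by decide) hg, hg.dvd⟩)) hF
  rcases m with _ | m
  · exact orderOf_eq_one_iff.1 e
  · exact absurd (Nat.eq_one_of_dvd_coprimes e' (e ▸ dvd_pow_self 2 m.succ_ne_zero) dvd_rfl)
      (by decide)

/-- The hypotheses of the recognition in odd characteristic. -/
structure OddHyp (G : Type*) [Group G] (q e o : ℕ) (x y : G) : Prop where
  even : 2 ∣ e
  q_eq : q = e + o
  adj : o = e + 1 ∨ e = o + 1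
  lt : 1 < o
  card : Nat.card G = 2 * e * (q * o)
  ord : ∀ g : G, orderOf g ∣ q ∨ orderOf g ∣ e ∨ orderOf g ∣ o
  hx : orderOf x = e
  hy : orderOf y = o

namespace OddHyp

variable {q e o : ℕ} {x y : G} (h : OddHyp G q e o x y)
include h

omit [Finite G] in
theorem cop : e.Coprime o ∧ q.Coprime e ∧ q.Coprime o := by
  have h1 : e.Coprime o := by rcases h.adj with e | e <;> simp [e]
  exact ⟨h1, by simpa [h.q_eq] using h1.symm, by simpa [h.q_eq] using h1⟩

omit [Finite G] in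
theorem iso : Iso G e := iso_of (fun g => or_left_comm.1 (h.ord g)) h.cop.2.1.symm h.cop.1

omit [Finite G] in
theorem cop' : e.Coprime (q * o) := h.cop.2.1.symm.mul_right h.cop.1

theorem pos : 0 < e := h.hx ▸ orderOf_pos x

theorem ncard_eq : (T G e).ncard = q * o * (e - 1) := by
  obtain ⟨h1, h2, h3⟩ := h.cop
  have h2e : ∀ {n : ℕ}, n.Coprime e → n.Coprime (2 * e) := fun hn =>
    (hn.coprime_dvd_right h.even).mul_right hn
  have hG := h.card
  have he := h.pos
  have ho := h.lt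
  obtain ⟨k, hk⟩ := (iso_of h.ord h2 h3).dvd_ncard ((h2e h2).mul_right h3)
    ⟨q, by rw [hG]; ring⟩
  obtain ⟨s, hs⟩ := (iso_of (fun g => or_rotate.2 (h.ord g)) h3.symm h1.symm).dvd_ncard
    ((h2e h1.symm).mul_right h3.symm) ⟨o, by rw [hG]; ring⟩
  obtain ⟨m, hm⟩ := h.iso.dvd_ncard h.cop' (hG ▸ Dvd.intro_left _ rfl)
  have h4 := card_eq h.ord h2 h3 h1
  have h5 := (Nat.mul_le_mul_left _ (card_le_of_le (normG _))).trans (ncard_mul_le
    (abelian_zpowers y) (fun z hz => h.hy ▸ orderOf_dvd_of_mem_zpowers hz) (by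
      have := (zpowers y).card_mul_index
      rw [Nat.card_zpowers, h.hy, hG, show 2 * e * (q * o) = o * (2 * e * q) by ring,
        Nat.mul_right_inj (by omega)] at this
      exact this ▸ (h2e h1.symm).mul_right h3.symm))
  rw [Nat.card_zpowers, h.hy, hs, hG] at h5
  rw [hG, hk, hs, hm] at h4
  have hq := h.q_eq
  have hq2 : q * q = 4 * e * o + 1 := by rcases h.adj with e | e <;> rw [hq, e] <;> ring
  have h6 : s ≤ o - 1 := Nat.le_of_mul_le_mul_left (c := 2 * e * (q * o)) (by linarith)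
    (by rw [← hG]; exact Nat.card_pos)
  have h7 : k < q := Nat.lt_of_mul_lt_mul_left (a := 2 * e * o) (by
    nlinarith [Nat.zero_le (q * o * m), Nat.zero_le (2 * e * q * s)])
  have h8 : (q : ℤ) ∣ k - 2 := by
    zify at h4 hq2
    exact ⟨q * k + 2 * o * m + 4 * e * s - 4 * e * o, by linear_combination 2 * h4 - k * hq2⟩
  obtain rfl : k = 2 := by
    have := Int.eq_zero_of_abs_lt_dvd h8 (abs_lt.2 ⟨by omega, by omega⟩); omega
  have h9 : 2 * e * o = q + 2 * e * s + o * m :=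
    Nat.eq_of_mul_eq_mul_left (show 0 < q by omega) (by linarith)
  obtain ⟨j, hj⟩ : o ∣ 1 + 2 * s := h1.symm.dvd_of_dvd_mul_left (by
    zify at h9 hq ⊢
    exact ⟨2 * e - 1 - m, by linear_combination -h9 - hq⟩)
  obtain rfl : j = 1 := by
    rcases j with _ | _ | j
    · omega
    · rfl
    · have := Nat.zero_le (o * j)
      rw [mul_add, mul_add] at hj
      omega
  rw [hm, show m = e - 1 from Nat.eq_of_mul_eq_mul_left (show 0 < o by omega) (by
    zify [he] at *; linear_combination -h9 - hq - e * hj)]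

theorem card_cent {z : G} (hz : z ∈ T G e) : Nat.card (𝐂₁ z) ∣ 2 * e :=
  h.iso.card_dvd h.cop' h.card hz

omit [Finite G] in
theorem mem_T {z : G} (hz : z ∈ zpowers x) (h1 : z ≠ 1) : z ∈ T G e :=
  ⟨h1, h.hx ▸ orderOf_dvd_of_mem_zpowers hz⟩

omit [Finite G] in
theorem ord_dvd {w : G} (hw : orderOf w ∣ 2 * e) : orderOf w ∣ e := (h.iso w).elim id fun c =>
  (c.coprime_dvd_right h.even).dvd_of_dvd_mul_left hw

theorem card_eq_or {C : Subgroup G} (h1 : zpowers x ≤ C) (h2 : Nat.card C ∣ 2 * e) :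
    C = zpowers x ∨ Nat.card C = 2 * Nat.card (zpowers x) := by
  rw [← relIndex_mul_card_of_le h1, Nat.card_zpowers, h.hx] at h2
  rcases (Nat.dvd_prime Nat.prime_two).1 (Nat.dvd_of_mul_dvd_mul_right h.pos h2) with e | e
  · exact Or.inl (le_antisymm (relIndex_eq_one.1 e) h1)
  · exact Or.inr (by rw [← relIndex_mul_card_of_le h1, e])

theorem exists_invol : ∃ t ∈ zpowers x, t * t = 1 ∧ t ≠ 1 ∧
    ∀ s ∈ zpowers x, s * s = 1 → s ≠ 1 → s = t := by
  obtain ⟨t, ht⟩ := exists_prime_orderOf_dvd_card' (G := zpowers x) 2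
    (by rw [Nat.card_zpowers, h.hx]; exact h.even)
  rw [← Subgroup.orderOf_coe] at ht
  refine ⟨t, t.2, mul_self_of_orderOf ht, ne_one_of_orderOf (by decide) ht, fun s hs h1 h2 => ?_⟩
  have := (PG.eq_of_card_eq_of_isCyclic (zpowers_le.2 hs) (zpowers_le.2 t.2))
    (by rw [Nat.card_zpowers, Nat.card_zpowers, ht, orderOf_eq_two h1 h2])
  obtain ⟨k, rfl⟩ := this ▸ mem_zpowers s
  simp only at h2 ⊢
  rw [← zpow_mod_orderOf, ht] at h2 ⊢
  rcases Int.emod_two_eq_zero_or_one k with e | e <;> simp_all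

theorem card_norm {z : G} (hz : z ∈ zpowers x) (hz1 : z ≠ 1) :
    Nat.card (𝐍 (zpowers z)) ∣ 2 * e := by
  refine Nat.Coprime.dvd_of_dvd_mul_right (Nat.coprime_of_dvd fun r hr h1 h2 => ?_)
    (h.card ▸ card_subgroup_dvd_card _)
  have := Fact.mk hr
  obtain ⟨⟨g, hg⟩, hr'⟩ := exists_prime_orderOf_dvd_card' r h1
  rw [orderOf_mk] at hr'
  obtain ⟨t, ht, htt, ht1, hu⟩ := h.exists_invol
  have htt' : g * t * g⁻¹ * (g * t * g⁻¹) = 1 := by rw [conj_mul, htt]; group
  have ht' : g * t * g⁻¹ ∉ zpowers x := fun e => hr.ne_one (Nat.eq_one_of_dvd_coprimes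
    (h.iso.coprime h.cop' (h.mem_T ht ht1)) (hr' ▸ Subgroup.orderOf_dvd_natCard _ (mem_cent1.2
      (mul_inv_eq_iff_eq_mul.1 (hu _ e htt' (conj_ne_one ht1))))) h2)
  have hE : zpowers x ≤ 𝐂₁ z := le_cent1_iff.2 (abelian_le_cent (abelian_zpowers x) hz)
  have hgC : g ∈ 𝐍 (𝐂₁ z) := cent_zpowers z ▸ norms_cent le_rfl hg
  have ht'C := (memJ_norm hgC).2 (hE ht)
  have hC := (h.card_eq_or hE (h.card_cent (h.mem_T hz hz1))).resolve_left fun e => ht' (e ▸ ht'C)
  have hcomm : ∀ w ∈ g •ᶜ zpowers x, g * t * g⁻¹ ∈ 𝐂₁ w := fun w hw =>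
    le_cent1_iff.2 (abelian_le_cent ((abelianJ g).2 (abelian_zpowers x)) hw) (conj_mem_conj_smul g ht)
  have h3 : g * t * g⁻¹ ∈ 𝐂₁ t := mem_cent1.2 (mul_inv_eq_iff_eq_mul.1 (hu _ (mul_mem_of_card hE hC
    (mul_mem ht'C (hE ht)) (inv_mem ht'C) (by rwa [Subgroup.mul_mem_cancel_right _ ht])
    (by rwa [inv_mem_iff])) (by rw [conj_mul, htt]; group) (conj_ne_one ht1)))
  have h4 : g * t * g⁻¹ ∈ 𝐂₁ x := by
    by_cases hx : x ∈ g •ᶜ zpowers x
    · exact hcomm x hx
    have h5 := hcomm _ (mul_mem_of_card (normP.1 hgC ▸ (conjSg g).2 hE)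
      (by rw [card_conj_smul, hC]) (hE (mem_zpowers x)) (hE ht) hx fun e => ht' ?_)
    · exact cent1C.1 ((Subgroup.mul_mem_cancel_right _ (cent1C.1 h3)).1 (cent1C.1 h5))
    · obtain ⟨s, hs, e⟩ := mem_conj_smul_iff_exists.1 e
      have : s * s = 1 := by simpa [← e, conj_mul, mul_inv_eq_one] using htt
      rw [← hu s hs this fun e' => ht1 (by simp [← e, e']), e]
      exact ht
  have hab : IsMulCommutative (𝐂₁ z) := by
    rw [eq_sup_zpowers_of_card hE hC ht'C ht']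
    exact abelianY (abelian_zpowers _) (abelian_zpowers _) (zpowers_le.2 (cent_zpowers x ▸ h4))
  rw [Nat.card_zpowers, h.hx] at hC
  have hre := (h.cop'.coprime_dvd_right h2).symm
  have h5 := ncard_mul_le (a := e) hab (fun w hw => h.ord_dvd (hC ▸ order_dvdG hw)) (by
    have := (𝐂₁ z).card_mul_index
    rw [hC, h.card, Nat.mul_right_inj (by have := h.pos; omega)] at this
    exact this ▸ h.cop')
  have h6 := Nat.le_of_dvd (cardG_gt0 _) (((hre.coprime_dvd_right h.even).mul_right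
    hre).mul_dvd_of_dvd_of_dvd (hr' ▸ Subgroup.orderOf_dvd_natCard _ hgC) (hC ▸ cardSg (normG _)))
  have h7 : 3 ≤ r := by
    have := hr.two_le
    have : r ≠ 2 := by
      rintro rfl
      exact absurd (Nat.eq_one_of_dvd_coprimes hre dvd_rfl h.even) (by decide)
    omega
  rw [h.ncard_eq, hC, h.card] at h5
  have h8 : (e - 1) * 3 ≤ 2 * e - 1 := Nat.le_of_mul_le_mul_left (c := 2 * e * (q * o)) (by
    have := Nat.mul_le_mul_left (q * o * (e - 1)) ((Nat.mul_le_mul_right _ h7).trans h6)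
    linarith) (h.card ▸ Nat.card_pos)
  have h9 : e = 2 := by have := Nat.le_of_dvd h.pos h.even; omega
  obtain rfl := hu z hz (by
    rw [← sq, ← orderOf_dvd_iff_pow_eq_one, ← h9]; exact (h.mem_T hz hz1).2) hz1
  exact ht' (zpowers_le.2 hz ((memJ_norm hg).2 (mem_zpowers z)))

theorem ncard_fib {w : G} (hw : w ∈ T G e) : (fib (zpowers x) w).ncard = 2 * e := by
  have h1 := sum_fib (a := e) (A := zpowers x) fun z hz => h.hx ▸ orderOf_dvd_of_mem_zpowers hz
  have h2 : ∀ w ∈ (T G e).toFinite.toFinset, (fib (zpowers x) w).ncard ≤ 2 * e := fun w hw => by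
    rcases (fib (zpowers x) w).eq_empty_or_nonempty with e | ⟨g, hg⟩
    · simp [e]
    rw [Set.Finite.mem_toFinset] at hw
    refine le_trans ?_ (Nat.le_of_dvd (by have := h.pos; omega) (h.card_norm hg (conj_ne_one hw.1)))
    change _ ≤ (𝐍 (zpowers (g * w * g⁻¹)) : Set G).ncard
    rw [← Set.ncard_image_of_injective _ (mul_left_injective g⁻¹)]
    refine Set.ncard_le_ncard ?_
    rintro _ ⟨k, hk, rfl⟩
    refine normP.2 (PG.eq_of_card_eq_of_isCyclic (A := zpowers x) ?_ (zpowers_le.2 hg)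
      (card_conj_smul _ _))
    rw [conj_smul_zpowers, zpowers_le]
    simpa [mul_assoc, fib] using hk
  refine (Finset.sum_eq_sum_iff_of_le h2).1 ?_ w ((Set.Finite.mem_toFinset _).2 hw)
  rw [h1, Finset.sum_const, ← Set.ncard_eq_toFinset_card, h.ncard_eq, h.card, Nat.card_zpowers, h.hx,
    smul_eq_mul]
  ring

theorem bsw : ∃ t s : G, BSW t s (zpowers x) := by
  obtain ⟨t, ht, htt, ht1, hu⟩ := h.exists_invol
  have hconj : ∀ g, g * t * g⁻¹ ∈ zpowers x → g ∈ 𝐂₁ t := fun g hg => mem_cent1.2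
    (mul_inv_eq_iff_eq_mul.1 (hu _ hg (by rw [conj_mul, htt]; group) (conj_ne_one ht1)))
  have hE : zpowers x ≤ 𝐂₁ t := le_cent1_iff.2 (abelian_le_cent (abelian_zpowers x) ht)
  have hC : Nat.card (𝐂₁ t) = 2 * e := by
    rw [← h.ncard_fib (h.mem_T ht ht1)]
    refine congrArg Set.ncard (Set.ext fun g => ⟨fun hg => ?_, hconj g⟩)
    simpa [fib, mem_cent1.1 hg] using ht
  have hC' : Nat.card (𝐂₁ t) = 2 * Nat.card (zpowers x) := by rw [hC, Nat.card_zpowers, h.hx]
  have hn : ∀ g ∈ 𝐂₁ t, ∀ z ∈ zpowers x, g * z * g⁻¹ ∈ zpowers x := fun g hg z hz => by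
    by_cases e : g ∈ zpowers x
    · exact mul_mem (mul_mem e hz) (inv_mem e)
    · exact mul_mem_of_card hE hC' (mul_mem hg (hE hz)) (inv_mem hg)
        (by rwa [Subgroup.mul_mem_cancel_right _ hz]) (by rwa [inv_mem_iff])
  have hti : ∀ g z, z ∈ zpowers x → z ≠ 1 → g * z * g⁻¹ ∈ zpowers x → g ∈ 𝐂₁ t :=
    fun g z hz hz1 hg => (Set.eq_of_subset_of_ncard_le (s := ((𝐂₁ t : Subgroup G) : Set G))
      (t := fib (zpowers x) z) (fun k hk => hn k hk z hz)
      ((h.ncard_fib (h.mem_T hz hz1)).trans hC.symm).le).ge hg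
  have hex : ∀ w ∈ T G e, ∃ g, g * w * g⁻¹ ∈ zpowers x := fun w hw =>
    Set.nonempty_of_ncard_ne_zero (s := fib (zpowers x) w)
      (by rw [h.ncard_fib hw]; have := h.pos; omega)
  have hsq : ∀ s ∈ 𝐂₁ t, s ∉ zpowers x → s * s = 1 := fun s hs hs' => by
    obtain ⟨g, hg⟩ := hex s ⟨fun e => hs' (e ▸ one_mem _), h.ord_dvd (hC ▸ order_dvdG hs)⟩
    by_contra h1
    have := hn _ (inv_mem (hti g _ (mul_mem_of_card hE hC' hs hs hs' hs') h1
      (by simpa using mul_mem hg hg))) _ hg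
    exact hs' (by simpa [mul_assoc] using this)
  obtain ⟨s, hs, hs'⟩ : ∃ s ∈ 𝐂₁ t, s ∉ zpowers x := SetLike.not_le_iff_exists.1 fun e => by
    have := card_le_of_le e
    have := cardG_gt0 (zpowers x)
    omega
  refine ⟨t, s, htt, ht1, fun a ha b hb => abelian_le_cent (abelian_zpowers x) hb a ha, ht,
    hsq s hs hs', hs', fun a ha => ?_, fun g hg => ?_, fun a ha h1 => ?_,
    fun g z hz h1 hg => mem_cent1.1 (hti g z hz h1 hg), fun a h1 h2 => ?_⟩
  · rw [inv_eq_of_mul_eq_one_right (hsq s hs hs'), eq_inv_iff_mul_eq_one, mul_assoc]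
    exact hsq _ (mul_mem hs (hE ha)) (by rwa [Subgroup.mul_mem_cancel_right _ ha])
  · exact or_iff_not_imp_left.2 (mul_mem_of_card hE hC' hs (mem_cent1.2 hg) hs')
  · exact or_iff_not_imp_left.2 (hu a ha h1)
  · obtain ⟨g, hg⟩ := hex a ⟨h2, (orderOf_eq_two h1 h2).dvd.trans h.even⟩
    exact (isConj_iff.2 ⟨g, hu _ hg (by rw [conj_mul, h1]; group) (conj_ne_one h2)⟩).symm

/-- The recognition in odd characteristic. -/
theorem psl2 {p n : ℕ} (hp : p.Prime) (hq : q = p ^ n) {F : Type*} [Field F] [Fintype F]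
    (hF : Fintype.card F = q) : Nonempty (G ≃* PSL(2, F)) := by
  have := Fact.mk hp
  obtain ⟨t, s, hb⟩ := h.bsw
  obtain ⟨Q, D, hc⟩ := hb.concl
  have hG := h.card
  have hqe := h.q_eq
  have he := h.pos
  have ho := h.lt
  have hD := hc.card_D
  have hG' : 2 * Nat.card G = q * (q + 1) * (q - 1) := by
    rcases h.adj with e' | e'
    · rw [hG, show q + 1 = 2 * o by omega, show q - 1 = 2 * e by omega]; ring
    · rw [hG, show q + 1 = 2 * e by omega, show q - 1 = 2 * o by omega]; ring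
  have hQ : Nat.card Q = q := by
    have h1 := hc.card_G
    rw [hG'] at h1
    rcases lt_trichotomy (Nat.card Q) q with e | e | e
    · exact absurd h1 (Nat.mul_lt_mul_of_lt_of_le (Nat.mul_lt_mul'' e (by omega)) (by omega)
        (by omega)).ne'
    · exact e
    · exact absurd h1 (Nat.mul_lt_mul_of_lt_of_le (Nat.mul_lt_mul'' e (by omega)) (by omega)
        (by omega)).ne
  have hi : Q.index = 2 * e * o := Nat.eq_of_mul_eq_mul_left (cardG_gt0 Q)
    (by rw [Q.card_mul_index, hQ, hG]; ring)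
  have hn : n ≠ 0 := by rintro rfl; rw [pow_zero] at hq; omega
  let P := (IsPGroup.of_card (hQ.trans hq)).toSylow (p := p) fun e => hp.ne_one
    (Nat.eq_one_of_dvd_coprimes (((h.cop.2.1.coprime_dvd_right h.even).mul_right
      h.cop.2.1).mul_right h.cop.2.2) (hq ▸ dvd_pow_self p hn) (hi ▸ e))
  have hN : Nat.card (Sylow p G) = q + 1 := by
    have h1 := card_sup_mul_card_inf_of_le_normalizer (hc.norm ▸ le_sup_right : D ≤ 𝐍 Q)
    rw [← hc.norm, hc.disj, card_bot, mul_one] at h1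
    have h2 := (𝐍 Q).card_mul_index
    rw [P.card_eq_index_normalizer]
    change (𝐍 Q).index = _
    refine Nat.eq_of_mul_eq_mul_left (Nat.mul_pos two_pos (cardG_gt0 (𝐍 Q))) ?_
    rw [mul_assoc, h2, hG', h1, show q - 1 = 2 * Nat.card D by omega, hQ]
    ring
  have hC : ∀ x ∈ (P : Subgroup G), x ≠ 1 → ∀ y : G, y * x = x * y → y ∈ (P : Subgroup G) :=
    fun x hx h1 y hy => hc.cc.mem_of_comm hx h1 hy
  obtain ⟨k, rfl⟩ := h.even
  rcases h.adj with e | e
  · exact psl2_of_sylow_of_mod_four hC (k := k) (by omega) (hQ.trans (by omega)) (by omega)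
      (by rw [hG, hqe, e]; ring) (by omega)
  have hz := z2_of_sylow hC (hN.trans (by rw [← hQ]; rfl)) (by change 1 < Nat.card Q; omega)
  obtain ⟨b, hb, -⟩ := exists_ne_ne_of_three_le (Ω := Sylow p G) (by omega) P P
  have h1 := hz.card_group hb.symm
  rw [hG, hN, Nat.add_sub_cancel, show q + 1 = 2 * (2 * k) by omega, Nat.mul_right_inj (by omega),
    Nat.mul_right_inj (by omega)] at h1
  obtain ⟨K, _, _, hK, ⟨f⟩⟩ := hz.exists_psl hb.symm (by omega) (fun s h2 h3 => by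
    have h4 : s * s ∈ MulAction.stabilizer G P ⊓ MulAction.stabilizer G b :=
      ⟨by simp [mul_smul, h2, h3], by simp [mul_smul, h2, h3]⟩
    rcases h.iso s with h5 | h5
    · exact orderOf_eq_one_iff.1 (Nat.eq_one_of_dvd_coprimes h.cop.1
        (((sq s ▸ orderOf_pow_dvd 2)).trans h5) (h1 ▸ order_dvdG h4))
    · obtain ⟨m, hm⟩ := exists_pow_eq_self_of_coprime (h5.coprime_dvd_right h.even).symm
      exact absurd (h2.symm.trans (hm ▸ pow_mem (sq s ▸ h4.1) m :)) hb) (by omega)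
  obtain ⟨e'⟩ := Class.nonempty_ringEquiv_of_card_eq (F := K) (K := F) (by omega)
  exact ⟨f.trans (Class.pslEquiv (Fin 2) e')⟩

end OddHyp

end Cfsg.Lib.Recog.Tri
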