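import Cfsg.Agent.Fus.Sp4Type

/-!
# A computable model of the centralizer of a 2-central involution of `PSp₄(3)`

The group `W = (SL₂(3) ≀ 2)/⟨(-1,-1)⟩` of order 576.
-/

set_option autoImplicit false

namespace Cfsg.Lib.Recog.U42

open Cfsg.Lib.Known.GL2 Cfsg.Lib.Fus.Grp

/-- Multiplication table of `SL₂(3)`. -/
def mulTab : ℕ := 0x2ba8db400f31d2b889015118394eb7799d7082b34160a1c84b6b127a4496b048e8d06099ae9536022a1ec3c9757546703657b10a8125f3604cb5423483ec0444224de4720d4ca15aeaacd3a02238284dbd4e6430af259c15a67204c3510d7285a8561da973ee6229116dc1278a692d1440ad861b8f58a2d0496f034ec863443ac56491d54005cf310e5ade960b1e2942714ad0a6806e3d24aba60570d819a0d65d49113c0d5a928398a418820bdab49ca307b9ac889015118394eb72ba8db400f31d2b1c84b6b127a4496799d7082b34160a536022a1ec3c975b048e8d06099ae9125f3604cb542347546703657b10a820d4ca15aeaacd383ec0444224de47430af259c15a672a02238284dbd4e661da973ee62291104c3510d7285a850ad861b8f58a2d06dc1278a692d144ac56491d54005cf496f034ec863443942714ad0a6806e310e5ade960b1e29a0d65d49113c0d3d24aba60570d81bdab49ca307b9ac5a928398a418820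

/-- Product of two indices. -/
def mS (a b : Fin 24) : Fin 24 := Fin.ofNat 24 (mulTab >>> (5 * (24 * a.1 + b.1)) % 32)

/-- Inverse of an index. -/
def iS (a : Fin 24) : Fin 24 := Fin.ofNat 24 (0x8ca13a5af51882c29887429697b9a0 >>> (5 * a.1) % 32)

/-- Negative of an index. -/
def nS (a : Fin 24) : Fin 24 := Fin.ofNat 24 (a.1 + 12)

/-- Matrix entries of an index. -/
def ent (a : Fin 24) (k : ℕ) : ZMod 3 :=
  ((0x2c41dc194c153e52d47b8225d12e4b1659f9f0ca9c >>> (7 * a.1) % 128 / 3 ^ k % 3 : ℕ) : ZMod 3)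

theorem ent_det : ∀ a, ent a 0 * ent a 3 - ent a 1 * ent a 2 = 1 := by decide +kernel

theorem ent_mul : ∀ a b, ent (mS a b) 0 = ent a 0 * ent b 0 + ent a 1 * ent b 2 ∧
    ent (mS a b) 1 = ent a 0 * ent b 1 + ent a 1 * ent b 3 ∧
    ent (mS a b) 2 = ent a 2 * ent b 0 + ent a 3 * ent b 2 ∧
    ent (mS a b) 3 = ent a 2 * ent b 1 + ent a 3 * ent b 3 := by decide +kernel

theorem ent_neg : ∀ a, ent (nS a) 0 = -ent a 0 ∧ ent (nS a) 1 = -ent a 1 ∧
    ent (nS a) 2 = -ent a 2 ∧ ent (nS a) 3 = -ent a 3 := by decide +kernel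

theorem ent_inj : ∀ a b, ent a 0 = ent b 0 → ent a 1 = ent b 1 → ent a 2 = ent b 2 →
    ent a 3 = ent b 3 → a = b := by decide +kernel

theorem ent_surj : ∀ x y z w : ZMod 3, x * w - y * z = 1 →
    ∃ a, ent a 0 = x ∧ ent a 1 = y ∧ ent a 2 = z ∧ ent a 3 = w := by decide +kernel

instance fact3 : Fact (Nat.Prime 3) := ⟨Nat.prime_three⟩

/-- The matrix of an index. -/
def mat (a : Fin 24) : SL2 (ZMod 3) :=
  ⟨!![ent a 0, ent a 1; ent a 2, ent a 3], by rw [Matrix.det_fin_two_of]; exact ent_det a⟩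

theorem mat_mul (a b : Fin 24) : mat (mS a b) = mat a * mat b := by
  obtain ⟨h0, h1, h2, h3⟩ := ent_mul a b
  refine Subtype.ext ?_
  change _ = (mat a).1 * (mat b).1
  simp only [mat, Matrix.mul_fin_two, h0, h1, h2, h3]

theorem mat_neg (a : Fin 24) : mat (nS a) = -mat a := by
  obtain ⟨h0, h1, h2, h3⟩ := ent_neg a
  refine Subtype.ext ?_
  change _ = -(mat a).1
  ext i j
  fin_cases i <;> fin_cases j <;> simp [mat, h0, h1, h2, h3]

theorem mat_zero : mat 0 = 1 := by
  refine Subtype.ext ?_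
  change _ = (1 : Matrix (Fin 2) (Fin 2) (ZMod 3))
  rw [Matrix.one_fin_two]
  rfl

theorem mat_inj {a b : Fin 24} (h : mat a = mat b) : a = b := by
  have h' : (mat a).1 = (mat b).1 := congrArg _ h
  exact ent_inj a b (congrFun (congrFun h' 0) 0) (congrFun (congrFun h' 0) 1)
    (congrFun (congrFun h' 1) 0) (congrFun (congrFun h' 1) 1)

theorem mat_surj (x : SL2 (ZMod 3)) : ∃ a, mat a = x := by
  have h := x.2
  rw [Matrix.det_fin_two] at h
  obtain ⟨a, h0, h1, h2, h3⟩ := ent_surj _ _ _ _ h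
  refine ⟨a, Subtype.ext ?_⟩
  simp only [mat, h0, h1, h2, h3]
  exact (Matrix.eta_fin_two x.1).symm

/-- Elements `(a, b) β^e` of `(SL₂(3) ≀ 2)/±1`, with `a` normalized. -/
structure W where
  a : Fin 12
  b : Fin 24
  e : Bool
  deriving DecidableEq

namespace W

/-- The index of the first coordinate. -/
def up (x : W) : Fin 24 := ⟨x.a.1, by omega⟩

/-- Normalization. -/
def nrm (x y : Fin 24) (e : Bool) : W := ⟨Fin.ofNat 12 x.1, if x.1 < 12 then y else nS y, e⟩

instance : Mul W := ⟨fun x y => cond x.e (nrm (mS x.up y.b) (mS x.b y.up) (!y.e))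
  (nrm (mS x.up y.up) (mS x.b y.b) y.e)⟩

instance : One W := ⟨⟨0, 0, false⟩⟩

instance : Inv W := ⟨fun x => cond x.e (nrm (iS x.b) (iS x.up) true) (nrm (iS x.up) (iS x.b) false)⟩

instance decForall (P : W → Prop) [DecidablePred P] : Decidable (∀ x, P x) :=
  decidable_of_iff (∀ a b e, P ⟨a, b, e⟩) ⟨fun h x => h x.a x.b x.e, fun h _ _ _ => h _⟩

instance decExists (P : W → Prop) [DecidablePred P] : Decidable (∃ x, P x) :=
  decidable_of_iff (∃ a b e, P ⟨a, b, e⟩) ⟨fun ⟨_, _, _, h⟩ => ⟨_, h⟩, fun ⟨x, h⟩ => ⟨x.a, x.b, x.e, h⟩⟩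

/-- The model as a product. -/
def equivProd : W ≃ Fin 12 × Fin 24 × Bool where
  toFun x := (x.a, x.b, x.e)
  invFun x := ⟨x.1, x.2.1, x.2.2⟩
  left_inv _ := rfl
  right_inv _ := rfl

instance : Fintype W := Fintype.ofEquiv _ equivProd.symm

theorem card_eq : Nat.card W = 576 := by
  rw [Nat.card_congr equivProd]; simp

theorem nrm_up_aux : ∀ x : Fin 24, (x.1 < 12 → ∀ y e, (nrm x y e).up = x) ∧
    (¬ x.1 < 12 → ∀ y e, nS (nrm x y e).up = x) := by
  intro x
  refine ⟨fun h y e => Fin.ext ?_, fun h y e => Fin.ext ?_⟩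
  · simp [nrm, up, Fin.ofNat, Nat.mod_eq_of_lt h]
  · simp only [nrm, up, nS, Fin.ofNat]; omega

theorem nS_nS : ∀ x, nS (nS x) = x := by decide

variable {G : Type*} [Group G] (D : WrData G (ZMod 3))

/-- The element of the group. -/
def emb (x : W) : G := D.ψ (mat x.up, mat x.b) * cond x.e D.w 1

theorem emb_nrm (x y : Fin 24) (e : Bool) :
    emb D (nrm x y e) = D.ψ (mat x, mat y) * cond e D.w 1 := by
  by_cases h : x.1 < 12
  · rw [emb, (nrm_up_aux x).1 h]
    simp only [nrm, if_pos h]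
  · have h1 : mat x = -mat (nrm x y e).up := by rw [← mat_neg, (nrm_up_aux x).2 h y e]
    have h2 : mat y = -mat (nS y) := by rw [← mat_neg, nS_nS]
    rw [h1, h2, D.neg]
    simp only [emb, nrm, if_neg h]

theorem emb_mul (x y : W) : emb D (x * y) = emb D x * emb D y := by
  obtain ⟨a, b, e⟩ := x
  obtain ⟨a', b', e'⟩ := y
  cases e
  · change emb D (nrm _ _ _) = _
    rw [emb_nrm, mat_mul, mat_mul, ← D.mul]
    simp only [emb, cond, mul_one, mul_assoc]
  · change emb D (nrm _ _ _) = _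
    rw [emb_nrm, mat_mul, mat_mul, ← D.mul]
    simp only [emb, cond]
    rw [mul_assoc, mul_assoc, ← mul_assoc D.w, D.w_mul, mul_assoc]
    cases e' <;> simp [D.w_sq]

theorem up_ne_neg : ∀ a a' : Fin 12, (⟨a.1, by omega⟩ : Fin 24) ≠ nS ⟨a'.1, by omega⟩ := by decide

theorem emb_inj : Function.Injective (emb D) := by
  rintro ⟨a, b, e⟩ ⟨a', b', e'⟩ h
  have key : ∀ {z : G}, D.ψ (mat (up ⟨a, b, e⟩), mat b) * z = D.ψ (mat (up ⟨a', b', e'⟩), mat b') * z →
      a = a' ∧ b = b' := fun h => by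
    rcases D.eq_iff.1 (mul_right_cancel h) with ⟨h1, h2⟩ | ⟨h1, h2⟩
    · exact ⟨Fin.ext (congrArg Fin.val (mat_inj h1) :), mat_inj h2⟩
    · rw [← mat_neg] at h1
      exact absurd (mat_inj h1) (up_ne_neg a a')
  cases e <;> cases e'
  · obtain ⟨rfl, rfl⟩ := key h; rfl
  · exact absurd (by simpa [emb] using h) (D.ne_mul_w _ _ _ _)
  · exact absurd (by simpa [emb] using h.symm) (D.ne_mul_w _ _ _ _)
  · obtain ⟨rfl, rfl⟩ := key h; rfl

/-- The data in `PSp₄(3)`. -/
noncomputable def dP : WrData (PSp 2 (ZMod 3)) (ZMod 3) := wrDataPSp4 (by decide)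

instance : Group W := Group.ofLeftAxioms
  (fun x y z => emb_inj dP (by simp only [emb_mul, mul_assoc]))
  (by decide +kernel) (by decide +kernel)

/-- The embedding as a homomorphism. -/
def embHom : W →* G := MonoidHom.mk' (emb D) (emb_mul D)

/-- The central involution. -/
def t : W := ⟨0, 12, false⟩

theorem embHom_t : embHom D t = D.ψ (1, -1) := by
  change D.ψ (mat 0, mat (nS 0)) * 1 = _
  rw [mat_neg, mat_zero, mul_one]

theorem t_comm : ∀ x : W, x * t = t * x := by decide +kernel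

theorem range_embHom : (embHom D).range = Subgroup.centralizer {embHom D t} := by
  ext g
  rw [Subgroup.mem_centralizer_singleton_iff]
  constructor
  · rintro ⟨x, rfl⟩
    rw [← map_mul, ← map_mul, t_comm]
  · intro h
    rw [embHom_t] at h
    obtain ⟨x, y, h⟩ := D.cent g h
    obtain ⟨a, rfl⟩ := mat_surj x
    obtain ⟨b, rfl⟩ := mat_surj y
    rcases h with rfl | rfl
    · exact ⟨nrm a b false, (emb_nrm D a b false).trans (mul_one _)⟩
    · exact ⟨nrm a b true, emb_nrm D a b true⟩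

/-- The swap. -/
def β : W := ⟨0, 0, true⟩

/-- The product of the swap and the central involution. -/
def γ : W := ⟨0, 12, true⟩

/-- A noncentral involution of `O₂(W)`. -/
def u : W := ⟨1, 1, false⟩

/-- The further conjugates of `β` commuting with `β`. -/
def p (k : Fin 3) : W := ⟨⟨k.1 + 1, by omega⟩, ⟨k.1 + 13, by omega⟩, true⟩

/-- Elements of order 4 swapping `β` and `p k`. -/
def q (k : Fin 3) : W := ⟨⟨k.1 + 1, by omega⟩, 0, false⟩

/-- A diagonal element of order 3. -/
def δ : W := ⟨4, 4, false⟩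

/-- A conjugate of `β` not commuting with `β`. -/
def α : W := ⟨4, iS 4, true⟩

/-- The class of `u`. -/
def IsU (x : W) : Prop := x.e = false ∧ x * x = 1 ∧ x ≠ 1 ∧ x ≠ t

/-- The class of `β`. -/
def IsB (x : W) : Prop := x.e = true ∧ mS x.up x.b = 0

/-- The class of `γ`. -/
def IsC (x : W) : Prop := x.e = true ∧ mS x.up x.b = 12

/-- Membership in the Sylow 2-subgroup. -/
def InT (x : W) : Prop := x.a.1 < 4 ∧ x.b.1 % 12 < 4

instance : DecidablePred IsU := fun _ => by unfold IsU; infer_instance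
instance : DecidablePred IsB := fun _ => by unfold IsB; infer_instance
instance : DecidablePred IsC := fun _ => by unfold IsC; infer_instance
instance : DecidablePred InT := fun _ => by unfold InT; infer_instance

theorem cases_inv : ∀ x : W, x * x = 1 → x = 1 ∨ x = t ∨ IsU x ∨ IsB x ∨ IsC x := by decide +kernel

theorem IsU.exists : ∀ x : W, IsU x → ∃ g, g * u * g⁻¹ = x := by decide +kernel
theorem IsB.exists : ∀ x : W, IsB x → ∃ g, g * β * g⁻¹ = x := by decide +kernel
theorem IsC.exists : ∀ x : W, IsC x → ∃ g, g * γ * g⁻¹ = x := by decide +kernel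
theorem isU_conj : ∀ g : W, IsU (g * u * g⁻¹) := by decide +kernel
theorem isB_conj : ∀ g : W, IsB (g * β * g⁻¹) := by decide +kernel
theorem isC_conj : ∀ g : W, IsC (g * γ * g⁻¹) := by decide +kernel
theorem not_isB_of_isC : ∀ x : W, IsC x → ¬ IsB x := by decide +kernel
theorem isB_t_mul : ∀ x : W, IsC x → IsB (t * x) := by decide +kernel

theorem e_mul (x y : W) : (x * y).e = xor x.e y.e := by
  obtain ⟨a, b, e⟩ := x
  obtain ⟨a', b', e'⟩ := y
  cases e <;> cases e' <;> rfl

theorem t_mul_t : t * t = 1 := by decide +kernel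
theorem t_mul_β : t * β = γ := by decide +kernel
theorem t_mul_γ : t * γ = β := by decide +kernel
theorem β_mul_t : β * t = γ := by decide +kernel
theorem γ_mul_t : γ * t = β := by decide +kernel
theorem isU_t_mul_u : IsU (t * u) := by decide +kernel

theorem inT_mul : ∀ x : W, InT x → ∀ y : W, InT y → InT (x * y) := by decide +kernel
theorem inT_inv : ∀ x : W, InT x → InT x⁻¹ := by decide +kernel
theorem inT_four : ∀ x : W, InT x → x * x * x * x = 1 := by decide +kernel

/-- The Sylow 2-subgroup. -/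
def T : Subgroup W where
  carrier := {x | InT x}
  mul_mem' := fun hx hy => inT_mul _ hx _ hy
  one_mem' := by decide
  inv_mem' := fun hx => inT_inv _ hx

theorem card_T : Nat.card T = 64 := by
  change Nat.card {x // InT x} = 64
  rw [Nat.card_eq_fintype_card, Fintype.card_subtype]
  decide +kernel

theorem center_T : ∀ x : W, x * β = β * x → x * q 0 = q 0 * x → x * q 1 = q 1 * x →
    x = 1 ∨ x = t := by decide +kernel

theorem comm_of_inT : ∀ x : W, InT x → IsB x → ∀ y : W, InT y → IsB y → x * y = y * x := by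
  decide +kernel

theorem cent_u : ∀ x : W, x * u = u * x → x * x * x * x = 1 := by decide +kernel

theorem δ_facts : δ * β = β * δ ∧ δ * γ = γ * δ ∧ δ * δ * δ * δ ≠ 1 := by decide +kernel

theorem p_facts : ∀ k, q k * β * (q k)⁻¹ = p k ∧ q k * p k * (q k)⁻¹ = β ∧ IsB (p k) ∧
    p k * β = β * p k ∧ p k * γ = γ * p k ∧ p k * p k = 1 ∧ p k ≠ β ∧ p k ≠ 1 ∧ p k ≠ t ∧
    IsU (p k * γ) ∧ ∀ j, p k * p j = p j * p k ∧ (p k = p j → k = j) := by decide +kernel

theorem prod_p : p 0 * p 1 * p 2 = γ ∧ p 0 * γ * (p 1 * γ) = p 2 * γ := by decide +kernel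

theorem line_cases : ∀ x : W, IsB x → x * β = β * x → x = β ∨ ∃ k, x = p k := by decide +kernel

theorem three_lines : IsB α ∧ α * β ≠ β * α ∧ β * α * β * β ≠ β * (β * α * β) ∧
    α * (β * α * β) ≠ β * α * β * α ∧
    ∀ x : W, IsB x → x * β = β * x ∨ x * α = α * x ∨ x * (β * α * β) = β * α * β * x := by
  decide +kernel

theorem cent_B : ∀ x : W, x * β = β * x → x * α = α * x → x * p 0 = p 0 * x → x = 1 ∨ x = t := by
  decide +kernel

/-- The automorphism interchanging the classes of `β` and `γ`. -/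
def flip : W ≃* W where
  toFun x := cond x.e (x * t) x
  invFun x := cond x.e (x * t) x
  left_inv := by decide +kernel
  right_inv := by decide +kernel
  map_mul' x y := by
    rw [e_mul]
    cases x.e <;> cases y.e <;> simp only [cond, Bool.xor_false, Bool.xor_true, Bool.not_true,
      Bool.not_false]
    · rw [mul_assoc]
    · rw [mul_assoc, t_comm, mul_assoc]
    · rw [mul_assoc, t_comm y, ← mul_assoc t, t_mul_t, one_mul]

theorem flip_facts : flip t = t ∧ flip β = γ ∧ flip γ = β ∧ flip u = u := by decide +kernel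

end W

end Cfsg.Lib.Recog.U42
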