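import Cfsg.Agent.Recog.X32Mod
import Mathlib.GroupTheory.SpecificGroups.Alternating.Simple

/-! Involution centralizers `2^(1+4).S₃`: the alternating group of degree eight. -/

set_option autoImplicit false
set_option maxRecDepth 100000
set_option linter.unusedSimpArgs false
set_option linter.unusedSectionVars false
set_option maxHeartbeats 1000000

namespace Cfsg.Lib.X32

open Subgroup Cfsg.Lib.Spor Cfsg.Lib.Spor.Bulk Cfsg.Lib.Spor.PK Cfsg.Lib.Spor.WF Cfsg.Lib.Local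

variable {G : Type*} [Group G] [Finite G] {Q : Subgroup G} {T : Tup G} {n m : G}

theorem H0.badw (h : H0 Q T) :
    T.t * T.z * T.t * T.b0 * T.a0 * T.b0 * T.a0 = T.z ∧ T.b0 * T.a0 * T.a0 * T.t * T.b0 * T.a0 * T.z *
    T.t * T.b0 * T.a0 = T.z * T.b0 ∧ T.t * T.z * T.z = T.t := by
  have := PM.holds M0_ok M0_subs h.emb (p := (.and (.eq [1,3,1,3,8,5,8] [5]) (.and (.eq [1,3,8,5,1,3,8,1,1,3] [3,5]) (.eq [5,5,8] [8])))) (by decide +kernel)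
  simp only [Fm.sem, wv_cons, wv_nil, one_mul, upd_apply, Nat.reduceEqDiff, ↓reduceIte, Tup.gH_1, Tup.gH_2, Tup.gH_3, Tup.gH_4, Tup.gH_5, Tup.gH_6, Tup.gH_7, Tup.gH_8, h.eH, h.eQ', e0A] at this
  exact this

theorem H0.eqs2 (h : H0 Q T) :
    T.t * T.a1 * T.t = T.a0 * T.a1 ∧ T.a0 * T.z * T.a0 = T.z ∧ T.z * T.a0 * T.a0 * T.z * T.a0 = T.a0 ∧
    T.t * T.b0 * T.t = T.b0 ∧ T.z * T.a0 * T.a0 = T.z ∧ ¬ T.z * T.a0 = T.a0 ∧ ¬ T.z = T.a0 * T.z ∧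
    T.x * T.t * T.a0 * T.a1 * T.z = T.a0 * T.a1 * T.z * T.x * T.t ∧ T.z * T.a1 * T.a0 = T.a0 * T.a1
    * T.z ∧ T.a0 * T.a1 * T.z * T.a0 * T.a1 * T.z = 1 ∧ T.x * T.t * T.a0 * T.a1 * T.z * T.b0 * T.x *
    T.t * T.a0 * T.a1 * T.z = T.b1 * T.z ∧ T.x * T.t * T.a0 * T.a1 * T.z * T.x * T.t * T.a0 * T.a1 *
    T.z = 1 ∧ T.a0 * T.z * T.a0 * T.z = 1 ∧ T.a0 * T.t * T.z * T.a0 * T.b0 * T.t * T.b0 * T.z = 1 ∧
    T.a1 * T.t * T.a0 * T.a1 = T.t ∧ T.a1 * T.t * T.z * T.a0 * T.a1 = T.t * T.z ∧ T.b0 * T.a1 * T.a0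
    * T.z * T.a0 * T.b0 = T.a1 ∧ T.a1 * T.z * T.t * T.a0 * T.a1 = T.t * T.z ∧ T.a1 * T.a0 * T.a1 =
    T.a0 ∧ T.a1 * T.z * T.a1 = T.z ∧ T.b1 * T.z * T.b1 = T.z ∧ T.b1 * T.b0 * T.b1 = T.b0 ∧ T.b1 *
    T.a1 * T.b1 = T.a1 ∧ T.b0 * T.a0 * T.b0 = T.a0 ∧ T.b0 * T.z * T.b0 = T.z ∧ T.a0 * T.b0 * T.z *
    T.a0 * T.z = T.b0 ∧ T.b0 * T.a0 * T.z = T.a0 * T.b0 * T.z ∧ T.z * T.t * T.a0 = T.t * T.z * T.a0
    ∧ T.z * T.t * T.z = T.t ∧ T.z * T.b0 * T.z = T.b0 ∧ T.z * T.b1 * T.z = T.b1 ∧ T.z * T.a0 * T.z =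
    T.a0 := by
  have := PM.holds M0_ok M0_subs h.emb (p := (.and (.eq [8,2,8] [2,1]) (.and (.eq [1,5,1] [5]) (.and (.eq [1,5,1,1,5] [1]) (.and (.eq [8,3,8]
      [3]) (.and (.eq [1,1,5] [5]) (.and (.not (.eq [1,5] [1])) (.and (.not (.eq [5] [5,1])) (.and
      (.eq [5,2,1,8,6] [8,6,5,2,1]) (.and (.eq [1,2,5] [5,2,1]) (.and (.eq [5,2,1,5,2,1] []) (.and
      (.eq [5,2,1,8,6,3,5,2,1,8,6] [5,4]) (.and (.eq [5,2,1,8,6,5,2,1,8,6] []) (.and (.eq [5,1,5,1]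
      []) (.and (.eq [5,3,8,3,1,5,8,1] []) (.and (.eq [2,1,8,2] [8]) (.and (.eq [2,1,5,8,2] [5,8])
      (.and (.eq [3,1,5,1,2,3] [2]) (.and (.eq [2,1,8,5,2] [5,8]) (.and (.eq [2,1,2] [1]) (.and (.eq
      [2,5,2] [5]) (.and (.eq [4,5,4] [5]) (.and (.eq [4,3,4] [3]) (.and (.eq [4,2,4] [2]) (.and
      (.eq [3,1,3] [1]) (.and (.eq [3,5,3] [5]) (.and (.eq [5,1,5,3,1] [3]) (.and (.eq [5,1,3]
      [5,3,1]) (.and (.eq [1,8,5] [1,5,8]) (.and (.eq [5,8,5] [8]) (.and (.eq [5,3,5] [3]) (.and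
      (.eq [5,4,5] [4]) (.eq [5,1,5] [1]))))))))))))))))))))))))))))))))) (by decide +kernel)
  simp only [Fm.sem, wv_cons, wv_nil, one_mul, upd_apply, Nat.reduceEqDiff, ↓reduceIte, Tup.gH_1, Tup.gH_2, Tup.gH_3, Tup.gH_4, Tup.gH_5, Tup.gH_6, Tup.gH_7, Tup.gH_8, h.eH, h.eQ', e0A] at this
  exact this

@[reducible] def MA : PM where
  w := 7
  n := 8
  cs := [27770475822416768,
    11945586738118663,
    23859648536777102,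
    8005177553207303,
    23859646599467413,
    19735718352213276,
    15978114293404039,
    23767297061781539,
    19704933905681962,
    23860373805337230,
    23860373790770965]
  SW := [([[1],[2],[3],[4],[5],[6],[7],[8],[9],[10]],
    [⟨0, [64, 129, 195, 260, 325, 391, 450], [[0, 5, 1, 8], [4, 3, 1, 1, 9, 0]]⟩,
     ⟨2, [256, 449, 64, 320, 192, 384], [[1, 1, 0], [1, 0, 0]]⟩,
     ⟨1, [192, 320, 256, 449, 385], [[0, 0, 1, 0, 1, 0, 0], [0, 0, 0, 1, 0, 1, 0]]⟩,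
     ⟨3, [385, 321, 448, 256], [[1, 0, 1, 1], [0]]⟩,
     ⟨4, [384, 321, 448], [[0, 0, 1]]⟩,
     ⟨5, [448, 384], []⟩]),
   ([[1],[2],[3],[4],[5],[6],[7],[8]],
    [⟨0, [64, 129, 195, 260, 325, 391, 450], [[0, 5], [7, 2, 4]]⟩,
     ⟨2, [64, 449, 320, 192, 384], [[1, 0, 0, 1, 0, 1], [0, 1, 0, 0]]⟩,
     ⟨1, [320, 449, 385], []⟩]),
   ([[1],[3],[5],[8],[4,2]],
    [⟨0, [64, 258, 387], [[3, 1, 2], [2, 4]]⟩,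
     ⟨2, [448, 321, 192], [[1]]⟩,
     ⟨1, [384], []⟩]),
   ([[5,3,1],[4,2],[5]],
    [⟨0, [256], [[0, 1], [0, 2]]⟩,
     ⟨1, [384], [[1]]⟩,
     ⟨2, [192], []⟩]),
   ([[1],[3],[5],[8]],
    [⟨0, [64, 258, 387], [[3, 2, 0], [3, 1, 2]]⟩,
     ⟨2, [320, 449, 193], []⟩]),
   ([[5,3,1],[5,8]],
    [⟨0, [256, 65, 385], []⟩]),
   ([[1],[3],[5],[8],[4,2],[10,4,9,2]],
    [⟨0, [64, 258, 387], [[3, 4, 3], [0, 5, 0]]⟩,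
     ⟨2, [192, 449, 321], [[1, 1, 0, 1], [1, 0, 1, 1]]⟩,
     ⟨1, [384], [[1, 0]]⟩,
     ⟨3, [320, 448], []⟩]),
   ([[5,3,1],[5,8],[10,4,9,2],[4,2],[3,7,5,8,6,3]],
    [⟨0, [256, 65, 196, 385, 132, 322], [[1, 4, 1, 0, 4, 2, 1, 2, 4], [0, 1, 4, 1, 0, 2]]⟩,
     ⟨2, [192, 65, 385, 321, 256], [[1, 1, 1, 0], [1, 0, 1, 1, 0]]⟩,
     ⟨1, [384, 321, 256, 193], [[0, 1, 1], [0, 1, 0]]⟩,
     ⟨3, [256, 384, 321], [[0, 0, 1, 0, 0]]⟩,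
     ⟨4, [384, 320], []⟩])]

instance : NeZero MA.n := ⟨by decide⟩

theorem MA_ok : MA.ok = true := by decide +kernel

theorem MA_subs : MA.subsOK = true := by decide +kernel

theorem MA_sat : MA.satB 11 io rA = true := by decide +kernel

theorem MA_top : sub MA.m (MA.W 0) = alternatingGroup (Fin 8) := by
  refine Equiv.Perm.eq_alternatingGroup_of_index_eq_two ?_
  have := (sub MA.m (MA.W 0)).card_mul_index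
  rw [PM.card_sub MA_ok MA_subs 0, Nat.card_perm, Nat.card_eq_fintype_card, Fintype.card_fin,
    show certOrder (MA.K 0) = 20160 by decide +kernel, show Nat.factorial MA.n = 40320 by decide] at this
  omega

/-- The generators satisfy the relations of the alternating group of degree eight. -/
structure A8 (Q : Subgroup G) (T : Tup G) (n m : G) : Prop extends H0 Q T where
  ra : T.RA n m

theorem A8.emb (h : A8 Q T n m) : Emb MA.m (T.gA n m) := by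
  obtain ⟨hm, φ, -, e⟩ := PM.exists_hom MA_ok MA_subs (PM.sat MA_ok MA_sat)
    (satA h.rx h.rt h.r h.ra) rfl cardA_le (by decide +kernel)
  refine ⟨_, hm, φ, (MonoidHom.ker_eq_bot_iff φ).1 ?_, e⟩
  have : IsSimpleGroup (sub MA.m (MA.W 0)) :=
    MA_top ▸ alternatingGroup.isSimpleGroup (α := Fin 8) (by simp)
  refine (IsSimpleGroup.eq_bot_or_eq_top_of_normal _ inferInstance).resolve_right fun ht => ?_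
  exact h.base.ne_one ((e 5).symm.trans (ht ▸ mem_top _ : (⟨_, hm 5⟩ : sub MA.m (MA.W 0)) ∈ φ.ker))

/-- Subgroups of the alternating group of degree eight. -/
def Tup.sb (T : Tup G) (n m : G) (i : ℕ) : Subgroup G := sub (T.gA n m) (MA.W i)

theorem Tup.sb_eq (i : ℕ) : sub (T.gA n m) (MA.W i) = T.sb n m i := rfl

theorem A8.eH (h : A8 Q T n m) : T.sb n m 1 = centralizer ({T.z} : Set G) := h.toH0.eH

theorem A8.iso (h : A8 Q T n m) : Nonempty (T.sb n m 0 ≃* alternatingGroup (Fin 8)) := by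
  obtain ⟨e, -⟩ := h.emb.equiv (MA.W 0)
  exact ⟨e.symm.trans (MulEquiv.subgroupCongr MA_top)⟩

/-- A word in the generators. -/
def Tup.c0 (T : Tup G) : G := T.a0 * T.b0 * T.z

/-- A word in the generators. -/
def Tup.tz0 (T : Tup G) : G := T.t * T.z

/-- A word in the generators. -/
def Tup.v0 (T : Tup G) : G := T.a0 * T.b0

/-- A word in the generators. -/
def Tup.v1 (T : Tup G) : G := T.a0 * T.z * T.t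

/-- A word in the generators. -/
def Tup.v2 (T : Tup G) : G := T.b0 * T.z * T.t

/-- A word in the generators. -/
def Tup.s1 (T : Tup G) : G := T.a1 * T.b1

/-- A word in the generators. -/
def Tup.y (T : Tup G) (n m : G) : G := T.a1 * n * T.b1 * m

/-- A word in the generators. -/
def Tup.sg (T : Tup G) : G := T.a1 * T.t * T.b1

/-- A word in the generators. -/
def Tup.sgi (T : Tup G) : G := T.b1 * T.t * T.a1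

/-- A word in the generators. -/
def Tup.g1 (T : Tup G) : G := T.b0 * T.x

/-- A word in the generators. -/
def Tup.g2 (T : Tup G) : G := T.a0 * T.x⁻¹

/-- Visibly conjugate to one of `z`, `a0`, `b0`, `t`. -/
def Tup.ZT (T : Tup G) (u : G) : Prop :=
  u = T.z ∨ ∃ c ∈ centralizer ({T.z} : Set G), c * T.a0 = u * c ∨ c * T.b0 = u * c ∨ c * T.t = u * c

theorem Tup.sb_mem (T : Tup G) (n m : G) : (T.a0 ∈ T.sb n m 0 ∧ T.a1 ∈ T.sb n m 0 ∧ T.b0 ∈ T.sb n m 0 ∧ T.b1 ∈ T.sb n m 0 ∧ T.z ∈ T.sb n m 0 ∧ T.x ∈ T.sb n m 0 ∧ T.x⁻¹ ∈ T.sb n m 0 ∧ T.t ∈ T.sb n m 0 ∧ n ∈ T.sb n m 0 ∧ m ∈ T.sb n m 0) ∧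
    (T.c0 ∈ T.sb n m 3 ∧ T.s1 ∈ T.sb n m 3 ∧ T.z ∈ T.sb n m 3) ∧
    (T.c0 ∈ T.sb n m 5 ∧ T.tz0 ∈ T.sb n m 5) ∧
    (T.s1 ∈ T.sb n m 6 ∧ T.y n m ∈ T.sb n m 6) :=
  ⟨⟨by simpa only [wv_cons, wv_nil, one_mul, Tup.gA_1, Tup.gA_2, Tup.gA_3, Tup.gA_4, Tup.gA_5, Tup.gA_6, Tup.gA_7, Tup.gA_8, Tup.gA_9, Tup.gA_10, Tup.sb_eq, Tup.c0, Tup.tz0, Tup.v0, Tup.v1, Tup.v2, Tup.s1, Tup.y, Tup.sg, Tup.sgi, Tup.g1, Tup.g2, Tup.ZT] using wv_mem_sub (T.gA n m) (W := MA.W 0) (L := [1]) (by decide),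
    by simpa only [wv_cons, wv_nil, one_mul, Tup.gA_1, Tup.gA_2, Tup.gA_3, Tup.gA_4, Tup.gA_5, Tup.gA_6, Tup.gA_7, Tup.gA_8, Tup.gA_9, Tup.gA_10, Tup.sb_eq, Tup.c0, Tup.tz0, Tup.v0, Tup.v1, Tup.v2, Tup.s1, Tup.y, Tup.sg, Tup.sgi, Tup.g1, Tup.g2, Tup.ZT] using wv_mem_sub (T.gA n m) (W := MA.W 0) (L := [2]) (by decide),
    by simpa only [wv_cons, wv_nil, one_mul, Tup.gA_1, Tup.gA_2, Tup.gA_3, Tup.gA_4, Tup.gA_5, Tup.gA_6, Tup.gA_7, Tup.gA_8, Tup.gA_9, Tup.gA_10, Tup.sb_eq, Tup.c0, Tup.tz0, Tup.v0, Tup.v1, Tup.v2, Tup.s1, Tup.y, Tup.sg, Tup.sgi, Tup.g1, Tup.g2, Tup.ZT] using wv_mem_sub (T.gA n m) (W := MA.W 0) (L := [3]) (by decide),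
    by simpa only [wv_cons, wv_nil, one_mul, Tup.gA_1, Tup.gA_2, Tup.gA_3, Tup.gA_4, Tup.gA_5, Tup.gA_6, Tup.gA_7, Tup.gA_8, Tup.gA_9, Tup.gA_10, Tup.sb_eq, Tup.c0, Tup.tz0, Tup.v0, Tup.v1, Tup.v2, Tup.s1, Tup.y, Tup.sg, Tup.sgi, Tup.g1, Tup.g2, Tup.ZT] using wv_mem_sub (T.gA n m) (W := MA.W 0) (L := [4]) (by decide),
    by simpa only [wv_cons, wv_nil, one_mul, Tup.gA_1, Tup.gA_2, Tup.gA_3, Tup.gA_4, Tup.gA_5, Tup.gA_6, Tup.gA_7, Tup.gA_8, Tup.gA_9, Tup.gA_10, Tup.sb_eq, Tup.c0, Tup.tz0, Tup.v0, Tup.v1, Tup.v2, Tup.s1, Tup.y, Tup.sg, Tup.sgi, Tup.g1, Tup.g2, Tup.ZT] using wv_mem_sub (T.gA n m) (W := MA.W 0) (L := [5]) (by decide),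
    by simpa only [wv_cons, wv_nil, one_mul, Tup.gA_1, Tup.gA_2, Tup.gA_3, Tup.gA_4, Tup.gA_5, Tup.gA_6, Tup.gA_7, Tup.gA_8, Tup.gA_9, Tup.gA_10, Tup.sb_eq, Tup.c0, Tup.tz0, Tup.v0, Tup.v1, Tup.v2, Tup.s1, Tup.y, Tup.sg, Tup.sgi, Tup.g1, Tup.g2, Tup.ZT] using wv_mem_sub (T.gA n m) (W := MA.W 0) (L := [6]) (by decide),
    by simpa only [wv_cons, wv_nil, one_mul, Tup.gA_1, Tup.gA_2, Tup.gA_3, Tup.gA_4, Tup.gA_5, Tup.gA_6, Tup.gA_7, Tup.gA_8, Tup.gA_9, Tup.gA_10, Tup.sb_eq, Tup.c0, Tup.tz0, Tup.v0, Tup.v1, Tup.v2, Tup.s1, Tup.y, Tup.sg, Tup.sgi, Tup.g1, Tup.g2, Tup.ZT] using wv_mem_sub (T.gA n m) (W := MA.W 0) (L := [7]) (by decide),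
    by simpa only [wv_cons, wv_nil, one_mul, Tup.gA_1, Tup.gA_2, Tup.gA_3, Tup.gA_4, Tup.gA_5, Tup.gA_6, Tup.gA_7, Tup.gA_8, Tup.gA_9, Tup.gA_10, Tup.sb_eq, Tup.c0, Tup.tz0, Tup.v0, Tup.v1, Tup.v2, Tup.s1, Tup.y, Tup.sg, Tup.sgi, Tup.g1, Tup.g2, Tup.ZT] using wv_mem_sub (T.gA n m) (W := MA.W 0) (L := [8]) (by decide),
    by simpa only [wv_cons, wv_nil, one_mul, Tup.gA_1, Tup.gA_2, Tup.gA_3, Tup.gA_4, Tup.gA_5, Tup.gA_6, Tup.gA_7, Tup.gA_8, Tup.gA_9, Tup.gA_10, Tup.sb_eq, Tup.c0, Tup.tz0, Tup.v0, Tup.v1, Tup.v2, Tup.s1, Tup.y, Tup.sg, Tup.sgi, Tup.g1, Tup.g2, Tup.ZT] using wv_mem_sub (T.gA n m) (W := MA.W 0) (L := [9]) (by decide),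
    by simpa only [wv_cons, wv_nil, one_mul, Tup.gA_1, Tup.gA_2, Tup.gA_3, Tup.gA_4, Tup.gA_5, Tup.gA_6, Tup.gA_7, Tup.gA_8, Tup.gA_9, Tup.gA_10, Tup.sb_eq, Tup.c0, Tup.tz0, Tup.v0, Tup.v1, Tup.v2, Tup.s1, Tup.y, Tup.sg, Tup.sgi, Tup.g1, Tup.g2, Tup.ZT] using wv_mem_sub (T.gA n m) (W := MA.W 0) (L := [10]) (by decide)⟩,
   ⟨by simpa only [wv_cons, wv_nil, one_mul, Tup.gA_1, Tup.gA_2, Tup.gA_3, Tup.gA_4, Tup.gA_5, Tup.gA_6, Tup.gA_7, Tup.gA_8, Tup.gA_9, Tup.gA_10, Tup.sb_eq, Tup.c0, Tup.tz0, Tup.v0, Tup.v1, Tup.v2, Tup.s1, Tup.y, Tup.sg, Tup.sgi, Tup.g1, Tup.g2, Tup.ZT] using wv_mem_sub (T.gA n m) (W := MA.W 3) (L := [5,3,1]) (by decide),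
    by simpa only [wv_cons, wv_nil, one_mul, Tup.gA_1, Tup.gA_2, Tup.gA_3, Tup.gA_4, Tup.gA_5, Tup.gA_6, Tup.gA_7, Tup.gA_8, Tup.gA_9, Tup.gA_10, Tup.sb_eq, Tup.c0, Tup.tz0, Tup.v0, Tup.v1, Tup.v2, Tup.s1, Tup.y, Tup.sg, Tup.sgi, Tup.g1, Tup.g2, Tup.ZT] using wv_mem_sub (T.gA n m) (W := MA.W 3) (L := [4,2]) (by decide),
    by simpa only [wv_cons, wv_nil, one_mul, Tup.gA_1, Tup.gA_2, Tup.gA_3, Tup.gA_4, Tup.gA_5, Tup.gA_6, Tup.gA_7, Tup.gA_8, Tup.gA_9, Tup.gA_10, Tup.sb_eq, Tup.c0, Tup.tz0, Tup.v0, Tup.v1, Tup.v2, Tup.s1, Tup.y, Tup.sg, Tup.sgi, Tup.g1, Tup.g2, Tup.ZT] using wv_mem_sub (T.gA n m) (W := MA.W 3) (L := [5]) (by decide)⟩,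
   ⟨by simpa only [wv_cons, wv_nil, one_mul, Tup.gA_1, Tup.gA_2, Tup.gA_3, Tup.gA_4, Tup.gA_5, Tup.gA_6, Tup.gA_7, Tup.gA_8, Tup.gA_9, Tup.gA_10, Tup.sb_eq, Tup.c0, Tup.tz0, Tup.v0, Tup.v1, Tup.v2, Tup.s1, Tup.y, Tup.sg, Tup.sgi, Tup.g1, Tup.g2, Tup.ZT] using wv_mem_sub (T.gA n m) (W := MA.W 5) (L := [5,3,1]) (by decide),
    by simpa only [wv_cons, wv_nil, one_mul, Tup.gA_1, Tup.gA_2, Tup.gA_3, Tup.gA_4, Tup.gA_5, Tup.gA_6, Tup.gA_7, Tup.gA_8, Tup.gA_9, Tup.gA_10, Tup.sb_eq, Tup.c0, Tup.tz0, Tup.v0, Tup.v1, Tup.v2, Tup.s1, Tup.y, Tup.sg, Tup.sgi, Tup.g1, Tup.g2, Tup.ZT] using wv_mem_sub (T.gA n m) (W := MA.W 5) (L := [5,8]) (by decide)⟩,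
   ⟨by simpa only [wv_cons, wv_nil, one_mul, Tup.gA_1, Tup.gA_2, Tup.gA_3, Tup.gA_4, Tup.gA_5, Tup.gA_6, Tup.gA_7, Tup.gA_8, Tup.gA_9, Tup.gA_10, Tup.sb_eq, Tup.c0, Tup.tz0, Tup.v0, Tup.v1, Tup.v2, Tup.s1, Tup.y, Tup.sg, Tup.sgi, Tup.g1, Tup.g2, Tup.ZT] using wv_mem_sub (T.gA n m) (W := MA.W 6) (L := [4,2]) (by decide),
    by simpa only [wv_cons, wv_nil, one_mul, Tup.gA_1, Tup.gA_2, Tup.gA_3, Tup.gA_4, Tup.gA_5, Tup.gA_6, Tup.gA_7, Tup.gA_8, Tup.gA_9, Tup.gA_10, Tup.sb_eq, Tup.c0, Tup.tz0, Tup.v0, Tup.v1, Tup.v2, Tup.s1, Tup.y, Tup.sg, Tup.sgi, Tup.g1, Tup.g2, Tup.ZT] using wv_mem_sub (T.gA n m) (W := MA.W 6) (L := [10,4,9,2]) (by decide)⟩⟩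

theorem Tup.B_le (T : Tup G) (n m : G) {M : Subgroup G} (h1 : T.c0 ∈ M) (h2 : T.tz0 ∈ M)
    (h3 : T.y n m ∈ M) (h4 : T.s1 ∈ M) (h5 : T.b0 * T.x * T.t * T.z * T.x⁻¹ * T.b0 ∈ M) :
    T.sb n m 7 ≤ M := by
  refine sub_le fun L hL => ?_
  fin_cases hL <;> simp only [wv_cons, wv_nil, one_mul, Tup.gA_1, Tup.gA_2, Tup.gA_3, Tup.gA_4, Tup.gA_5, Tup.gA_6, Tup.gA_7, Tup.gA_8, Tup.gA_9, Tup.gA_10] <;> assumption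

theorem Tup.sb_le (T : Tup G) (n m : G) (i : ℕ) (hi : i < 8) : T.sb n m i ≤ T.sb n m 0 := by
  obtain ⟨⟨m1, m2, m3, m4, m5, m6, m7, m8, m9, m10⟩, -⟩ := T.sb_mem n m
  refine sub_le fun L hL => ?_
  interval_cases i <;> fin_cases hL <;> simp only [wv_cons, wv_nil, one_mul, Tup.gA_1, Tup.gA_2, Tup.gA_3, Tup.gA_4, Tup.gA_5, Tup.gA_6, Tup.gA_7, Tup.gA_8, Tup.gA_9, Tup.gA_10] <;>
    repeat' first | with_reducible assumption | apply mul_mem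

theorem A8.card0 (h : A8 Q T n m) : Nat.card (T.sb n m 0) = 20160 :=
  (PM.card_of_emb MA_ok MA_subs h.emb 0).trans (by decide +kernel)

theorem A8.card2 (h : A8 Q T n m) : Nat.card (T.sb n m 2) = 32 :=
  (PM.card_of_emb MA_ok MA_subs h.emb 2).trans (by decide +kernel)

theorem A8.card3 (h : A8 Q T n m) : Nat.card (T.sb n m 3) = 8 :=
  (PM.card_of_emb MA_ok MA_subs h.emb 3).trans (by decide +kernel)

theorem A8.card4 (h : A8 Q T n m) : Nat.card (T.sb n m 4) = 16 :=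
  (PM.card_of_emb MA_ok MA_subs h.emb 4).trans (by decide +kernel)

theorem A8.card5 (h : A8 Q T n m) : Nat.card (T.sb n m 5) = 4 :=
  (PM.card_of_emb MA_ok MA_subs h.emb 5).trans (by decide +kernel)

theorem A8.card6 (h : A8 Q T n m) : Nat.card (T.sb n m 6) = 96 :=
  (PM.card_of_emb MA_ok MA_subs h.emb 6).trans (by decide +kernel)

theorem A8.card7 (h : A8 Q T n m) : Nat.card (T.sb n m 7) = 2520 :=
  (PM.card_of_emb MA_ok MA_subs h.emb 7).trans (by decide +kernel)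

theorem A8.centS (h : A8 Q T n m) :
    ∀ c ∈ centralizer ({T.z} : Set G), c * T.c0 = T.c0 * c → (∃ s ∈ T.sb n m 2, c = s) := by
  have := PM.holds MA_ok MA_subs h.emb (p := (.all 1 20 (.imp (.eq [5,3,1,20] [20,5,3,1]) (.ex 2 21 (.eq [20] [21]))))) (by decide +kernel)
  simp only [Fm.sem, wv_cons, wv_nil, one_mul, upd_apply, Nat.reduceEqDiff, ↓reduceIte, Tup.gA_1, Tup.gA_2, Tup.gA_3, Tup.gA_4, Tup.gA_5, Tup.gA_6, Tup.gA_7, Tup.gA_8, Tup.gA_9, Tup.gA_10, Tup.sb_eq, h.eH] at this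
  simpa only [Tup.c0, Tup.tz0, Tup.v0, Tup.v1, Tup.v2, Tup.s1, Tup.y, Tup.sg, Tup.sgi, Tup.g1, Tup.g2, Tup.ZT, mul_assoc] using this

theorem A8.memS (h : A8 Q T n m) :
    ∀ s ∈ T.sb n m 2, s * T.c0 = T.c0 * s ∧ s * T.z = T.z * s ∧ (∃ f ∈ T.sb n m 5, s * s = f ∨ s * T.sg
    = f ∨ s * T.sgi = f) := by
  have := PM.holds MA_ok MA_subs h.emb (p := (.all 2 20 (.and (.eq [5,3,1,20] [20,5,3,1]) (.and (.eq [5,20] [20,5]) (.ex 5 21 (.or (.eq [20,20]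
      [21]) (.or (.eq [4,8,2,20] [21]) (.eq [2,8,4,20] [21])))))))) (by decide +kernel)
  simp only [Fm.sem, wv_cons, wv_nil, one_mul, upd_apply, Nat.reduceEqDiff, ↓reduceIte, Tup.gA_1, Tup.gA_2, Tup.gA_3, Tup.gA_4, Tup.gA_5, Tup.gA_6, Tup.gA_7, Tup.gA_8, Tup.gA_9, Tup.gA_10, Tup.sb_eq, h.eH] at this
  simpa only [Tup.c0, Tup.tz0, Tup.v0, Tup.v1, Tup.v2, Tup.s1, Tup.y, Tup.sg, Tup.sgi, Tup.g1, Tup.g2, Tup.ZT, mul_assoc] using this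

theorem A8.invS (h : A8 Q T n m) :
    ∀ u ∈ T.sb n m 2, u * u = 1 → (u = 1 ∨ u = T.c0 ∨ u = T.tz0 ∨ u = T.tz0 * T.c0 ∨ T.ZT u ∨ T.ZT (u *
    T.c0) ∨ ((∃ a ∈ T.sb n m 3, u = a) ∧ (∀ g ∈ T.sb n m 2, g * u = u * g → (∃ a ∈ T.sb n m 3, g =
    a)))) := by
  have := PM.holds MA_ok MA_subs h.emb (p := (.all 2 20 (.imp (.eq [20,20] []) (.or (.eq [20] []) (.or (.eq [20] [5,3,1]) (.or (.eq [20] [5,8])
      (.or (.eq [20] [5,3,1,5,8]) (.or (.or (.eq [20] [5]) (.ex 1 21 (.or (.eq [1,21] [21,20]) (.or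
      (.eq [3,21] [21,20]) (.eq [8,21] [21,20]))))) (.or (.or (.eq [5,3,1,20] [5]) (.ex 1 21 (.or
      (.eq [1,21] [21,5,3,1,20]) (.or (.eq [3,21] [21,5,3,1,20]) (.eq [8,21] [21,5,3,1,20])))))
      (.and (.ex 3 21 (.eq [20] [21])) (.all 2 21 (.imp (.eq [20,21] [21,20]) (.ex 3 22 (.eq [21]
      [22])))))))))))))) (by decide +kernel)
  simp only [Fm.sem, wv_cons, wv_nil, one_mul, upd_apply, Nat.reduceEqDiff, ↓reduceIte, Tup.gA_1, Tup.gA_2, Tup.gA_3, Tup.gA_4, Tup.gA_5, Tup.gA_6, Tup.gA_7, Tup.gA_8, Tup.gA_9, Tup.gA_10, Tup.sb_eq, h.eH] at this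
  simpa only [Tup.c0, Tup.tz0, Tup.v0, Tup.v1, Tup.v2, Tup.s1, Tup.y, Tup.sg, Tup.sgi, Tup.g1, Tup.g2, Tup.ZT, mul_assoc] using this

theorem A8.memA3 (h : A8 Q T n m) :
    ∀ a ∈ T.sb n m 3, a * a = 1 ∧ (∀ b ∈ T.sb n m 3, a * b = b * a) ∧ (a = 1 ∨ a = T.z ∨ (∃ c ∈
    centralizer ({T.z} : Set G), c * T.c0 = a * c)) := by
  have := PM.holds MA_ok MA_subs h.emb (p := (.all 3 20 (.and (.eq [20,20] []) (.and (.all 3 21 (.eq [21,20] [20,21])) (.or (.eq [20] []) (.or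
      (.eq [20] [5]) (.ex 1 21 (.eq [5,3,1,21] [21,20])))))))) (by decide +kernel)
  simp only [Fm.sem, wv_cons, wv_nil, one_mul, upd_apply, Nat.reduceEqDiff, ↓reduceIte, Tup.gA_1, Tup.gA_2, Tup.gA_3, Tup.gA_4, Tup.gA_5, Tup.gA_6, Tup.gA_7, Tup.gA_8, Tup.gA_9, Tup.gA_10, Tup.sb_eq, h.eH] at this
  simpa only [Tup.c0, Tup.tz0, Tup.v0, Tup.v1, Tup.v2, Tup.s1, Tup.y, Tup.sg, Tup.sgi, Tup.g1, Tup.g2, Tup.ZT, mul_assoc] using this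

theorem A8.memF (h : A8 Q T n m) :
    ∀ f ∈ T.sb n m 4, f * f = 1 ∧ f * T.c0 = T.c0 * f ∧ f * T.tz0 = T.tz0 * f := by
  have := PM.holds MA_ok MA_subs h.emb (p := (.all 4 20 (.and (.eq [20,20] []) (.and (.eq [5,3,1,20] [20,5,3,1]) (.eq [5,8,20] [20,5,8]))))) (by decide +kernel)
  simp only [Fm.sem, wv_cons, wv_nil, one_mul, upd_apply, Nat.reduceEqDiff, ↓reduceIte, Tup.gA_1, Tup.gA_2, Tup.gA_3, Tup.gA_4, Tup.gA_5, Tup.gA_6, Tup.gA_7, Tup.gA_8, Tup.gA_9, Tup.gA_10, Tup.sb_eq, h.eH] at this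
  simpa only [Tup.c0, Tup.tz0, Tup.v0, Tup.v1, Tup.v2, Tup.s1, Tup.y, Tup.sg, Tup.sgi, Tup.g1, Tup.g2, Tup.ZT, mul_assoc] using this

theorem A8.memF1 (h : A8 Q T n m) :
    ∀ f ∈ T.sb n m 5, (f = 1 ∨ f = T.c0 ∨ f = T.tz0 ∨ f = T.tz0 * T.c0) ∧ (f = 1 ∨ T.ZT (f * T.v0)) ∧ (¬
    f * T.s1 * T.c0 * f * T.s1 * T.c0 = 1 ∨ (∃ c ∈ centralizer ({T.z} : Set G), c * T.c0 = f * T.s1
    * T.c0 * c)) ∧ ¬ T.v0 = f ∧ ¬ T.s1 = f := by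
  have := PM.holds MA_ok MA_subs h.emb (p := (.all 5 20 (.and (.or (.eq [20] []) (.or (.eq [20] [5,3,1]) (.or (.eq [20] [5,8]) (.eq [20]
      [5,3,1,5,8])))) (.and (.or (.eq [20] []) (.or (.eq [3,1,20] [5]) (.ex 1 21 (.or (.eq [1,21]
      [21,3,1,20]) (.or (.eq [3,21] [21,3,1,20]) (.eq [8,21] [21,3,1,20])))))) (.and (.or (.not (.eq
      [5,3,1,4,2,20,5,3,1,4,2,20] [])) (.ex 1 21 (.eq [5,3,1,21] [21,5,3,1,4,2,20]))) (.and (.not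
      (.eq [3,1] [20])) (.not (.eq [4,2] [20])))))))) (by decide +kernel)
  simp only [Fm.sem, wv_cons, wv_nil, one_mul, upd_apply, Nat.reduceEqDiff, ↓reduceIte, Tup.gA_1, Tup.gA_2, Tup.gA_3, Tup.gA_4, Tup.gA_5, Tup.gA_6, Tup.gA_7, Tup.gA_8, Tup.gA_9, Tup.gA_10, Tup.sb_eq, h.eH] at this
  simpa only [Tup.c0, Tup.tz0, Tup.v0, Tup.v1, Tup.v2, Tup.s1, Tup.y, Tup.sg, Tup.sgi, Tup.g1, Tup.g2, Tup.ZT, mul_assoc] using this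

theorem A8.memK0 (h : A8 Q T n m) :
    ∀ u ∈ T.sb n m 6, u * T.c0 = T.c0 * u ∧ (u * u = 1 → ((∃ f ∈ T.sb n m 5, u = f) ∨ (∃ c ∈ T.sb n m 6,
    c * T.s1 = u * c ∨ c * T.z = u * c ∨ c * T.z = u * T.c0 * c ∨ c * T.tz0 * T.v0 = u * c ∨ c *
    T.tz0 * T.v0 = u * T.c0 * c))) := by
  have := PM.holds MA_ok MA_subs h.emb (p := (.all 6 20 (.and (.eq [5,3,1,20] [20,5,3,1]) (.imp (.eq [20,20] []) (.or (.ex 5 21 (.eq [20] [21]))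
      (.ex 6 21 (.or (.eq [4,2,21] [21,20]) (.or (.eq [5,21] [21,20]) (.or (.eq [5,21]
      [21,5,3,1,20]) (.or (.eq [3,1,5,8,21] [21,20]) (.eq [3,1,5,8,21] [21,5,3,1,20]))))))))))) (by decide +kernel)
  simp only [Fm.sem, wv_cons, wv_nil, one_mul, upd_apply, Nat.reduceEqDiff, ↓reduceIte, Tup.gA_1, Tup.gA_2, Tup.gA_3, Tup.gA_4, Tup.gA_5, Tup.gA_6, Tup.gA_7, Tup.gA_8, Tup.gA_9, Tup.gA_10, Tup.sb_eq, h.eH] at this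
  simpa only [Tup.c0, Tup.tz0, Tup.v0, Tup.v1, Tup.v2, Tup.s1, Tup.y, Tup.sg, Tup.sgi, Tup.g1, Tup.g2, Tup.ZT, mul_assoc] using this

theorem A8.eqV (h : A8 Q T n m) :
    ((T.v0 * T.v0 = 1 ∧ T.v0 * T.c0 = T.c0 * T.v0 ∧ T.ZT (T.v0 * T.c0)) ∧ (T.v1 * T.v1 = 1 ∧ T.v1 * T.c0
    = T.c0 * T.v1 ∧ T.ZT (T.v1 * T.c0)) ∧ T.v2 * T.v2 = 1 ∧ T.v2 * T.c0 = T.c0 * T.v2 ∧ T.ZT (T.v2 *
    T.c0)) ∧ (T.v0 * T.v1 = T.v2 ∧ T.v0 * T.v2 = T.v1 ∧ T.v1 * T.v2 = T.v0) ∧ (T.v0 * T.y n m = T.v2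
    * T.y n m * T.v2 ∧ T.v1 * T.y n m = T.v0 * T.y n m * T.v0 ∧ T.v2 * T.y n m = T.v1 * T.y n m *
    T.v1) ∧ (T.v0 * T.y n m * T.v0 = T.v1 * T.y n m ∧ T.v1 * T.y n m * T.v1 = T.v2 * T.y n m ∧ T.v2
    * T.y n m * T.v2 = T.v0 * T.y n m) ∧ T.s1 * T.v1 = T.v2 * T.s1 ∧ T.s1 * T.v2 = T.v1 * T.s1 := by
  have := PM.holds MA_ok MA_subs h.emb (p := (.and (.and (.and (.eq [3,1,3,1] []) (.and (.eq [5,3,1,3,1] [3,1,5,3,1]) (.or (.eq [5,3,1,3,1] [5])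
      (.ex 1 20 (.or (.eq [1,20] [20,5,3,1,3,1]) (.or (.eq [3,20] [20,5,3,1,3,1]) (.eq [8,20]
      [20,5,3,1,3,1]))))))) (.and (.and (.eq [8,5,1,8,5,1] []) (.and (.eq [5,3,1,8,5,1]
      [8,5,1,5,3,1]) (.or (.eq [5,3,1,8,5,1] [5]) (.ex 1 20 (.or (.eq [1,20] [20,5,3,1,8,5,1]) (.or
      (.eq [3,20] [20,5,3,1,8,5,1]) (.eq [8,20] [20,5,3,1,8,5,1]))))))) (.and (.eq [8,5,3,8,5,3] [])
      (.and (.eq [5,3,1,8,5,3] [8,5,3,5,3,1]) (.or (.eq [5,3,1,8,5,3] [5]) (.ex 1 20 (.or (.eq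
      [1,20] [20,5,3,1,8,5,3]) (.or (.eq [3,20] [20,5,3,1,8,5,3]) (.eq [8,20]
      [20,5,3,1,8,5,3]))))))))) (.and (.and (.eq [8,5,1,3,1] [8,5,3]) (.and (.eq [8,5,3,3,1]
      [8,5,1]) (.eq [8,5,3,8,5,1] [3,1]))) (.and (.and (.eq [10,4,9,2,3,1] [8,5,3,10,4,9,2,8,5,3])
      (.and (.eq [10,4,9,2,8,5,1] [3,1,10,4,9,2,3,1]) (.eq [10,4,9,2,8,5,3]
      [8,5,1,10,4,9,2,8,5,1]))) (.and (.and (.eq [3,1,10,4,9,2,3,1] [10,4,9,2,8,5,1]) (.and (.eq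
      [8,5,1,10,4,9,2,8,5,1] [10,4,9,2,8,5,3]) (.eq [8,5,3,10,4,9,2,8,5,3] [10,4,9,2,3,1]))) (.and
      (.eq [8,5,1,4,2] [4,2,8,5,3]) (.eq [8,5,3,4,2] [4,2,8,5,1]))))))) (by decide +kernel)
  simp only [Fm.sem, wv_cons, wv_nil, one_mul, upd_apply, Nat.reduceEqDiff, ↓reduceIte, Tup.gA_1, Tup.gA_2, Tup.gA_3, Tup.gA_4, Tup.gA_5, Tup.gA_6, Tup.gA_7, Tup.gA_8, Tup.gA_9, Tup.gA_10, Tup.sb_eq, h.eH] at this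
  simpa only [Tup.c0, Tup.tz0, Tup.v0, Tup.v1, Tup.v2, Tup.s1, Tup.y, Tup.sg, Tup.sgi, Tup.g1, Tup.g2, Tup.ZT, mul_assoc] using this

theorem A8.eqY (h : A8 Q T n m) :
    T.y n m * T.s1 * T.y n m = T.s1 ∧ T.y n m * T.c0 = T.c0 * T.y n m ∧ T.s1 * T.c0 = T.c0 * T.s1 ∧ T.s1
    * T.s1 = 1 ∧ T.g1 * T.c0 = T.s1 * T.g1 ∧ T.g2 * T.c0 = T.c0 * T.s1 * T.g2 ∧ T.g1 * T.tz0 = T.b0
    * T.x * T.t * T.z * T.x⁻¹ * T.b0 * T.g1 ∧ T.g1 * T.z = T.z * T.g1 ∧ T.g2 * T.z = T.z * T.g2 := by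
  have := PM.holds MA_ok MA_subs h.emb (p := (.and (.eq [10,4,9,2,4,2,10,4,9,2] [4,2]) (.and (.eq [5,3,1,10,4,9,2] [10,4,9,2,5,3,1]) (.and (.eq
      [5,3,1,4,2] [4,2,5,3,1]) (.and (.eq [4,2,4,2] []) (.and (.eq [5,3,1,6,3] [6,3,4,2]) (.and (.eq
      [5,3,1,7,1] [7,1,4,2,5,3,1]) (.and (.eq [5,8,6,3] [6,3,3,7,5,8,6,3]) (.and (.eq [5,6,3]
      [6,3,5]) (.eq [5,7,1] [7,1,5])))))))))) (by decide +kernel)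
  simp only [Fm.sem, wv_cons, wv_nil, one_mul, upd_apply, Nat.reduceEqDiff, ↓reduceIte, Tup.gA_1, Tup.gA_2, Tup.gA_3, Tup.gA_4, Tup.gA_5, Tup.gA_6, Tup.gA_7, Tup.gA_8, Tup.gA_9, Tup.gA_10, Tup.sb_eq, h.eH] at this
  simpa only [Tup.c0, Tup.tz0, Tup.v0, Tup.v1, Tup.v2, Tup.s1, Tup.y, Tup.sg, Tup.sgi, Tup.g1, Tup.g2, Tup.ZT, mul_assoc] using this

theorem A8.eqC (h : A8 Q T n m) :
    T.c0 * T.c0 = 1 ∧ ¬ T.c0 = 1 ∧ T.tz0 * T.tz0 = 1 ∧ ¬ T.tz0 = 1 ∧ ¬ T.tz0 = T.c0 ∧ T.tz0 * T.c0 =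
    T.c0 * T.tz0 ∧ ¬ T.c0 = T.z ∧ ¬ T.c0 = T.a0 ∧ ¬ T.c0 = T.z * T.a0 ∧ T.a0 * T.c0 = T.c0 * T.a0 ∧
    T.z * T.c0 = T.c0 * T.z ∧ T.v0 * T.c0 = T.z ∧ T.c0 * T.z = T.v0 ∧ T.a1 * n * T.c0 * n * T.a1 =
    T.tz0 ∧ T.s1 * T.tz0 * T.s1 = T.tz0 * T.c0 ∧ T.ZT (T.tz0 * T.v0) ∧ T.a1 * T.v0 * T.a1 = T.c0 ∧
    T.tz0 * T.z = T.z * T.tz0 := by
  have := PM.holds MA_ok MA_subs h.emb (p := (.and (.eq [5,3,1,5,3,1] []) (.and (.not (.eq [5,3,1] [])) (.and (.eq [5,8,5,8] []) (.and (.not (.eq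
      [5,8] [])) (.and (.not (.eq [5,8] [5,3,1])) (.and (.eq [5,3,1,5,8] [5,8,5,3,1]) (.and (.not
      (.eq [5,3,1] [5])) (.and (.not (.eq [5,3,1] [1])) (.and (.not (.eq [5,3,1] [1,5])) (.and (.eq
      [5,3,1,1] [1,5,3,1]) (.and (.eq [5,3,1,5] [5,5,3,1]) (.and (.eq [5,3,1,3,1] [5]) (.and (.eq
      [5,5,3,1] [3,1]) (.and (.eq [2,9,5,3,1,9,2] [5,8]) (.and (.eq [4,2,5,8,4,2] [5,3,1,5,8]) (.and
      (.or (.eq [3,1,5,8] [5]) (.ex 1 20 (.or (.eq [1,20] [20,3,1,5,8]) (.or (.eq [3,20]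
      [20,3,1,5,8]) (.eq [8,20] [20,3,1,5,8]))))) (.and (.eq [2,3,1,2] [5,3,1]) (.eq [5,5,8]
      [5,8,5]))))))))))))))))))) (by decide +kernel)
  simp only [Fm.sem, wv_cons, wv_nil, one_mul, upd_apply, Nat.reduceEqDiff, ↓reduceIte, Tup.gA_1, Tup.gA_2, Tup.gA_3, Tup.gA_4, Tup.gA_5, Tup.gA_6, Tup.gA_7, Tup.gA_8, Tup.gA_9, Tup.gA_10, Tup.sb_eq, h.eH] at this
  simpa only [Tup.c0, Tup.tz0, Tup.v0, Tup.v1, Tup.v2, Tup.s1, Tup.y, Tup.sg, Tup.sgi, Tup.g1, Tup.g2, Tup.ZT, mul_assoc] using this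

theorem A8.eqS (h : A8 Q T n m) :
    T.sg * T.sg = T.v0 ∧ T.sg * T.sgi = 1 ∧ T.sg * T.c0 = T.c0 * T.sg ∧ T.y n m * T.v0 = T.v2 * T.y n m
    ∧ T.v0 * T.v2 = T.v2 * T.v0 ∧ ¬ T.v0 = T.v2 := by
  have := PM.holds MA_ok MA_subs h.emb (p := (.and (.eq [4,8,2,4,8,2] [3,1]) (.and (.eq [2,8,4,4,8,2] []) (.and (.eq [5,3,1,4,8,2] [4,8,2,5,3,1])
      (.and (.eq [3,1,10,4,9,2] [10,4,9,2,8,5,3]) (.and (.eq [8,5,3,3,1] [3,1,8,5,3]) (.not (.eq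
      [3,1] [8,5,3])))))))) (by decide +kernel)
  simp only [Fm.sem, wv_cons, wv_nil, one_mul, upd_apply, Nat.reduceEqDiff, ↓reduceIte, Tup.gA_1, Tup.gA_2, Tup.gA_3, Tup.gA_4, Tup.gA_5, Tup.gA_6, Tup.gA_7, Tup.gA_8, Tup.gA_9, Tup.gA_10, Tup.sb_eq, h.eH] at this
  simpa only [Tup.c0, Tup.tz0, Tup.v0, Tup.v1, Tup.v2, Tup.s1, Tup.y, Tup.sg, Tup.sgi, Tup.g1, Tup.g2, Tup.ZT, mul_assoc] using this

end Cfsg.Lib.X32
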