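import Cfsg.Agent.SporChar.WFormKer
import Cfsg.Agent.SporChar.LargeX

/-! Involution centralizers `2^(1+4).S₃`: generators, relations and permutation models. -/

set_option autoImplicit false
set_option maxRecDepth 100000
set_option linter.unusedSimpArgs false
set_option maxHeartbeats 1000000

namespace Cfsg.Lib.X32

open Subgroup Cfsg.Lib.Spor Cfsg.Lib.Spor.Bulk Cfsg.Lib.Spor.PK Cfsg.Lib.Spor.WF Cfsg.Lib.Local

/-- The generators. -/
structure Tup (G : Type*) where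
  (a0 a1 b0 b1 z x t : G)

/-- inverse letters -/
noncomputable def io (l : ℕ) : ℕ := PK.nth 0 [0,1,2,3,4,5,7,6,8,9,10] l

/-- relators of `Q X` -/
def rX : List (List ℕ) := [[1, 5, 1, 5], [2, 5, 2, 5], [3, 5, 3, 5], [4, 5, 4, 5], [2, 1, 2, 1], [4, 3, 4, 3], [3, 1, 3, 1], [4, 2, 4,
    2], [5, 4, 1, 4, 1], [5, 3, 2, 3, 2], [6, 6, 6], [5, 7, 5, 6], [2, 7, 1, 6], [1, 2, 7, 2, 6], [4, 7, 3,
    6], [3, 4, 7, 4, 6]]

/-- relators of the centralizer, first type -/
def r0 : List (List ℕ) := rX ++ [[6, 8, 6, 8], [5, 8, 5, 8], [1, 8, 1, 8], [3, 8, 3, 8]]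

/-- relators of the centralizer, second type -/
def r1 : List (List ℕ) := rX ++ [[6, 8, 6, 8], [5, 8, 5, 8], [1, 8, 1, 8], [1, 3, 5, 8, 3, 8]]

/-- relators of `A₈` -/
def rA : List (List ℕ) := r0 ++ [[1, 9, 5, 9], [2, 9, 2, 9], [8, 9, 3, 9], [4, 9, 4, 9, 4, 9], [3, 10, 5, 10], [4, 10, 4, 10], [8, 10, 1, 10],
    [2, 10, 2, 10, 2, 10], [10, 9, 10, 9], [9, 8, 6, 9, 8, 6, 9, 8, 6], [10, 8, 6, 10, 8, 6, 10, 8, 6]]

namespace Tup

variable {G : Type*} [Group G] (T : Tup G) (n m : G)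

/-- letters -/
def gX : ℕ → G := lf [1, T.a0, T.a1, T.b0, T.b1, T.z, T.x, T.x⁻¹]

@[simp] theorem gX_0 : T.gX 0 = 1 := rfl
@[simp] theorem gX_1 : T.gX 1 = T.a0 := rfl
@[simp] theorem gX_2 : T.gX 2 = T.a1 := rfl
@[simp] theorem gX_3 : T.gX 3 = T.b0 := rfl
@[simp] theorem gX_4 : T.gX 4 = T.b1 := rfl
@[simp] theorem gX_5 : T.gX 5 = T.z := rfl
@[simp] theorem gX_6 : T.gX 6 = T.x := rfl
@[simp] theorem gX_7 : T.gX 7 = T.x⁻¹ := rfl

/-- letters -/
def gH : ℕ → G := lf [1, T.a0, T.a1, T.b0, T.b1, T.z, T.x, T.x⁻¹, T.t]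

@[simp] theorem gH_0 : T.gH 0 = 1 := rfl
@[simp] theorem gH_1 : T.gH 1 = T.a0 := rfl
@[simp] theorem gH_2 : T.gH 2 = T.a1 := rfl
@[simp] theorem gH_3 : T.gH 3 = T.b0 := rfl
@[simp] theorem gH_4 : T.gH 4 = T.b1 := rfl
@[simp] theorem gH_5 : T.gH 5 = T.z := rfl
@[simp] theorem gH_6 : T.gH 6 = T.x := rfl
@[simp] theorem gH_7 : T.gH 7 = T.x⁻¹ := rfl
@[simp] theorem gH_8 : T.gH 8 = T.t := rfl

/-- letters -/
def gA : ℕ → G := lf [1, T.a0, T.a1, T.b0, T.b1, T.z, T.x, T.x⁻¹, T.t, n, m]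

@[simp] theorem gA_0 : T.gA n m 0 = 1 := rfl
@[simp] theorem gA_1 : T.gA n m 1 = T.a0 := rfl
@[simp] theorem gA_2 : T.gA n m 2 = T.a1 := rfl
@[simp] theorem gA_3 : T.gA n m 3 = T.b0 := rfl
@[simp] theorem gA_4 : T.gA n m 4 = T.b1 := rfl
@[simp] theorem gA_5 : T.gA n m 5 = T.z := rfl
@[simp] theorem gA_6 : T.gA n m 6 = T.x := rfl
@[simp] theorem gA_7 : T.gA n m 7 = T.x⁻¹ := rfl
@[simp] theorem gA_8 : T.gA n m 8 = T.t := rfl
@[simp] theorem gA_9 : T.gA n m 9 = n := rfl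
@[simp] theorem gA_10 : T.gA n m 10 = m := rfl

/-- relations of `Q X` -/
def RX : Prop :=
  (T.a0 * T.a0 = 1 ∧ T.a1 * T.a1 = 1 ∧ T.b0 * T.b0 = 1 ∧ T.b1 * T.b1 = 1 ∧ T.z * T.z = 1) ∧
  T.z * T.a0 * T.z * T.a0 = 1 ∧
  T.z * T.a1 * T.z * T.a1 = 1 ∧
  T.z * T.b0 * T.z * T.b0 = 1 ∧
  T.z * T.b1 * T.z * T.b1 = 1 ∧
  T.a0 * T.a1 * T.a0 * T.a1 = 1 ∧
  T.b0 * T.b1 * T.b0 * T.b1 = 1 ∧
  T.a0 * T.b0 * T.a0 * T.b0 = 1 ∧
  T.a1 * T.b1 * T.a1 * T.b1 = 1 ∧
  T.a0 * T.b1 * T.a0 * T.b1 * T.z = 1 ∧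
  T.a1 * T.b0 * T.a1 * T.b0 * T.z = 1 ∧
  T.x * T.x * T.x = 1 ∧
  T.x * T.z * T.x⁻¹ * T.z = 1 ∧
  T.x * T.a0 * T.x⁻¹ * T.a1 = 1 ∧
  T.x * T.a1 * T.x⁻¹ * T.a1 * T.a0 = 1 ∧
  T.x * T.b0 * T.x⁻¹ * T.b1 = 1 ∧
  T.x * T.b1 * T.x⁻¹ * T.b1 * T.b0 = 1

/-- common relations of `t` -/
def RT : Prop :=
  T.t * T.t = 1 ∧ T.t * T.x * T.t * T.x = 1 ∧ T.t * T.z * T.t * T.z = 1 ∧ T.t * T.a0 * T.t * T.a0 = 1

/-- relations of `n` and `m` -/
def RA : Prop :=
  (n * n = 1 ∧ m * m = 1) ∧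
  n * T.z * n * T.a0 = 1 ∧
  n * T.a1 * n * T.a1 = 1 ∧
  n * T.b0 * n * T.t = 1 ∧
  n * T.b1 * n * T.b1 * n * T.b1 = 1 ∧
  m * T.z * m * T.b0 = 1 ∧
  m * T.b1 * m * T.b1 = 1 ∧
  m * T.a0 * m * T.t = 1 ∧
  m * T.a1 * m * T.a1 * m * T.a1 = 1 ∧
  n * m * n * m = 1 ∧
  T.x * T.t * n * T.x * T.t * n * T.x * T.t * n = 1 ∧
  T.x * T.t * m * T.x * T.t * m * T.x * T.t * m = 1

end Tup

variable {G : Type*} [Group G] {T : Tup G} {n m : G}

theorem satX (h : T.RX) : Sat T.gX 8 io rX := by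
  obtain ⟨⟨a, b, c, d, e⟩, h⟩ := h
  refine ⟨rfl, fun l hl => ?_, ?_⟩
  · interval_cases l
    exacts [inv_one.symm, eq_inv_of_mul_eq_one_left a, eq_inv_of_mul_eq_one_left b,
      eq_inv_of_mul_eq_one_left c, eq_inv_of_mul_eq_one_left d, eq_inv_of_mul_eq_one_left e, rfl,
      (inv_inv _).symm]
  · simp only [rX, List.forall_mem_cons, wv_cons, wv_nil, one_mul, List.not_mem_nil, IsEmpty.forall_iff,
      implies_true, and_true, Tup.gX_0, Tup.gX_1, Tup.gX_2, Tup.gX_3, Tup.gX_4, Tup.gX_5, Tup.gX_6, Tup.gX_7]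
    exact h

theorem sat0 (h : T.RX) (h' : T.RT) (h'' : T.t * T.b0 * T.t * T.b0 = 1) : Sat T.gH 9 io r0 := by
  obtain ⟨⟨a, b, c, d, e⟩, h⟩ := h
  refine Sat.append ⟨rfl, fun l hl => ?_, ?_⟩ ?_
  · interval_cases l
    exacts [inv_one.symm, eq_inv_of_mul_eq_one_left a, eq_inv_of_mul_eq_one_left b,
      eq_inv_of_mul_eq_one_left c, eq_inv_of_mul_eq_one_left d, eq_inv_of_mul_eq_one_left e, rfl,
      (inv_inv _).symm, eq_inv_of_mul_eq_one_left h'.1]
  · simp only [rX, List.forall_mem_cons, wv_cons, wv_nil, one_mul, List.not_mem_nil, IsEmpty.forall_iff,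
      implies_true, and_true, Tup.gH_0, Tup.gH_1, Tup.gH_2, Tup.gH_3, Tup.gH_4, Tup.gH_5, Tup.gH_6, Tup.gH_7, Tup.gH_8]
    exact h
  · simp only [List.forall_mem_cons, wv_cons, wv_nil, one_mul, List.not_mem_nil, IsEmpty.forall_iff,
      implies_true, and_true, Tup.gH_0, Tup.gH_1, Tup.gH_2, Tup.gH_3, Tup.gH_4, Tup.gH_5, Tup.gH_6, Tup.gH_7, Tup.gH_8]
    exact ⟨h'.2.1, h'.2.2.1, h'.2.2.2, h''⟩

theorem sat1 (h : T.RX) (h' : T.RT) (h'' : T.t * T.b0 * T.t * T.z * T.b0 * T.a0 = 1) : Sat T.gH 9 io r1 := by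
  obtain ⟨⟨a, b, c, d, e⟩, h⟩ := h
  refine Sat.append ⟨rfl, fun l hl => ?_, ?_⟩ ?_
  · interval_cases l
    exacts [inv_one.symm, eq_inv_of_mul_eq_one_left a, eq_inv_of_mul_eq_one_left b,
      eq_inv_of_mul_eq_one_left c, eq_inv_of_mul_eq_one_left d, eq_inv_of_mul_eq_one_left e, rfl,
      (inv_inv _).symm, eq_inv_of_mul_eq_one_left h'.1]
  · simp only [rX, List.forall_mem_cons, wv_cons, wv_nil, one_mul, List.not_mem_nil, IsEmpty.forall_iff,
      implies_true, and_true, Tup.gH_0, Tup.gH_1, Tup.gH_2, Tup.gH_3, Tup.gH_4, Tup.gH_5, Tup.gH_6, Tup.gH_7, Tup.gH_8]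
    exact h
  · simp only [List.forall_mem_cons, wv_cons, wv_nil, one_mul, List.not_mem_nil, IsEmpty.forall_iff,
      implies_true, and_true, Tup.gH_0, Tup.gH_1, Tup.gH_2, Tup.gH_3, Tup.gH_4, Tup.gH_5, Tup.gH_6, Tup.gH_7, Tup.gH_8]
    exact ⟨h'.2.1, h'.2.2.1, h'.2.2.2, h''⟩

theorem satA (h : T.RX) (h' : T.RT) (h'' : T.t * T.b0 * T.t * T.b0 = 1) (h3 : T.RA n m) :
    Sat (T.gA n m) 11 io rA := by
  obtain ⟨⟨a, b, c, d, e⟩, h⟩ := h
  refine Sat.append (Sat.append ⟨rfl, fun l hl => ?_, ?_⟩ ?_) ?_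
  · interval_cases l
    exacts [inv_one.symm, eq_inv_of_mul_eq_one_left a, eq_inv_of_mul_eq_one_left b,
      eq_inv_of_mul_eq_one_left c, eq_inv_of_mul_eq_one_left d, eq_inv_of_mul_eq_one_left e, rfl,
      (inv_inv _).symm, eq_inv_of_mul_eq_one_left h'.1, eq_inv_of_mul_eq_one_left h3.1.1,
      eq_inv_of_mul_eq_one_left h3.1.2]
  · simp only [rX, List.forall_mem_cons, wv_cons, wv_nil, one_mul, List.not_mem_nil, IsEmpty.forall_iff,
      implies_true, and_true, Tup.gA_0, Tup.gA_1, Tup.gA_2, Tup.gA_3, Tup.gA_4, Tup.gA_5, Tup.gA_6, Tup.gA_7, Tup.gA_8, Tup.gA_9, Tup.gA_10]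
    exact h
  · simp only [List.forall_mem_cons, wv_cons, wv_nil, one_mul, List.not_mem_nil, IsEmpty.forall_iff,
      implies_true, and_true, Tup.gA_0, Tup.gA_1, Tup.gA_2, Tup.gA_3, Tup.gA_4, Tup.gA_5, Tup.gA_6, Tup.gA_7, Tup.gA_8, Tup.gA_9, Tup.gA_10]
    exact ⟨h'.2.1, h'.2.2.1, h'.2.2.2, h''⟩
  · simp only [List.forall_mem_cons, wv_cons, wv_nil, one_mul, List.not_mem_nil, IsEmpty.forall_iff,
      implies_true, and_true, Tup.gA_0, Tup.gA_1, Tup.gA_2, Tup.gA_3, Tup.gA_4, Tup.gA_5, Tup.gA_6, Tup.gA_7, Tup.gA_8, Tup.gA_9, Tup.gA_10]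
    exact h3.2

noncomputable def tcX_C : SeqCert := ⟨nat_lit 7, nat_lit 10, nat_lit 8, nat_lit 0x6070706050504040303020201010000, (NT.leaf (nat_lit 0) (nat_lit 0x1aedf03957c1ebdf04917c065df059d7c1ddde029d781a9de01a17812d5e0573781265d06af740e1dd029b741695d067d700695c07a1700a9dc03b370157dc06696c0dc5b07b56c11edb018f6c15b5b0769680de5a02ad6815ada048b640995901ab64154d907b1640e258016360116580281601545801615c0935703675c16a57039f5806356049d581645606a358128d50283540e9550587541e7d5069d501e95401775009f5403475011c5306774c0ded305754c1e7520243480a3d1064744055d10593440d650077d4012250055d400604f07453c098cf05853c04fce067f3405d4d0797340e0cd0543341924c0393301e54c015b301504c077f2c0974b048d2c14fcb0749281214a026f2814f4a0667241e449048724062c90767200e148026b20120c7033b1c14dc7078d1c0e04602551814d46026d140d6c50557141e2450188d408d44055510192c307850c054c3074b0809e4201650414bc107810410e40052d0010abf0332fc0983f014cfc1533e044ef80cc3e0252f404bbd0564f41de3d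0150f011bbc0562f008a3b0368ec1583b0660e81dcba025ee80d93a0760e405739046ae4096b8013ae014938076ee0056370522dc119360324d804db6076ad80d8b50420d008cb40146d0151b30448cc08c330762c8108b1031ec01932f075cbc0d4af074cb81152e051ab41d62d0238b01462c0452ac0c6ab0754ac0d42a0750a410628022ca00c5a702449c04aa703149815125034894049a50216900482402148c047220628841cfa1032e8418420073c80046a007287c10d1f0710780889e050e741ce1d050c7010b9b030e6c1cd1b032c6810299011464145180416601cb17040c580c295021c540c214051c4c0c813021a480439207224804611020a400820f0718340830c010a2c041890104201c30702bee40ef3701babc12e2d02b6ac06d2a07b29c1ac2704ae941ab2307aa8812a2201a6841292003a2800a81f049e780e71e049a740a61d0396700651c02926c0641a078e641a319078a601a21802865c061160782541a015057e5005f14077a4c19e1304764c11d120372441dc10066e401db0f066a3c15a0f01663c1d90e0662381180e045e340d70c075a2c1960b0756281950a07522419409054e2411309024a24152080446200d10804421c09007033e1804f06073a1418e0507361018d0405321004c04072e0c18b03052a0c10a0302260c1c90206220814802041e080c702071a04186010516041050103120408401070e0018300050a00102000306000810001020000000)),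 (NT.node (nat_lit 22) (NT.node (nat_lit 11) (NT.node (nat_lit 5) (NT.node (nat_lit 2) (NT.node (nat_lit 1) (NT.leaf (nat_lit 41) (nat_lit 0x70707)) (NT.leaf (nat_lit 16400) (nat_lit 0x1020102))) (NT.node (nat_lit 3) (NT.leaf (nat_lit 16408) (nat_lit 0x1030103)) (NT.node (nat_lit 4) (NT.leaf (nat_lit 0) (nat_lit 0x1050105)) (NT.leaf (nat_lit 48) (nat_lit 0x2070106))))) (NT.node (nat_lit 8) (NT.node (nat_lit 6) (NT.leaf (nat_lit 16412) (nat_lit 0x2040204)) (NT.node (nat_lit 7) (NT.leaf (nat_lit 4) (nat_lit 0x2050205)) (NT.leaf (nat_lit 52) (nat_lit 0x102070206)))) (NT.node (nat_lit 9) (NT.leaf (nat_lit 32816) (nat_lit 0x1060207)) (NT.node (nat_lit 10) (NT.leaf (nat_lit 49204) (nat_lit 0x206010207)) (NT.leaf (nat_lit 49188) (nat_lit 0x302050302)))))) (NT.node (nat_lit 16) (NT.node (nat_lit 13) (NT.node (nat_lit 12) (NT.leaf (nat_lit 36) (nat_lit 0x503020302)) (NT.leaf (nat_lit 16404) (nat_lit 0x3040304))) (NT.node (nat_lit 14) (NT.leaf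 (nat_lit 8) (nat_lit 0x3050305)) (NT.node (nat_lit 15) (NT.leaf (nat_lit 56) (nat_lit 0x4070306)) (NT.leaf (nat_lit 49184) (nat_lit 0x401050401))))) (NT.node (nat_lit 19) (NT.node (nat_lit 17) (NT.leaf (nat_lit 32) (nat_lit 0x504010401)) (NT.node (nat_lit 18) (NT.leaf (nat_lit 12) (nat_lit 0x4050405)) (NT.leaf (nat_lit 60) (nat_lit 0x304070406)))) (NT.node (nat_lit 20) (NT.leaf (nat_lit 32824) (nat_lit 0x3060407)) (NT.node (nat_lit 21) (NT.leaf (nat_lit 49212) (nat_lit 0x406030407)) (NT.leaf (nat_lit 44) (nat_lit 0x5070506))))))) (NT.node (nat_lit 33) (NT.node (nat_lit 27) (NT.node (nat_lit 24) (NT.node (nat_lit 23) (NT.leaf (nat_lit 32812) (nat_lit 0x5060507)) (NT.leaf (nat_lit 16) (nat_lit 0x2010201))) (NT.node (nat_lit 25) (NT.leaf (nat_lit 53) (nat_lit 0x702060201)) (NT.node (nat_lit 26) (NT.leaf (nat_lit 20) (nat_lit 0x4030403)) (NT.leaf (nat_lit 61) (nat_lit 0x704060403))))) (NT.node (nat_lit 30) (NT.node (nat_lit 28) (NT.leaf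 (nat_lit 16432) (nat_lit 0x7010602)) (NT.node (nat_lit 29) (NT.leaf (nat_lit 65588) (nat_lit 0x601020702)) (NT.leaf (nat_lit 16440) (nat_lit 0x7030604)))) (NT.node (nat_lit 31) (NT.leaf (nat_lit 65596) (nat_lit 0x603040704)) (NT.node (nat_lit 32) (NT.leaf (nat_lit 16396) (nat_lit 0x5040504)) (NT.leaf (nat_lit 24) (nat_lit 0x3010301)))))) (NT.node (nat_lit 38) (NT.node (nat_lit 35) (NT.node (nat_lit 34) (NT.leaf (nat_lit 65568) (nat_lit 0x105040104)) (NT.leaf (nat_lit 28) (nat_lit 0x4020402))) (NT.node (nat_lit 36) (NT.leaf (nat_lit 16384) (nat_lit 0x5010501)) (NT.node (nat_lit 37) (NT.leaf (nat_lit 16392) (nat_lit 0x5030503)) (NT.leaf (nat_lit 32804) (nat_lit 0x203020503))))) (NT.node (nat_lit 41) (NT.node (nat_lit 39) (NT.leaf (nat_lit 16388) (nat_lit 0x5020502)) (NT.node (nat_lit 40) (NT.leaf (nat_lit 32800) (nat_lit 0x104010504)) (NT.leaf (nat_lit 49208) (nat_lit 0x6040703)))) (NT.node (nat_lit 42) (NT.leaf (nat_lit 49200)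 (nat_lit 0x6020701)) (NT.node (nat_lit 43) (NT.leaf (nat_lit 32828) (nat_lit 0x704060304)) (NT.leaf (nat_lit 40) (nat_lit 0x60606))))))))⟩
noncomputable def tcX_U : List (List ℕ) := []
noncomputable def tcX_HL : List ℕ := []
theorem tcX_head : tcX_C.head 8 io rX tcX_U tcX_HL 96 7 0 = true := by decide +kernel
noncomputable def tcX_s0 : List ℕ := [nat_lit 0x211266180305c8237c6500c082082a0bc030588220402000803843900c0e2002a0b4030547e0a02b00c111f8dd0cc030347e6017d00c061f87d6540300c7c0a0c4134040407c0a02b4800403c7c3743100c201e82631053010091e8260bc030207a36c6500c161e879008001e0260b526010071e0d91bc030387836c6300c151d8260a403014763655600c0c1d8db1840307c740901f518040787434c7300c1d1d0d717c03014745796100c0c1c948188610101a1c8d117403008725215800c191c0cf3185b010091c0cf0ec03020700802500c161c06f008001b8cf0e536010071b82008c030546c0781d194040506c0782500c131b0cd0dc030206c1ac020006a0782352004048680782100c111a0cd0cc030186819d5100c031981e308470101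01981e085140100f198cd0c40305c6418c02000620702300c0e1801c07c030305e06815478040785e32c5d00c1d179304cc030305c4a050134040685c4a12c00c191681606c030585a164020005831c3900c041601606403054560501314c04050560501b00c13158550080015014065280101214851008001401206403038503142d00c041381205c030344e12d1d00c06138c50ac0300c4c0481500c0c12812044450100b1281205d160100a128c509c03004480401700c06120c30840300c460401500c05110c307403008420380937004078423043f00c1d108f23d403030400380530804070403043d00c1b100d435c030043e3882c0a4040683e388ee00c190f0c806011010180f0c83400305c3a0280f00c160e839008000e00a0340305436020070bc04050360200f00c130d835008000d008034e2010120c80802c03044320c4e900c030c00800c15010100c00802cc60100f0b82d008000b006034030382a0180b00c0d0a82736c03018280180900c0c098060141d0100b0980602cce0100a0900400c1b010090900403c030202408c02000220100d3200401c200100b00c0607804024030141a06402000180080d00c040580202c0300c120080700c0204002014030040e0340200075,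
 nat_lit 0x2f18499003064bc58c7300c242e85e4e9ee0100f2e945920030a4ba505ac00c202e9767f00305cba9d27d00c232e05a399900101e2e13b410a5010272e13984003074b85b22400c052e1bc97803030b84ec5f00c1f2d856449520101c2d9314e96c0100a2d92f2d40306cb64cd8e00c222da1486403004b66e9bf00c262d1c223154010182d12d61803080b470a4000c172d1b26d80308cb26499122c04050b248d1119404024b248cab00c082c84e14c03058b22c402000b064a0e83404048b048e068140401cb04945900c0e2c12120403010b01385100c152b91d44461010272b84a13403014ae46d4e00c0c2b91d2a40307cac118fe27c04048ac44c557080401cac89a2f00c0e2b15074803054ac858020acaa2a62785804050aa4892120c04024aa2a62d00c132a91c6c003058aa81802000a88189e27404078a811108294040a8a8471191dc0409ca84899200c052a04411c03030a6108fa5a80403ca643d8000c292990b63003080a67d9fd00c232910727403074a41004300c05289ec261ca010252890911c030a0a24153000c02289ec7cc03090a00f8f64d804028a040c7d00c1b281016d003088a0791e900c26279dc251a001027278ff114030749e3f54800c05279dc7840307c9c0f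03f00c022683a3b19a0101e268fb3507501027268f925c030749a729cd00c0c268fb10c0307c980e8ce4500407098729c924c04028983e49500c1b2616a5b403004983ec4100c26259a02019c0101a258f73205d01025259a071003064963dc3f00c24251361611601018251a067c850100f251365900305c943dc3d00c2324836330670101c248f12440306c923d48700c222495c6f803004906d08853004060903bc8500c20241b46d80305c8e3b4e020c040508e3b43b00c13238320dc030588e234020008c3b439680040488c3ac5500c04230320d4030548a530661b4040248a39c5b00c13228e915c030588a224020016e5c53d6c804084880c03500c04220e915403054860b82746004070863948500c1b2198c63c03004844985012c0406072,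
 nat_lit 0xbe5e1772ec04070be1c96277804028be5ce4a00c1b2f96f73803088be5c5e800c012fa8aa4c03098bc610781dc04068bc58cfc27404094bc59a2400c282f165840030080a]
theorem tcX_ok0 : tcX_C.StepsOK 96 337 := (SeqCert.StepsOK.refl _ 96).step (L := tcX_s0) (by decide +kernel)
theorem tcX_ok : tcX_C.StepsOK (96 + 0) 337 := tcX_ok0
noncomputable def tcX_r0 : List ℕ := [nat_lit 0xe0e060602828101006060202008080, nat_lit 0x1a1a0c0c0585828281212080800c001, nat_lit 0x24241111080803c3c1c1c028030c402, nat_lit 0x2e2e16160a8a8505007001313314483, nat_lit 0x36361a1a0c8c81200dd28668f0c0c04, nat_lit 0x3a3a1c1c02c01da64e12a679031c585, nat_lit 0xd0060873dce1c6583e3e648c0f0f06, nat_lit 0xc00c07803ece88484f3362020354907, nat_lit 0x109407f9e121208c8c44440881308108, nat_lit 0x5252282813938989813022525310189, nat_lit 0x56562a2a3a4c02a051f4c89a33acc8a, nat_lit 0x5a5a2c2c05c09ce61254e8ba431828b, nat_lit 0x1902658d4d56252a05c5c640634488c, nat_lit 0xca180d814ed68bcbd31566b9241500d,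 nat_lit 0x6464313136c98c0c01d046f9544510e, nat_lit 0x6c6c35351a1a03e094760660419998f, nat_lit 0x7070373708412aed0d9266705455210, nat_lit 0x2304699258dba92c472727e9e340611, nat_lit 0xd22212825a5c0e8e95f6c6b0d350392, nat_lit 0x7a7a3c3c36870ececd8201383465293, nat_lit 0x10f42819f1f9f8520cdc08c0bb1f1f14, nat_lit 0x828240400ac1b3afce00a6f0e485395, nat_lit 0x2d06729767e01c418ef3493a8212116, nat_lit 0xe42c178369609ea6d0b424343635e97, nat_lit 0x8a8a44443a051cc2d917ca6b30c4218, nat_lit 0x8e8e46460cc21d8159b7eaab43a8519, nat_lit 0x3508789b70632027cee2cdac424241a, nat_lit 0xf0341b8472639e85cf20e4949575b1b, nat_lit 0x390a7c9d3d833430096969bac25251c, nat_lit 0xf8381d853e8393535cb8e4c4c5adc1d, nat_lit 0xfe1083a0776513d3c9c9c7e110f431e, nat_lit 0x1022886a17965a00683f0c505080671f, nat_lit 0x1063c84087b6614948a2a220874106a0, nat_lit 0x10c3e87147de68861d0a2f0dd229a9a1, nat_lit 0xaaab03cf475295150451091a7440722, nat_lit 0x217a25656545988e2227a8890a54da23,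 nat_lit 0x1f598f1ca124429ecd1b4a8b0b450824, nat_lit 0x1b186d5c2471115d5d1a4825894609a5, nat_lit 0x1455e9fae655f09a251e1524d765dfa6, nat_lit 0xb2b2585813c4b26f924169122480aa7, nat_lit 0x511295a9936c250312d54931661de28, nat_lit 0x12a502989966ca66ad415ec7bd6b61a9, nat_lit 0x551497ab6ce227ab92c50e1c62d2d2a, nat_lit 0x12e542b8a6ee2a64a5301a5b5b8568ab, nat_lit 0x59169cad4d064a36211a09b1c595bac, nat_lit 0x138582d8b4e8697171bd8ab6b87be62d, nat_lit 0x13e4ca1af82e8278a85d18f4cb5c5cae, nat_lit 0x1425ca2269d6e0be354052bbba2eaeaf, nat_lit 0x17b74b9b95f5d8c239461eccbf92ebb0, nat_lit 0x631ca5b260de29045596b02cf94ec31, nat_lit 0x14a62328e62deac2d975752ed969e0b2, nat_lit 0x1db92e9c85411a9c9247aea61819c7b3, nat_lit 0x273b733da1a47aac417f76aa195491b4, nat_lit 0x6b1eadb6986d2dee55862e7c86da235, nat_lit 0x15a6a368f9a6dac0c95e24dfc5570db6, nat_lit 0x6f20b3b85888b0af0bcbcefca591637, nat_lit 0x1666e38905a0944b4e71b6b62d5a8eb8, nat_lit 0x17260bcbaa2ef2dcd473225f5f5c1739,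 nat_lit 0x17872bd3087e98ea497464bb2f7f66ba, nat_lit 0x223a74ade5f180ee4d7e68c0148aea3b, nat_lit 0x7926c4bd6098b08de65b4d4c261943c, nat_lit 0x188783d9362994db6e21a6c729630bbd, nat_lit 0x27fb907d065133249d903114d41f4a3e, nat_lit 0x1ff9af5cb1fca338559a32cc3065933f, nat_lit 0x812ad1c1678b34071c58d27d88267c0, nat_lit 0x1a2804195690bb9b1df99b1bd5699941, nat_lit 0x1aa4ad7c380e7bc329d190d43c214b42, nat_lit 0x1ae84d8258ceabaf2685ba43976b14c3, nat_lit 0x8930dcc56c9541b4255b0da1a6ddac4, nat_lit 0x1b88845986e95cbf65bc5adf367564c5, nat_lit 0x8d32e3c7700d3cf2dc480e12a906b46, nat_lit 0x1c68c4799720db9905ca3b0cd19aedc7, nat_lit 0x1d266ecc98f6b5377dd084e735244d48, nat_lit 0x1d890ed3384e8bad0df398499b7522c9, nat_lit 0x1e248f8cc770f3c10a9fbeef37254e4a, nat_lit 0x1ea7efdcd790fbcd189738f42ea66fcb, nat_lit 0x1f094fa247b1051375f2924c9d7b96cc, nat_lit 0x1fa96ff3f7d9093675f88341dd7f1d4d, nat_lit 0x22fa90ed2a5efc7f589d3d49de800fce, nat_lit 0x2064518d580a113e7a43ad023182204f,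 nat_lit 0x20e7d3ddc8297419121058509fa3ef50, nat_lit 0x23bad0b2384a4c7354a3410c478515d1, nat_lit 0x21c9d16d4a06e94a8235ab0d219f6e52, nat_lit 0x291bd113b879d448e2207b3cdc29d0d3, nat_lit 0x22ca5174e916b9528a2647143e8a9dd4, nat_lit 0x2309e55a28ca1c714634a51b4196ecd5, nat_lit 0xad471d518f2447d3a429f31da902356, nat_lit 0x287bb4edf912a15e9646672426929857, nat_lit 0xb14f2bd993144a0b2548927409498d8, nat_lit 0x256b059a79614cbd1677b92e3296aad9, nat_lit 0x2666937db981ad1b7a647931562d555a, nat_lit 0x26eb539349a1b4d8f670705bab9aa3db, nat_lit 0x27aa13f3e9d17972b676b33c539f295c, nat_lit 0x2a1bf4357a029511328487414d2ed7dd, nat_lit 0x294774853a29cd1968bd6f494ea3a85e, nat_lit 0x29caf505da5a7535229e945fb9a625df]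
theorem tcX_final : tcX_C.final 8 337 (nat_lit 0xffffffffffffffffffffffff) 96 [1,2,3,4,5,6,7] (tcX_r0) = true := by decide +kernel
theorem tcX {G : Type*} [Group G] {g : ℕ → G} {H : Subgroup G} (hg : Sat g 8 io rX)
    (hU : ∀ u ∈ tcX_U, wv g u ∈ H) (hL : ∀ l ∈ tcX_HL, g l ∈ H) :
    IdxLe H (Subgroup.closure {x | ∃ l ∈ ([1,2,3,4,5,6,7] : List ℕ), g l = x}) 96 :=
  SeqCert.idxLe_of_final hg hU hL tcX_head tcX_ok tcX_final

noncomputable def tc0_C : SeqCert := ⟨nat_lit 1, nat_lit 9, nat_lit 9, nat_lit 0x80806070706050504040303020201010000, (NT.leaf (nat_lit 0) (nat_lit 0x4c0b03c0705c1b060140400c0200408800)), (NT.node (nat_lit 3) (NT.node (nat_lit 1) (NT.leaf (nat_lit 64) (nat_lit 0x6080608)) (NT.node (nat_lit 2) (NT.leaf (nat_lit 68) (nat_lit 0x5080508)) (NT.leaf (nat_lit 72) (nat_lit 0x1080108)))) (NT.node (nat_lit 4) (NT.leaf (nat_lit 76) (nat_lit 0x3080308)) (NT.node (nat_lit 5) (NT.leaf (nat_lit 48) (nat_lit 0x2070106)) (NT.leaf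 (nat_lit 56) (nat_lit 0x4070306)))))⟩
noncomputable def tc0_U : List (List ℕ) := []
noncomputable def tc0_HL : List ℕ := [1,2,3,4,5,6,7]
theorem tc0_head : tc0_C.head 9 io r0 tc0_U tc0_HL 2 1 6 = true := by decide +kernel
noncomputable def tc0_s0 : List ℕ := [nat_lit 0x402c110181420140880c08020400c060301010060301008180301804040e0180c0006]
theorem tc0_ok0 : tc0_C.StepsOK 8 14 := (SeqCert.StepsOK.refl _ 8).step (L := tc0_s0) (by decide +kernel)
theorem tc0_ok : tc0_C.StepsOK (2 + 6) 14 := tc0_ok0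
noncomputable def tc0_r0 : List ℕ := [nat_lit 0x283c0e0300a02006010, nat_lit 0x30461084a1a85a18853]
theorem tc0_final : tc0_C.final 9 14 (nat_lit 0x3) 2 [1,2,3,4,5,6,7,8] (tc0_r0) = true := by decide +kernel
theorem tc0 {G : Type*} [Group G] {g : ℕ → G} {H : Subgroup G} (hg : Sat g 9 io r0)
    (hU : ∀ u ∈ tc0_U, wv g u ∈ H) (hL : ∀ l ∈ tc0_HL, g l ∈ H) :
    IdxLe H (Subgroup.closure {x | ∃ l ∈ ([1,2,3,4,5,6,7,8] : List ℕ), g l = x}) 2 :=
  SeqCert.idxLe_of_final hg hU hL tc0_head tc0_ok tc0_final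

noncomputable def tc1_C : SeqCert := ⟨nat_lit 1, nat_lit 9, nat_lit 9, nat_lit 0x80806070706050504040303020201010000, (NT.leaf (nat_lit 0) (nat_lit 0x4c0b03c0705c1b060140400c0200408800)), (NT.node (nat_lit 3) (NT.node (nat_lit 1) (NT.leaf (nat_lit 64) (nat_lit 0x6080608)) (NT.node (nat_lit 2) (NT.leaf (nat_lit 68) (nat_lit 0x5080508)) (NT.leaf (nat_lit 72) (nat_lit 0x1080108)))) (NT.node (nat_lit 4) (NT.leaf (nat_lit 65612) (nat_lit 0x30801030508)) (NT.node (nat_lit 5) (NT.leaf (nat_lit 48) (nat_lit 0x2070106)) (NT.leaf (nat_lit 56) (nat_lit 0x4070306)))))⟩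
noncomputable def tc1_U : List (List ℕ) := []
noncomputable def tc1_HL : List ℕ := [1,2,3,4,5,6,7]
theorem tc1_head : tc1_C.head 9 io r1 tc1_U tc1_HL 2 1 6 = true := by decide +kernel
noncomputable def tc1_s0 : List ℕ := [nat_lit 0x100b04406050805022030200818080200c0a0301010060301008180301804040e0180c0006]
theorem tc1_ok0 : tc1_C.StepsOK 8 14 := (SeqCert.StepsOK.refl _ 8).step (L := tc1_s0) (by decide +kernel)
theorem tc1_ok : tc1_C.StepsOK (2 + 6) 14 := tc1_ok0
noncomputable def tc1_r0 : List ℕ := [nat_lit 0x283c0e0300a02006010, nat_lit 0x30461084a1a85a18853]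
theorem tc1_final : tc1_C.final 9 14 (nat_lit 0x3) 2 [1,2,3,4,5,6,7,8] (tc1_r0) = true := by decide +kernel
theorem tc1 {G : Type*} [Group G] {g : ℕ → G} {H : Subgroup G} (hg : Sat g 9 io r1)
    (hU : ∀ u ∈ tc1_U, wv g u ∈ H) (hL : ∀ l ∈ tc1_HL, g l ∈ H) :
    IdxLe H (Subgroup.closure {x | ∃ l ∈ ([1,2,3,4,5,6,7,8] : List ℕ), g l = x}) 2 :=
  SeqCert.idxLe_of_final hg hU hL tc1_head tc1_ok tc1_final

noncomputable def tcN_C : SeqCert := ⟨nat_lit 3, nat_lit 9, nat_lit 11, nat_lit 0xa0a0909080806070706050504040303020201010000, (NT.leaf (nat_lit 0) (nat_lit 0x27604980b608b80e601d817607b826c037406d04b40ad05b425b029021c0190164077005b046c09b056c212094805202480d205482090324089012414908001800500100030008001001f206a81e106641110920000)), (NT.node (nat_lit 12) (NT.node (nat_lit 6) (NT.node (nat_lit 3) (NT.node (nat_lit 1) (NT.leaf (nat_lit 32848) (nat_lit 0x5090109)) (NT.node (nat_lit 2) (NT.leaf (nat_lit 80) (nat_lit 0x1090509)) (NT.leaf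 (nat_lit 84) (nat_lit 0x2090209)))) (NT.node (nat_lit 4) (NT.leaf (nat_lit 32856) (nat_lit 0x3090809)) (NT.node (nat_lit 5) (NT.leaf (nat_lit 88) (nat_lit 0x8090309)) (NT.leaf (nat_lit 16396) (nat_lit 0x5040504))))) (NT.node (nat_lit 9) (NT.node (nat_lit 7) (NT.leaf (nat_lit 16404) (nat_lit 0x3040304)) (NT.node (nat_lit 8) (NT.leaf (nat_lit 16412) (nat_lit 0x2040204)) (NT.leaf (nat_lit 32800) (nat_lit 0x104010504)))) (NT.node (nat_lit 10) (NT.leaf (nat_lit 16476) (nat_lit 0x90409040904)) (NT.node (nat_lit 11) (NT.leaf (nat_lit 44) (nat_lit 0x5070506)) (NT.leaf (nat_lit 48) (nat_lit 0x2070106)))))) (NT.node (nat_lit 18) (NT.node (nat_lit 15) (NT.node (nat_lit 13) (NT.leaf (nat_lit 56) (nat_lit 0x4070306)) (NT.node (nat_lit 14) (NT.leaf (nat_lit 52) (nat_lit 0x102070206)) (NT.leaf (nat_lit 41) (nat_lit 0x70707)))) (NT.node (nat_lit 16) (NT.leaf (nat_lit 32812) (nat_lit 0x5060507)) (NT.node (nat_lit 17) (NT.leaf (nat_lit 32816)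 (nat_lit 0x1060207)) (NT.leaf (nat_lit 65) (nat_lit 0x8070807))))) (NT.node (nat_lit 21) (NT.node (nat_lit 19) (NT.leaf (nat_lit 49204) (nat_lit 0x206010207)) (NT.node (nat_lit 20) (NT.leaf (nat_lit 32885) (nat_lit 0x90708090708090708)) (NT.leaf (nat_lit 60) (nat_lit 0x304070406)))) (NT.node (nat_lit 22) (NT.leaf (nat_lit 16472) (nat_lit 0x9030908)) (NT.node (nat_lit 23) (NT.leaf (nat_lit 32824) (nat_lit 0x3060407)) (NT.leaf (nat_lit 49212) (nat_lit 0x406030407)))))))⟩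
noncomputable def tcN_U : List (List ℕ) := []
noncomputable def tcN_HL : List ℕ := [1,2,3,4,5,6,7,8]
theorem tcN_head : tcN_C.head 11 io rA tcN_U tcN_HL 7 3 7 = true := by decide +kernel
noncomputable def tcN_s0 : List ℕ := [nat_lit 0x2d940b0030a8300822048102e0c150b01a0409030600b0184418040480c2c0c150340610060981a0307830160207104884e018541404038d80814050a816480203414280580c180a1602c060b0509816030510010020d06406240382026081007812040902048070184410200480c20080e024060f0401c040e030800e34020340c220380c18060f01c060b030700e03050b8502e0181008020a00c0a0504810381e028101004100140607020880a030301038050181404120180c08020d00c0603010400603010082c0301804040e0180c0023]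
theorem tcN_ok0 : tcN_C.StepsOK 14 49 := (SeqCert.StepsOK.refl _ 14).step (L := tcN_s0) (by decide +kernel)
theorem tcN_ok : tcN_C.StepsOK (7 + 7) 49 := tcN_ok0
noncomputable def tcN_r0 : List ℕ := [nat_lit 0x88680640600580500480400380, nat_lit 0xc0908220198708110888808789, nat_lit 0xb90c103302a8990148a10a90b12, nat_lit 0x11190601c8ee0c98d993e8d18e1b, nat_lit 0x1429018e98248f217f16710a0fa4, nat_lit 0x14616f02d14f11a92a939922932d, nat_lit 0x18316a94a83515317a16217315b6]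
theorem tcN_final : tcN_C.final 11 49 (nat_lit 0x7f) 7 [1,2,3,4,5,6,7,8,9] (tcN_r0) = true := by decide +kernel
theorem tcN {G : Type*} [Group G] {g : ℕ → G} {H : Subgroup G} (hg : Sat g 11 io rA)
    (hU : ∀ u ∈ tcN_U, wv g u ∈ H) (hL : ∀ l ∈ tcN_HL, g l ∈ H) :
    IdxLe H (Subgroup.closure {x | ∃ l ∈ ([1,2,3,4,5,6,7,8,9] : List ℕ), g l = x}) 7 :=
  SeqCert.idxLe_of_final hg hU hL tcN_head tcN_ok tcN_final

noncomputable def tcA_C : SeqCert := ⟨nat_lit 4, nat_lit 9, nat_lit 11, nat_lit 0xa0a0909080806070706050504040303020201010000, (NT.leaf (nat_lit 0) (nat_lit 0x8ed09ee06ae07de01ce0aee02ce03de05ce09dd01bd0acd07ad02dd05bd08cb09cc068c07bc03bc09bb0abb078b02bb0aaa08aa039a028a01aa058a06990a89089902990199057908880378018806770a770877027701770a6604660246085603660146056607560a54035501350455025505550a3304440834034405440734033304330233053308220a22032209220422012205220911081101110411031105110900080006000500040003000200010004ea04d904c804b709a6099509840973076206520741063102210a100000)),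 (NT.node (nat_lit 21) (NT.node (nat_lit 10) (NT.node (nat_lit 5) (NT.node (nat_lit 2) (NT.node (nat_lit 1) (NT.leaf (nat_lit 32864) (nat_lit 0x50a030a)) (NT.leaf (nat_lit 96) (nat_lit 0x30a050a))) (NT.node (nat_lit 3) (NT.leaf (nat_lit 100) (nat_lit 0x40a040a)) (NT.node (nat_lit 4) (NT.leaf (nat_lit 32872) (nat_lit 0x10a080a)) (NT.leaf (nat_lit 104) (nat_lit 0x80a010a))))) (NT.node (nat_lit 7) (NT.node (nat_lit 6) (NT.leaf (nat_lit 16496) (nat_lit 0x90a090a)) (NT.leaf (nat_lit 16388) (nat_lit 0x5020502))) (NT.node (nat_lit 8) (NT.leaf (nat_lit 16400) (nat_lit 0x1020102)) (NT.node (nat_lit 9) (NT.leaf (nat_lit 28) (nat_lit 0x4020402)) (NT.leaf (nat_lit 16468) (nat_lit 0x9020902)))))) (NT.node (nat_lit 15) (NT.node (nat_lit 12) (NT.node (nat_lit 11) (NT.leaf (nat_lit 49188) (nat_lit 0x302050302)) (NT.leaf (nat_lit 16492) (nat_lit 0xa020a020a02))) (NT.node (nat_lit 13) (NT.leaf (nat_lit 44) (nat_lit 0x5070506)) (NT.node (nat_lit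 14) (NT.leaf (nat_lit 48) (nat_lit 0x2070106)) (NT.leaf (nat_lit 56) (nat_lit 0x4070306))))) (NT.node (nat_lit 18) (NT.node (nat_lit 16) (NT.leaf (nat_lit 60) (nat_lit 0x304070406)) (NT.node (nat_lit 17) (NT.leaf (nat_lit 41) (nat_lit 0x70707)) (NT.leaf (nat_lit 32812) (nat_lit 0x5060507)))) (NT.node (nat_lit 19) (NT.leaf (nat_lit 32824) (nat_lit 0x3060407)) (NT.node (nat_lit 20) (NT.leaf (nat_lit 65) (nat_lit 0x8070807)) (NT.leaf (nat_lit 49212) (nat_lit 0x406030407))))))) (NT.node (nat_lit 32) (NT.node (nat_lit 26) (NT.node (nat_lit 23) (NT.node (nat_lit 22) (NT.leaf (nat_lit 32889) (nat_lit 0xa07080a07080a0708)) (NT.leaf (nat_lit 52) (nat_lit 0x102070206))) (NT.node (nat_lit 24) (NT.leaf (nat_lit 16488) (nat_lit 0xa010a08)) (NT.node (nat_lit 25) (NT.leaf (nat_lit 32816) (nat_lit 0x1060207)) (NT.leaf (nat_lit 49204) (nat_lit 0x206010207))))) (NT.node (nat_lit 29) (NT.node (nat_lit 27) (NT.leaf (nat_lit 80) (nat_lit 0x1090509))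 (NT.node (nat_lit 28) (NT.leaf (nat_lit 84) (nat_lit 0x2090209)) (NT.leaf (nat_lit 88) (nat_lit 0x8090309)))) (NT.node (nat_lit 30) (NT.leaf (nat_lit 112) (nat_lit 0xa090a09)) (NT.node (nat_lit 31) (NT.leaf (nat_lit 32884) (nat_lit 0x60908060908060908)) (NT.leaf (nat_lit 32856) (nat_lit 0x3090809)))))) (NT.node (nat_lit 37) (NT.node (nat_lit 34) (NT.node (nat_lit 33) (NT.leaf (nat_lit 32848) (nat_lit 0x5090109)) (NT.leaf (nat_lit 16412) (nat_lit 0x2040204))) (NT.node (nat_lit 35) (NT.leaf (nat_lit 16440) (nat_lit 0x7030604)) (NT.node (nat_lit 36) (NT.leaf (nat_lit 16484) (nat_lit 0xa040a04)) (NT.leaf (nat_lit 16476) (nat_lit 0x90409040904))))) (NT.node (nat_lit 40) (NT.node (nat_lit 38) (NT.leaf (nat_lit 16404) (nat_lit 0x3040304)) (NT.node (nat_lit 39) (NT.leaf (nat_lit 32828) (nat_lit 0x704060304)) (NT.leaf (nat_lit 65596) (nat_lit 0x603040704)))) (NT.node (nat_lit 41) (NT.leaf (nat_lit 16396) (nat_lit 0x5040504)) (NT.node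 (nat_lit 42) (NT.leaf (nat_lit 32800) (nat_lit 0x104010504)) (NT.leaf (nat_lit 16452) (nat_lit 0x8050805))))))))⟩
noncomputable def tcA_U : List (List ℕ) := []
noncomputable def tcA_HL : List ℕ := [1,2,3,4,5,6,7,8,9]
theorem tcA_head : tcA_C.head 11 io rA tcA_U tcA_HL 15 4 8 = true := by decide +kernel
noncomputable def tcA_s0 : List ℕ := [nat_lit 0x166b15f00c541c0a1d02a1d0289038b60d26808270e26d241b0209838954106408290e2783a0311871321901884389b0d80c4a1c4a86406280d048c0130d814481a449e02e041486922190188c34924d00c441a4606c06210d2242e031429950ae0187030102c0443205120614416420104e1842a002e04130610a17018942c0e2603c2e0512058fc170188c2c804200c44163d05c06210a1d82a030e850dc150187028710980c3e1439844061b0a1a82a030d050da11018811c1205118800d3884c101e0919822030e848c81301870245e0980c36122e04c061a0918c1e0310040a8110187020570780c3e1029044061a3e0380c361c024ae0f040781c5a0780c3a0e2703c061c071281e030d838900f01868e2663600c2e0c1f1081a040a030083404810320c2302c0613060f81a0309030080901860183a0680c220c0580820572d1880617050f816600203c140403928081605108160307028780b01834143a0580c1856040085429018d80e080a82064300481028081b01c0613040c81203090205c09018441007010400c3203930080f030c00e03070186807018340c2e0380c18441e1100604020084003028141604180b80a040501070050182408320280c10041a0140607020b80a0303008580301814041e0180c08021500c0603010900603010084c030180404220180c0051]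
theorem tcA_ok0 : tcA_C.StepsOK 23 104 := (SeqCert.StepsOK.refl _ 23).step (L := tcA_s0) (by decide +kernel)
theorem tcA_ok : tcA_C.StepsOK (15 + 8) 104 := tcA_ok0
noncomputable def tcA_r0 : List ℕ := [nat_lit 0x422c01500a4050026012008804001e00, nat_lit 0x603811b082100c62e11908c040843411, nat_lit 0x884402231031814a3a21f110880a23c22, nat_lit 0xb460e72ba01c4a28483261938c9466353, nat_lit 0xcca1082b1940c1225242c21510e6c6d64, nat_lit 0xce812938b02c8d2c5c53029914bca6235, nat_lit 0xecc14a3829a141a46a63a31b98e486c46, nat_lit 0xfce0f33e3a05d00e8990b5a160f4e7877, nat_lit 0x12321144342b7147695a0c6211d3348288, nat_lit 0x1210135474a4e52528870d6a6e91928a99, nat_lit 0x13d41564e532f96fa9480e726a531096aa, nat_lit 0x1496a6b58628a1578b3d0bbaa71416bbdb, nat_lit 0x173aaec58daaad590bfe0cc2a2d87cc7ec, nat_lit 0x1718bcd6772da993cb2b0dcb07969ababd, nat_lit 0x189ccce67eb235954bec0ed3035858c6ce]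
theorem tcA_final : tcA_C.final 11 104 (nat_lit 0x7fff) 15 [1,2,3,4,5,6,7,8,9,10] (tcA_r0) = true := by decide +kernel
theorem tcA {G : Type*} [Group G] {g : ℕ → G} {H : Subgroup G} (hg : Sat g 11 io rA)
    (hU : ∀ u ∈ tcA_U, wv g u ∈ H) (hL : ∀ l ∈ tcA_HL, g l ∈ H) :
    IdxLe H (Subgroup.closure {x | ∃ l ∈ ([1,2,3,4,5,6,7,8,9,10] : List ℕ), g l = x}) 15 :=
  SeqCert.idxLe_of_final hg hU hL tcA_head tcA_ok tcA_final

theorem cardX_le {G : Type*} [Group G] {g : ℕ → G} (hg : Sat g 8 io rX) :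
    Finite (closure {x | ∃ l ∈ [1, 2, 3, 4, 5, 6, 7], g l = x}) ∧
      Nat.card (closure {x | ∃ l ∈ [1, 2, 3, 4, 5, 6, 7], g l = x}) ≤ 96 :=
  (tcX hg (H := ⊥) (by simp [tcX_U]) (by simp [tcX_HL])).card_le card_bot_le

theorem card0_le {G : Type*} [Group G] {g : ℕ → G} (hg : Sat g 9 io r0) :
    Finite (closure {x | ∃ l ∈ [1, 2, 3, 4, 5, 6, 7, 8], g l = x}) ∧
      Nat.card (closure {x | ∃ l ∈ [1, 2, 3, 4, 5, 6, 7, 8], g l = x}) ≤ 192 :=
  (tc0 hg (by simp [tc0_U]) fun _ hl => letter_mem g hl).card_le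
    (cardX_le (hg.mono (by omega) fun _ hr => List.mem_append_left _ hr))

theorem card1_le {G : Type*} [Group G] {g : ℕ → G} (hg : Sat g 9 io r1) :
    Finite (closure {x | ∃ l ∈ [1, 2, 3, 4, 5, 6, 7, 8], g l = x}) ∧
      Nat.card (closure {x | ∃ l ∈ [1, 2, 3, 4, 5, 6, 7, 8], g l = x}) ≤ 192 :=
  (tc1 hg (by simp [tc1_U]) fun _ hl => letter_mem g hl).card_le
    (cardX_le (hg.mono (by omega) fun _ hr => List.mem_append_left _ hr))

theorem cardN_le {G : Type*} [Group G] {g : ℕ → G} (hg : Sat g 11 io rA) :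
    Finite (closure {x | ∃ l ∈ [1, 2, 3, 4, 5, 6, 7, 8, 9], g l = x}) ∧
      Nat.card (closure {x | ∃ l ∈ [1, 2, 3, 4, 5, 6, 7, 8, 9], g l = x}) ≤ 1344 :=
  (tcN hg (by simp [tcN_U]) fun _ hl => letter_mem g hl).card_le
    (card0_le (hg.mono (by omega) fun _ hr => List.mem_append_left _ hr))

theorem cardA_le {G : Type*} [Group G] {g : ℕ → G} (hg : Sat g 11 io rA) :
    Finite (closure {x | ∃ l ∈ [1, 2, 3, 4, 5, 6, 7, 8, 9, 10], g l = x}) ∧
      Nat.card (closure {x | ∃ l ∈ [1, 2, 3, 4, 5, 6, 7, 8, 9, 10], g l = x}) ≤ 20160 :=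
  (tcA hg (by simp [tcA_U]) fun _ hl => letter_mem g hl).card_le
    (cardN_le hg)

end Cfsg.Lib.X32
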