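import Cfsg.Agent.Recog.YamFacts

/-! First-order facts about `W(D₆)`, part two. -/

set_option autoImplicit false
set_option maxRecDepth 100000

namespace Cfsg.Lib.Yam

open Subgroup Cfsg.Lib.Spor Cfsg.Lib.Spor.WF Cfsg.Lib.Spor.Bulk Cfsg.Lib.Spor.PK

variable {G : Type*} [Group G] {g : ℕ → G}

theorem fQ_sq (he : Em g) :
    ∀ w ∈ sub g wCQ, (w * w) = 1 ∨ (w * w) = g 3 * g 4 ∨ (w * w) = g 5 * g 6 ∨ (w * w) = g 3 * g 4 *
    g 5 * g 6 := by
  have := hold he [sCQ] ((.all 0 50 (.bind 52 [50,50] (.or (.eq [52] []) (.or (.eq [52] [4,3]) (.or (.eq [52] [6,5]) (.eq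
      [52] [6,5,4,3]))))))) (by decide +kernel)
  simp only [Fm.sem, wv_cons, wv_nil, one_mul, upd_apply, Nat.reduceEqDiff, ↓reduceIte] at this
  exact this

theorem fP_sq (he : Em g) :
    ∀ w ∈ sub g wCP, (w * w) = 1 ∨ (w * w) = g 1 * g 3 ∨ (w * w) = g 2 * g 4 ∨ (w * w) = g 1 * g 2 *
    g 3 * g 4 := by
  have := hold he [sCP] ((.all 0 50 (.bind 52 [50,50] (.or (.eq [52] []) (.or (.eq [52] [3,1]) (.or (.eq [52] [4,2]) (.eq
      [52] [4,3,2,1]))))))) (by decide +kernel)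
  simp only [Fm.sem, wv_cons, wv_nil, one_mul, upd_apply, Nat.reduceEqDiff, ↓reduceIte] at this
  exact this

set_option maxHeartbeats 4000000 in
theorem fP_2 (he : Em g) :
    ∀ w ∈ sub g wCP, w * w = 1 → (∃ k ∈ sub g wCP, k * k = 1 ∧ w * k * w * k = g 1 * g 2 * g 3 * g
    4) → (K (w) = K (g 1 * g 3 * g 5) ∨ K (w) = K (g 1 * g 3 * g 5 * g 9) ∨ K (w) = K (g 1 * g 3) ∨
    K (w) = K (g 1 * g 2) ∨ K (w) = K (g 1 * g 2 * g 3 * g 4) ∨ K (w) = K (g 1 * g 3 * g 4) ∨ K (w *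
    g 5 * g 6) = K (g 1 * g 3)) := by
  have := hold he [sCP] ((.all 0 50 (.imp (.eq [50,50] []) (.imp (.ex 0 51 (.and (.eq [51,51] []) (.eq [51,50,51,50]
      [4,3,2,1]))) (.or (cjL [50] [5,3,1] [[8,37],[20,21],[7],[16],[17],[12]]) (.or (cjL [50]
      [9,5,3,1] [[20,21],[8,37],[12],[17],[16],[7]]) (.or (cjL [50] [3,1]
      [[8,39],[20,21],[7],[16],[17],[12]]) (.or (cjL [50] [2,1] [[11],[]]) (.or (cjL [50] [4,3,2,1]
      [[13],[8,36]]) (.or (cjL [50] [4,3,1] [[13],[13,10],[11,13],[8,11,23]]) (cjL [6,5,50] [3,1]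
      [[8,39],[20,21],[7],[16],[17],[12]]))))))))))) (by decide +kernel)
  simp only [Fm.sem, cjL_sem, wv_cons, wv_nil, one_mul, upd_apply, Nat.reduceEqDiff, ↓reduceIte] at this
  exact (fun w hw => (fun i29_0 i29_1 => (Or.imp (fun o => (CJ.k o)) (fun o => (Or.imp (fun o => (CJ.k
    o)) (fun o => (Or.imp (fun o => (CJ.k o)) (fun o => (Or.imp (fun o => (CJ.k o)) (fun o =>
    (Or.imp (fun o => (CJ.k o)) (fun o => (Or.imp (fun o => (CJ.k o)) (fun o => (CJ.k o)) o)) o))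
    o)) o)) o)) ((this w hw) i29_0 i29_1))))

theorem fP_br (he : Em g) :
    ∀ w ∈ sub g wCP, w * g 11 = g 11 * w → (w * w = 1 ∧ (w * g 7 = g 7 * w → (w = 1 ∨ w = g 1 * g 3
    * g 11 ∨ K (g 7 * w) = K (g 1 * g 3) ∨ K (g 7 * w) = K (g 1 * g 3 * g 4) ∨ K (g 7 * w) = K (g 1
    * g 3 * g 9) ∨ K (g 7 * w) = K (g 1 * g 9)))) := by
  have := hold he [sCP] ((.all 0 50 (.imp (.eq [11,50] [50,11]) (.and (.eq [50,50] []) (.imp (.eq [7,50] [50,7]) (.or
      (.eq [50] []) (.or (.eq [50] [11,3,1]) (.or (cjL [50,7] [3,1]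
      [[13,40],[8,16,37],[13,34],[8,28,37]]) (.or (cjL [50,7] [4,3,1] [[8,16,36],[17],[8,28,36],[27]])
      (.or (cjL [50,7] [9,3,1] [[8,16,37],[13,40],[8,28,37],[13,34]]) (cjL [50,7] [9,1]
      [[16],[26]]))))))))))) (by decide +kernel)
  simp only [Fm.sem, cjL_sem, wv_cons, wv_nil, one_mul, upd_apply, Nat.reduceEqDiff, ↓reduceIte] at this
  exact (fun w hw => (fun i38_0 => (And.imp (fun o => o) (fun o => (fun i41_0 => (Or.imp (fun o => o)
    (fun o => (Or.imp (fun o => o) (fun o => (Or.imp (fun o => (CJ.k o)) (fun o => (Or.imp (fun o =>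
    (CJ.k o)) (fun o => (Or.imp (fun o => (CJ.k o)) (fun o => (CJ.k o)) o)) o)) o)) o)) (o i41_0))))
    ((this w hw) i38_0))))

theorem fP2_br (he : Em g) :
    ∀ w ∈ sub g wCP2, w * g 10 * g 11 = g 10 * g 11 * w → (w * w = 1 ∧ (w * g 12 = g 12 * w → (w = 1
    ∨ w = g 1 * g 4 * g 10 * g 11 ∨ K (g 12 * w) = K (g 1 * g 3) ∨ K (g 12 * w) = K (g 1 * g 3 * g
    4) ∨ K (g 12 * w) = K (g 1 * g 3 * g 9) ∨ K (g 12 * w) = K (g 1 * g 9)))) := by
  have := hold he [sCP2] ((.all 0 50 (.imp (.eq [11,10,50] [50,11,10]) (.and (.eq [50,50] []) (.imp (.eq [12,50] [50,12])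
      (.or (.eq [50] []) (.or (.eq [50] [11,10,4,1]) (.or (cjL [50,12] [3,1]
      [[13,41],[8,17,37],[13,34],[8,28,37]]) (.or (cjL [50,12] [4,3,1]
      [[8,17,36],[16],[8,28,36],[27]]) (.or (cjL [50,12] [9,3,1]
      [[8,17,37],[13,41],[8,28,37],[13,34]]) (cjL [50,12] [9,1] [[17],[26]]))))))))))) (by decide +kernel)
  simp only [Fm.sem, cjL_sem, wv_cons, wv_nil, one_mul, upd_apply, Nat.reduceEqDiff, ↓reduceIte] at this
  exact (fun w hw => (fun i49_0 => (And.imp (fun o => o) (fun o => (fun i52_0 => (Or.imp (fun o => o)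
    (fun o => (Or.imp (fun o => o) (fun o => (Or.imp (fun o => (CJ.k o)) (fun o => (Or.imp (fun o =>
    (CJ.k o)) (fun o => (Or.imp (fun o => (CJ.k o)) (fun o => (CJ.k o)) o)) o)) o)) o)) (o i52_0))))
    ((this w hw) i49_0))))

theorem fT_1 (he : Em g) :
    ∀ w ∈ sub g wCT, w * w = 1 → ((w * g 11 * g 13 * w * g 13 * g 11 * w * g 11 * g 13 * w * g 13 *
    g 11 = 1 → (w * g 1 = g 1 * w ∧ w * g 3 = g 3 * w)) ∧ ((w * g 1 = g 1 * w ∧ w * g 3 = g 3 * w) ∨
    ((w * g 11) * g 1 = g 1 * (w * g 11) ∧ (w * g 11) * g 3 = g 3 * (w * g 11)) ∨ ((w * g 13) * g 1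
    = g 1 * (w * g 13) ∧ (w * g 13) * g 3 = g 3 * (w * g 13)) ∨ ((w * g 11 * g 13 * g 11) * g 1 = g
    1 * (w * g 11 * g 13 * g 11) ∧ (w * g 11 * g 13 * g 11) * g 3 = g 3 * (w * g 11 * g 13 * g
    11)))) := by
  have := hold he [sCT] ((.all 0 50 (.imp (.eq [50,50] []) (.and (.imp (.eq [11,13,50,13,11,50,11,13,50,13,11,50] [])
      (.and (.eq [1,50] [50,1]) (.eq [3,50] [50,3]))) (.or (.and (.eq [1,50] [50,1]) (.eq [3,50]
      [50,3])) (.or (.bind 52 [11,50] (.and (.eq [1,52] [52,1]) (.eq [3,52] [52,3]))) (.or (.bind 52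
      [13,50] (.and (.eq [1,52] [52,1]) (.eq [3,52] [52,3]))) (.bind 52 [11,13,11,50] (.and (.eq
      [1,52] [52,1]) (.eq [3,52] [52,3])))))))))) (by decide +kernel)
  simp only [Fm.sem, wv_cons, wv_nil, one_mul, upd_apply, Nat.reduceEqDiff, ↓reduceIte] at this
  exact this

theorem fT_4 (he : Em g) :
    ∀ p ∈ sub g wAA, p * g 11 * g 13 * g 11 = g 11 * g 13 * g 11 * p → (p * (g 11 * p * g 11) * (g
    13 * p * g 13) = g 9 → (∀ q ∈ sub g wAA, q * g 11 * g 13 * g 11 = g 11 * g 13 * g 11 * q → (((p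
    * q * (g 11 * p * g 11) * (g 11 * q * g 11) * (g 13 * p * g 13) * (g 13 * q * g 13)) = g 1 * g 3
    * g 5 ∨ (p * q * (g 11 * p * g 11) * (g 11 * q * g 11) * (g 13 * p * g 13) * (g 13 * q * g 13))
    = g 1 * g 3 * g 5 * g 9) → (p * (g 11 * p * g 11) = 1 ∨ q * (g 11 * q * g 11) = 1 ∨ ((p * q * (g
    11 * p * g 11) * (g 11 * q * g 11) * (g 13 * p * g 13) * (g 13 * q * g 13)) = g 1 * g 3 * g 5 ∧
    K (p * q) = K (g 1 * g 3 * g 5)) ∨ ((p * q * (g 11 * p * g 11) * (g 11 * q * g 11) * (g 13 * p *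
    g 13) * (g 13 * q * g 13)) = g 1 * g 3 * g 5 * g 9 ∧ K (p * q) = K (g 1 * g 3 * g 5 * g 9)) ∨ (K
    (p * (g 11 * q * g 11) * (g 13 * q * g 13)) = K (g 1 * g 3 * g 9) ∧ K (p * q * (g 11 * p * g 11)
    * (g 11 * q * g 11)) = K (g 1 * g 3) ∧ ((K (p * q) = K (g 1) ∧ K (p * (g 11 * p * g 11) * (g 13
    * q * g 13)) = K (g 1 * g 9) ∧ (K (p * q * (g 11 * p * g 11) * (g 13 * p * g 13)) = K (g 1 * g
    9) ∨ K (p * q * (g 11 * q * g 11) * (g 13 * q * g 13)) = K (g 1 * g 9))) ∨ (K (p * q) = K (g 1 *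
    g 9) ∧ K (p * (g 11 * p * g 11) * (g 13 * q * g 13)) = K (g 1) ∧ (K (p * q * (g 11 * p * g 11) *
    (g 13 * p * g 13)) = K (g 1) ∨ K (p * q * (g 11 * q * g 11) * (g 13 * q * g 13)) = K (g
    1))))))))) := by
  have := hold he [sAA] ((.all 0 55 (.imp (.eq [11,13,11,55] [55,11,13,11]) (.bind 52 [11,55,11] (.bind 50 [13,55,13]
      (.imp (.eq [50,52,55] [9]) (.all 0 56 (.imp (.eq [11,13,11,56] [56,11,13,11]) (.bind 53
      [11,56,11] (.bind 54 [13,56,13] (.bind 57 [54,50,53,52,56,55] (.imp (.or (.eq [57] [5,3,1]) (.eq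
      [57] [9,5,3,1])) (.or (.eq [52,55] []) (.or (.eq [53,56] []) (.or (.and (.eq [57] [5,3,1]) (cjL
      [56,55] [5,3,1] [[],[8,37]])) (.or (.and (.eq [57] [9,5,3,1]) (cjL [56,55] [9,5,3,1]
      [[],[8,37]])) (.and (cjL [54,53,55] [9,3,1] [[13,10],[13]]) (.and (cjL [53,52,56,55] [3,1]
      [[10],[]]) (.or (.and (cjL [56,55] [1] [[10],[]]) (.and (cjL [54,52,55] [9,1] [[13,10],[13]])
      (.or (cjL [50,52,56,55] [9,1] [[],[10]]) (cjL [54,53,56,55] [9,1] [[10],[]])))) (.and (cjL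
      [56,55] [9,1] [[],[10]]) (.and (cjL [54,52,55] [1] [[13],[13,10]]) (.or (cjL [50,52,56,55] [1]
      [[10],[]]) (cjL [54,53,56,55] [1] [[10],[]]))))))))))))))))))))))) (by decide +kernel)
  simp only [Fm.sem, cjL_sem, wv_cons, wv_nil, one_mul, upd_apply, Nat.reduceEqDiff, ↓reduceIte] at this
  exact (fun p hp => (fun i60_0 => (fun i63_0 => (fun q hq => (fun i65_0 => (fun i69_0 => (Or.imp (fun o
    => o) (fun o => (Or.imp (fun o => o) (fun o => (Or.imp (fun o => (And.imp (fun o => o) (fun o =>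
    (CJ.k o)) o)) (fun o => (Or.imp (fun o => (And.imp (fun o => o) (fun o => (CJ.k o)) o)) (fun o
    => (And.imp (fun o => (CJ.k o)) (fun o => (And.imp (fun o => (CJ.k o)) (fun o => (Or.imp (fun o
    => (And.imp (fun o => (CJ.k o)) (fun o => (And.imp (fun o => (CJ.k o)) (fun o => (Or.imp (fun o
    => (CJ.k o)) (fun o => (CJ.k o)) o)) o)) o)) (fun o => (And.imp (fun o => (CJ.k o)) (fun o =>
    (And.imp (fun o => (CJ.k o)) (fun o => (Or.imp (fun o => (CJ.k o)) (fun o => (CJ.k o)) o)) o))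
    o)) o)) o)) o)) o)) o)) o)) ((((((this p hp) i60_0) i63_0) q hq) i65_0) i69_0))))))))

/-- conjugation table of the reflections -/
def ct (i j : ℕ) : ℕ := Nat.land (Nat.shiftRight 0xef319d6e95b5e7273e116b16a31d0929062083bcce37aad2f69c9ee8c1ac5a8e64a0a418820c677ae7653ad2d7635ee8456a214e64246208338debbc9cab4bd9ac7ba305a8a43992818820d6f9dce2f694e958c18d73d6a4a08531c620837aef338bda72ad2306b1ee5a928290e618820a5653ce2f6e775b52dee6b21110ce629109082b49cb38bdbbcde96a7b9ac8c062398a44a020b5f7a94f9dad3198c14b6b1cf4a043290c7082f6dea72ef2b4ce2305a9ac7b928188a439820ef2d7a575bc66728c1ee52d8d4a0e610c85083bcbdab4deb389ca307b96a6b128398622902073d8dce14bad2728c39dd6ed7004e629062425ee6b3385aab49ca30ef37abd820398a4189288477a636f652e72e75eec66954a0012906231e30de9acbd96a9cbbc7bb38ad128080a4188e6ef21173ef6ad14bd6f196b2534a0e600462217bc8c1eebdab45ab7ace1ac9c92839820188a4ef37ace21173d8db5e9594d6a4a0e62900110fbcdeb388c1ee6b2f6ad2725a928398a40806231c85ce043ad272005ee6b16a4a39dd6ed7844e62933818ab49c8207b9ac5a928ef37abda304277a216f610e728c0016b16ae74e6c669573d28de8a4bd8629ca30081ac5abbc39b38ad1eeef10931ef6ad0438c1ee0056ad6f1929253637bc4a0e6bdab418a307b8205ab7ace0a49c9acef37ace10931c858c1ee6b001b5e9594c6252fbcdeb384a0e6292307b9ac082f6ad2721896aef37ace2f6ad272424c721443845cf6354b083bcdeb38bdab49c928398a418a307b9ac5a820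 (5 * (30 * i + j))) 31

theorem ct_eq (he : Em g) {i j : ℕ} (hi : i < 30) (hj : j < 30) :
    g (14 + i) * g (14 + j) * g (14 + i) = g (14 + ct i j) := by
  have := (andL_sem _ _).1 (hold he [] (andL ((List.range 30).map fun i => andL ((List.range 30).map
    fun j => .eq [14 + i, 14 + j, 14 + i] [14 + ct i j]))) (by decide +kernel))
  have := (andL_sem _ _).1 (this _ (List.mem_map_of_mem (List.mem_range.2 hi))) _
    (List.mem_map_of_mem (List.mem_range.2 hj))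
  simpa only [Fm.sem, wv_cons, wv_nil, one_mul] using this

theorem r_inj (he : Em g) {i j : ℕ} (hi : i < 30) (hj : j < 30) (h : g (14 + i) = g (14 + j)) : i = j := by
  have := (andL_sem _ _).1 (hold he [] (andL ((List.range 30).map fun i => andL ((List.range i).map
    fun j => .not (.eq [14 + i] [14 + j])))) (by decide +kernel))
  have h2 : ∀ i < 30, ∀ j < i, g (14 + i) ≠ g (14 + j) := fun i hi j hj => by
    have := (andL_sem _ _).1 (this _ (List.mem_map_of_mem (List.mem_range.2 hi))) _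
      (List.mem_map_of_mem (List.mem_range.2 hj))
    simpa only [Fm.sem, wv_cons, wv_nil, one_mul] using this
  rcases lt_trichotomy i j with a | a | a
  exacts [absurd h.symm (h2 j hj i a), a, absurd h (h2 i hi j a)]

theorem let_sq (he : Em g) (l : ℕ) : g l * g l = 1 := by
  by_cases hl : l < 44
  · have := (andL_sem _ _).1 (hold he [] (andL ((List.range 44).map fun l => .eq [l, l] []))
      (by decide +kernel)) _ (List.mem_map_of_mem (List.mem_range.2 hl))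
    simpa only [Fm.sem, wv_cons, wv_nil, one_mul] using this
  · rw [let_one he (by omega), mul_one]

end Cfsg.Lib.Yam
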