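import Cfsg.Agent.SporChar.WFormTop
import Cfsg.Agent.SporChar.WFormGen

/-!
A permutation model of the Weyl group `W(D₆)`, the centralizer in `A₁₂` of a fixed-point-free
involution.  Letters: `1, 2, 3, 4, 5, 6` six commuting reflections, `7, 8` further reflections, `9` the
central involution, `14, …, 43` all reflections.
-/

set_option autoImplicit false
set_option maxRecDepth 100000

namespace Cfsg.Lib.Yam

open Subgroup Cfsg.Lib.Spor Cfsg.Lib.Spor.WF Cfsg.Lib.Spor.Bulk Cfsg.Lib.Spor.PK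

variable {G : Type*} [Group G] {g : ℕ → G}

/-- the codes of the letters -/
def cs : List ℕ := [27331736124874703896937760768,
  27331736124874703896668280848,
  27331736124874703896534585368,
  27331736123717296453609064448,
  27331736123143078739386042368,
  22360709007630979824222210048,
  19894462704259225940336314368,
  27331736124874686236301723648,
  27331660273020497907495733248,
  24865489820928732298695147528,
  27331736124874695135204474888,
  27331736122559818367197259808,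
  27331736124874677474434746368,
  7447020831806758857743550528,
  27331736124874703896668280848,
  27331736124874703896534585368,
  27331736124874668575126726688,
  27331736124874659813393440808,
  27331736121402428584235120688,
  27331736120828219631745380408,
  27331432712828179522232797248,
  27331395081470269154747498568,
  2476221273597928064978802768,
  10012601584084548578201688,
  27331736124874686236301723648,
  27331736124874677474434746368,
  27331736122559853689008293888,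
  27331736121985644736384862208,
  27331508565839810616717477888,
  27331470934481900249098487808,
  7447324243853283232448514048,
  4981115571839439715914221568,
  27331736123717296453609064448,
  27331736123143078739386042368,
  27331584418851477031396313088,
  27331546787493557902177732608,
  12418427214108691380478937088,
  9952218542094839102345054208,
  27331660273020497907495733248,
  27331622641088378587520698368,
  17389530186678843772622604288,
  14923321514090791303732267008,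
  22360709007630979824222210048,
  19894462704259225940336314368]

/-- the model with a list of subgroups -/
@[reducible] def mk (SW : List (List (List ℕ) × List Cert)) : PM := ⟨8, 12, cs, SW⟩

instance (SW : List (List (List ℕ) × List Cert)) : NeZero (mk SW).n := ⟨Nat.succ_ne_zero 11⟩

theorem ok0 : (mk []).ok = true := by decide +kernel

/-- the letters are images of the permutations of the model -/
abbrev Em (g : ℕ → G) : Prop := Emb (mk []).m g

theorem hold (he : Em g) (SW : List (List (List ℕ) × List Cert)) (p : Fm)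
    (h : ((mk SW).subsOK && (mk SW).dec p) = true) : p.sem (fun i => sub g ((mk SW).W i)) g := by
  rw [Bool.and_eq_true] at h
  exact PM.holds (M := mk SW) ok0 h.1 he h.2

/-- conjugacy classes -/
abbrev K (x : G) : ConjClasses G := ConjClasses.mk x

/-- conjunction of a list -/
def andL (L : List Fm) : Fm := L.foldr .and (.eq [] [])

/-- disjunction of a list -/
def orL (L : List Fm) : Fm := L.foldr .or (.not (.eq [] []))

theorem andL_sem (S : ℕ → Subgroup G) (L : List Fm) : (andL L).sem S g ↔ ∀ p ∈ L, p.sem S g := by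
  induction L with
  | nil => simp [andL, Fm.sem]
  | cons a L ih => rw [List.forall_mem_cons]; exact and_congr_right' ih

theorem orL_sem (S : ℕ → Subgroup G) (L : List Fm) : (orL L).sem S g ↔ ∃ p ∈ L, p.sem S g := by
  induction L with
  | nil => simp [orL, Fm.sem]
  | cons a L ih => exact (or_congr_right ih).trans (by simp)

/-- `w` is conjugate to `r` by one of the words `Ks` -/
def cjL (w r : List ℕ) (Ks : List (List ℕ)) : Fm := orL (Ks.map fun k => .eq (w ++ k) (k ++ r))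

/-- the meaning of `cjL` -/
def CJ (g : ℕ → G) (Ks : List (List ℕ)) (x r : G) : Prop := ∃ k ∈ Ks, wv g k * x = r * wv g k

theorem cjL_sem (S : ℕ → Subgroup G) (w r : List ℕ) (Ks : List (List ℕ)) :
    (cjL w r Ks).sem S g ↔ CJ g Ks (wv g w) (wv g r) := by
  simp [cjL, orL_sem, CJ, Fm.sem, wv_append]

theorem K_of {k x r : G} (h : k * x = r * k) : K x = K r :=
  ConjClasses.mk_eq_mk_iff_isConj.2 (isConj_iff.2 ⟨k, by rw [h, mul_inv_cancel_right]⟩)

theorem CJ.k {Ks : List (List ℕ)} {x r : G} (h : CJ g Ks x r) : K x = K r :=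
  h.elim fun _ h => K_of h.2

/-- the value of a word written as a product -/
def pw (g : ℕ → G) : List ℕ → G
  | [] => 1
  | l :: L => L.foldl (fun x j => x * g j) (g l)

theorem pw_eq (L : List ℕ) : pw g L = wv g L.reverse := by
  cases L with
  | nil => rfl
  | cons l L =>
    have : ∀ x : G, L.foldl (fun x j => x * g j) x = x * wv g L.reverse := by
      induction L with
      | nil => simp
      | cons a L ih => intro x; rw [List.foldl_cons, ih, List.reverse_cons, wv_append]; simp [mul_assoc]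
    rw [pw, this, List.reverse_cons, wv_append]; simp

theorem eqw (he : Em g) (A B : List ℕ) (h : (mk []).dec (.eq A.reverse B.reverse) = true) :
    pw g A = pw g B := by
  rw [pw_eq, pw_eq]; exact PM.holds (M := mk []) ok0 rfl he h

theorem new (he : Em g) (A B : List ℕ) (h : (mk []).dec (.not (.eq A.reverse B.reverse)) = true) :
    pw g A ≠ pw g B := by
  rw [pw_eq, pw_eq]; exact PM.holds (M := mk []) ok0 rfl he h

theorem kw (he : Em g) (A B C : List ℕ) (h : (mk []).dec (.eq (C ++ A).reverse (B ++ C).reverse) = true) :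
    K (pw g A) = K (pw g B) := by
  have := PM.holds (M := mk []) ok0 rfl he h
  simp only [Fm.sem, List.reverse_append, wv_append] at this
  rw [pw_eq, pw_eq]; exact K_of this

/-- generating words -/
def wH : List (List ℕ) := [[1],[2],[3],[4],[5],[6],[7],[8]]
/-- words and chain -/
def sH : List (List ℕ) × List Cert := (wH,
    [⟨0, [128, 193, 65, 262, 326, 386, 451, 519, 583, 644, 709], [[3, 0, 6, 3, 2, 6, 1, 5], [7, 4, 6]]⟩,
     ⟨4, [384, 129, 320, 641, 192, 448, 576, 513, 705], [[1, 0, 0, 1, 1, 0, 0, 1], [0, 1, 0, 0, 0, 1, 0, 0, 0, 0,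
    1, 1, 1, 0]]⟩,
     ⟨8, [448, 705, 640, 129, 576, 385, 193], [[0, 0, 1, 0, 0], [1, 1, 0, 0, 1, 0]]⟩,
     ⟨2, [704, 192, 449, 640, 384], [[1], [0, 0, 1, 0, 0]]⟩,
     ⟨6, [640, 705, 449], []⟩])
theorem cardH (he : Em g) : Nat.card (sub g wH) = 23040 :=
  (PM.card_of_emb (M := mk [sH]) ok0 (by decide +kernel) he 0).trans (by decide +kernel)

/-- generating words -/
def wHp : List (List ℕ) := [[2,1],[3,1],[4,1],[5,1],[6,1],[7,1],[8,1],[1,2],[1,3],[1,4],[1,5],[1,6],[1,7],[1,8]]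
/-- words and chain -/
def sHp : List (List ℕ) × List Cert := (wHp,
    [⟨0, [64, 129, 261, 193, 325, 385, 450, 518, 582, 643, 708], [[6, 1, 0, 12, 1, 0], [1, 4, 5, 2, 5, 2, 12]]⟩,
     ⟨4, [193, 384, 321, 512, 449, 129, 705, 576, 641], [[1, 1, 0, 1, 1], [1, 0, 0, 1, 1, 0, 1, 1, 1], [1, 0, 1, 1,
    1, 0, 0, 1]]⟩,
     ⟨8, [128, 450, 384, 193, 642, 576, 706], [[0, 2, 1, 2, 0, 0], [0, 0, 1, 2]]⟩,
     ⟨2, [449, 384, 641, 705, 193], [[0]]⟩,
     ⟨6, [448], []⟩])
theorem cardHp (he : Em g) : Nat.card (sub g wHp) = 11520 :=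
  (PM.card_of_emb (M := mk [sHp]) ok0 (by decide +kernel) he 0).trans (by decide +kernel)

/-- generating words -/
def wAA : List (List ℕ) := [[1],[2],[3],[4],[5],[6]]
/-- words and chain -/
def sAA : List (List ℕ) × List Cert := (wAA,
    [⟨0, [128, 193, 65], [[5], [4], [2], [3]]⟩,
     ⟨4, [386, 451, 323], [[1], [0]]⟩,
     ⟨8, [640, 705, 577], []⟩])

/-- generating words -/
def wE : List (List ℕ) := [[14,15],[16,17],[18,19],[20,21],[22,23],[24,25],[26,27],[28,29],[30,31],[32,33],[34,35],[36,37],[38,39],[40,41],[42,43]]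
/-- words and chain -/
def sE : List (List ℕ) × List Cert := (wE,
    [⟨0, [64], [[8], [10], [7], [12]]⟩,
     ⟨2, [192], [[3], [1], [0, 2]]⟩,
     ⟨4, [321], [[2], [0]]⟩,
     ⟨6, [449], [[0]]⟩,
     ⟨8, [576], []⟩])

/-- generating words -/
def wCU : List (List ℕ) := [[1],[2],[3],[4],[5],[6],[8]]
/-- words and chain -/
def sCU : List (List ℕ) × List Cert := (wCU,
    [⟨0, [128, 193, 65], [[6, 4, 3], [4, 6, 2]]⟩,
     ⟨4, [448, 385, 704, 577, 640, 513, 321], [[0, 1, 1, 0, 0], [1, 0, 0, 1, 1]]⟩,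
     ⟨8, [448, 577, 705, 384, 640], [[1, 0, 0], [1, 1]]⟩,
     ⟨6, [640, 449, 705], []⟩])
theorem cardCU (he : Em g) : Nat.card (sub g wCU) = 768 :=
  (PM.card_of_emb (M := mk [sCU]) ok0 (by decide +kernel) he 0).trans (by decide +kernel)

/-- generating words -/
def wCT : List (List ℕ) := [[1],[2],[3],[4],[5],[6],[11],[13]]
/-- words and chain -/
def sCT : List (List ℕ) × List Cert := (wCT,
    [⟨0, [128, 193, 262, 519, 65, 390, 647, 454, 711, 326, 583], [[6, 7, 6], [5], [2]]⟩,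
     ⟨4, [512, 386, 705, 640, 448, 577, 322], [[0, 2, 0], [1]]⟩,
     ⟨8, [640, 705, 577], []⟩])
theorem cardCT (he : Em g) : Nat.card (sub g wCT) = 384 :=
  (PM.card_of_emb (M := mk [sCT]) ok0 (by decide +kernel) he 0).trans (by decide +kernel)

/-- generating words -/
def wCP : List (List ℕ) := [[1],[2],[3],[4],[5],[6],[11]]
/-- words and chain -/
def sCP : List (List ℕ) × List Cert := (wCP,
    [⟨0, [128, 193, 262, 65, 390, 454, 326], [[5], [3], [2], [4]]⟩,
     ⟨4, [449, 386, 322], [[0], [3]]⟩,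
     ⟨8, [704, 641, 577], []⟩])
theorem cardCP (he : Em g) : Nat.card (sub g wCP) = 128 :=
  (PM.card_of_emb (M := mk [sCP]) ok0 (by decide +kernel) he 0).trans (by decide +kernel)

/-- generating words -/
def wCP2 : List (List ℕ) := [[1],[2],[3],[4],[5],[6],[11,10]]
/-- words and chain -/
def sCP2 : List (List ℕ) × List Cert := (wCP2,
    [⟨0, [128, 193, 326, 65, 390, 454, 262], [[4], [5], [2], [3]]⟩,
     ⟨4, [386, 451, 323], [[0], [1]]⟩,
     ⟨8, [640, 705, 577], []⟩])
theorem cardCP2 (he : Em g) : Nat.card (sub g wCP2) = 128 :=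
  (PM.card_of_emb (M := mk [sCP2]) ok0 (by decide +kernel) he 0).trans (by decide +kernel)

/-- generating words -/
def wCQ : List (List ℕ) := [[1],[2],[3],[4],[5],[6],[13,10,13]]
/-- words and chain -/
def sCQ : List (List ℕ) × List Cert := (wCQ,
    [⟨0, [128, 193, 65], [[3], [6], [5]]⟩,
     ⟨4, [448, 321, 384], [[0, 1, 0], [2]]⟩,
     ⟨8, [576, 705, 641], [[1, 0, 1]]⟩,
     ⟨6, [448], []⟩])
theorem cardCQ (he : Em g) : Nat.card (sub g wCQ) = 128 :=
  (PM.card_of_emb (M := mk [sCQ]) ok0 (by decide +kernel) he 0).trans (by decide +kernel)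

/-- generating words -/
def wCB : List (List ℕ) := [[1],[2],[3],[4],[5],[6],[7],[13,10,13]]
/-- words and chain -/
def sCB : List (List ℕ) × List Cert := (wCB,
    [⟨0, [128, 193, 65, 262, 326, 386, 451], [[1, 6, 7, 6, 0, 0, 1, 6, 1, 0, 0, 6, 2, 7, 2, 6, 0], [0, 6, 2, 7, 2,
    6, 0, 7, 5], [0, 6, 2, 7, 2, 6, 0, 0, 6, 3, 2, 6, 1, 3]]⟩,
     ⟨4, [192, 321, 450, 130, 386], [[1, 0, 0], [2, 0, 2, 1], [0, 2, 1, 0]]⟩,
     ⟨8, [704, 642, 576], [[0, 1], [2, 2, 2, 0]]⟩,
     ⟨6, [128, 449, 192], [[1, 0]]⟩,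
     ⟨2, [192], []⟩])
theorem cardCB (he : Em g) : Nat.card (sub g wCB) = 1536 :=
  (PM.card_of_emb (M := mk [sCB]) ok0 (by decide +kernel) he 0).trans (by decide +kernel)

/-- generating words -/
def wS : List (List ℕ) := [[1],[2],[3],[4],[5],[6],[11],[10],[13,10,13]]
/-- words and chain -/
def sS : List (List ℕ) × List Cert := (wS,
    [⟨0, [128, 193, 262, 71, 390, 454, 327], [[2], [0, 6, 8, 6, 0], [4], [7, 1, 0]]⟩,
     ⟨4, [384, 323, 448], [[1], [0, 3, 0], [2]]⟩,
     ⟨8, [576, 642, 706], [[1], [2, 0, 2]]⟩,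
     ⟨2, [192], [[0, 1]]⟩,
     ⟨6, [448], []⟩])
theorem cardS (he : Em g) : Nat.card (sub g wS) = 512 :=
  (PM.card_of_emb (M := mk [sS]) ok0 (by decide +kernel) he 0).trans (by decide +kernel)

/-- generating words -/
def wN : List (List ℕ) := [[11],[13],[10]]
/-- words and chain -/
def sN : List (List ℕ) × List Cert := (wN,
    [⟨0, [256, 513, 66, 322, 577], [[0, 1, 0], [1, 2, 1]]⟩,
     ⟨4, [512, 321, 577], []⟩])

/-- generating words -/
def wA2 : List (List ℕ) := [[3],[4],[5],[6]]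
/-- words and chain -/
def sA2 : List (List ℕ) × List Cert := (wA2,
    [⟨4, [384, 449, 321], [[2], [3]]⟩,
     ⟨8, [640, 705, 577], []⟩])

/-- generating words -/
def wA3 : List (List ℕ) := [[1],[2],[5],[6]]
/-- words and chain -/
def sA3 : List (List ℕ) × List Cert := (wA3,
    [⟨0, [128, 193, 65], [[2], [3]]⟩,
     ⟨8, [640, 705, 577], []⟩])

theorem centU (he : Em g) : Nat.card ↥(sub g wH ⊓ centralizer {g 1}) = 768 := by
  have := (PM.cent_of_emb (M := mk []) ok0 he (W := wH) (cert :=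
    [⟨0, [128, 193, 65, 262, 326, 386, 451, 519, 583, 644, 709], [[6, 7, 2], [0, 1, 6, 1, 0, 6, 4]]⟩,
     ⟨2, [384, 193, 512, 448, 256, 641, 576, 321, 705], [[1, 0, 0, 1, 0, 1, 0, 1, 0, 0, 1, 0, 0, 0], [0, 0, 1, 0,
    1, 0, 0, 1, 0, 0, 0, 1, 0]]⟩,
     ⟨1, [], [[0], [1]]⟩,
     ⟨3, [], [[0], [1]]⟩,
     ⟨4, [513, 640, 448, 385, 321, 576, 704], [[1, 0, 1, 0, 0, 1, 0, 0, 1, 1], [1, 0, 0, 1, 1, 0, 0, 1]]⟩,
     ⟨5, [], [[0], [1]]⟩,
     ⟨6, [704, 641, 513, 448, 577], [[1, 0, 1, 0], [1, 1, 0, 1]]⟩,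
     ⟨7, [], [[0], [1]]⟩,
     ⟨8, [576, 641, 705], []⟩])
    (es := [1]) (x := [1]) (N := 23040) (c := 768) (ncs := [])
    ((PM.card_sub (M := mk [sH]) ok0 (by decide +kernel) 0).trans (by decide +kernel)) (by decide +kernel)).1
  simpa only [wv_cons, wv_nil, one_mul] using this

theorem centP (he : Em g) : Nat.card ↥(sub g wH ⊓ centralizer {g 1 * g 3}) = 128 := by
  have := (PM.cent_of_emb (M := mk []) ok0 he (W := wH) (cert :=
    [⟨0, [128, 193, 65, 262, 326, 386, 451, 519, 583, 644, 709], [[0, 6, 3, 2, 6, 1, 3, 0, 6, 2, 7, 5, 4, 7, 3, 6,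
    0], [6, 4, 7]]⟩,
     ⟨2, [192, 257, 321, 384, 448, 513, 577, 641, 705], [[1, 1], [0, 1, 0, 1, 1, 1, 0, 1, 0]]⟩,
     ⟨1, [], [[0], [1]]⟩,
     ⟨3, [], [[0], [1]]⟩,
     ⟨4, [705, 576, 449, 321, 513, 641, 384], [[1, 1, 0, 1, 1, 1], [1, 0, 1, 0, 1, 0, 1]]⟩,
     ⟨6, [576, 513, 448, 705, 641], [[1, 0], [0, 1, 1, 0, 0]]⟩,
     ⟨5, [], [[0], [1]]⟩,
     ⟨7, [], [[0], [1]]⟩,
     ⟨8, [704, 641, 577], []⟩])
    (es := [1]) (x := [3,1]) (N := 23040) (c := 128) (ncs := [])
    ((PM.card_sub (M := mk [sH]) ok0 (by decide +kernel) 0).trans (by decide +kernel)) (by decide +kernel)).1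
  simpa only [wv_cons, wv_nil, one_mul] using this

theorem centP2 (he : Em g) : Nat.card ↥(sub g wH ⊓ centralizer {g 2 * g 3}) = 128 := by
  have := (PM.cent_of_emb (M := mk []) ok0 he (W := wH) (cert :=
    [⟨0, [128, 193, 65, 262, 326, 386, 451, 519, 583, 644, 709], [[0, 6, 3, 2, 6, 1, 5, 3], [5, 0, 1, 6, 1, 0, 7]]⟩,
     ⟨3, [128, 257, 321, 448, 384, 577, 513, 640, 704], [[0, 1, 1, 0], [0, 1, 0, 1, 1, 1, 0, 1]]⟩,
     ⟨1, [], [[0], [1]]⟩,
     ⟨2, [], [[0], [1]]⟩,
     ⟨4, [576, 641, 320, 449, 512, 705, 384], [[0, 1], [1, 0, 1, 1, 1, 0, 0]]⟩,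
     ⟨6, [576, 705, 448, 640, 513], [[0, 1, 0, 0], [1, 1, 0]]⟩,
     ⟨5, [], [[0], [1]]⟩,
     ⟨7, [], [[0], [1]]⟩,
     ⟨8, [704, 641, 577], []⟩])
    (es := [1]) (x := [3,2]) (N := 23040) (c := 128) (ncs := [])
    ((PM.card_sub (M := mk [sH]) ok0 (by decide +kernel) 0).trans (by decide +kernel)) (by decide +kernel)).1
  simpa only [wv_cons, wv_nil, one_mul] using this

theorem centQ (he : Em g) : Nat.card ↥(sub g wH ⊓ centralizer {g 1 * g 3 * g 4}) = 128 := by
  have := (PM.cent_of_emb (M := mk []) ok0 he (W := wH) (cert :=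
    [⟨0, [128, 193, 65, 262, 326, 386, 451, 519, 583, 644, 709], [[5, 2, 6], [0, 6, 2, 7, 5, 4, 7, 3, 6, 0, 7, 3]]⟩,
     ⟨2, [256, 384, 449, 577, 192, 513, 640, 320, 704], [[0, 1, 1, 0, 1, 0, 1, 0, 0], [1]]⟩,
     ⟨1, [], [[0], [1]]⟩,
     ⟨3, [], [[0], [1]]⟩,
     ⟨4, [704, 449, 320, 641, 384, 513, 577], [[1, 0, 1, 1], [1, 0, 1, 0, 1]]⟩,
     ⟨5, [], [[0], [1]]⟩,
     ⟨6, [448, 641, 705, 576, 513], [[0, 0], [1, 0, 0, 0, 1]]⟩,
     ⟨7, [], [[0], [1]]⟩,
     ⟨8, [576, 705, 641], []⟩])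
    (es := [1]) (x := [4,3,1]) (N := 23040) (c := 128) (ncs := [])
    ((PM.card_sub (M := mk [sH]) ok0 (by decide +kernel) 0).trans (by decide +kernel)) (by decide +kernel)).1
  simpa only [wv_cons, wv_nil, one_mul] using this

theorem centT (he : Em g) : Nat.card ↥(sub g wH ⊓ centralizer {g 1 * g 3 * g 5}) = 384 := by
  have := (PM.cent_of_emb (M := mk []) ok0 he (W := wH) (cert :=
    [⟨0, [128, 193, 65, 262, 326, 386, 451, 519, 583, 644, 709], [[0, 6, 3, 2, 6, 1, 5, 7], [3, 0, 1, 6, 1, 0, 7]]⟩,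
     ⟨2, [192, 321, 257, 513, 577, 704, 385, 640, 449], [[1, 1, 0, 0, 1], [0, 1, 1, 1, 0, 1, 1]]⟩,
     ⟨1, [], [[0], [1]]⟩,
     ⟨3, [], [[0], [1]]⟩,
     ⟨4, [704, 513, 448, 320, 576, 385, 640], [[0, 1, 0, 0, 0], [1, 0, 0, 1, 0, 1, 0, 0]]⟩,
     ⟨6, [512, 705, 448, 640, 577], [[0, 1, 0, 0], [1, 1, 0]]⟩,
     ⟨5, [], [[0], [1]]⟩,
     ⟨7, [], [[0], [1]]⟩,
     ⟨8, [640, 705, 577], []⟩])
    (es := [1]) (x := [5,3,1]) (N := 23040) (c := 384) (ncs := [])
    ((PM.card_sub (M := mk [sH]) ok0 (by decide +kernel) 0).trans (by decide +kernel)) (by decide +kernel)).1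
  simpa only [wv_cons, wv_nil, one_mul] using this

theorem centB (he : Em g) : Nat.card ↥(sub g wH ⊓ centralizer {g 5 * g 6}) = 1536 := by
  have := (PM.cent_of_emb (M := mk []) ok0 he (W := wH) (cert :=
    [⟨8, [644, 709, 391, 581, 258, 323, 455, 134, 198, 0, 65], [[2, 5, 7, 5, 3], [0, 5, 7, 5, 6]]⟩,
     ⟨9, [], [[0], [1]]⟩,
     ⟨10, [256, 449, 704, 129, 384, 320, 1, 193, 65], [[0, 0, 1, 0, 1], [1, 1]]⟩,
     ⟨11, [], [[0], [1]]⟩,
     ⟨0, [384, 129, 192, 256, 320, 64, 448], [[1, 0, 0, 0, 1, 0, 0, 1], [1, 0, 0, 1, 0, 0]]⟩,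
     ⟨1, [], [[0], [1]]⟩,
     ⟨2, [448, 257, 193, 385, 321], [[0, 1, 0, 1], [0, 1, 1, 0, 1, 0]]⟩,
     ⟨3, [], [[0], [1]]⟩,
     ⟨4, [320, 385, 449], []⟩])
    (es := [1]) (x := [6,5]) (N := 23040) (c := 1536) (ncs := [])
    ((PM.card_sub (M := mk [sH]) ok0 (by decide +kernel) 0).trans (by decide +kernel)) (by decide +kernel)).1
  simpa only [wv_cons, wv_nil, one_mul] using this

end Cfsg.Lib.Yam
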